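import Mathlib.CategoryTheory.ConnectedComponents
import Mathlib.CategoryTheory.Abelian.GrothendieckAxioms.Colim
import Mathlib.Algebra.Category.Grp.AB
import Mathlib.CategoryTheory.Limits.Shapes.Products

/-!
# Colimits over a disjoint union of filtered categories

If spans in `I` can be completed to commutative squares and parallel pairs can be coequalized, then
each connected component of `I` is filtered, and the colimit of a functor `G : I ⥤ A` is the coproduct
over the connected components of the colimits of the restrictions. Consequently, for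
`A = AddCommGrpCat`, colimits of shape `I` preserve monomorphisms.
-/

set_option autoImplicit false
universe u
open CategoryTheory CategoryTheory.Limits

namespace Groth.Agent.Lib.Helper1.AlmostFiltered

section
variable {I : Type u} [SmallCategory I]

lemma exists_cocone_of_zigzag
    (h1 : ∀ ⦃w x y : I⦄ (a : w ⟶ x) (b : w ⟶ y), ∃ (z : I) (c : x ⟶ z) (d : y ⟶ z), a ≫ c = b ≫ d)
    {x y : I} (h : Zigzag x y) : ∃ (z : I), Nonempty (x ⟶ z) ∧ Nonempty (y ⟶ z) := by
  induction h with
  | refl => exact ⟨x, ⟨𝟙 x⟩, ⟨𝟙 x⟩⟩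
  | @tail y' y _ hzag ih =>
    obtain ⟨z', ⟨f⟩, ⟨g⟩⟩ := ih
    rcases hzag with ⟨⟨a⟩⟩ | ⟨⟨a⟩⟩
    · obtain ⟨z, c, d, _⟩ := h1 g a
      exact ⟨z, ⟨f ≫ c⟩, ⟨d⟩⟩
    · exact ⟨z', ⟨f⟩, ⟨a ≫ g⟩⟩

lemma isFiltered_component
    (h1 : ∀ ⦃w x y : I⦄ (a : w ⟶ x) (b : w ⟶ y), ∃ (z : I) (c : x ⟶ z) (d : y ⟶ z), a ≫ c = b ≫ d)
    (h2 : ∀ ⦃x y : I⦄ (a b : x ⟶ y), ∃ (z : I) (c : y ⟶ z), a ≫ c = b ≫ c)
    (c : CategoryTheory.ConnectedComponents I) : IsFiltered c.Component := by
  have : IsFilteredOrEmpty c.Component := by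
    refine ⟨?_, ?_⟩
    · rintro ⟨x, hx⟩ ⟨y, hy⟩
      have hz : Zigzag x y := Quotient.exact' (hx.trans hy.symm)
      obtain ⟨z, ⟨f⟩, ⟨g⟩⟩ := exists_cocone_of_zigzag h1 hz
      have hzc : c.objectProperty z := by
        have : (Quotient.mk'' z : CategoryTheory.ConnectedComponents I) = Quotient.mk'' x :=
          (Quotient.sound' (Zigzag.of_hom f)).symm
        exact this.trans hx
      exact ⟨⟨z, hzc⟩, ObjectProperty.homMk f, ObjectProperty.homMk g, trivial⟩
    · rintro ⟨x, hx⟩ ⟨y, hy⟩ a b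
      obtain ⟨z, d, hd⟩ := h2 a.hom b.hom
      have hzc : c.objectProperty z := by
        have : (Quotient.mk'' z : CategoryTheory.ConnectedComponents I) = Quotient.mk'' y :=
          (Quotient.sound' (Zigzag.of_hom d)).symm
        exact this.trans hy
      refine ⟨⟨z, hzc⟩, ObjectProperty.homMk d, ?_⟩
      ext
      exact hd
  exact { }

variable {A : Type*} [Category A] [HasColimitsOfSize.{u, u} A]

/-- the coproduct of the colimits over the connected components -/
noncomputable abbrev dcPt (G : I ⥤ A) : A :=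
  ∐ (fun c : ConnectedComponents I => colimit (c.ι ⋙ G))

/-- the structure map into `dcPt G` -/
noncomputable def dcι (G : I ⥤ A) (c : ConnectedComponents I) (i : I) (h : Quotient.mk'' i = c) :
    G.obj i ⟶ dcPt G :=
  colimit.ι (c.ι ⋙ G) ⟨i, h⟩ ≫ Sigma.ι (fun c : ConnectedComponents I => colimit (c.ι ⋙ G)) c

lemma dcι_eq (G : I ⥤ A) (c : ConnectedComponents I) (i : I) (h : Quotient.mk'' i = c) :
    dcι G c i h = dcι G (Quotient.mk'' i) i rfl := by
  subst h
  rfl

lemma dcι_map (G : I ⥤ A) (c : ConnectedComponents I) {i i' : I} (f : i ⟶ i')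
    (h : Quotient.mk'' i = c) (h' : Quotient.mk'' i' = c) :
    G.map f ≫ dcι G c i' h' = dcι G c i h := by
  let k : c.Component := ⟨i, h⟩
  let k' : c.Component := ⟨i', h'⟩
  let g : k ⟶ k' := ObjectProperty.homMk f
  have := colimit.w (c.ι ⋙ G) g
  unfold dcι
  rw [← Category.assoc]
  congr 1

/-- the cocone with point the coproduct of the colimits over the components -/
noncomputable def dc (G : I ⥤ A) : Cocone G where
  pt := dcPt G
  ι :=
    { app := fun i => dcι G (Quotient.mk'' i) i rfl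
      naturality := by
        intro i i' f
        have hii : (Quotient.mk'' i : ConnectedComponents I) = Quotient.mk'' i' :=
          Quotient.sound' (Zigzag.of_hom f)
        dsimp
        rw [Category.comp_id, dcι_map G (Quotient.mk'' i') f hii rfl, dcι_eq] }

/-- `dc G` is a colimit cocone -/
noncomputable def dcIsColimit (G : I ⥤ A) : IsColimit (dc G) where
  desc s := Sigma.desc (fun c => colimit.desc (c.ι ⋙ G) (s.whisker c.ι))
  fac s i := by
    dsimp [dc, dcι]
    simp
  uniq s m hm := by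
    refine Sigma.hom_ext _ _ (fun c => ?_)
    refine colimit.hom_ext (fun k => ?_)
    rw [Sigma.ι_desc, colimit.ι_desc]
    have h := hm k.1
    dsimp [dc] at h
    rw [← dcι_eq G c k.1 k.2] at h
    rw [← Category.assoc]
    exact h

end

section Ab

variable {I : Type u} [SmallCategory I]

/-- Colimits of abelian groups over a disjoint union of filtered categories preserve
monomorphisms. -/
theorem mono_colimMap
    (h1 : ∀ ⦃w x y : I⦄ (a : w ⟶ x) (b : w ⟶ y), ∃ (z : I) (c : x ⟶ z) (d : y ⟶ z), a ≫ c = b ≫ d)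
    (h2 : ∀ ⦃x y : I⦄ (a b : x ⟶ y), ∃ (z : I) (c : y ⟶ z), a ≫ c = b ≫ c)
    {X₁ X₂ : I ⥤ AddCommGrpCat.{u}} (f : X₁ ⟶ X₂) [∀ i, Mono (f.app i)] :
    Mono (colimMap f) := by
  let e₁ : colimit X₁ ≅ dcPt X₁ :=
    IsColimit.coconePointUniqueUpToIso (colimit.isColimit X₁) (dcIsColimit X₁)
  let e₂ : colimit X₂ ≅ dcPt X₂ :=
    IsColimit.coconePointUniqueUpToIso (colimit.isColimit X₂) (dcIsColimit X₂)
  let g : ∀ c : ConnectedComponents I, colimit (c.ι ⋙ X₁) ⟶ colimit (c.ι ⋙ X₂) :=
    fun c => colimMap (Functor.whiskerLeft c.ι f)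
  have hg : ∀ c, Mono (g c) := by
    intro c
    haveI := isFiltered_component h1 h2 c
    haveI : Mono (Functor.whiskerLeft c.ι f) := by
      haveI : ∀ k, Mono ((Functor.whiskerLeft c.ι f).app k) := fun k => by
        dsimp; infer_instance
      exact NatTrans.mono_of_mono_app _
    exact (inferInstance : Mono (colim.map (Functor.whiskerLeft c.ι f)))
  haveI : Mono (Limits.Sigma.map g) := inferInstance
  have he₁ : ∀ i, colimit.ι X₁ i ≫ e₁.hom = (dc X₁).ι.app i :=
    fun i => colimit.comp_coconePointUniqueUpToIso_hom _ i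
  have he₂ : ∀ i, colimit.ι X₂ i ≫ e₂.hom = (dc X₂).ι.app i :=
    fun i => colimit.comp_coconePointUniqueUpToIso_hom _ i
  have sq : colimMap f ≫ e₂.hom = e₁.hom ≫ Limits.Sigma.map g := by
    refine colimit.hom_ext (fun i => ?_)
    rw [ι_colimMap_assoc, he₂, reassoc_of% (he₁ i)]
    dsimp [dc, dcι, g]
    simp
  have : Mono (colimMap f ≫ e₂.hom) := by
    rw [sq]
    infer_instance
  exact mono_of_mono (colimMap f) e₂.hom

end Ab

end Groth.Agent.Lib.Helper1.AlmostFiltered
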