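import Groth.Agent.Lib.Helper1.DenseAffine
import Groth.Agent.Lib.Helper28.AmpleFamily
import Groth.Agent.Lib.Helper28.IdealDual
import Groth.Agent.S1687

/-!
# Locally factorial Noetherian schemes with affine diagonal have an ample family (helper1)
-/

set_option autoImplicit false
universe u
open CategoryTheory CategoryTheory.Limits AlgebraicGeometry TopologicalSpace

namespace Groth.Agent.Lib.Helper1.AmpleFact

open Groth.Agent.Lib.Helper28

theorem hasAmpleFamily_of_locallyFactorial (X : Scheme.{u}) [IsNoetherian X]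
    (hΔ : ∀ V W : X.Opens, IsAffineOpen V → IsAffineOpen W → IsAffineOpen (V ⊓ W))
    (hufd : ∀ x : X, IsDomain (X.presheaf.stalk x) ∧ UniqueFactorizationMonoid (X.presheaf.stalk x)) :
    MoreMor.HasAmpleFamily X := by
  refine ⟨inferInstance, fun x => ?_⟩
  obtain ⟨U, hU, hxU, hdense⟩ := DenseAffine.exists_dense_affine X x
  obtain ⟨𝓘, h𝓘, hsupp⟩ := Groth.Agent.S1687.result X hΔ U hU hdense (fun y _ => hufd y)
  have hL : PicF.IsInvertible (HomMod.dual (ClSub.idealMod 𝓘)) :=
    HomMod.isInvertible_dual (IdealDual.isInvertible_idealMod 𝓘 h𝓘)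
  obtain ⟨τ, hτ⟩ := AmpleFamily.exists_tensorPow_one_section (IdealDual.tI 𝓘)
  have hloc : CohB1.genLocus _ τ = U := by
    rw [hτ, IdealDual.genLocus_tI 𝓘 h𝓘]
    ext y
    change y ∈ ((𝓘.support : Set X))ᶜ ↔ y ∈ U
    rw [hsupp, compl_compl]
    rfl
  exact ⟨_, 1, τ, hL, le_rfl, by rw [hloc]; exact hxU, by rw [hloc]; exact hU⟩

end Groth.Agent.Lib.Helper1.AmpleFact
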