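import Groth.Agent.Lib.Helper1.ArtFunSurj
import Groth.Agent.Lib.Helper5.ArtFunLift

set_option autoImplicit false
universe u v

open CategoryTheory

namespace Groth.Agent.Lib.Helper1.ArtFunDer

open ArtFun ArtFun.Art

variable {Λ : Type u} {k : Type u} [CommRing Λ] [Field k] [Algebra Λ k]
variable {R : Type u} [CommRing R] [Algebra Λ R] {resR : R →ₐ[Λ] k} [Algebra R k]
  [IsScalarTower Λ R k] (hres : ∀ r, algebraMap R k r = resR r)

include hres in
/-- The map `R → k[ε]`, `r ↦ res r + D(r) ε`. -/
def derHom (D : Derivation Λ R k) : HomSet R resR (dual Λ k) :=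
  ⟨{ toFun := fun r => ((resR r, D r) : TrivSqZeroExt k k)
     map_one' := TrivSqZeroExt.ext (map_one resR) (by
       change D 1 = 0
       exact D.map_one_eq_zero)
     map_mul' := fun a b => TrivSqZeroExt.ext (map_mul resR a b) (by
       change D (a * b) = resR a • D b + MulOpposite.op (resR b) • D a
       rw [D.leibniz, op_smul_eq_smul, Algebra.smul_def, Algebra.smul_def, hres, hres]
       rfl)
     map_zero' := TrivSqZeroExt.ext (map_zero resR) (map_zero D)
     map_add' := fun a b => TrivSqZeroExt.ext (map_add resR a b) (map_add D a b)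
     commutes' := fun l => by
       change ((resR (algebraMap Λ R l), D (algebraMap Λ R l)) : TrivSqZeroExt k k) =
         algebraMap Λ (TrivSqZeroExt k k) l
       rw [TrivSqZeroExt.algebraMap_eq_inl']
       exact TrivSqZeroExt.ext (resR.commutes l) (D.map_algebraMap l) },
   AlgHom.ext fun _ => rfl⟩

lemma derHom_fst (D : Derivation Λ R k) (r : R) :
    TrivSqZeroExt.fst ((derHom hres D).1 r : TrivSqZeroExt k k) = resR r := rfl

lemma derHom_snd (D : Derivation Λ R k) (r : R) :
    TrivSqZeroExt.snd ((derHom hres D).1 r : TrivSqZeroExt k k) = D r := rfl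

omit [Algebra R k] [IsScalarTower Λ R k] in
lemma homSet_fst (φ : HomSet R resR (dual Λ k)) (r : R) :
    TrivSqZeroExt.fst (φ.1 r : TrivSqZeroExt k k) = resR r :=
  congrArg (fun g : R →ₐ[Λ] k => g r) φ.2

omit [Algebra R k] [IsScalarTower Λ R k] in
lemma homSet_ext {A : Art Λ k} {φ ψ : HomSet R resR A} (h : ∀ r, φ.1 r = ψ.1 r) : φ = ψ :=
  Subtype.ext (AlgHom.ext h)

include hres in
/-- The derivation `snd ∘ φ` of a map `φ : R → k[ε]`. -/
def derOf (φ : HomSet R resR (dual Λ k)) : Derivation Λ R k :=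
  Derivation.mk'
    { toFun := fun r => TrivSqZeroExt.snd (φ.1 r : TrivSqZeroExt k k)
      map_add' := fun a b => by rw [map_add]; rfl
      map_smul' := fun l a => by
        rw [map_smul, RingHom.id_apply]
        exact TrivSqZeroExt.snd_smul l (φ.1 a : TrivSqZeroExt k k) }
    (fun a b => by
      change TrivSqZeroExt.snd (φ.1 (a * b) : TrivSqZeroExt k k) =
        a • TrivSqZeroExt.snd (φ.1 b : TrivSqZeroExt k k) +
          b • TrivSqZeroExt.snd (φ.1 a : TrivSqZeroExt k k)
      rw [map_mul]
      refine (TrivSqZeroExt.snd_mul (φ.1 a : TrivSqZeroExt k k) (φ.1 b)).trans ?_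
      rw [Algebra.smul_def a (TrivSqZeroExt.snd (φ.1 b : TrivSqZeroExt k k)),
        Algebra.smul_def b (TrivSqZeroExt.snd (φ.1 a : TrivSqZeroExt k k)), hres, hres,
        op_smul_eq_smul, smul_eq_mul, smul_eq_mul, homSet_fst, homSet_fst])

lemma derOf_apply (φ : HomSet R resR (dual Λ k)) (r : R) :
    derOf hres φ r = TrivSqZeroExt.snd (φ.1 r : TrivSqZeroExt k k) := rfl

lemma derHom_derOf (φ : HomSet R resR (dual Λ k)) : derHom hres (derOf hres φ) = φ :=
  homSet_ext fun r => TrivSqZeroExt.ext ((homSet_fst φ r).symm) rfl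

lemma derOf_derHom (D : Derivation Λ R k) : derOf hres (derHom hres D) = D :=
  Derivation.ext fun _ => rfl

lemma derHom_injective : Function.Injective (derHom (Λ := Λ) (resR := resR) hres) := by
  intro D D' h
  rw [← derOf_derHom hres D, h, derOf_derHom]

lemma map_scale_derHom (c : k) (D : Derivation Λ R k) :
    HomSet.map (scale c) (derHom hres D) = derHom hres (c • D) :=
  homSet_ext fun _ => rfl

/-- The pair of two derivations as a map to `k[ε₁, ε₂]`. -/
lemma exists_derHom2 (D D' : Derivation Λ R k) :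
    ∃ v : HomSet R resR (dual2 Λ k), HomSet.map pr₁ v = derHom hres D ∧
      HomSet.map pr₂ v = derHom hres D' ∧ HomSet.map plus v = derHom hres (D + D') := by
  obtain ⟨v, hv1, hv2⟩ := Groth.Agent.Lib.Helper5.ArtFunLift.exists_homSet_lift
    (isFibreProd_dual2 (Λ := Λ) (k := k)) (derHom hres D) (derHom hres D')
    (homSet_ext fun _ => rfl)
  refine ⟨v, hv1, hv2, homSet_ext fun r => ?_⟩
  have h1 : TrivSqZeroExt.snd ((HomSet.map pr₁ v).1 r : TrivSqZeroExt k k) = D r := by
    rw [hv1]; rfl
  have h2 : TrivSqZeroExt.snd ((HomSet.map pr₂ v).1 r : TrivSqZeroExt k k) = D' r := by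
    rw [hv2]; rfl
  have h0 : TrivSqZeroExt.fst ((HomSet.map pr₁ v).1 r : TrivSqZeroExt k k) = resR r := by
    rw [hv1]; rfl
  exact TrivSqZeroExt.ext h0 (by
    change (TrivSqZeroExt.snd (v.1 r : TrivSqZeroExt k (k × k))).1 +
      (TrivSqZeroExt.snd (v.1 r : TrivSqZeroExt k (k × k))).2 = D r + D' r
    rw [← h1, ← h2]; rfl)

section Tangent

variable {F : Art Λ k ⥤ Type v} [T : TangentStr F]

/-- The characteristic map `Der_Λ(R, k) → t_F` of a family, as a `k`-linear map. -/
noncomputable def tangentLin (ξ : Family R resR F) : Derivation Λ R k →ₗ[k] TangentSpace F where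
  toFun D := ξ.app (dual Λ k) (derHom hres D)
  map_add' D D' := by
    obtain ⟨v, hv1, hv2, hv3⟩ := exists_derHom2 hres D D'
    have := T.add_eq (ξ.app (dual2 Λ k) v)
    rw [← ξ.natural, ← ξ.natural, ← ξ.natural, hv1, hv2, hv3] at this
    exact this.symm
  map_smul' c D := by
    rw [RingHom.id_apply, ← map_scale_derHom, ξ.natural]
    exact (T.smul_eq c _).symm

lemma tangentLin_apply (ξ : Family R resR F) (D : Derivation Λ R k) :
    tangentLin hres ξ D = ξ.app (dual Λ k) (derHom hres D) := rfl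

theorem tangentLin_surjective (ξ : Family R resR F)
    (h : Function.Surjective (ξ.app (dual Λ k))) : Function.Surjective (tangentLin hres ξ) := by
  intro x
  obtain ⟨φ, hφ⟩ := h x
  exact ⟨derOf hres φ, by rw [tangentLin_apply, derHom_derOf, hφ]⟩

end Tangent

end Groth.Agent.Lib.Helper1.ArtFunDer
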