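import Groth.Agent.Lib.Helper1.ArtFunFib

set_option autoImplicit false
universe u v

open CategoryTheory

namespace Groth.Agent.Lib.Helper1.ArtFunCond

open ArtFun ArtFun.Art Groth.Agent.Lib.Helper1.ArtFunBasic Groth.Agent.Lib.Helper1.ArtFunFib

variable {Λ : Type u} {k : Type u} [CommRing Λ] [Field k] [Algebra Λ k]

/-- `Hbar` implies `S1`. -/
theorem s1_of_hbar (F : Art Λ k ⥤ Type v) (hF : Hbar F) : S1 F := by
  intro B A A' A'' p' p'' f' f'' h hf''
  have key : Function.Surjective f'' ∧ ∀ (A' B : Art Λ k) (p' : B ⟶ A') (p'' : B ⟶ A'') (f' : A' ⟶ A)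
      (h : IsFibreProd p' p'' f' f''), Function.Surjective (cmp F h) := by
    refine surjective_induction_smallExt
      (P := fun A A'' f'' => Function.Surjective f'' ∧
        ∀ (A' B : Art Λ k) (p' : B ⟶ A') (p'' : B ⟶ A'') (f' : A' ⟶ A)
        (h : IsFibreProd p' p'' f' f''), Function.Surjective (cmp F h)) ?_ ?_ ?_ f'' hf''
    · intro A A'' e he
      have := he
      exact ⟨(bijective_of_isIso e).2, fun A' B p' p'' f' h => (cmp_bijective_of_isIso F h).2⟩
    · intro A A'' p hp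
      exact ⟨hp.1, fun A' B p' p'' f' h => hF p' p'' f' p h hp⟩
    · intro A B0 C p q hp hq
      refine ⟨surjective_comp p q hp.1 hq.1, fun A' B p' p'' f' h => ?_⟩
      exact cmp_surjective_comp F h hp.1 (hq.2 _ _ _ _ _ _) (hp.2 _ _ _ _ _ _)
  exact key.2 A' B p' p'' f' h

/-- `S1` implies `Hbar`. -/
theorem hbar_of_s1 (F : Art Λ k ⥤ Type v) (hF : S1 F) : Hbar F :=
  fun _ _ _ _ p' p'' f' f'' h hs => hF p' p'' f' f'' h hs.1

/-- (RS) for small extensions implies (RS). -/
theorem rs_of_rs_smallExt (F : Art Λ k ⥤ Type v)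
    (hF : ∀ ⦃B A A' A'' : Art Λ k⦄ (p' : B ⟶ A') (p'' : B ⟶ A'') (f' : A' ⟶ A) (f'' : A'' ⟶ A)
        (h : IsFibreProd p' p'' f' f''), IsSmallExt f'' → Function.Bijective (cmp F h)) :
    ∀ ⦃B A A' A'' : Art Λ k⦄ (p' : B ⟶ A') (p'' : B ⟶ A'') (f' : A' ⟶ A) (f'' : A'' ⟶ A)
        (h : IsFibreProd p' p'' f' f''), Function.Surjective f'' → Function.Bijective (cmp F h) := by
  intro B A A' A'' p' p'' f' f'' h hf''
  have key : Function.Surjective f'' ∧ ∀ (A' B : Art Λ k) (p' : B ⟶ A') (p'' : B ⟶ A'') (f' : A' ⟶ A)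
      (h : IsFibreProd p' p'' f' f''), Function.Bijective (cmp F h) := by
    refine surjective_induction_smallExt
      (P := fun A A'' f'' => Function.Surjective f'' ∧
        ∀ (A' B : Art Λ k) (p' : B ⟶ A') (p'' : B ⟶ A'') (f' : A' ⟶ A)
        (h : IsFibreProd p' p'' f' f''), Function.Bijective (cmp F h)) ?_ ?_ ?_ f'' hf''
    · intro A A'' e he
      have := he
      exact ⟨(bijective_of_isIso e).2, fun A' B p' p'' f' h => cmp_bijective_of_isIso F h⟩
    · intro A A'' p hp
      exact ⟨hp.1, fun A' B p' p'' f' h => hF p' p'' f' p h hp⟩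
    · intro A B0 C p q hp hq
      refine ⟨surjective_comp p q hp.1 hq.1, fun A' B p' p'' f' h => ⟨?_, ?_⟩⟩
      · exact cmp_injective_comp F h hp.1 (hq.2 _ _ _ _ _ _).1 (hp.2 _ _ _ _ _ _).1
      · exact cmp_surjective_comp F h hp.1 (hq.2 _ _ _ _ _ _).2 (hp.2 _ _ _ _ _ _).2
  exact key.2 A' B p' p'' f' h

section Smooth

variable {F G : Art Λ k ⥤ Type v}

lemma naturality_apply (η : F ⟶ G) {A B : Art Λ k} (f : A ⟶ B) (x : F.obj A) :
    η.app B (F.map f x) = G.map f (η.app A x) := NatTrans.naturality_apply η f x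

theorem relCmp_surjective_of_isIso (η : F ⟶ G) {B A : Art Λ k} (μ : B ⟶ A) [IsIso μ] :
    Function.Surjective (relCmp η μ) := by
  rintro ⟨⟨x, y⟩, hxy⟩
  have hxy' : η.app A x = G.map μ y := hxy
  refine ⟨F.map (inv μ) x, ?_⟩
  apply Subtype.ext
  apply Prod.ext
  · change F.map μ (F.map (inv μ) x) = x
    rw [← map_comp_apply, IsIso.inv_hom_id, map_id_apply]
  · change η.app B (F.map (inv μ) x) = y
    rw [naturality_apply, hxy', ← map_comp_apply, IsIso.hom_inv_id, map_id_apply]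

theorem relCmp_surjective_comp (η : F ⟶ G) {C B A : Art Λ k} (p : C ⟶ B) (q : B ⟶ A)
    (hp : Function.Surjective (relCmp η p)) (hq : Function.Surjective (relCmp η q)) :
    Function.Surjective (relCmp η (p ≫ q)) := by
  rintro ⟨⟨x, y⟩, hxy⟩
  have hxy' : η.app A x = G.map (p ≫ q) y := hxy
  obtain ⟨zB, hzB⟩ := hq ⟨(x, G.map p y), by
    change η.app A x = G.map q (G.map p y)
    rw [hxy', map_comp_apply]⟩
  have h1 : F.map q zB = x := congrArg (fun t => t.1.1) hzB
  have h2 : η.app B zB = G.map p y := congrArg (fun t => t.1.2) hzB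
  obtain ⟨zC, hzC⟩ := hp ⟨(zB, y), h2⟩
  have h3 : F.map p zC = zB := congrArg (fun t => t.1.1) hzC
  have h4 : η.app C zC = y := congrArg (fun t => t.1.2) hzC
  refine ⟨zC, ?_⟩
  apply Subtype.ext
  apply Prod.ext
  · change F.map (p ≫ q) zC = x
    rw [map_comp_apply, h3, h1]
  · exact h4

/-- Smoothness can be tested on small extensions. -/
theorem isSmooth_of_smallExt (η : F ⟶ G)
    (h : ∀ ⦃B A : Art Λ k⦄ (μ : B ⟶ A), IsSmallExt μ → Function.Surjective (relCmp η μ)) :
    IsSmooth η := by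
  intro B A μ hμ
  refine surjective_induction_smallExt
    (P := fun A B μ => Function.Surjective (relCmp η μ)) ?_ ?_ ?_ μ hμ
  · intro A B e he
    have := he
    exact relCmp_surjective_of_isIso η e
  · intro A B p hp
    exact h p hp
  · intro A B C p q hp hq
    exact relCmp_surjective_comp η p q hp hq

/-- A smooth morphism surjective on `F(k) → G(k)` is surjective on every object. -/
theorem surjective_app_of_isSmooth (η : F ⟶ G) (hη : IsSmooth η)
    (h0 : Function.Surjective (η.app (base Λ k))) (A : Art Λ k) :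
    Function.Surjective (η.app A) := by
  intro y
  obtain ⟨x0, hx0⟩ := h0 (G.map (toBase A) y)
  obtain ⟨z, hz⟩ := hη (toBase A) A.res_surjective ⟨(x0, y), hx0⟩
  exact ⟨z, congrArg (fun t => t.1.2) hz⟩

end Smooth

end Groth.Agent.Lib.Helper1.ArtFunCond
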