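import Groth.Agent.Lib.Helper1.ArtFunSmall
import Groth.Agent.Lib.Helper1.ArtFunCond
import Groth.Agent.Lib.Helper5.ArtFunLift

set_option autoImplicit false
universe u v

open CategoryTheory

namespace Groth.Agent.Lib.Helper1.ArtFunTangent

open ArtFun ArtFun.Art Groth.Agent.Lib.Helper1.ArtFunBasic Groth.Agent.Lib.Helper1.ArtFunFib
  Groth.Agent.Lib.Helper1.ArtFunPullback Groth.Agent.Lib.Helper1.ArtFunSmall

variable {Λ : Type u} {k : Type u} [CommRing Λ] [Field k] [Algebra Λ k]
variable [IsNoetherianRing Λ] [Module.Finite Λ k]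

section Lift

omit [IsNoetherianRing Λ] [Module.Finite Λ k]

variable {B A A' A'' : Art Λ k} {p' : B ⟶ A'} {p'' : B ⟶ A''} {f' : A' ⟶ A} {f'' : A'' ⟶ A}

theorem exists_lift (h : IsFibreProd p' p'' f' f'') {X : Art Λ k} (g' : X ⟶ A') (g'' : X ⟶ A'')
    (hg : g' ≫ f' = g'' ≫ f'') : ∃ l : X ⟶ B, l ≫ p' = g' ∧ l ≫ p'' = g'' := by
  obtain ⟨v, hv1, hv2⟩ := Groth.Agent.Lib.Helper5.ArtFunLift.exists_homSet_lift (R := X)
    (resR := X.res) h ⟨g'.toAlgHom, g'.res_comp⟩ ⟨g''.toAlgHom, g''.res_comp⟩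
    (Subtype.ext (congrArg Hom.toAlgHom hg))
  refine ⟨⟨v.1, v.2⟩, ?_, ?_⟩
  · apply hom_ext; exact congrArg Subtype.val hv1
  · apply hom_ext; exact congrArg Subtype.val hv2

theorem fibre_hom_ext (h : IsFibreProd p' p'' f' f'') {X : Art Λ k} (l₁ l₂ : X ⟶ B)
    (h1 : l₁ ≫ p' = l₂ ≫ p') (h2 : l₁ ≫ p'' = l₂ ≫ p'') : l₁ = l₂ := by
  apply hom_ext; apply AlgHom.ext; intro x
  apply h.inj
  · exact congrArg (fun g : X ⟶ A' => g.toAlgHom x) h1
  · exact congrArg (fun g : X ⟶ A'' => g.toAlgHom x) h2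

end Lift

/-- `B ×_k k[ε]`. -/
noncomputable def tObj (B : Art Λ k) : Art Λ k :=
  pbObj (toBase B) (toBase (dual Λ k)) (dual Λ k).res_surjective

noncomputable def tFst (B : Art Λ k) : tObj B ⟶ B :=
  pbFst (toBase B) (toBase (dual Λ k)) (dual Λ k).res_surjective

noncomputable def tSnd (B : Art Λ k) : tObj B ⟶ dual Λ k :=
  pbSnd (toBase B) (toBase (dual Λ k)) (dual Λ k).res_surjective

theorem tObj_isFibreProd (B : Art Λ k) :
    IsFibreProd (tFst B) (tSnd B) (toBase B) (toBase (dual Λ k)) :=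
  pb_isFibreProd _ _ _

/-- Two elements of `B` with the same residue multiply a socle element in the same way. -/
lemma mul_eq_mul_of_res_eq {B : Art Λ k} {t : B}
    (ht : ∀ x ∈ IsLocalRing.maximalIdeal B, x * t = 0) {x y : B} (h : B.res x = B.res y) :
    x * t = y * t := by
  have : x - y ∈ IsLocalRing.maximalIdeal B := by
    rw [mem_maximalIdeal_iff, map_sub, h, sub_self]
  have := ht _ this
  rwa [sub_mul, sub_eq_zero] at this

/-- A set-theoretic section of the residue map. -/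
noncomputable def sec (B : Art Λ k) : k → B := Function.surjInv B.res_surjective

lemma res_sec (B : Art Λ k) (c : k) : B.res (sec B c) = c :=
  Function.surjInv_eq B.res_surjective c

omit [IsNoetherianRing Λ] [Module.Finite Λ k] in
lemma dual_snd_mul (e e' : dual Λ k) :
    TrivSqZeroExt.snd (e * e' : dual Λ k) =
      TrivSqZeroExt.fst (e : TrivSqZeroExt k k) * TrivSqZeroExt.snd (e' : TrivSqZeroExt k k) +
        TrivSqZeroExt.fst (e' : TrivSqZeroExt k k) * TrivSqZeroExt.snd (e : TrivSqZeroExt k k) := by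
  refine (TrivSqZeroExt.snd_mul (e : TrivSqZeroExt k k) e').trans ?_
  simp only [smul_eq_mul, MulOpposite.smul_eq_mul_unop, MulOpposite.unop_op]
  ring

omit [IsNoetherianRing Λ] [Module.Finite Λ k] in
lemma dual_snd_add (e e' : dual Λ k) :
    TrivSqZeroExt.snd (e + e' : dual Λ k) =
      TrivSqZeroExt.snd (e : TrivSqZeroExt k k) + TrivSqZeroExt.snd (e' : TrivSqZeroExt k k) :=
  TrivSqZeroExt.snd_add (e : TrivSqZeroExt k k) e'

section Act

variable {B : Art Λ k} (t : B) (htm : t ∈ IsLocalRing.maximalIdeal B)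
  (ht : ∀ x ∈ IsLocalRing.maximalIdeal B, x * t = 0)

/-- The underlying function of the action map `B ×_k k[ε] → B`, `(b, c ε) ↦ b + c t`. -/
noncomputable def actFun (x : PB (toBase B) (toBase (dual Λ k))) : B :=
  (x : B × dual Λ k).1 + sec B (TrivSqZeroExt.snd (x : B × dual Λ k).2) * t

include htm ht in
lemma tt_zero : t * t = 0 := ht t htm

include ht in
lemma sec_mul_eq {c : k} {y : B} (h : B.res y = c) : sec B c * t = y * t :=
  mul_eq_mul_of_res_eq ht (by rw [res_sec, h])

/-- The action map as a morphism `B ×_k k[ε] ⟶ B`. -/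
noncomputable def tAct : tObj B ⟶ B :=
  ⟨{ toFun := actFun t
     map_one' := by
       change (1 : B) + sec B (0 : k) * t = 1
       rw [sec_mul_eq t ht (y := 0) (map_zero _), zero_mul, add_zero]
     map_mul' := by
       intro (x : PB (toBase B) (toBase (dual Λ k))) (y : PB (toBase B) (toBase (dual Λ k)))
       obtain ⟨⟨b, e⟩, hx⟩ := x
       obtain ⟨⟨b', e'⟩, hy⟩ := y
       have hx' : B.res b = e.fst := hx
       have hy' : B.res b' = e'.fst := hy
       change b * b' + sec B (TrivSqZeroExt.snd (e * e')) * t =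
         (b + sec B e.snd * t) * (b' + sec B e'.snd * t)
       have h1 : sec B (TrivSqZeroExt.snd (e * e')) * t =
           (b * sec B e'.snd + b' * sec B e.snd) * t := by
         apply sec_mul_eq t ht
         rw [map_add, map_mul, map_mul, res_sec, res_sec, hx', hy', dual_snd_mul]
       rw [h1]
       have htt := tt_zero t htm ht
       linear_combination (-(sec B e.snd * sec B e'.snd)) * htt
     map_zero' := by
       change (0 : B) + sec B (0 : k) * t = 0
       rw [sec_mul_eq t ht (y := 0) (map_zero _), zero_mul, add_zero]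
     map_add' := by
       intro (x : PB (toBase B) (toBase (dual Λ k))) (y : PB (toBase B) (toBase (dual Λ k)))
       obtain ⟨⟨b, e⟩, hx⟩ := x
       obtain ⟨⟨b', e'⟩, hy⟩ := y
       change b + b' + sec B (TrivSqZeroExt.snd (e + e')) * t =
         (b + sec B e.snd * t) + (b' + sec B e'.snd * t)
       have h1 : sec B (TrivSqZeroExt.snd (e + e')) * t = (sec B e.snd + sec B e'.snd) * t := by
         apply sec_mul_eq t ht
         rw [map_add, res_sec, res_sec, dual_snd_add]
       rw [h1]; ring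
     commutes' := by
       intro r
       change algebraMap Λ B r + sec B (TrivSqZeroExt.snd (algebraMap Λ (dual Λ k) r)) * t = _
       have : TrivSqZeroExt.snd (algebraMap Λ (dual Λ k) r) = (0 : k) := by
         change TrivSqZeroExt.snd (algebraMap Λ (TrivSqZeroExt k k) r) = 0
         rw [TrivSqZeroExt.algebraMap_eq_inl', TrivSqZeroExt.snd_inl]
       rw [this, sec_mul_eq t ht (y := 0) (map_zero _), zero_mul, add_zero] },
   by
     apply AlgHom.ext
     intro (x : PB (toBase B) (toBase (dual Λ k)))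
     obtain ⟨⟨b, e⟩, hx⟩ := x
     change B.res (b + sec B e.snd * t) = B.res b
     rw [map_add, map_mul, (mem_maximalIdeal_iff B t).mp htm, mul_zero, add_zero]⟩

lemma tAct_apply (x : PB (toBase B) (toBase (dual Λ k))) :
    (tAct t htm ht).toAlgHom x = (x : B × dual Λ k).1 + sec B (TrivSqZeroExt.snd (x : B × dual Λ k).2) * t :=
  rfl

lemma tFst_apply (x : PB (toBase B) (toBase (dual Λ k))) :
    (tFst B).toAlgHom x = (x : B × dual Λ k).1 := rfl

lemma tSnd_apply (x : PB (toBase B) (toBase (dual Λ k))) :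
    (tSnd B).toAlgHom x = (x : B × dual Λ k).2 := rfl

theorem exists_tSec (B : Art Λ k) :
    ∃ s : B ⟶ tObj B, s ≫ tFst B = 𝟙 B ∧ s ≫ tSnd B = toBase B ≫ baseToDual :=
  exists_lift (tObj_isFibreProd B) (𝟙 B) (toBase B ≫ baseToDual) (by
    rw [eq_toBase ((toBase B ≫ baseToDual) ≫ toBase (dual Λ k)), Category.id_comp])

/-- The section `b ↦ (b, res b)` of `B ×_k k[ε] → B`. -/
noncomputable def tSec (B : Art Λ k) : B ⟶ tObj B := (exists_tSec B).choose

lemma tSec_tFst (B : Art Λ k) : tSec B ≫ tFst B = 𝟙 B := (exists_tSec B).choose_spec.1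

lemma tSec_tSnd (B : Art Λ k) : tSec B ≫ tSnd B = toBase B ≫ baseToDual :=
  (exists_tSec B).choose_spec.2

lemma snd_baseToDual (c : k) :
    TrivSqZeroExt.snd ((baseToDual : base Λ k ⟶ dual Λ k).toAlgHom c : TrivSqZeroExt k k) = 0 := by
  change TrivSqZeroExt.snd (algebraMap k (DualNumber k) c) = 0
  rw [TrivSqZeroExt.algebraMap_eq_inl, TrivSqZeroExt.snd_inl]

theorem tSec_tAct : tSec B ≫ tAct t htm ht = 𝟙 B := by
  apply hom_ext; apply AlgHom.ext; intro b
  change (tAct t htm ht).toAlgHom ((tSec B).toAlgHom b) = b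
  have h1 : (tFst B).toAlgHom ((tSec B).toAlgHom b) = b :=
    congrArg (fun g : B ⟶ B => g.toAlgHom b) (tSec_tFst B)
  have h2 : (tSnd B).toAlgHom ((tSec B).toAlgHom b) = (baseToDual : base Λ k ⟶ dual Λ k).toAlgHom (B.res b) :=
    congrArg (fun g : B ⟶ dual Λ k => g.toAlgHom b) (tSec_tSnd B)
  set x : PB (toBase B) (toBase (dual Λ k)) := (tSec B).toAlgHom b with hx
  rw [tFst_apply] at h1
  rw [tSnd_apply] at h2
  rw [tAct_apply, h1, h2, snd_baseToDual, sec_mul_eq t ht (y := 0) (map_zero _), zero_mul, add_zero]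

theorem tAct_comp {A : Art Λ k} (μ : B ⟶ A) (hμ : μ t = 0) :
    tAct t htm ht ≫ μ = tFst B ≫ μ := by
  apply hom_ext; apply AlgHom.ext
  intro (x : PB (toBase B) (toBase (dual Λ k)))
  change μ.toAlgHom ((tAct t htm ht).toAlgHom x) = μ.toAlgHom ((tFst B).toAlgHom x)
  rw [tAct_apply, tFst_apply, map_add, map_mul, hμ, mul_zero, add_zero]

theorem tAct_isFibreProd {A : Art Λ k} (μ : B ⟶ A) (hker : RingHom.ker μ.toAlgHom = Ideal.span {t})
    (ht0 : t ≠ 0) : IsFibreProd (tFst B) (tAct t htm ht) μ μ where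
  w := (tAct_comp t htm ht μ (by
    have : t ∈ RingHom.ker μ.toAlgHom := hker ▸ Ideal.mem_span_singleton_self t
    exact this)).symm
  inj := by
    intro (x : PB (toBase B) (toBase (dual Λ k))) (y : PB (toBase B) (toBase (dual Λ k))) h1 h2
    rw [tFst_apply, tFst_apply] at h1
    rw [tAct_apply, tAct_apply, h1] at h2
    have h3 := add_left_cancel h2
    obtain ⟨⟨b, e⟩, hx⟩ := x
    obtain ⟨⟨b', e'⟩, hy⟩ := y
    have hx' : B.res b = TrivSqZeroExt.fst (e : TrivSqZeroExt k k) := hx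
    have hy' : B.res b' = TrivSqZeroExt.fst (e' : TrivSqZeroExt k k) := hy
    have hb : b = b' := h1
    have h4 : (sec B (TrivSqZeroExt.snd (e : TrivSqZeroExt k k)) -
        sec B (TrivSqZeroExt.snd (e' : TrivSqZeroExt k k))) * t = 0 := by
      rw [sub_mul, sub_eq_zero]; exact h3
    have h5 : sec B (TrivSqZeroExt.snd (e : TrivSqZeroExt k k)) -
        sec B (TrivSqZeroExt.snd (e' : TrivSqZeroExt k k)) ∈ IsLocalRing.maximalIdeal B := by
      rw [IsLocalRing.mem_maximalIdeal]
      intro hu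
      exact ht0 (hu.mul_right_eq_zero.mp h4)
    rw [mem_maximalIdeal_iff, map_sub, res_sec, res_sec, sub_eq_zero] at h5
    have he : e = e' := by
      apply TrivSqZeroExt.ext
      · change TrivSqZeroExt.fst (e : TrivSqZeroExt k k) = TrivSqZeroExt.fst (e' : TrivSqZeroExt k k)
        rw [← hx', ← hy', hb]
      · exact h5
    exact Subtype.ext (Prod.ext hb he)
  surj := by
    intro b₁ b₂ h12
    have hd : b₂ - b₁ ∈ RingHom.ker μ.toAlgHom := by
      rw [RingHom.mem_ker, map_sub, sub_eq_zero]; exact h12.symm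
    rw [hker] at hd
    obtain ⟨a, ha⟩ := Ideal.mem_span_singleton'.mp hd
    refine ⟨(⟨(b₁, (TrivSqZeroExt.inl (B.res b₁) + TrivSqZeroExt.inr (B.res a) : TrivSqZeroExt k k)), ?_⟩ :
      PB (toBase B) (toBase (dual Λ k))), ?_, ?_⟩
    · change B.res b₁ = TrivSqZeroExt.fst (TrivSqZeroExt.inl (B.res b₁) + TrivSqZeroExt.inr (B.res a) : TrivSqZeroExt k k)
      simp
    · rfl
    · rw [tAct_apply]
      change b₁ + sec B (TrivSqZeroExt.snd (TrivSqZeroExt.inl (B.res b₁) + TrivSqZeroExt.inr (B.res a) : TrivSqZeroExt k k)) * t = b₂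
      have : TrivSqZeroExt.snd (TrivSqZeroExt.inl (B.res b₁) + TrivSqZeroExt.inr (B.res a) : TrivSqZeroExt k k) = B.res a := by
        simp
      rw [this, sec_mul_eq t ht (y := a) rfl, ha]; ring

end Act

end Groth.Agent.Lib.Helper1.ArtFunTangent
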