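import Groth.Agent.Lib.Helper1.ArtFunPullback
import Mathlib.RingTheory.AdicCompletion.Functoriality
import Mathlib.RingTheory.AdicCompletion.Noetherian
import Mathlib.RingTheory.Nakayama
import Mathlib.RingTheory.Derivation.Basic

set_option autoImplicit false
universe u v

open CategoryTheory

namespace Groth.Agent.Lib.Helper1.ArtFunSurj

open IsLocalRing

section General

variable {R S : Type*} [CommRing R] [CommRing S] [IsLocalRing R] [IsLocalRing S]
  [IsNoetherianRing S]

/-- Nakayama: if `f(m_R) S + m_S² = m_S` then `f(m_R) S = m_S`. -/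
theorem map_maximalIdeal_eq_of_sup_sq (f : R →+* S)
    (h : Ideal.map f (maximalIdeal R) ⊔ maximalIdeal S ^ 2 = maximalIdeal S) :
    Ideal.map f (maximalIdeal R) = maximalIdeal S := by
  apply le_antisymm
  · rw [← h]; exact le_sup_left
  · apply Submodule.le_of_le_smul_of_le_jacobson_bot (I := maximalIdeal S)
      (IsNoetherian.noetherian _) (maximalIdeal_le_jacobson _)
    rw [smul_eq_mul, ← pow_two, h]

/-- A local map of complete local rings inducing an isomorphism on residue fields and a surjection
on cotangent spaces is surjective. -/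
theorem surjective_of_map_sup_sq [IsPrecomplete (maximalIdeal R) R] (f : R →+* S)
    (hres : ∀ s : S, ∃ r : R, s - f r ∈ maximalIdeal S)
    (h : Ideal.map f (maximalIdeal R) ⊔ maximalIdeal S ^ 2 = maximalIdeal S) :
    Function.Surjective f := by
  have hmap := map_maximalIdeal_eq_of_sup_sq f h
  haveI : IsHausdorff (Ideal.map f (maximalIdeal R)) S := by
    rw [hmap]; infer_instance
  apply surjective_of_mk_map_comp_surjective (I := maximalIdeal R) f
  intro y
  obtain ⟨s, rfl⟩ := Ideal.Quotient.mk_surjective y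
  obtain ⟨r, hr⟩ := hres s
  refine ⟨r, ?_⟩
  rw [RingHom.comp_apply, eq_comm, Ideal.Quotient.eq, hmap]
  exact hr

end General

section Der

variable {Λ : Type*} {k : Type*} [CommRing Λ] [Field k] [Algebra Λ k]
  {S : Type*} [CommRing S] [Algebra Λ S] [IsLocalRing S] [IsNoetherianRing S]
  [Algebra S k] [IsScalarTower Λ S k]

omit [IsNoetherianRing S] in
theorem algebraMap_eq_zero_iff (hres : Function.Surjective (algebraMap S k)) (s : S) :
    algebraMap S k s = 0 ↔ s ∈ maximalIdeal S := by
  have hmax : (RingHom.ker (algebraMap S k)).IsMaximal :=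
    RingHom.ker_isMaximal_of_surjective _ hres
  rw [← IsLocalRing.eq_maximalIdeal hmax, RingHom.mem_ker]

/-- If the image of `R` does not generate the cotangent space of `S`, there is a nonzero derivation
`S → k` vanishing on the image of `R`. -/
theorem exists_derivation_ne_zero (hres : Function.Surjective (algebraMap S k))
    {R : Type*} [CommRing R] [Algebra Λ R] (f : R →ₐ[Λ] S)
    (hfres : ∀ s : S, ∃ r : R, s - f r ∈ maximalIdeal S) (J : Ideal S)
    (hJ1 : J ≤ maximalIdeal S) (hJ2 : maximalIdeal S ^ 2 ≤ J)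
    (hJ3 : ∀ r, f r ∈ maximalIdeal S → f r ∈ J) (hJ4 : J ≠ maximalIdeal S) :
    ∃ D : Derivation Λ S k, D ≠ 0 ∧ ∀ r, D (f r) = 0 := by
  classical
  have hk := algebraMap_eq_zero_iff (k := k) hres
  -- a maximal proper subideal
  let T : Set (Ideal S) := {I' | J ≤ I' ∧ I' < maximalIdeal S}
  have hT : T.Nonempty := ⟨J, le_rfl, lt_of_le_of_ne hJ1 hJ4⟩
  obtain ⟨I', ⟨hJI', hI'lt⟩, hI'max⟩ :=
    (IsNoetherian.wf (inferInstance : IsNoetherian S S)).has_min T hT
  obtain ⟨x, hxm, hxI'⟩ := SetLike.exists_of_lt hI'lt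
  have hsup : I' ⊔ Ideal.span {x} = maximalIdeal S := by
    by_contra hne
    have hle : I' ⊔ Ideal.span {x} ≤ maximalIdeal S :=
      sup_le hI'lt.le ((Ideal.span_singleton_le_iff_mem _).2 hxm)
    have hmem : I' ⊔ Ideal.span {x} ∈ T := ⟨hJI'.trans le_sup_left, lt_of_le_of_ne hle hne⟩
    apply hI'max _ hmem
    refine lt_of_le_of_ne le_sup_left ?_
    intro heq
    apply hxI'
    rw [heq]
    exact Ideal.mem_sup_right (Ideal.mem_span_singleton_self x)
  have hdec : ∀ s : S, ∃ (r : R) (i : S) (c : S), i ∈ I' ∧ s = f r + i + c * x := by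
    intro s
    obtain ⟨r, hr⟩ := hfres s
    rw [← hsup, Submodule.mem_sup] at hr
    obtain ⟨i, hi, y, hy, hiy⟩ := hr
    obtain ⟨c, rfl⟩ := Ideal.mem_span_singleton'.mp hy
    exact ⟨r, i, c, hi, by rw [add_assoc, hiy]; ring⟩
  have huniq : ∀ (r r' : R) (i i' c c' : S), i ∈ I' → i' ∈ I' →
      f r + i + c * x = f r' + i' + c' * x → algebraMap S k c = algebraMap S k c' := by
    intro r r' i i' c c' hi hi' heq
    have hi0 : algebraMap S k i = 0 := (hk i).2 (hI'lt.le hi)
    have hi0' : algebraMap S k i' = 0 := (hk i').2 (hI'lt.le hi')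
    have hx0 : algebraMap S k x = 0 := (hk x).2 hxm
    have h1 := congrArg (algebraMap S k) heq
    simp only [map_add, map_mul, hi0, hi0', hx0, mul_zero, add_zero] at h1
    have h2 : f (r - r') ∈ maximalIdeal S := by
      rw [← hk, map_sub, map_sub, h1, sub_self]
    have h3 : f (r - r') ∈ I' := hJI' (hJ3 _ h2)
    have h4 : (c - c') * x ∈ I' := by
      have : (c - c') * x = i' - i - f (r - r') := by
        rw [map_sub]; linear_combination heq
      rw [this]
      exact I'.sub_mem (I'.sub_mem hi' hi) h3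
    have h5 : c - c' ∈ maximalIdeal S := by
      by_contra hnot
      have hu : IsUnit (c - c') := by
        by_contra hnu
        exact hnot ((IsLocalRing.mem_maximalIdeal _).2 hnu)
      apply hxI'
      have := Ideal.mul_mem_left I' (↑hu.unit⁻¹ : S) h4
      rwa [← mul_assoc, IsUnit.val_inv_mul, one_mul] at this
    have := (hk _).2 h5
    rwa [map_sub, sub_eq_zero] at this
  choose rr ii cc hii hs using hdec
  have key : ∀ (s : S) (r : R) (i c : S), i ∈ I' → s = f r + i + c * x →
      algebraMap S k (cc s) = algebraMap S k c := by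
    intro s r i c hi h
    exact huniq _ _ _ _ _ _ (hii s) hi ((hs s).symm.trans h)
  let D₀ : S →ₗ[Λ] k :=
    { toFun := fun s => algebraMap S k (cc s)
      map_add' := by
        intro s s'
        rw [← map_add]
        apply key (s + s') (rr s + rr s') (ii s + ii s') (cc s + cc s')
          (I'.add_mem (hii s) (hii s'))
        conv_lhs => rw [hs s, hs s']
        rw [map_add]; ring
      map_smul' := by
        intro l s
        rw [RingHom.id_apply, Algebra.smul_def l (algebraMap S k (cc s)),
          IsScalarTower.algebraMap_apply Λ S k, ← map_mul]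
        apply key (l • s) (l • rr s) (algebraMap Λ S l * ii s)
          (algebraMap Λ S l * cc s) (Ideal.mul_mem_left I' _ (hii s))
        conv_lhs => rw [hs s]
        rw [map_smul, Algebra.smul_def, Algebra.smul_def]; ring }
  have hD₀ : ∀ s, D₀ s = algebraMap S k (cc s) := fun _ => rfl
  have hres_eq : ∀ s, algebraMap S k s = algebraMap S k (f (rr s)) := by
    intro s
    have hi0 : algebraMap S k (ii s) = 0 := (hk _).2 (hI'lt.le (hii s))
    have hx0 : algebraMap S k x = 0 := (hk x).2 hxm
    conv_lhs => rw [hs s]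
    simp only [map_add, map_mul, hi0, hx0, mul_zero, add_zero]
  have hleib : ∀ a b : S, D₀ (a * b) = a • D₀ b + b • D₀ a := by
    intro a b
    rw [hD₀, hD₀, hD₀, Algebra.smul_def, Algebra.smul_def, hres_eq a, hres_eq b, ← map_mul,
      ← map_mul, ← map_add]
    apply key (a * b) (rr a * rr b)
      (f (rr a) * ii b + f (rr b) * ii a + ii a * ii b + ii a * (cc b * x) + ii b * (cc a * x)
        + cc a * cc b * (x * x))
      (f (rr a) * cc b + f (rr b) * cc a)
    · have hxx : x * x ∈ I' := hJI' (hJ2 (by rw [pow_two]; exact Ideal.mul_mem_mul hxm hxm))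
      refine I'.add_mem (I'.add_mem (I'.add_mem (I'.add_mem (I'.add_mem ?_ ?_) ?_) ?_) ?_) ?_
      · exact Ideal.mul_mem_left I' _ (hii b)
      · exact Ideal.mul_mem_left I' _ (hii a)
      · exact Ideal.mul_mem_left I' _ (hii b)
      · exact Ideal.mul_mem_right _ I' (hii a)
      · exact Ideal.mul_mem_right _ I' (hii b)
      · exact Ideal.mul_mem_left I' _ hxx
    · conv_lhs => rw [hs a, hs b]
      rw [map_mul]; ring
  refine ⟨Derivation.mk' D₀ hleib, ?_, ?_⟩
  · intro h0
    have h1 := congrArg (fun D : Derivation Λ S k => D x) h0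
    change D₀ x = 0 at h1
    rw [hD₀, key x 0 0 1 I'.zero_mem (by rw [map_zero]; ring), map_one] at h1
    exact one_ne_zero h1
  · intro r
    change D₀ (f r) = 0
    rw [hD₀, key (f r) r 0 0 I'.zero_mem (by ring), map_zero]

end Der

end Groth.Agent.Lib.Helper1.ArtFunSurj
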