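import Groth.Agent.Lib.Helper1.ArtFunFib
import Mathlib.RingTheory.LocalRing.Pullback
import Mathlib.RingTheory.HopkinsLevitzki
import Mathlib.RingTheory.Noetherian.Basic

set_option autoImplicit false
universe u v

open CategoryTheory

namespace Groth.Agent.Lib.Helper1.ArtFunPullback

open ArtFun ArtFun.Art Groth.Agent.Lib.Helper1.ArtFunBasic Groth.Agent.Lib.Helper1.ArtFunFib

variable {Λ : Type u} {k : Type u} [CommRing Λ] [Field k] [Algebra Λ k]

section Finite

variable [Module.Finite Λ k]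

/-- `A = Λ-span{ĉ_i} + m` for lifts `ĉ_i` of generators of `k` over `Λ`. -/
theorem exists_finset_span_sup_maximalIdeal (A : Art Λ k) :
    ∃ S : Finset A, Submodule.span Λ (S : Set A) ⊔
      (IsLocalRing.maximalIdeal A).restrictScalars Λ = ⊤ := by
  classical
  obtain ⟨T, hT⟩ := (Module.Finite.fg_top : (⊤ : Submodule Λ k).FG)
  choose! lift hlift using A.res_surjective
  refine ⟨T.image lift, ?_⟩
  rw [eq_top_iff]
  intro a _
  have ha : A.res a ∈ Submodule.span Λ (T : Set k) := by rw [hT]; trivial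
  -- write res a as a combination
  rw [Submodule.mem_span_iff_exists_finset_subset] at ha
  obtain ⟨c, t, htT, _, hsum⟩ := ha
  let b : A := ∑ x ∈ t, c x • lift x
  have hb : b ∈ Submodule.span Λ ((T.image lift : Finset A) : Set A) := by
    refine Submodule.sum_mem _ fun x hx => Submodule.smul_mem _ _ (Submodule.subset_span ?_)
    rw [Finset.coe_image]
    exact ⟨x, htT hx, rfl⟩
  have hab : a - b ∈ IsLocalRing.maximalIdeal A := by
    rw [mem_maximalIdeal_iff, map_sub, map_sum, sub_eq_zero, ← hsum]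
    refine Finset.sum_congr rfl fun x _ => ?_
    rw [map_smul, hlift]
  have : a = b + (a - b) := by ring
  rw [this]
  exact Submodule.add_mem_sup hb hab

/-- Every object of `Art Λ k` is a finite `Λ`-module when `k` is. -/
theorem finite (A : Art Λ k) : Module.Finite Λ A := by
  classical
  obtain ⟨S0, hS0⟩ := exists_finset_span_sup_maximalIdeal A
  have claim : ∀ J : Ideal A, ∃ S : Finset A,
      Submodule.span Λ (S : Set A) ⊔ J.restrictScalars Λ = ⊤ := by
    intro J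
    induction J using (IsNoetherian.wf (inferInstance : IsNoetherian A A)).induction with
    | _ J ih =>
      by_cases hJ : (⊤ : Ideal A) ≤ J
      · refine ⟨∅, ?_⟩
        rw [eq_top_iff]
        intro a _
        exact Submodule.mem_sup_right (hJ trivial)
      · obtain ⟨x, _, hxJ, hmx⟩ := exists_mem_not_mem_mul_le A J ⊤ le_top hJ
        have hlt : J < J ⊔ Ideal.span {x} := by
          refine lt_of_le_of_ne le_sup_left fun h => hxJ ?_
          rw [h]; exact Ideal.mem_sup_right (Ideal.mem_span_singleton_self x)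
        obtain ⟨S', hS'⟩ := ih _ hlt
        refine ⟨S' ∪ S0.image (fun c => c * x), ?_⟩
        rw [eq_top_iff]
        intro a _
        have ha : a ∈ Submodule.span Λ (S' : Set A) ⊔ (J ⊔ Ideal.span {x}).restrictScalars Λ := by
          rw [hS']; trivial
        obtain ⟨s, hs, j', hj', rfl⟩ := Submodule.mem_sup.mp ha
        have hj'' : j' ∈ J ⊔ Ideal.span {x} := hj'
        obtain ⟨j, hj, y, hy, rfl⟩ := Submodule.mem_sup.mp hj''
        obtain ⟨b, rfl⟩ := Ideal.mem_span_singleton'.mp hy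
        have hb : b ∈ Submodule.span Λ (S0 : Set A) ⊔
            (IsLocalRing.maximalIdeal A).restrictScalars Λ := by rw [hS0]; trivial
        obtain ⟨b0, hb0, b1, hb1, rfl⟩ := Submodule.mem_sup.mp hb
        have hb1' : b1 ∈ IsLocalRing.maximalIdeal A := hb1
        -- b0 * x in span of S0 * x
        have h1 : b0 * x ∈ Submodule.span Λ ((S0.image (fun c => c * x) : Finset A) : Set A) := by
          have : (LinearMap.mulRight Λ x) b0 ∈ Submodule.map (LinearMap.mulRight Λ x)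
              (Submodule.span Λ (S0 : Set A)) := Submodule.mem_map_of_mem hb0
          rw [Submodule.map_span] at this
          rw [Finset.coe_image]
          exact this
        have h2 : b1 * x ∈ J := hmx (Ideal.mul_mem_mul hb1' (Ideal.mem_span_singleton_self x))
        have e : s + (j + (b0 + b1) * x) = (s + b0 * x) + (j + b1 * x) := by ring
        rw [e]
        refine Submodule.add_mem_sup ?_ (J.add_mem hj h2)
        rw [Finset.coe_union, Submodule.span_union]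
        exact Submodule.add_mem_sup hs h1
  obtain ⟨S, hS⟩ := claim ⊥
  refine ⟨⟨S, ?_⟩⟩
  have : (⊥ : Ideal A).restrictScalars Λ = ⊥ := by
    ext a; simp
  rwa [this, sup_bot_eq] at hS

end Finite

section Pullback

variable [IsNoetherianRing Λ] [Module.Finite Λ k]
variable {A A₁ A₂ : Art Λ k} (f₁ : A₁ ⟶ A) (f₂ : A₂ ⟶ A)

/-- The set-theoretic fibre product as a subalgebra of `A₁ × A₂`. -/
abbrev PB : Subalgebra Λ (A₁ × A₂) := AlgHom.pullback f₁.toAlgHom f₂.toAlgHom

theorem pb_isLocalRing : IsLocalRing (PB f₁ f₂) := by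
  have := isLocalHom f₂
  exact AlgHom.isLocalRing_pullback f₁.toAlgHom f₂.toAlgHom

theorem pb_isNoetherianRing : IsNoetherianRing (PB f₁ f₂) := by
  have := finite A₁
  have := finite A₂
  have : IsNoetherian Λ (A₁ × A₂) := inferInstance
  have : IsNoetherian Λ (PB f₁ f₂) :=
    isNoetherian_submodule' (Subalgebra.toSubmodule (PB f₁ f₂))
  exact isNoetherian_of_tower Λ inferInstance

theorem pb_fst_mem (x : PB f₁ f₂) (hx : x ∈ @IsLocalRing.maximalIdeal (PB f₁ f₂) _ (pb_isLocalRing f₁ f₂)) :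
    (x : A₁ × A₂).1 ∈ IsLocalRing.maximalIdeal A₁ := by
  letI := pb_isLocalRing f₁ f₂
  have := isLocalHom f₂
  have := isLocalHom f₁
  rw [IsLocalRing.mem_maximalIdeal] at hx ⊢
  intro hu
  apply hx
  obtain ⟨⟨a₁, a₂⟩, hmem⟩ := x
  rw [AlgHom.isUnit_pullback_mk_iff]
  refine ⟨hu, ?_⟩
  have h1 : f₁.toAlgHom a₁ = f₂.toAlgHom a₂ := hmem
  have h2 : IsUnit (f₂.toAlgHom a₂) := h1 ▸ hu.map f₁.toAlgHom
  exact isUnit_of_map_unit f₂.toAlgHom a₂ h2

theorem pb_snd_mem (x : PB f₁ f₂) (hx : x ∈ @IsLocalRing.maximalIdeal (PB f₁ f₂) _ (pb_isLocalRing f₁ f₂)) :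
    (x : A₁ × A₂).2 ∈ IsLocalRing.maximalIdeal A₂ := by
  letI := pb_isLocalRing f₁ f₂
  have := isLocalHom f₂
  have := isLocalHom f₁
  rw [IsLocalRing.mem_maximalIdeal] at hx ⊢
  intro hu
  apply hx
  obtain ⟨⟨a₁, a₂⟩, hmem⟩ := x
  rw [AlgHom.isUnit_pullback_mk_iff]
  refine ⟨?_, hu⟩
  have h1 : f₁.toAlgHom a₁ = f₂.toAlgHom a₂ := hmem
  have h2 : IsUnit (f₁.toAlgHom a₁) := h1 ▸ hu.map f₂.toAlgHom
  exact isUnit_of_map_unit f₁.toAlgHom a₁ h2

theorem pb_isArtinianRing : IsArtinianRing (PB f₁ f₂) := by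
  letI := pb_isLocalRing f₁ f₂
  have := pb_isNoetherianRing f₁ f₂
  rw [isArtinianRing_iff_isNilpotent_maximalIdeal]
  obtain ⟨n₁, hn₁⟩ := exists_pow_maximalIdeal_eq_bot A₁
  obtain ⟨n₂, hn₂⟩ := exists_pow_maximalIdeal_eq_bot A₂
  refine ⟨n₁ + n₂, ?_⟩
  rw [Ideal.zero_eq_bot, eq_bot_iff]
  intro x hx
  have hmap1 : Ideal.map (AlgHom.pullbackFst f₁.toAlgHom f₂.toAlgHom)
      (IsLocalRing.maximalIdeal (PB f₁ f₂)) ≤ IsLocalRing.maximalIdeal A₁ := by
    rw [Ideal.map_le_iff_le_comap]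
    intro y hy
    exact pb_fst_mem f₁ f₂ y hy
  have hmap2 : Ideal.map (AlgHom.pullbackSnd f₁.toAlgHom f₂.toAlgHom)
      (IsLocalRing.maximalIdeal (PB f₁ f₂)) ≤ IsLocalRing.maximalIdeal A₂ := by
    rw [Ideal.map_le_iff_le_comap]
    intro y hy
    exact pb_snd_mem f₁ f₂ y hy
  have h1 : (x : A₁ × A₂).1 = 0 := by
    have : AlgHom.pullbackFst f₁.toAlgHom f₂.toAlgHom x ∈
        Ideal.map (AlgHom.pullbackFst f₁.toAlgHom f₂.toAlgHom)
          (IsLocalRing.maximalIdeal (PB f₁ f₂) ^ (n₁ + n₂)) := Ideal.mem_map_of_mem _ hx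
    rw [Ideal.map_pow] at this
    have h3 := Ideal.pow_right_mono hmap1 (n₁ + n₂) this
    rw [pow_add, hn₁, Ideal.bot_mul] at h3
    exact h3
  have h2 : (x : A₁ × A₂).2 = 0 := by
    have : AlgHom.pullbackSnd f₁.toAlgHom f₂.toAlgHom x ∈
        Ideal.map (AlgHom.pullbackSnd f₁.toAlgHom f₂.toAlgHom)
          (IsLocalRing.maximalIdeal (PB f₁ f₂) ^ (n₁ + n₂)) := Ideal.mem_map_of_mem _ hx
    rw [Ideal.map_pow] at this
    have h3 := Ideal.pow_right_mono hmap2 (n₁ + n₂) this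
    rw [pow_add, hn₂, Ideal.mul_bot] at h3
    exact h3
  rw [Ideal.mem_bot]
  exact Subtype.ext (Prod.ext h1 h2)

/-- The fibre product `A₁ ×_A A₂` as an object, when `f₂` is surjective. -/
noncomputable def pbObj (hf₂ : Function.Surjective f₂) : Art Λ k :=
  { carrier := PB f₁ f₂
    isLocalRing := pb_isLocalRing f₁ f₂
    isArtinianRing := pb_isArtinianRing f₁ f₂
    res := A₁.res.comp (AlgHom.pullbackFst f₁.toAlgHom f₂.toAlgHom)
    res_surjective := A₁.res_surjective.comp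
      (AlgHom.surjective_pullbackFst_of_surjective f₁.toAlgHom f₂.toAlgHom hf₂) }

noncomputable def pbFst (hf₂ : Function.Surjective f₂) : pbObj f₁ f₂ hf₂ ⟶ A₁ :=
  ⟨AlgHom.pullbackFst f₁.toAlgHom f₂.toAlgHom, rfl⟩

noncomputable def pbSnd (hf₂ : Function.Surjective f₂) : pbObj f₁ f₂ hf₂ ⟶ A₂ :=
  ⟨AlgHom.pullbackSnd f₁.toAlgHom f₂.toAlgHom, by
    apply AlgHom.ext
    intro (x : PB f₁ f₂)
    change A₂.res (x : A₁ × A₂).2 = A₁.res (x : A₁ × A₂).1
    have hx : f₁.toAlgHom (x : A₁ × A₂).1 = f₂.toAlgHom (x : A₁ × A₂).2 := x.2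
    rw [← res_app f₂, ← res_app f₁]
    exact congrArg A.res hx.symm⟩

theorem pb_isFibreProd (hf₂ : Function.Surjective f₂) :
    IsFibreProd (pbFst f₁ f₂ hf₂) (pbSnd f₁ f₂ hf₂) f₁ f₂ where
  w := by
    apply hom_ext; apply AlgHom.ext; intro (x : PB f₁ f₂)
    exact x.2
  inj (x y : PB f₁ f₂) h1 h2 := Subtype.ext (Prod.ext h1 h2)
  surj a₁ a₂ h := ⟨⟨(a₁, a₂), h⟩, rfl, rfl⟩

/-- Existence of fibre products along a surjection. -/
theorem exists_isFibreProd_of_surjective (hf₂ : Function.Surjective f₂) :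
    ∃ (B : Art Λ k) (p₁ : B ⟶ A₁) (p₂ : B ⟶ A₂), IsFibreProd p₁ p₂ f₁ f₂ :=
  ⟨pbObj f₁ f₂ hf₂, pbFst f₁ f₂ hf₂, pbSnd f₁ f₂ hf₂, pb_isFibreProd f₁ f₂ hf₂⟩

end Pullback

end Groth.Agent.Lib.Helper1.ArtFunPullback
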