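import Groth.Agent.Lib.Helper1.ArtFunPullback
import Groth.Agent.Lib.Helper1.ArtFunDer
import Groth.Agent.Lib.Helper1.ArtFunTangent
import Groth.Agent.S12712
import Groth.Agent.S12716
import Groth.Agent.S12709
import Mathlib.RingTheory.Kaehler.Basic

set_option autoImplicit false
universe u v

open CategoryTheory

namespace Groth.Agent.Lib.Helper1.ArtEssential

open ArtFun ArtFun.Art Groth.Agent.Lib.Helper1.ArtFunBasic Groth.Agent.Lib.Helper1.ArtFunPullback
  Groth.Agent.Lib.Helper1.ArtFunDer Groth.Agent.Lib.Helper1.ArtFunTangent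

variable {Λ : Type u} {k : Type u} [CommRing Λ] [Field k] [Algebra Λ k]

/-- The residue algebra structure. -/
@[reducible] def resAlg (A : Art Λ k) : Algebra A k := A.res.toRingHom.toAlgebra

attribute [local instance] resAlg

instance isScalarTower_res (A : Art Λ k) : IsScalarTower Λ A k :=
  IsScalarTower.of_algebraMap_eq (fun l => (A.res.commutes l).symm)

lemma hres (A : Art Λ k) : ∀ a : A, algebraMap A k a = A.res a := fun _ => rfl

/-- An Artinian object as a coefficient ring. -/
noncomputable def toCRing (A : Art Λ k) : CRing Λ k :=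
  { carrier := A.carrier
    isNoetherianRing := inferInstance
    res := A.res
    res_surjective := A.res_surjective
    isAdicComplete := Groth.Agent.S12712.isAdicComplete_of_pow_eq_bot _
      (exists_pow_maximalIdeal_eq_bot A).choose (exists_pow_maximalIdeal_eq_bot A).choose_spec }

variable [IsNoetherianRing Λ] [Module.Finite Λ k]

theorem surjective_of_der {C B : Art Λ k} (g : C ⟶ B)
    (h : ∀ D : Derivation Λ B k, (∀ c : C, D (g c) = 0) → D = 0) : Function.Surjective g := by
  haveI : IsAdicComplete (IsLocalRing.maximalIdeal B.carrier) B.carrier := (toCRing B).isAdicComplete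
  apply Groth.Agent.S12716.result (toCRing C) B.carrier B.res_surjective g.toAlgHom
  · apply AlgHom.ext
    intro c
    exact res_app g c
  · intro D₁ D₂ hD
    have := h (D₁ - D₂) (fun c => by
      rw [Derivation.sub_apply, sub_eq_zero]
      exact hD c)
    exact sub_eq_zero.1 this

/-- The morphism `B ⟶ k[ε]` of a derivation. -/
def derMor {B : Art Λ k} (D : Derivation Λ B k) : B ⟶ dual Λ k :=
  ⟨(derHom (hres B) D).1, (derHom (hres B) D).2⟩

omit [IsNoetherianRing Λ] [Module.Finite Λ k] in
lemma derMor_apply {B : Art Λ k} (D : Derivation Λ B k) (b : B) :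
    (derMor D) b = ((B.res b, D b) : TrivSqZeroExt k k) := rfl

omit [IsNoetherianRing Λ] [Module.Finite Λ k] in
lemma der_mul_ker {B : Art Λ k} (D : Derivation Λ B k) (m j : B)
    (hj : j ∈ IsLocalRing.maximalIdeal B) : D (m * j) = B.res m * D j := by
  rw [D.leibniz]
  have h1 : m • D j = B.res m * D j := by
    rw [Algebra.smul_def]; rfl
  have h2 : j • D m = 0 := by
    rw [Algebra.smul_def]
    change B.res j * D m = 0
    rw [(mem_maximalIdeal_iff B j).1 hj, zero_mul]
  rw [h1, h2, add_zero]

omit [IsNoetherianRing Λ] [Module.Finite Λ k] in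
/-- Adjusting an element by a multiple of `j` to prescribe the value of `D`. -/
lemma exists_adjust {B : Art Λ k} (D : Derivation Λ B k) (j : B)
    (hj : j ∈ IsLocalRing.maximalIdeal B) (hDj : D j ≠ 0) (b₀ : B) (x : k) :
    ∃ m : B, D (b₀ + m * j) = x ∧ B.res (b₀ + m * j) = B.res b₀ := by
  obtain ⟨m, hm⟩ := B.res_surjective ((x - D b₀) / D j)
  refine ⟨m, ?_, ?_⟩
  · rw [map_add, der_mul_ker D m j hj, hm, div_mul_cancel₀ _ hDj]
    ring
  · rw [map_add, map_mul, (mem_maximalIdeal_iff B j).1 hj, mul_zero, add_zero]

theorem isEssential_iff_der {A B : Art Λ k} (f : B ⟶ A) :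
    (Function.Surjective f ∧ ∀ (C : Art Λ k) (g : C ⟶ B),
        Function.Surjective (g ≫ f) → Function.Surjective g) ↔
      (Function.Surjective f ∧ ∀ (D : Derivation Λ B k) (j : B), f j = 0 → D j = 0) := by
  constructor
  · rintro ⟨hf, hess⟩
    refine ⟨hf, ?_⟩
    intro D j hfj
    by_contra hDj
    have hjm : j ∈ IsLocalRing.maximalIdeal B := ker_le_maximalIdeal f hfj
    have hδs : Function.Surjective (derMor D) := by
      intro e
      obtain ⟨b₀, hb₀⟩ := B.res_surjective (TrivSqZeroExt.fst (e : TrivSqZeroExt k k))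
      obtain ⟨m, hm1, hm2⟩ := exists_adjust D j hjm hDj b₀ (TrivSqZeroExt.snd (e : TrivSqZeroExt k k))
      refine ⟨b₀ + m * j, ?_⟩
      rw [derMor_apply, hm1, hm2, hb₀]
      rfl
    have hfp := pb_isFibreProd (baseToDual : base Λ k ⟶ dual Λ k) (derMor D) hδs
    set C := pbObj (baseToDual : base Λ k ⟶ dual Λ k) (derMor D) hδs with hC
    set g : C ⟶ B := pbSnd (baseToDual : base Λ k ⟶ dual Λ k) (derMor D) hδs with hg
    have hgs : Function.Surjective (g ≫ f) := by
      intro a
      obtain ⟨b₀, hb₀⟩ := hf a
      obtain ⟨m, hm1, hm2⟩ := exists_adjust D j hjm hDj b₀ 0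
      obtain ⟨x, -, hx⟩ := hfp.surj (B.res (b₀ + m * j)) (b₀ + m * j) (by
        rw [derMor_apply, hm1]
        change algebraMap k (DualNumber k) _ = _
        rw [TrivSqZeroExt.algebraMap_eq_inl]
        rfl)
      refine ⟨x, ?_⟩
      change f (g x) = a
      rw [hx, map_add, map_mul]
      change f b₀ + f m * f j = a
      rw [hfj, mul_zero, add_zero, hb₀]
    obtain ⟨x, hx⟩ := hess C g hgs j
    have h1 := hfp.w_apply x
    rw [hx, derMor_apply] at h1
    have h2 := congrArg (fun e : TrivSqZeroExt k k => TrivSqZeroExt.snd e) h1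
    change TrivSqZeroExt.snd (algebraMap k (DualNumber k) _) = D j at h2
    rw [TrivSqZeroExt.algebraMap_eq_inl, TrivSqZeroExt.snd_inl] at h2
    exact hDj h2.symm
  · rintro ⟨hf, hD⟩
    refine ⟨hf, ?_⟩
    intro C g hgf
    apply surjective_of_der
    intro D hDg
    apply Derivation.ext
    intro b
    obtain ⟨c, hc⟩ := hgf (f b)
    have hc' : f (g c) = f b := hc
    have hj : f (b - g c) = 0 := by rw [map_sub, hc', sub_self]
    have := hD D (b - g c) hj
    rw [map_sub, hDg c, sub_zero] at this
    rw [this]
    rfl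

section Kaehler

open TensorProduct

theorem surjective_iff_subsingleton {A B : Art Λ k} (f : B ⟶ A) :
    letI : Algebra B A := f.toAlgHom.toRingHom.toAlgebra
    Function.Surjective f ↔ Subsingleton (k ⊗[A] Ω[A⁄B]) := by
  letI : Algebra B A := f.toAlgHom.toRingHom.toAlgebra
  haveI : IsScalarTower B A k := IsScalarTower.of_algebraMap_eq (fun b => (res_app f b).symm)
  haveI : IsScalarTower Λ B A := IsScalarTower.of_algebraMap_eq (fun l => (f.toAlgHom.commutes l).symm)
  constructor
  · intro hf
    haveI : Subsingleton (Ω[A⁄B]) := KaehlerDifferential.subsingleton_of_surjective B A hf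
    refine ⟨fun x y => ?_⟩
    have h0 : ∀ z : k ⊗[A] Ω[A⁄B], z = 0 := by
      intro z
      induction z using TensorProduct.induction_on with
      | zero => rfl
      | tmul c w => rw [Subsingleton.elim w 0, TensorProduct.tmul_zero]
      | add z₁ z₂ h₁ h₂ => rw [h₁, h₂, add_zero]
    rw [h0 x, h0 y]
  · intro hsub
    apply surjective_of_der
    intro D hD
    let DB : Derivation B A k :=
      { toLinearMap :=
          { toFun := D
            map_add' := map_add D
            map_smul' := fun b a => by
              have h1 : b • a = f b * a := Algebra.smul_def b a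
              have h2 : D (f b) = 0 := hD b
              rw [h1, D.leibniz, h2, smul_zero, add_zero, RingHom.id_apply]
              exact algebraMap_smul A b (D a) }
        map_one_eq_zero' := D.map_one_eq_zero
        leibniz' := D.leibniz }
    apply Derivation.ext
    intro a
    have e1 : D a = DB.liftKaehlerDifferential (KaehlerDifferential.D B A a) :=
      (Derivation.liftKaehlerDifferential_comp_D DB a).symm
    have e2 : DB.liftKaehlerDifferential (KaehlerDifferential.D B A a) =
        (DB.liftKaehlerDifferential).liftBaseChange k ((1 : k) ⊗ₜ[A] KaehlerDifferential.D B A a) :=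
      (LinearMap.liftBaseChange_one_tmul k _ _).symm
    rw [e1, e2, Subsingleton.elim ((1 : k) ⊗ₜ[A] KaehlerDifferential.D B A a) 0, map_zero]
    rfl

end Kaehler

end Groth.Agent.Lib.Helper1.ArtEssential
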