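import Groth.Agent.Lib.Helper1.ArtEssential
import Groth.Agent.S12715
import Mathlib.RingTheory.Kaehler.Basic
import Mathlib.LinearAlgebra.Dual.Lemmas
import Mathlib.RingTheory.TensorProduct.Finite

set_option autoImplicit false
universe u v

open CategoryTheory

namespace Groth.Agent.Lib.Helper1.ArtEssential2

open ArtFun ArtFun.Art Groth.Agent.Lib.Helper1.ArtFunBasic Groth.Agent.Lib.Helper1.ArtFunPullback
  Groth.Agent.Lib.Helper1.ArtEssential TensorProduct

variable {Λ : Type u} {k : Type u} [CommRing Λ] [Field k] [Algebra Λ k]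
variable [IsNoetherianRing Λ] [Module.Finite Λ k]

attribute [local instance] resAlg

/-- The dimension of the fibre of the differentials is the dimension of the derivations. -/
theorem finrank_kaehler_eq (X : Art Λ k) :
    Module.finrank k (k ⊗[X] Ω[X⁄Λ]) = Module.finrank k (Derivation Λ X k) := by
  haveI : Module.Finite Λ X := finite X
  haveI : Algebra.FiniteType Λ X := Module.Finite.finiteType X
  haveI : Module.Finite X (Ω[X⁄Λ]) := inferInstance
  haveI : Module.Finite k (k ⊗[X] Ω[X⁄Λ]) := inferInstance
  have hs : Function.Surjective (algebraMap X k) := X.res_surjective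
  let e₁ : (Ω[X⁄Λ] →ₗ[X] k) ≃ₗ[k] Derivation Λ X k :=
    (KaehlerDifferential.linearMapEquivDerivation Λ X).extendScalarsOfSurjective hs
  let e₂ : (Ω[X⁄Λ] →ₗ[X] k) ≃ₗ[k] (k ⊗[X] Ω[X⁄Λ] →ₗ[k] k) := LinearMap.liftBaseChangeEquiv k
  rw [← e₁.finrank_eq, e₂.finrank_eq]
  exact (Subspace.dual_finrank_eq (K := k) (V := k ⊗[X] Ω[X⁄Λ])).symm

section Pull

variable {A B : Art Λ k} (f : B ⟶ A)

/-- Restriction of derivations along a morphism, as a linear map. -/
noncomputable def pullDer : Derivation Λ A k →ₗ[k] Derivation Λ B k where
  toFun D := Derivation.mk' ((D : A →ₗ[Λ] k).comp f.toAlgHom.toLinearMap) (fun a b => by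
    change D (f (a * b)) = a • D (f b) + b • D (f a)
    rw [map_mul, D.leibniz]
    have h1 : ∀ (x : B) (c : k), f x • c = x • c := fun x c => by
      rw [Algebra.smul_def, Algebra.smul_def]
      change A.res (f x) * c = B.res x * c
      rw [res_app f x]
    rw [h1, h1])
  map_add' D D' := Derivation.ext fun _ => rfl
  map_smul' c D := Derivation.ext fun _ => rfl

omit [IsNoetherianRing Λ] [Module.Finite Λ k] in
lemma pullDer_apply (D : Derivation Λ A k) (b : B) : pullDer f D b = D (f b) := rfl

omit [IsNoetherianRing Λ] [Module.Finite Λ k] in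
lemma pullDer_injective (hf : Function.Surjective f) : Function.Injective (pullDer f) := by
  intro D D' h
  apply Derivation.ext
  intro a
  obtain ⟨b, rfl⟩ := hf a
  exact congrArg (fun E : Derivation Λ B k => E b) h

omit [IsNoetherianRing Λ] [Module.Finite Λ k] in
/-- A derivation killing the kernel of a surjection descends. -/
theorem exists_descend (hf : Function.Surjective f) (D : Derivation Λ B k)
    (hD : ∀ j : B, f j = 0 → D j = 0) : ∃ D' : Derivation Λ A k, pullDer f D' = D := by
  have hwd : ∀ b b' : B, f b = f b' → D b = D b' := by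
    intro b b' h
    have := hD (b - b') (by rw [map_sub, h, sub_self])
    rwa [map_sub, sub_eq_zero] at this
  let s : A → B := Function.surjInv hf
  have hs : ∀ a, f (s a) = a := Function.surjInv_eq hf
  let L : A →ₗ[Λ] k :=
    { toFun := fun a => D (s a)
      map_add' := fun a a' => by
        rw [← map_add]
        apply hwd
        rw [map_add, hs, hs, hs]
      map_smul' := fun l a => by
        rw [RingHom.id_apply, ← D.map_smul]
        apply hwd
        rw [map_smul, hs, hs] }
  have hL : ∀ b, L (f b) = D b := fun b => hwd _ _ (hs (f b))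
  refine ⟨Derivation.mk' L (fun a a' => ?_), ?_⟩
  · obtain ⟨b, rfl⟩ := hf a
    obtain ⟨b', rfl⟩ := hf a'
    rw [← map_mul, hL, hL, hL, D.leibniz]
    have h1 : ∀ (x : B) (c : k), f x • c = x • c := fun x c => by
      rw [Algebra.smul_def, Algebra.smul_def]
      change A.res (f x) * c = B.res x * c
      rw [res_app f x]
    rw [h1, h1]
  · apply Derivation.ext
    intro b
    exact hL b

theorem isEssential_iff_finrank :
    (Function.Surjective f ∧ ∀ (C : Art Λ k) (g : C ⟶ B),
        Function.Surjective (g ≫ f) → Function.Surjective g) ↔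
      (Function.Surjective f ∧
        Module.finrank k (Derivation Λ B k) = Module.finrank k (Derivation Λ A k)) := by
  haveI : IsAdicComplete (IsLocalRing.maximalIdeal A.carrier) A.carrier := (toCRing A).isAdicComplete
  haveI : IsAdicComplete (IsLocalRing.maximalIdeal B.carrier) B.carrier := (toCRing B).isAdicComplete
  haveI : Module.Finite k (Derivation Λ A k) := Groth.Agent.S12715.result A.carrier A.res_surjective
  haveI : Module.Finite k (Derivation Λ B k) := Groth.Agent.S12715.result B.carrier B.res_surjective
  rw [isEssential_iff_der]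
  constructor
  · rintro ⟨hf, hD⟩
    refine ⟨hf, ?_⟩
    have hsurj : Function.Surjective (pullDer f) := fun D => exists_descend f hf D (hD D)
    exact (LinearEquiv.ofBijective (pullDer f) ⟨pullDer_injective f hf, hsurj⟩).finrank_eq.symm
  · rintro ⟨hf, hdim⟩
    refine ⟨hf, ?_⟩
    have hsurj : Function.Surjective (pullDer f) :=
      (LinearMap.injective_iff_surjective_of_finrank_eq_finrank hdim.symm).1 (pullDer_injective f hf)
    intro D j hj
    obtain ⟨D', rfl⟩ := hsurj D
    rw [pullDer_apply, hj, map_zero]

end Pull

end Groth.Agent.Lib.Helper1.ArtEssential2
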