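import Groth.Agent.Lib.Helper1.ArtFunTangent

set_option autoImplicit false
universe u v

open CategoryTheory

namespace Groth.Agent.Lib.Helper1.ArtFunAction

open ArtFun ArtFun.Art Groth.Agent.Lib.Helper1.ArtFunBasic Groth.Agent.Lib.Helper1.ArtFunFib
  Groth.Agent.Lib.Helper1.ArtFunPullback Groth.Agent.Lib.Helper1.ArtFunSmall
  Groth.Agent.Lib.Helper1.ArtFunTangent Groth.Agent.Lib.Helper1.ArtFunCond

variable {Λ : Type u} {k : Type u} [CommRing Λ] [Field k] [Algebra Λ k]
variable [IsNoetherianRing Λ] [Module.Finite Λ k]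

/-- Condition (RS): the comparison map is bijective for fibre products along surjections. -/
def RS (F : Art Λ k ⥤ Type v) : Prop :=
  ∀ ⦃B A A' A'' : Art Λ k⦄ (p' : B ⟶ A') (p'' : B ⟶ A'') (f' : A' ⟶ A) (f'' : A'' ⟶ A)
    (h : IsFibreProd p' p'' f' f''), Function.Surjective f'' → Function.Bijective (cmp F h)

/-- Data of a small extension: a generator of the kernel. -/
structure SmallData {A B : Art Λ k} (μ : B ⟶ A) where
  t : B
  htm : t ∈ IsLocalRing.maximalIdeal B
  ht : ∀ x ∈ IsLocalRing.maximalIdeal B, x * t = 0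
  hker : RingHom.ker μ.toAlgHom = Ideal.span {t}
  ht0 : t ≠ 0

omit [IsNoetherianRing Λ] [Module.Finite Λ k] in
theorem nonempty_smallData {A B : Art Λ k} {μ : B ⟶ A} (hμ : IsSmallExt μ) :
    Nonempty (SmallData μ) := by
  obtain ⟨t, hker, ht0, hmt⟩ := exists_gen_of_isSmallExt hμ
  exact ⟨⟨t, ker_le_maximalIdeal μ (hker ▸ Ideal.mem_span_singleton_self t), hmt, hker, ht0⟩⟩

namespace SmallData

variable {A B : Art Λ k} {μ : B ⟶ A} (d : SmallData μ)

/-- The action map `B ×_k k[ε] ⟶ B`. -/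
noncomputable def act : tObj B ⟶ B := tAct d.t d.htm d.ht

theorem sq : IsFibreProd (tFst B) d.act μ μ := tAct_isFibreProd d.t d.htm d.ht μ d.hker d.ht0

theorem act_comp : d.act ≫ μ = tFst B ≫ μ := d.sq.w.symm

theorem sec_act : tSec B ≫ d.act = 𝟙 B := tSec_tAct d.t d.htm d.ht

end SmallData

section Crit

variable {F G : Art Λ k ⥤ Type v}

/-- Lifting criterion for a small extension, via the tangent action. -/
theorem relCmp_surjective_of_tangent (hF0 : H0 F) (hF : RS F) (hG : RS G) (f : F ⟶ G)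
    (htan : Function.Surjective (TangentSpace.map f)) {B A : Art Λ k} (μ : B ⟶ A)
    (hμ : IsSmallExt μ)
    (hlift : ∀ (x : F.obj A) (y : G.obj B), f.app A x = G.map μ y →
      ∃ x' : F.obj B, F.map μ x' = x) :
    Function.Surjective (relCmp f μ) := by
  obtain ⟨d⟩ := nonempty_smallData hμ
  rintro ⟨⟨x, y⟩, hxy⟩
  have hxy' : f.app A x = G.map μ y := hxy
  obtain ⟨x', hx'⟩ := hlift x y hxy'
  have sq1 := tObj_isFibreProd B
  have sq2 := d.sq
  obtain ⟨w, hw⟩ := (hG _ _ _ _ sq2 hμ.1).2 ⟨(f.app B x', y), by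
    change G.map μ (f.app B x') = G.map μ y
    rw [← naturality_apply, hx', hxy']⟩
  have hw1 : G.map (tFst B) w = f.app B x' := congrArg (fun t => t.1.1) hw
  have hw2 : G.map d.act w = y := congrArg (fun t => t.1.2) hw
  obtain ⟨τ, hτ⟩ := htan (G.map (tSnd B) w)
  have hτ' : f.app (dual Λ k) τ = G.map (tSnd B) w := hτ
  have hsub := hF0.2
  obtain ⟨v, hv⟩ := (hF _ _ _ _ sq1 (dual Λ k).res_surjective).2 ⟨(x', τ), Subsingleton.elim _ _⟩
  have hv1 : F.map (tFst B) v = x' := congrArg (fun t => t.1.1) hv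
  have hv2 : F.map (tSnd B) v = τ := congrArg (fun t => t.1.2) hv
  have hfw : f.app (tObj B) v = w := by
    apply (hG _ _ _ _ sq1 (dual Λ k).res_surjective).1
    apply FibProd.ext
    · change G.map (tFst B) (f.app (tObj B) v) = G.map (tFst B) w
      rw [← naturality_apply, hv1, hw1]
    · change G.map (tSnd B) (f.app (tObj B) v) = G.map (tSnd B) w
      rw [← naturality_apply, hv2, hτ']
  refine ⟨F.map d.act v, ?_⟩
  apply Subtype.ext
  apply Prod.ext
  · change F.map μ (F.map d.act v) = x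
    rw [← map_comp_apply, d.act_comp, map_comp_apply, hv1, hx']
  · change f.app B (F.map d.act v) = y
    rw [naturality_apply, hfw, hw2]

/-- Smoothness criterion for morphisms of deformation functors. -/
theorem isSmooth_of_tangent_surjective_of_lifts (hF0 : H0 F) (hF : RS F) (hG : RS G)
    (f : F ⟶ G) (htan : Function.Surjective (TangentSpace.map f))
    (hlift : ∀ ⦃A' A : Art Λ k⦄ (μ : A' ⟶ A), IsSmallExt μ → ∀ x : F.obj A,
      (∃ y' : G.obj A', G.map μ y' = f.app A x) → ∃ x' : F.obj A', F.map μ x' = x) :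
    IsSmooth f := by
  apply isSmooth_of_smallExt
  intro B A μ hμ
  exact relCmp_surjective_of_tangent hF0 hF hG f htan μ hμ
    (fun x y hxy => hlift μ hμ x ⟨y, hxy.symm⟩)

/-- The converse. -/
theorem tangent_surjective_of_isSmooth (hF0 : H0 F) (hG0 : H0 G) (f : F ⟶ G) (hf : IsSmooth f) :
    Function.Surjective (TangentSpace.map f) := by
  intro θ
  obtain ⟨x0⟩ := hF0.1
  have hsub := hG0.2
  obtain ⟨z, hz⟩ := hf (toBase (dual Λ k)) (dual Λ k).res_surjective
    ⟨(x0, θ), Subsingleton.elim _ _⟩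
  exact ⟨z, congrArg (fun t => t.1.2) hz⟩

theorem lifts_of_isSmooth (f : F ⟶ G) (hf : IsSmooth f) ⦃A' A : Art Λ k⦄ (μ : A' ⟶ A)
    (hμ : Function.Surjective μ) (x : F.obj A) (hy : ∃ y' : G.obj A', G.map μ y' = f.app A x) :
    ∃ x' : F.obj A', F.map μ x' = x := by
  obtain ⟨y', hy'⟩ := hy
  obtain ⟨z, hz⟩ := hf μ hμ ⟨(x, y'), hy'.symm⟩
  exact ⟨z, congrArg (fun t => t.1.1) hz⟩

theorem isSmooth_iff_tangent_surjective_and_lifts (hF0 : H0 F) (hF : RS F) (hG0 : H0 G)
    (hG : RS G) (f : F ⟶ G) :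
    IsSmooth f ↔ (Function.Surjective (TangentSpace.map f) ∧
      ∀ ⦃A' A : Art Λ k⦄ (μ : A' ⟶ A), IsSmallExt μ → ∀ x : F.obj A,
        (∃ y' : G.obj A', G.map μ y' = f.app A x) → ∃ x' : F.obj A', F.map μ x' = x) :=
  ⟨fun hf => ⟨tangent_surjective_of_isSmooth hF0 hG0 f hf,
      fun _ _ μ hμ x hy => lifts_of_isSmooth f hf μ hμ.1 x hy⟩,
    fun h => isSmooth_of_tangent_surjective_of_lifts hF0 hF hG f h.1 h.2⟩

/-- If `φ` is surjective on tangent spaces and `φ ≫ ψ` is smooth then `φ` is smooth. -/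
theorem isSmooth_of_comp_smooth_of_tangent_surjective {H : Art Λ k ⥤ Type v} (hF0 : H0 F)
    (hF : RS F) (hG : RS G) (φ : F ⟶ G) (ψ : G ⟶ H)
    (hd : Function.Surjective (TangentSpace.map φ)) (hs : IsSmooth (φ ≫ ψ)) : IsSmooth φ := by
  apply isSmooth_of_smallExt
  intro B A μ hμ
  apply relCmp_surjective_of_tangent hF0 hF hG φ hd μ hμ
  intro x y hxy
  obtain ⟨z, hz⟩ := hs μ hμ.1 ⟨(x, ψ.app B y), by
    change ψ.app A (φ.app A x) = H.map μ (ψ.app B y)
    rw [hxy, naturality_apply]⟩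
  exact ⟨z, congrArg (fun t => t.1.1) hz⟩

end Crit

end Groth.Agent.Lib.Helper1.ArtFunAction
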