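import Groth.Agent.Lib.Helper1.ArtFunCond
import Groth.Agent.Lib.Helper5.ArtFunLift

set_option autoImplicit false
universe u v

open CategoryTheory

namespace Groth.Agent.Lib.Helper1.ArtFunVersal

open ArtFun ArtFun.Art Groth.Agent.Lib.Helper1.ArtFunBasic Groth.Agent.Lib.Helper1.ArtFunFib
  Groth.Agent.Lib.Helper1.ArtFunCond

variable {Λ : Type u} {k : Type u} [CommRing Λ] [Field k] [Algebra Λ k]
  {R : Type u} [CommRing R] [Algebra Λ R] {resR : R →ₐ[Λ] k} {F : Art Λ k ⥤ Type v}

/-- The unique point of `h_R(k)`. -/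
def basePt (R : Type u) [CommRing R] [Algebra Λ R] (resR : R →ₐ[Λ] k) :
    HomSet R resR (base Λ k) :=
  ⟨(resR : R →ₐ[Λ] (base Λ k)), AlgHom.id_comp _⟩

/-- A versal family of a functor with `F(k)` a point is surjective on every object. -/
theorem surjective_app_of_isVersal (h0 : H0 F) (ξ : Family R resR F) (hξ : IsVersal ξ)
    (A : Art Λ k) : Function.Surjective (ξ.app A) := by
  intro y
  have := h0.2
  obtain ⟨ψ, _, hψ⟩ := hξ (toBase A) A.res_surjective (basePt R resR) y (Subsingleton.elim _ _)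
  exact ⟨ψ, hψ⟩

theorem s1_of_isVersal (h0 : H0 F) (ξ : Family R resR F) (hξ : IsVersal ξ) : S1 F :=
  Groth.Agent.Lib.Helper5.ArtFunLift.s1_of_isVersal ξ hξ (surjective_app_of_isVersal h0 ξ hξ)

theorem s1_of_hasVersal (h0 : H0 F) (hv : HasVersal F) : S1 F := by
  obtain ⟨V⟩ := hv
  exact s1_of_isVersal h0 V.family V.versal

end Groth.Agent.Lib.Helper1.ArtFunVersal
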