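import Groth.Agent.Lib.Helper1.ArtFunAction
import Groth.Agent.Lib.Helper1.ArtFunVersal

set_option autoImplicit false
universe u v

open CategoryTheory

namespace Groth.Agent.Lib.Helper1.ArtFunVersalCrit

open ArtFun ArtFun.Art Groth.Agent.Lib.Helper1.ArtFunBasic Groth.Agent.Lib.Helper1.ArtFunFib
  Groth.Agent.Lib.Helper1.ArtFunPullback Groth.Agent.Lib.Helper1.ArtFunSmall
  Groth.Agent.Lib.Helper1.ArtFunTangent Groth.Agent.Lib.Helper1.ArtFunCond
  Groth.Agent.Lib.Helper1.ArtFunAction Groth.Agent.Lib.Helper1.ArtFunVersal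

variable {Λ : Type u} {k : Type u} [CommRing Λ] [Field k] [Algebra Λ k]
variable {R : Type u} [CommRing R] [Algebra Λ R] {resR : R →ₐ[Λ] k} {F : Art Λ k ⥤ Type v}

lemma homSet_map_comp {A B C : Art Λ k} (f : A ⟶ B) (g : B ⟶ C) (φ : HomSet R resR A) :
    HomSet.map (f ≫ g) φ = HomSet.map g (HomSet.map f φ) :=
  Subtype.ext (AlgHom.ext fun _ => rfl)

lemma homSet_map_id {A : Art Λ k} (φ : HomSet R resR A) : HomSet.map (𝟙 A) φ = φ :=
  Subtype.ext (AlgHom.ext fun _ => rfl)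

lemma homSet_base_subsingleton (φ ψ : HomSet R resR (base Λ k)) : φ = ψ := by
  apply Subtype.ext
  have h1 : φ.1 = resR := φ.2
  have h2 : ψ.1 = resR := ψ.2
  rw [h1, h2]

/-- The versal lifting property for a single morphism. -/
def VersalAt (ξ : Family R resR F) {B A : Art Λ k} (μ : B ⟶ A) : Prop :=
  ∀ (φ : HomSet R resR A) (y : F.obj B), F.map μ y = ξ.app A φ →
    ∃ ψ : HomSet R resR B, HomSet.map μ ψ = φ ∧ ξ.app B ψ = y

theorem versalAt_of_isIso (ξ : Family R resR F) {B A : Art Λ k} (μ : B ⟶ A) [IsIso μ] :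
    VersalAt ξ μ := by
  intro φ y hy
  refine ⟨HomSet.map (inv μ) φ, ?_, ?_⟩
  · rw [← homSet_map_comp, IsIso.inv_hom_id, homSet_map_id]
  · rw [ξ.natural, ← hy, ← map_comp_apply, IsIso.hom_inv_id, map_id_apply]

theorem versalAt_comp (ξ : Family R resR F) {C B A : Art Λ k} (p : C ⟶ B) (q : B ⟶ A)
    (hp : VersalAt ξ p) (hq : VersalAt ξ q) : VersalAt ξ (p ≫ q) := by
  intro φ y hy
  obtain ⟨ψB, h1, h2⟩ := hq φ (F.map p y) (by rw [← map_comp_apply, hy])
  obtain ⟨ψC, h3, h4⟩ := hp ψB y h2.symm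
  exact ⟨ψC, by rw [homSet_map_comp, h3, h1], h4⟩

/-- Versality can be tested on small extensions. -/
theorem isVersal_of_smallExt (ξ : Family R resR F)
    (h : ∀ ⦃B A : Art Λ k⦄ (μ : B ⟶ A), IsSmallExt μ → VersalAt ξ μ) : IsVersal ξ := by
  intro B A μ hμ
  refine surjective_induction_smallExt (P := fun A B μ => VersalAt ξ μ) ?_ ?_ ?_ μ hμ
  · intro A B e he
    have := he
    exact versalAt_of_isIso ξ e
  · intro A B p hp
    exact h p hp
  · intro A B C p q hp hq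
    exact versalAt_comp ξ p q hp hq

variable [IsNoetherianRing Λ] [Module.Finite Λ k]

/-- Versality at a small extension from tangent surjectivity and existence of lifts of maps. -/
theorem versalAt_of_tangent (h1 : S1 F) (h2 : Heps F) (ξ : Family R resR F)
    (htan : Function.Surjective (TangentSpace.ofFamily ξ)) {B A : Art Λ k} (μ : B ⟶ A)
    (hμ : IsSmallExt μ)
    (hlift : ∀ (φ : HomSet R resR A) (y : F.obj B), F.map μ y = ξ.app A φ →
      ∃ ψ : HomSet R resR B, HomSet.map μ ψ = φ) : VersalAt ξ μ := by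
  obtain ⟨d⟩ := nonempty_smallData hμ
  intro φ y hy
  obtain ⟨ψ₀, hψ₀⟩ := hlift φ y hy
  have sq1 := tObj_isFibreProd B
  have sq2 := d.sq
  obtain ⟨w, hw⟩ := h1 _ _ _ _ sq2 hμ.1 ⟨(ξ.app B ψ₀, y), by
    change F.map μ (ξ.app B ψ₀) = F.map μ y
    rw [← ξ.natural, hψ₀, hy]⟩
  have hw1 : F.map (tFst B) w = ξ.app B ψ₀ := congrArg (fun t => t.1.1) hw
  have hw2 : F.map d.act w = y := congrArg (fun t => t.1.2) hw
  obtain ⟨τ, hτ⟩ := htan (F.map (tSnd B) w)
  have hτ' : ξ.app (dual Λ k) τ = F.map (tSnd B) w := hτ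
  obtain ⟨v, hv1, hv2⟩ := Groth.Agent.Lib.Helper5.ArtFunLift.exists_homSet_lift sq1 ψ₀ τ
    (homSet_base_subsingleton _ _)
  have hvw : ξ.app (tObj B) v = w := by
    apply (h2 (tFst B) (tSnd B) sq1).1
    apply FibProd.ext
    · change F.map (tFst B) (ξ.app _ v) = F.map (tFst B) w
      rw [← ξ.natural, hv1, hw1]
    · change F.map (tSnd B) (ξ.app _ v) = F.map (tSnd B) w
      rw [← ξ.natural, hv2, hτ']
  refine ⟨HomSet.map d.act v, ?_, ?_⟩
  · rw [← homSet_map_comp, d.act_comp, homSet_map_comp, hv1, hψ₀]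
  · rw [ξ.natural, hvw, hw2]

theorem isVersal_iff_tangent_surjective_and_exists_lift (h0 : H0 F) (h1 : S1 F) (h2 : Heps F)
    (ξ : Family R resR F) :
    IsVersal ξ ↔ (Function.Surjective (TangentSpace.ofFamily ξ) ∧
      ∀ ⦃B A : Art Λ k⦄ (μ : B ⟶ A), IsSmallExt μ →
        ∀ (φ : HomSet R resR A) (y : F.obj B), F.map μ y = ξ.app A φ →
          ∃ ψ : HomSet R resR B, HomSet.map μ ψ = φ) := by
  constructor
  · intro hξ
    refine ⟨surjective_app_of_isVersal h0 ξ hξ (dual Λ k), ?_⟩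
    intro B A μ hμ φ y hy
    obtain ⟨ψ, hψ, _⟩ := hξ μ hμ.1 φ y hy
    exact ⟨ψ, hψ⟩
  · rintro ⟨htan, hlift⟩
    apply isVersal_of_smallExt
    intro B A μ hμ
    exact versalAt_of_tangent h1 h2 ξ htan μ hμ (hlift μ hμ)

end Groth.Agent.Lib.Helper1.ArtFunVersalCrit
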