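import Groth.Prelude.Def_ArtFun2
import Groth.Agent.Lib.Helper1.ArtFunDer

set_option autoImplicit false
universe u v

open CategoryTheory

namespace Groth.Agent.Lib.Helper1.ArtFunBase

open ArtFun ArtFun.Art IsLocalRing

variable {Λ : Type u} {k : Type u} [CommRing Λ] [Field k] [Algebra Λ k]
variable {R₀ : Type u} [CommRing R₀] [Algebra Λ R₀] [Algebra R₀ k] [IsScalarTower Λ R₀ k]

section Restr

/-- Restriction of scalars of an object along `Λ → R₀`. -/
noncomputable def restr (B' : Art R₀ k) : Art Λ k :=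
  letI : Algebra Λ B'.carrier := Algebra.compHom B'.carrier (algebraMap Λ R₀)
  haveI : IsScalarTower Λ R₀ B'.carrier := IsScalarTower.of_algebraMap_eq (fun _ => rfl)
  { carrier := B'.carrier
    res := B'.res.restrictScalars Λ
    res_surjective := B'.res_surjective }

instance (B' : Art R₀ k) : Algebra R₀ (restr (Λ := Λ) B').carrier := B'.algebra

instance (B' : Art R₀ k) : IsScalarTower Λ R₀ (restr (Λ := Λ) B').carrier :=
  IsScalarTower.of_algebraMap_eq (fun _ => rfl)

/-- Restriction of scalars of a morphism. -/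
noncomputable def restrHom {B' A' : Art R₀ k} (μ' : B' ⟶ A') : restr (Λ := Λ) B' ⟶ restr A' :=
  ⟨{ (μ'.toAlgHom : B'.carrier →+* A'.carrier) with
      commutes' := fun l => μ'.toAlgHom.commutes (algebraMap Λ R₀ l) },
    AlgHom.ext fun b => AlgHom.congr_fun μ'.res_comp b⟩

lemma restrHom_apply {B' A' : Art R₀ k} (μ' : B' ⟶ A') (b : B'.carrier) :
    (restrHom (Λ := Λ) μ') b = μ' b := rfl

end Restr

section Versal

variable {S₀ : Type u} [CommRing S₀] [Algebra Λ S₀] [Algebra R₀ S₀] [IsScalarTower Λ R₀ S₀]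
  (resR : R₀ →ₐ[Λ] k) (hresR : ∀ r, algebraMap R₀ k r = resR r)
  (resS : S₀ →ₐ[Λ] k) (resS' : S₀ →ₐ[R₀] k) (hSS' : ∀ s, resS' s = resS s)
  (hRS : resS.comp (IsScalarTower.toAlgHom Λ R₀ S₀) = resR)

include hresR in
/-- The structure map of an `R₀`-object. -/
noncomputable def str (B' : Art R₀ k) : HomSet R₀ resR (restr (Λ := Λ) B') :=
  ⟨IsScalarTower.toAlgHom Λ R₀ (restr (Λ := Λ) B').carrier, AlgHom.ext fun r => by
    change B'.res (algebraMap R₀ B'.carrier r) = resR r
    rw [AlgHom.commutes, hresR]⟩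

include hSS' in
/-- Restriction of scalars on hom-sets. -/
noncomputable def restrHomSet {A' : Art R₀ k} (u' : HomSet S₀ resS' A') :
    HomSet S₀ resS (restr (Λ := Λ) A') :=
  ⟨{ (u'.1 : S₀ →+* A'.carrier) with
      commutes' := fun l => by
        change u'.1 (algebraMap Λ S₀ l) = algebraMap R₀ A'.carrier (algebraMap Λ R₀ l)
        rw [IsScalarTower.algebraMap_apply Λ R₀ S₀, AlgHom.commutes] },
    AlgHom.ext fun s => by
      change A'.res (u'.1 s) = resS s
      rw [← hSS']
      exact AlgHom.congr_fun u'.2 s⟩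

include hresR hSS' in
theorem smooth_of_versal
    (hv : IsVersal ((Family.self R₀ resR).along (IsScalarTower.toAlgHom Λ R₀ S₀) hRS)) :
    IsSmoothFunctor (hR S₀ resS') := by
  intro B' A' μ' hμ' u'
  obtain ⟨ψ, hψ1, hψ2⟩ := hv (restrHom (Λ := Λ) μ') hμ'
    (restrHomSet resS resS' hSS' (u' : HomSet S₀ resS' A')) (str resR hresR B') (by
      apply Subtype.ext
      apply AlgHom.ext
      intro r
      change μ' (algebraMap R₀ B'.carrier r) =
        (u' : HomSet S₀ resS' A').1 (algebraMap R₀ S₀ r)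
      exact (μ'.toAlgHom.commutes r).trans ((u' : HomSet S₀ resS' A').1.commutes r).symm)
  have hψR : ∀ r : R₀, ψ.1 (algebraMap R₀ S₀ r) = algebraMap R₀ B'.carrier r := fun r =>
    AlgHom.congr_fun (congrArg Subtype.val hψ2) r
  let ψA : S₀ →ₐ[R₀] B'.carrier :=
    { toFun := fun s => ψ.1 s
      map_one' := map_one ψ.1
      map_mul' := map_mul ψ.1
      map_zero' := map_zero ψ.1
      map_add' := map_add ψ.1
      commutes' := hψR }
  refine ⟨(⟨ψA, AlgHom.ext fun s => ?_⟩ : HomSet S₀ resS' B'), ?_⟩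
  · change B'.res (ψ.1 s) = resS' s
    rw [hSS']
    exact AlgHom.congr_fun ψ.2 s
  · apply Subtype.ext
    apply AlgHom.ext
    intro s
    exact AlgHom.congr_fun (congrArg Subtype.val hψ1) s

include hresR in
/-- Extension of scalars of an object along a map from `R₀`. -/
noncomputable def ext (B : Art Λ k) (y : HomSet R₀ resR B) : Art R₀ k :=
  letI : Algebra R₀ B.carrier := y.1.toRingHom.toAlgebra
  { carrier := B.carrier
    res := { (B.res : B.carrier →+* k) with
      commutes' := fun r => by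
        change B.res (y.1 r) = algebraMap R₀ k r
        rw [hresR]
        exact AlgHom.congr_fun y.2 r }
    res_surjective := B.res_surjective }

include hresR hSS' in
theorem versal_of_smooth (hs : IsSmoothFunctor (hR S₀ resS')) :
    IsVersal ((Family.self R₀ resR).along (IsScalarTower.toAlgHom Λ R₀ S₀) hRS) := by
  intro B A μ hμ φ y hy
  let y' : HomSet R₀ resR B := y
  let yA : HomSet R₀ resR A := HomSet.map μ y'
  let B' := ext resR hresR B y'
  let A' := ext resR hresR A yA
  let μ' : B' ⟶ A' :=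
    ⟨{ (μ.toAlgHom : B.carrier →+* A.carrier) with commutes' := fun r => rfl },
      AlgHom.ext fun b => AlgHom.congr_fun μ.res_comp b⟩
  have hφR : ∀ r, φ.1 (algebraMap R₀ S₀ r) = yA.1 r := fun r =>
    (AlgHom.congr_fun (congrArg Subtype.val hy) r).symm
  let u' : HomSet S₀ resS' A' :=
    ⟨{ (φ.1 : S₀ →+* A.carrier) with commutes' := hφR }, AlgHom.ext fun s => by
      change A.res (φ.1 s) = resS' s
      rw [hSS']
      exact AlgHom.congr_fun φ.2 s⟩
  obtain ⟨ψ', hψ'⟩ := hs μ' hμ u'
  let ψ'' : HomSet S₀ resS' B' := ψ'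
  have hψΛ : ∀ l : Λ, ψ''.1 (algebraMap Λ S₀ l) = algebraMap Λ B.carrier l := by
    intro l
    rw [IsScalarTower.algebraMap_apply Λ R₀ S₀, AlgHom.commutes]
    exact y'.1.commutes l
  let ψA : S₀ →ₐ[Λ] B.carrier :=
    { toFun := fun s => ψ''.1 s
      map_one' := map_one ψ''.1
      map_mul' := map_mul ψ''.1
      map_zero' := map_zero ψ''.1
      map_add' := map_add ψ''.1
      commutes' := hψΛ }
  refine ⟨⟨ψA, AlgHom.ext fun s => ?_⟩, ?_, ?_⟩
  · change B.res (ψ''.1 s) = resS s
    rw [← hSS']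
    exact AlgHom.congr_fun ψ''.2 s
  · apply Subtype.ext
    apply AlgHom.ext
    intro s
    exact AlgHom.congr_fun (congrArg Subtype.val hψ') s
  · apply Subtype.ext
    apply AlgHom.ext
    intro r
    exact ψ''.1.commutes r

end Versal

end Groth.Agent.Lib.Helper1.ArtFunBase
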