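import Groth.Prelude.Def_ArtFun3
import Groth.Prelude.Def_ArtFun5

set_option autoImplicit false
universe u v

open CategoryTheory

namespace Groth.Agent.Lib.Helper1.ArtFunBasic

open ArtFun ArtFun.Art

variable {Λ : Type u} {k : Type u} [CommRing Λ] [Field k] [Algebra Λ k]

/-- A bijective morphism of `Art Λ k` is an isomorphism. -/
theorem isIso_of_bijective {A B : Art Λ k} (f : B ⟶ A) (hf : Function.Bijective f) : IsIso f := by
  let e : B ≃ₐ[Λ] A := AlgEquiv.ofBijective f.toAlgHom hf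
  have he : ∀ b, e b = f b := fun _ => rfl
  refine ⟨⟨⟨(e.symm : A →ₐ[Λ] B), ?_⟩, ?_, ?_⟩⟩
  · apply AlgHom.ext
    intro a
    obtain ⟨b, rfl⟩ := hf.2 a
    change B.res (e.symm (f b)) = A.res (f b)
    rw [← he, e.symm_apply_apply, he, res_app]
  · apply hom_ext; apply AlgHom.ext; intro b
    change e.symm (f b) = b
    rw [← he, e.symm_apply_apply]
  · apply hom_ext; apply AlgHom.ext; intro a
    change f (e.symm a) = a
    rw [← he, e.apply_symm_apply]

/-- An isomorphism of `Art Λ k` is bijective. -/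
theorem bijective_of_isIso {A B : Art Λ k} (f : B ⟶ A) [IsIso f] : Function.Bijective f := by
  refine Function.bijective_iff_has_inverse.mpr ⟨(inv f : A ⟶ B), fun b => ?_, fun a => ?_⟩
  · have := congrArg (fun g : B ⟶ B => g.toAlgHom b) (IsIso.hom_inv_id f)
    exact this
  · have := congrArg (fun g : A ⟶ A => g.toAlgHom a) (IsIso.inv_hom_id f)
    exact this

/-- The kernel of a morphism is contained in the maximal ideal. -/
theorem ker_le_maximalIdeal {A B : Art Λ k} (f : B ⟶ A) :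
    RingHom.ker f.toAlgHom ≤ IsLocalRing.maximalIdeal B := by
  intro b hb
  rw [mem_maximalIdeal_iff, ← res_app f b]
  rw [RingHom.mem_ker] at hb
  rw [hb, map_zero]

/-- The maximal ideal of an Artinian local ring is nilpotent. -/
theorem exists_pow_maximalIdeal_eq_bot (B : Art Λ k) :
    ∃ n : ℕ, IsLocalRing.maximalIdeal B ^ n = ⊥ := by
  have h := IsArtinianRing.isNilpotent_jacobson_bot (R := B)
  rw [IsLocalRing.jacobson_eq_maximalIdeal ⊥ bot_ne_top] at h
  obtain ⟨n, hn⟩ := h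
  exact ⟨n, hn⟩

/-- Key step: if `J < I` are ideals of an Artinian local ring, there is `x ∈ I`, `x ∉ J` with
`m • x ⊆ J`. -/
theorem exists_mem_not_mem_mul_le (B : Art Λ k) (J I : Ideal B) (_hJI : J ≤ I) (hne : ¬ I ≤ J) :
    ∃ x ∈ I, x ∉ J ∧ IsLocalRing.maximalIdeal B * Ideal.span {x} ≤ J := by
  classical
  obtain ⟨n, hn⟩ := exists_pow_maximalIdeal_eq_bot B
  have hex : ∃ j : ℕ, IsLocalRing.maximalIdeal B ^ j * I ≤ J := ⟨n, by rw [hn, Ideal.bot_mul]; exact bot_le⟩
  let j := Nat.find hex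
  have hj : IsLocalRing.maximalIdeal B ^ j * I ≤ J := Nat.find_spec hex
  have hj0 : j ≠ 0 := by
    intro h0
    apply hne
    have := hj
    rw [h0, pow_zero, Ideal.one_eq_top, Ideal.top_mul] at this
    exact this
  obtain ⟨i, hi⟩ := Nat.exists_eq_succ_of_ne_zero hj0
  have hmin : ¬ IsLocalRing.maximalIdeal B ^ i * I ≤ J := Nat.find_min hex (by omega)
  obtain ⟨x, hx, hxJ⟩ := SetLike.not_le_iff_exists.mp hmin
  refine ⟨x, Ideal.mul_le_right hx, hxJ, ?_⟩
  calc IsLocalRing.maximalIdeal B * Ideal.span {x}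
      ≤ IsLocalRing.maximalIdeal B * (IsLocalRing.maximalIdeal B ^ i * I) :=
        Ideal.mul_mono_right ((Ideal.span_singleton_le_iff_mem _).mpr hx)
    _ = IsLocalRing.maximalIdeal B ^ j * I := by rw [hi, pow_succ', mul_assoc]
    _ ≤ J := hj

section Quot

lemma mem_map_iff_of_ker_le {R S : Type*} [CommRing R] [CommRing S] {F : Type*} [FunLike F R S]
    [RingHomClass F R S] (π : F) (hπ : Function.Surjective π) (I : Ideal R)
    (hI : RingHom.ker π ≤ I) (a : R) : π a ∈ I.map π ↔ a ∈ I := by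
  constructor
  · intro h
    obtain ⟨b, hb, hab⟩ := (Ideal.mem_map_iff_of_surjective π hπ).mp h
    have h1 : a - b ∈ RingHom.ker π := by rw [RingHom.mem_ker, map_sub, hab, sub_self]
    have := Ideal.add_mem _ (hI h1) hb
    simpa using this
  · exact Ideal.mem_map_of_mem π

lemma quotFactor_mk {C D : Art Λ k} {K : Ideal C} (hK : K ≤ IsLocalRing.maximalIdeal C) (p : C ⟶ D)
    (hp : K ≤ RingHom.ker p.toAlgHom) (a : C) :
    (quotFactor hK p hp).toAlgHom ((quotMk C K hK).toAlgHom a) = p.toAlgHom a := rfl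

lemma ker_quotMk (C : Art Λ k) (K : Ideal C) (hK : K ≤ IsLocalRing.maximalIdeal C) :
    RingHom.ker (quotMk C K hK).toAlgHom = K := by
  ext a
  rw [RingHom.mem_ker]
  change Ideal.Quotient.mk K a = 0 ↔ _
  exact Ideal.Quotient.eq_zero_iff_mem

lemma ker_quotFactor {C D : Art Λ k} {K : Ideal C} (hK : K ≤ IsLocalRing.maximalIdeal C) (p : C ⟶ D)
    (hp : K ≤ RingHom.ker p.toAlgHom) :
    RingHom.ker (quotFactor hK p hp).toAlgHom =
      (RingHom.ker p.toAlgHom).map (quotMk C K hK).toAlgHom := by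
  ext x
  obtain ⟨a, rfl⟩ := quotMk_surjective C K hK x
  rw [RingHom.mem_ker]
  change p.toAlgHom a = 0 ↔ (quotMk C K hK).toAlgHom a ∈ _
  rw [mem_map_iff_of_ker_le _ (quotMk_surjective C K hK) _ (by rw [ker_quotMk]; exact hp),
    RingHom.mem_ker]

lemma maximalIdeal_quot (C : Art Λ k) (K : Ideal C) (hK : K ≤ IsLocalRing.maximalIdeal C) :
    IsLocalRing.maximalIdeal (quot C K hK) =
      (IsLocalRing.maximalIdeal C).map (quotMk C K hK).toAlgHom := by
  ext x
  obtain ⟨a, rfl⟩ := quotMk_surjective C K hK x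
  rw [mem_maximalIdeal_iff]
  rw [mem_map_iff_of_ker_le _ (quotMk_surjective C K hK) _ (by rw [ker_quotMk]; exact hK),
    mem_maximalIdeal_iff, res_app]

lemma quotFactor_surjective {C D : Art Λ k} {K : Ideal C} (hK : K ≤ IsLocalRing.maximalIdeal C)
    (p : C ⟶ D) (hp : K ≤ RingHom.ker p.toAlgHom) (h : Function.Surjective p) :
    Function.Surjective (quotFactor hK p hp) := by
  intro d
  obtain ⟨c, rfl⟩ := h d
  exact ⟨(quotMk C K hK).toAlgHom c, rfl⟩

/-- The map `C/J ⟶ C/J'` for `J ≤ J'`. -/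
noncomputable def quotToQuot (C : Art Λ k) {J J' : Ideal C} (hJ : J ≤ IsLocalRing.maximalIdeal C)
    (hJ' : J' ≤ IsLocalRing.maximalIdeal C) (h : J ≤ J') : quot C J hJ ⟶ quot C J' hJ' :=
  quotFactor hJ (quotMk C J' hJ') (by rw [ker_quotMk]; exact h)

lemma quotToQuot_comp_quotFactor {C D : Art Λ k} {J J' : Ideal C}
    (hJ : J ≤ IsLocalRing.maximalIdeal C) (hJ' : J' ≤ IsLocalRing.maximalIdeal C) (h : J ≤ J')
    (p : C ⟶ D) (hp' : J' ≤ RingHom.ker p.toAlgHom) :
    quotToQuot C hJ hJ' h ≫ quotFactor hJ' p hp' = quotFactor hJ p (h.trans hp') := by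
  apply hom_ext; apply AlgHom.ext; intro x
  obtain ⟨a, rfl⟩ := quotMk_surjective C J hJ x
  rfl

/-- `C/J ⟶ C/(J ⊔ (x))` is a small extension when `x ∉ J` and `m x ⊆ J`. -/
theorem isSmallExt_quotToQuot (C : Art Λ k) {J : Ideal C} (hJ : J ≤ IsLocalRing.maximalIdeal C)
    (x : C) (hxm : x ∈ IsLocalRing.maximalIdeal C) (hxJ : x ∉ J)
    (hmx : IsLocalRing.maximalIdeal C * Ideal.span {x} ≤ J) :
    IsSmallExt (quotToQuot C hJ
      (sup_le hJ ((Ideal.span_singleton_le_iff_mem _).mpr hxm) : J ⊔ Ideal.span {x} ≤ _)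
      le_sup_left) := by
  have hmapJ : Ideal.map (quotMk C J hJ).toAlgHom J = ⊥ := by
    rw [Ideal.map_eq_bot_iff_le_ker, ker_quotMk]
  have hker : RingHom.ker (quotToQuot C hJ
      (sup_le hJ ((Ideal.span_singleton_le_iff_mem _).mpr hxm) : J ⊔ Ideal.span {x} ≤ _)
      le_sup_left).toAlgHom = Ideal.span {(quotMk C J hJ).toAlgHom x} := by
    unfold quotToQuot
    rw [ker_quotFactor, ker_quotMk, Ideal.map_sup, hmapJ, bot_sup_eq,
      Ideal.map_span, Set.image_singleton]
  refine ⟨quotFactor_surjective _ _ _ (quotMk_surjective _ _ _), ?_, ?_, ?_⟩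
  · rw [hker]
    intro h
    rw [Ideal.span_singleton_eq_bot] at h
    have : x ∈ RingHom.ker (quotMk C J hJ).toAlgHom := RingHom.mem_ker.mpr h
    rw [ker_quotMk] at this
    exact hxJ this
  · rw [hker]; exact ⟨⟨_, rfl⟩⟩
  · rw [hker, maximalIdeal_quot, ← Set.image_singleton, ← Ideal.map_span, ← Ideal.map_mul]
    rw [eq_bot_iff, ← hmapJ]
    exact Ideal.map_mono hmx

end Quot

/-- Induction principle: every surjection in `Art Λ k` is a composite of small extensions
(and isomorphisms). -/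
theorem surjective_induction_smallExt
    (P : ∀ ⦃A B : Art Λ k⦄, (B ⟶ A) → Prop)
    (hiso : ∀ ⦃A B : Art Λ k⦄ (e : B ⟶ A), IsIso e → P e)
    (hsmall : ∀ ⦃A B : Art Λ k⦄ (p : B ⟶ A), IsSmallExt p → P p)
    (hcomp : ∀ ⦃A B C : Art Λ k⦄ (p : C ⟶ B) (q : B ⟶ A), P p → P q → P (p ≫ q))
    ⦃A B : Art Λ k⦄ (f : B ⟶ A) (hf : Function.Surjective f) : P f := by
  have hkm := ker_le_maximalIdeal f
  -- claim by well-founded induction on ideals
  have claim : ∀ J : Ideal B, ∀ hJ : J ≤ RingHom.ker f.toAlgHom,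
      P (quotFactor (hJ.trans hkm) f hJ) := by
    intro J
    induction J using (IsNoetherian.wf (inferInstance : IsNoetherian B B)).induction with
    | _ J ih =>
      intro hJ
      by_cases hne : RingHom.ker f.toAlgHom ≤ J
      · -- bijective
        apply hiso
        apply isIso_of_bijective
        refine ⟨?_, quotFactor_surjective _ _ _ hf⟩
        rw [← AlgHom.coe_toRingHom, RingHom.injective_iff_ker_eq_bot]
        change RingHom.ker (quotFactor (hJ.trans hkm) f hJ).toAlgHom = ⊥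
        rw [ker_quotFactor, Ideal.map_eq_bot_iff_le_ker, ker_quotMk]
        exact hne
      · obtain ⟨x, hxI, hxJ, hmx⟩ := exists_mem_not_mem_mul_le B J _ hJ hne
        have hxm := hkm hxI
        have hJ' : J ⊔ Ideal.span {x} ≤ RingHom.ker f.toAlgHom :=
          sup_le hJ ((Ideal.span_singleton_le_iff_mem _).mpr hxI)
        have hlt : J < J ⊔ Ideal.span {x} := by
          refine lt_of_le_of_ne le_sup_left fun h => hxJ ?_
          rw [h]; exact Ideal.mem_sup_right (Ideal.mem_span_singleton_self x)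
        have h1 := ih _ hlt hJ'
        have h2 := hsmall _ (isSmallExt_quotToQuot B (hJ.trans hkm) x hxm hxJ hmx)
        have := hcomp _ _ h2 h1
        rwa [quotToQuot_comp_quotFactor] at this
  have h0 := claim ⊥ bot_le
  have hmk : IsIso (quotMk B ⊥ (bot_le)) := by
    apply isIso_of_bijective
    refine ⟨?_, quotMk_surjective _ _ _⟩
    rw [← AlgHom.coe_toRingHom, RingHom.injective_iff_ker_eq_bot]
    change RingHom.ker (quotMk B ⊥ bot_le).toAlgHom = ⊥
    rw [ker_quotMk]
  have := hcomp _ _ (hiso _ hmk) h0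
  rwa [quotMk_quotFactor] at this

end Groth.Agent.Lib.Helper1.ArtFunBasic
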