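import Groth.Agent.Lib.Helper1.ArtFunVersal
import Groth.Prelude.Def_W4sfdMinVersal
import Mathlib.RingTheory.AdicCompletion.RingHom

set_option autoImplicit false
universe u v

open CategoryTheory

namespace Groth.Agent.Lib.Helper1.ArtFunCRing

open ArtFun ArtFun.Art Groth.Agent.Lib.Helper1.ArtFunBasic

variable {Λ : Type u} {k : Type u} [CommRing Λ] [Field k] [Algebra Λ k]
variable [IsNoetherianRing Λ] [Module.Finite Λ k]

section Factor

variable (R : CRing Λ k) {A : Art Λ k}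

/-- A map `R → A` compatible with the augmentations is local. -/
lemma homSet_mem_maximalIdeal (φ : HomSet R.carrier R.res A) {r : R.carrier}
    (hr : r ∈ IsLocalRing.maximalIdeal R.carrier) : φ.1 r ∈ IsLocalRing.maximalIdeal A := by
  rw [Art.mem_maximalIdeal_iff]
  have : A.res (φ.1 r) = R.res r := congrArg (fun g : R.carrier →ₐ[Λ] k => g r) φ.2
  rw [this, ← CRing.mem_maximalIdeal_iff]
  exact hr

lemma homSet_mpow_le (φ : HomSet R.carrier R.res A) (n : ℕ)
    (hn : IsLocalRing.maximalIdeal A ^ (n + 1) = ⊥) :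
    ∀ a ∈ CRing.mpow R n, φ.1 a = 0 := by
  intro a ha
  have h1 : Ideal.map φ.1 (CRing.mpow R n) ≤ IsLocalRing.maximalIdeal A ^ (n + 1) := by
    rw [CRing.mpow, Ideal.map_pow]
    apply Ideal.pow_right_mono
    rw [Ideal.map_le_iff_le_comap]
    intro r hr
    exact homSet_mem_maximalIdeal R φ hr
  have := h1 (Ideal.mem_map_of_mem _ ha)
  rwa [hn, Ideal.mem_bot] at this

/-- Every `R → A` factors through a truncation. -/
theorem exists_factor_trunc (φ : HomSet R.carrier R.res A) (n : ℕ)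
    (hn : IsLocalRing.maximalIdeal A ^ (n + 1) = ⊥) :
    ∃ θ : R.trunc n ⟶ A, HomSet.map θ (R.truncHom n) = φ := by
  refine ⟨⟨Ideal.Quotient.liftₐ (CRing.mpow R n) φ.1 (homSet_mpow_le R φ n hn), ?_⟩, ?_⟩
  · apply AlgHom.ext
    intro x
    obtain ⟨a, rfl⟩ := Ideal.Quotient.mk_surjective x
    exact congrArg (fun g : R.carrier →ₐ[Λ] k => g a) φ.2
  · apply Subtype.ext
    apply AlgHom.ext
    intro a
    rfl

theorem exists_factor_trunc' (φ : HomSet R.carrier R.res A) :
    ∃ (n : ℕ) (θ : R.trunc n ⟶ A), HomSet.map θ (R.truncHom n) = φ := by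
  obtain ⟨n, hn⟩ := exists_pow_maximalIdeal_eq_bot A
  have hn' : IsLocalRing.maximalIdeal A ^ (n + 1) = ⊥ := by
    rw [pow_succ, hn, Ideal.bot_mul]
  obtain ⟨θ, hθ⟩ := exists_factor_trunc R φ n hn'
  exact ⟨n, θ, hθ⟩

lemma trunc_hom_ext {n : ℕ} {θ₁ θ₂ : R.trunc n ⟶ A}
    (h : HomSet.map θ₁ (R.truncHom n) = HomSet.map θ₂ (R.truncHom n)) : θ₁ = θ₂ := by
  apply hom_ext
  apply AlgHom.ext
  intro x
  obtain ⟨a, rfl⟩ := Ideal.Quotient.mk_surjective x
  exact congrArg (fun g : HomSet R.carrier R.res A => g.1 a) h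

variable {F : Art Λ k ⥤ Type v}

/-- A family is determined by its formal element. -/
theorem family_app_eq_of_toFormalElt_eq (ξ₁ ξ₂ : Family R.carrier R.res F)
    (h : ξ₁.toFormalElt = ξ₂.toFormalElt) (A : Art Λ k) (φ : HomSet R.carrier R.res A) :
    ξ₁.app A φ = ξ₂.app A φ := by
  obtain ⟨n, θ, rfl⟩ := exists_factor_trunc' R φ
  rw [ξ₁.natural, ξ₂.natural]
  have := congrArg (fun u : FormalElt F R => u.elt n) h
  exact congrArg (F.map θ) this

end Factor

section Lift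

variable {R' : Type u} [CommRing R'] [Algebra Λ R'] {resR' : R' →ₐ[Λ] k} (S : CRing Λ k)

lemma truncMap_mk (n : ℕ) (a : S.carrier) :
    (S.truncMap n).toAlgHom (Ideal.Quotient.mk (CRing.mpow S (n + 1)) a) =
      Ideal.Quotient.mk (CRing.mpow S n) a := rfl

/-- Compatibility of a system of maps to the truncations, over arbitrary gaps. -/
lemma compat_le (ψ : ∀ n, HomSet R' resR' (S.trunc n))
    (hψ : ∀ n, HomSet.map (S.truncMap n) (ψ (n + 1)) = ψ n) (m n : ℕ) (h : m ≤ n) (x : R') :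
    Ideal.Quotient.factor (Ideal.pow_le_pow_right (Nat.succ_le_succ h) :
      IsLocalRing.maximalIdeal S.carrier ^ (n + 1) ≤ IsLocalRing.maximalIdeal S.carrier ^ (m + 1))
      ((ψ n).1 x) = (ψ m).1 x := by
  induction n, h using Nat.le_induction with
  | base =>
    obtain ⟨a, ha⟩ := Ideal.Quotient.mk_surjective ((ψ m).1 x)
    rw [← ha]; rfl
  | succ n hmn ih =>
    obtain ⟨a, ha⟩ := Ideal.Quotient.mk_surjective ((ψ (n + 1)).1 x)
    have h1 : (ψ n).1 x = Ideal.Quotient.mk _ a := by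
      have := congrArg (fun g : HomSet R' resR' (S.trunc n) => g.1 x) (hψ n)
      change (S.truncMap n).toAlgHom ((ψ (n + 1)).1 x) = (ψ n).1 x at this
      rw [← this, ← ha]; rfl
    rw [← ih, h1, ← ha]; rfl

/-- A compatible system of maps to the truncations of a complete ring lifts. -/
theorem exists_lift_of_compat (ψ : ∀ n, HomSet R' resR' (S.trunc n))
    (hψ : ∀ n, HomSet.map (S.truncMap n) (ψ (n + 1)) = ψ n) :
    ∃ (G : R' →ₐ[Λ] S.carrier) (_ : S.res.comp G = resR'),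
      ∀ n, (S.truncHom n).1.comp G = (ψ n).1 := by
  haveI : IsAdicComplete (IsLocalRing.maximalIdeal S.carrier) S.carrier := S.isAdicComplete
  let I := IsLocalRing.maximalIdeal S.carrier
  let f : ∀ n : ℕ, R' →ₐ[Λ] S.carrier ⧸ I ^ n := fun n =>
    (Ideal.Quotient.factorₐ Λ (Ideal.pow_le_pow_right (Nat.le_succ n) : I ^ (n + 1) ≤ I ^ n)).comp
      (ψ n).1
  have hf : ∀ {m n : ℕ} (hle : m ≤ n),
      (Ideal.Quotient.factorₐ Λ (Ideal.pow_le_pow_right hle : I ^ n ≤ I ^ m)).comp (f n) = f m := by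
    intro m n hle
    apply AlgHom.ext
    intro x
    change Ideal.Quotient.factor (Ideal.pow_le_pow_right hle : I ^ n ≤ I ^ m)
        (Ideal.Quotient.factor (Ideal.pow_le_pow_right (Nat.le_succ n) : I ^ (n + 1) ≤ I ^ n)
          ((ψ n).1 x)) =
      Ideal.Quotient.factor (Ideal.pow_le_pow_right (Nat.le_succ m) : I ^ (m + 1) ≤ I ^ m)
        ((ψ m).1 x)
    rw [← compat_le S ψ hψ m n hle x]
    obtain ⟨a, ha⟩ := Ideal.Quotient.mk_surjective ((ψ n).1 x)
    rw [← ha]; rfl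
  let G : R' →ₐ[Λ] S.carrier := IsAdicComplete.liftAlgHom I f hf
  have hG : ∀ n x, Ideal.Quotient.mk (CRing.mpow S n) (G x) = (ψ n).1 x := by
    intro n x
    have h1 : Ideal.Quotient.mk (I ^ (n + 1)) (G x) = f (n + 1) x :=
      IsAdicComplete.mk_liftAlgHom I f hf (n + 1) x
    rw [← compat_le S ψ hψ n (n + 1) (Nat.le_succ n) x]
    exact h1
  refine ⟨G, ?_, ?_⟩
  · apply AlgHom.ext
    intro x
    have h0 := hG 0 x
    have h1 : (S.trunc 0).res ((ψ 0).1 x) = resR' x :=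
      congrArg (fun g : R' →ₐ[Λ] k => g x) (ψ 0).2
    rw [← h0] at h1
    exact h1
  · intro n
    apply AlgHom.ext
    intro x
    exact hG n x

end Lift

section Versal

variable {F : Art Λ k ⥤ Type v}

lemma truncMap_surjective (S : CRing Λ k) (n : ℕ) : Function.Surjective (S.truncMap n) := by
  intro x
  obtain ⟨a, rfl⟩ := Ideal.Quotient.mk_surjective x
  exact ⟨Ideal.Quotient.mk _ a, rfl⟩

/-- A versal family induces every formal element. -/
theorem exists_along_toFormalElt_eq (h0 : H0 F) (R : CRing Λ k) (ξ : Family R.carrier R.res F)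
    (hξ : IsVersal ξ) (S : CRing Λ k) (η : FormalElt F S) :
    ∃ (g : R.carrier →ₐ[Λ] S.carrier) (hg : S.res.comp g = R.res),
      (ξ.along g hg).toFormalElt = η := by
  classical
  have hbase : ∃ ψ : HomSet R.carrier R.res (S.trunc 0), ξ.app _ ψ = η.elt 0 :=
    Groth.Agent.Lib.Helper1.ArtFunVersal.surjective_app_of_isVersal h0 ξ hξ (S.trunc 0) (η.elt 0)
  have hstep : ∀ (n : ℕ) (ψ : HomSet R.carrier R.res (S.trunc n)), ξ.app _ ψ = η.elt n →
      ∃ ψ' : HomSet R.carrier R.res (S.trunc (n + 1)),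
        HomSet.map (S.truncMap n) ψ' = ψ ∧ ξ.app _ ψ' = η.elt (n + 1) := by
    intro n ψ hψ
    exact hξ (S.truncMap n) (truncMap_surjective S n) ψ (η.elt (n + 1)) (by rw [η.compat, hψ])
  let seq : ∀ n : ℕ, {ψ : HomSet R.carrier R.res (S.trunc n) // ξ.app _ ψ = η.elt n} := fun n =>
    Nat.rec (motive := fun n => {ψ : HomSet R.carrier R.res (S.trunc n) // ξ.app _ ψ = η.elt n})
      ⟨hbase.choose, hbase.choose_spec⟩
      (fun n ih => ⟨(hstep n ih.1 ih.2).choose, (hstep n ih.1 ih.2).choose_spec.2⟩) n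
  have hseq : ∀ n, HomSet.map (S.truncMap n) (seq (n + 1)).1 = (seq n).1 := fun n =>
    (hstep n (seq n).1 (seq n).2).choose_spec.1
  obtain ⟨G, hG, hGn⟩ := exists_lift_of_compat S (fun n => (seq n).1) hseq
  refine ⟨G, hG, ?_⟩
  apply FormalElt.ext'
  intro n
  change ξ.app _ ⟨(S.truncHom n).1.comp G, _⟩ = η.elt n
  rw [← (seq n).2]
  congr 1
  exact Subtype.ext (hGn n)

end Versal

end Groth.Agent.Lib.Helper1.ArtFunCRing
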