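import Groth.Agent.Lib.Helper1.PSRing
import Groth.Agent.S3866
import Mathlib.RingTheory.AdicCompletion.Completeness
import Mathlib.RingTheory.AdicCompletion.LocalRing
import Mathlib.RingTheory.Polynomial.Basic

set_option autoImplicit false
universe u v
open CategoryTheory ArtFun ArtFun.Art

namespace Groth.Agent.Lib.Helper1.ArtFunCompl

open Groth.Agent.Lib.Helper1.PSDecomp Groth.Agent.Lib.Helper1.PSRing
  Groth.Agent.Lib.Helper1.ArtFunBasic

variable {Λ : Type u} {k : Type u} [CommRing Λ] [Field k] [Algebra Λ k]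

section RingHomExt

variable {m : ℕ} {R B : Type u} [CommRing R] [CommRing B]

/-- Ring maps out of a power series ring with nilpotent images of the variables are determined by
the constants and the variables. -/
theorem ringHom_ext_X (f f' : MvPowerSeries (Fin m) R →+* B)
    (hC : ∀ p, f (MvPowerSeries.C p) = f' (MvPowerSeries.C p))
    (hX : ∀ j, f (MvPowerSeries.X j) = f' (MvPowerSeries.X j))
    (hn : ∀ j, IsNilpotent (f (MvPowerSeries.X j))) : f = f' := by
  letI : Algebra R B := (f.comp MvPowerSeries.C).toAlgebra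
  let φ : MvPowerSeries (Fin m) R →ₐ[R] B := { f with commutes' := fun p => rfl }
  let ψ : MvPowerSeries (Fin m) R →ₐ[R] B := { f' with commutes' := fun p => (hC p).symm }
  have := algHom_ext_X φ ψ hX hn
  exact RingHom.ext fun x => congrArg (fun g : MvPowerSeries (Fin m) R →ₐ[R] B => g x) this

end RingHomExt

variable (P : Type u) [CommRing P] [Algebra Λ P] (resP : P →ₐ[Λ] k)

/-- A finite generating family of the augmentation ideal. -/
structure Gens where
  m : ℕ
  g : Fin m → P
  hg : Ideal.span (Set.range g) = RingHom.ker resP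

theorem nonempty_gens [IsNoetherianRing P] : Nonempty (Gens P resP) := by
  obtain ⟨n, s, hs⟩ := Submodule.fg_iff_exists_fin_generating_family.1
    (IsNoetherian.noetherian (RingHom.ker resP))
  exact ⟨⟨n, s, hs⟩⟩

namespace Gens

variable {P resP} (G : Gens P resP)

/-- The ideal `(Y_j - g_j)`. -/
noncomputable def K : Ideal (MvPowerSeries (Fin G.m) P) :=
  Ideal.span (Set.range fun j : Fin G.m =>
    (MvPowerSeries.X j : MvPowerSeries (Fin G.m) P) - MvPowerSeries.C (G.g j))

/-- The augmentation on the power series ring. -/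
noncomputable def resA : MvPowerSeries (Fin G.m) P →ₐ[Λ] k :=
  { (resP : P →+* k).comp (MvPowerSeries.constantCoeff (σ := Fin G.m) (R := P)) with
    commutes' := fun l => by
      change resP (MvPowerSeries.constantCoeff (algebraMap Λ (MvPowerSeries (Fin G.m) P) l)) = _
      rw [MvPowerSeries.algebraMap_apply, MvPowerSeries.constantCoeff_C, AlgHom.commutes] }

lemma resA_apply (f : MvPowerSeries (Fin G.m) P) :
    G.resA f = resP (MvPowerSeries.constantCoeff f) := rfl

lemma resP_g (j : Fin G.m) : resP (G.g j) = 0 := by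
  have : G.g j ∈ RingHom.ker resP := by rw [← G.hg]; exact Ideal.subset_span ⟨j, rfl⟩
  exact this

lemma K_le_ker : G.K ≤ RingHom.ker G.resA := by
  rw [K, Ideal.span_le]
  rintro _ ⟨j, rfl⟩
  change G.resA _ = 0
  rw [resA_apply, map_sub, MvPowerSeries.constantCoeff_X, MvPowerSeries.constantCoeff_C, zero_sub,
    map_neg, resP_g, neg_zero]

/-- The completion ring. -/
abbrev carrier : Type u := MvPowerSeries (Fin G.m) P ⧸ G.K

/-- Its augmentation. -/
noncomputable def res : G.carrier →ₐ[Λ] k :=
  Ideal.Quotient.liftₐ G.K G.resA (fun _ ha => G.K_le_ker ha)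

lemma res_mk (f : MvPowerSeries (Fin G.m) P) :
    G.res (Ideal.Quotient.mk G.K f) = resP (MvPowerSeries.constantCoeff f) := rfl

/-- The canonical map from `P`. -/
noncomputable def ι : P →ₐ[Λ] G.carrier :=
  (Ideal.Quotient.mkₐ Λ G.K).comp (IsScalarTower.toAlgHom Λ P (MvPowerSeries (Fin G.m) P))

lemma ι_apply (p : P) : G.ι p = Ideal.Quotient.mk G.K (MvPowerSeries.C p) := rfl

lemma res_ι (p : P) : G.res (G.ι p) = resP p := by
  rw [ι_apply, res_mk, MvPowerSeries.constantCoeff_C]

lemma res_comp_ι : G.res.comp G.ι = resP := AlgHom.ext fun p => G.res_ι p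

lemma mk_X (j : Fin G.m) :
    Ideal.Quotient.mk G.K (MvPowerSeries.X j) = G.ι (G.g j) := by
  rw [ι_apply]
  exact Ideal.Quotient.eq.2 (Ideal.subset_span ⟨j, rfl⟩)

lemma res_surjective (hres : Function.Surjective resP) : Function.Surjective G.res := fun c => by
  obtain ⟨p, rfl⟩ := hres c
  exact ⟨G.ι p, G.res_ι p⟩

/-- The ideal of the variables. -/
noncomputable def 𝔞 : Ideal (MvPowerSeries (Fin G.m) P) :=
  Ideal.span (Set.range (MvPowerSeries.X : Fin G.m → MvPowerSeries (Fin G.m) P))

lemma ker_res : RingHom.ker G.res = G.𝔞.map (algebraMap (MvPowerSeries (Fin G.m) P) G.carrier) := by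
  apply le_antisymm
  · intro y hy
    obtain ⟨f, rfl⟩ := Ideal.Quotient.mk_surjective y
    rw [RingHom.mem_ker, res_mk] at hy
    have hf0 : MvPowerSeries.constantCoeff f ∈ Ideal.span (Set.range G.g) := by
      rw [G.hg]; exact hy
    obtain ⟨c, hc⟩ := (Ideal.mem_span_range_iff_exists_fun).1 hf0
    have hd := decomp f
    have e : Ideal.Quotient.mk G.K f =
        ∑ j, Ideal.Quotient.mk G.K (MvPowerSeries.C (c j)) * Ideal.Quotient.mk G.K (MvPowerSeries.X j)
        + ∑ i, Ideal.Quotient.mk G.K (MvPowerSeries.X i) * Ideal.Quotient.mk G.K (part i f) := by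
      conv_lhs => rw [hd]
      rw [map_add, map_sum]
      congr 1
      · change Ideal.Quotient.mk G.K (MvPowerSeries.C (MvPowerSeries.constantCoeff f)) = _
        rw [← hc, map_sum, map_sum]
        apply Finset.sum_congr rfl
        intro j _
        rw [map_mul, map_mul, mk_X, ι_apply]
    rw [e]
    apply Ideal.add_mem
    · apply Ideal.sum_mem
      intro j _
      exact Ideal.mul_mem_left _ _ (Ideal.mem_map_of_mem _ (Ideal.subset_span ⟨j, rfl⟩))
    · apply Ideal.sum_mem
      intro j _
      exact Ideal.mul_mem_right _ _ (Ideal.mem_map_of_mem _ (Ideal.subset_span ⟨j, rfl⟩))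
  · rw [Ideal.map_le_iff_le_comap, 𝔞, Ideal.span_le]
    rintro _ ⟨j, rfl⟩
    change G.res (Ideal.Quotient.mk G.K (MvPowerSeries.X j)) = 0
    rw [res_mk, MvPowerSeries.constantCoeff_X, map_zero]

variable [IsNoetherianRing P]

lemma isAdicComplete_ker :
    IsAdicComplete (RingHom.ker G.res) G.carrier := by
  haveI : IsAdicComplete G.𝔞 (MvPowerSeries (Fin G.m) P) := by
    unfold 𝔞; infer_instance
  have h := Groth.Agent.S3866.result (MvPowerSeries (Fin G.m) P) G.𝔞 G.carrier
  rw [ker_res]
  exact (IsAdicComplete.map_algebraMap_iff _ _).2 h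

omit [IsNoetherianRing P] in
lemma isMaximal_ker (hres : Function.Surjective resP) : (RingHom.ker G.res).IsMaximal :=
  RingHom.ker_isMaximal_of_surjective (G.res : G.carrier →+* k) (G.res_surjective hres)

lemma isLocalRing (hres : Function.Surjective resP) : IsLocalRing G.carrier := by
  haveI := G.isMaximal_ker hres
  haveI := G.isAdicComplete_ker
  exact isLocalRing_of_isAdicComplete_maximal (RingHom.ker G.res)

/-- The completion of `P` along its augmentation, as a coefficient ring. -/
noncomputable def ring (hres : Function.Surjective resP) : CRing Λ k :=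
  letI := G.isLocalRing hres
  { carrier := G.carrier
    res := G.res
    res_surjective := G.res_surjective hres
    isAdicComplete := by
      have h : RingHom.ker G.res = IsLocalRing.maximalIdeal G.carrier :=
        IsLocalRing.eq_maximalIdeal (G.isMaximal_ker hres)
      rw [← h]
      exact G.isAdicComplete_ker }

variable (hres : Function.Surjective resP)

/-- Restriction of a map out of the completion to `P`. -/
noncomputable def restr {A : Art Λ k} (φ : HomSet (G.ring hres).carrier (G.ring hres).res A) :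
    HomSet P resP A :=
  ⟨φ.1.comp G.ι, by rw [← AlgHom.comp_assoc, φ.2]; exact G.res_comp_ι⟩

lemma restr_apply {A : Art Λ k} (φ : HomSet (G.ring hres).carrier (G.ring hres).res A) (p : P) :
    (G.restr hres φ).1 p = φ.1 (G.ι p) := rfl

lemma restr_map {A B : Art Λ k} (f : A ⟶ B)
    (φ : HomSet (G.ring hres).carrier (G.ring hres).res A) :
    G.restr hres (HomSet.map f φ) = HomSet.map f (G.restr hres φ) := rfl

theorem restr_injective {A : Art Λ k} : Function.Injective (G.restr hres (A := A)) := by
  intro φ ψ h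
  have hp : ∀ p, φ.1 (G.ι p) = ψ.1 (G.ι p) := fun p =>
    congrArg (fun g : HomSet P resP A => g.1 p) h
  have key : (φ.1.toRingHom).comp (Ideal.Quotient.mk G.K) =
      (ψ.1.toRingHom).comp (Ideal.Quotient.mk G.K) := by
    apply ringHom_ext_X
    · intro p; exact hp p
    · intro j
      change φ.1 (Ideal.Quotient.mk G.K (MvPowerSeries.X j)) =
        ψ.1 (Ideal.Quotient.mk G.K (MvPowerSeries.X j))
      rw [mk_X]; exact hp _
    · intro j
      change IsNilpotent (φ.1 (Ideal.Quotient.mk G.K (MvPowerSeries.X j)))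
      rw [mk_X]
      apply isNilpotent_of_mem_maximalIdeal A
      rw [A.mem_maximalIdeal_iff]
      have : A.res (φ.1 (G.ι (G.g j))) = G.res (G.ι (G.g j)) :=
        congrArg (fun g : G.carrier →ₐ[Λ] k => g (G.ι (G.g j))) φ.2
      rw [this, res_ι, resP_g]
  apply Subtype.ext
  apply AlgHom.ext
  intro y
  obtain ⟨a, rfl⟩ := Ideal.Quotient.mk_surjective y
  exact congrArg (fun g : MvPowerSeries (Fin G.m) P →+* A => g a) key

theorem restr_surjective {A : Art Λ k} : Function.Surjective (G.restr hres (A := A)) := by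
  intro φ₀
  letI : Algebra P A := (φ₀.1 : P →+* A).toAlgebra
  haveI : IsScalarTower Λ P A := IsScalarTower.of_algebraMap_eq (fun l => (φ₀.1.commutes l).symm)
  have hφres : ∀ p, A.res (φ₀.1 p) = resP p := fun p =>
    congrArg (fun g : P →ₐ[Λ] k => g p) φ₀.2
  have hnil : ∀ j, IsNilpotent (φ₀.1 (G.g j)) := fun j => by
    apply isNilpotent_of_mem_maximalIdeal A
    rw [A.mem_maximalIdeal_iff, hφres, resP_g]
  let e : MvPowerSeries (Fin G.m) P →ₐ[P] A := evalNil (fun j => φ₀.1 (G.g j)) hnil
  have heC : ∀ p, e (MvPowerSeries.C p) = φ₀.1 p := fun p => by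
    rw [MvPowerSeries.c_eq_algebraMap, AlgHom.commutes]; rfl
  let eΛ : MvPowerSeries (Fin G.m) P →ₐ[Λ] A := e.restrictScalars Λ
  have hK : ∀ a ∈ G.K, eΛ a = 0 := by
    have : G.K ≤ RingHom.ker eΛ := by
      rw [K, Ideal.span_le]
      rintro _ ⟨j, rfl⟩
      change e _ = 0
      rw [map_sub, evalNil_X, heC, sub_self]
    exact fun a ha => this ha
  let w : G.carrier →ₐ[Λ] A := Ideal.Quotient.liftₐ G.K eΛ hK
  have hw : A.res.comp w = G.res := by
    apply Ideal.Quotient.algHom_ext
    have key : ((A.res.comp w : G.carrier →ₐ[Λ] k) : G.carrier →+* k).comp (Ideal.Quotient.mk G.K) =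
        (G.res : G.carrier →+* k).comp (Ideal.Quotient.mk G.K) := by
      apply ringHom_ext_X
      · intro p
        change A.res (e (MvPowerSeries.C p)) = G.res (G.ι p)
        rw [heC, hφres, res_ι]
      · intro j
        change A.res (e (MvPowerSeries.X j)) = G.res (Ideal.Quotient.mk G.K (MvPowerSeries.X j))
        rw [evalNil_X, hφres, resP_g, mk_X, res_ι, resP_g]
      · intro j
        change IsNilpotent (A.res (e (MvPowerSeries.X j)))
        rw [evalNil_X, hφres, resP_g]
        exact IsNilpotent.zero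
    exact AlgHom.ext fun a => congrArg (fun g : MvPowerSeries (Fin G.m) P →+* k => g a) key
  refine ⟨⟨w, hw⟩, ?_⟩
  apply Subtype.ext
  apply AlgHom.ext
  intro p
  change e (MvPowerSeries.C p) = φ₀.1 p
  exact heC p

/-- Maps out of the completion to Artinian objects are maps out of `P`. -/
theorem restr_bijective {A : Art Λ k} : Function.Bijective (G.restr hres (A := A)) :=
  ⟨G.restr_injective hres, G.restr_surjective hres⟩

/-- Lifting along surjections transfers from `P` to its completion. -/
theorem exists_lift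
    (hlift : ∀ ⦃B A : Art Λ k⦄ (μ : B ⟶ A), Function.Surjective μ →
      ∀ φ : HomSet P resP A, ∃ ψ : HomSet P resP B, HomSet.map μ ψ = φ)
    ⦃B A : Art Λ k⦄ (μ : B ⟶ A) (hμ : Function.Surjective μ)
    (φ : HomSet (G.ring hres).carrier (G.ring hres).res A) :
    ∃ ψ : HomSet (G.ring hres).carrier (G.ring hres).res B, HomSet.map μ ψ = φ := by
  obtain ⟨ψ₀, hψ₀⟩ := hlift μ hμ (G.restr hres φ)
  obtain ⟨ψ, rfl⟩ := G.restr_surjective hres ψ₀
  refine ⟨ψ, G.restr_injective hres ?_⟩
  rw [restr_map, hψ₀]

end Gens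

end Groth.Agent.Lib.Helper1.ArtFunCompl
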