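import Groth.Agent.Lib.Helper1.ArtFunQuot
import Groth.Agent.Lib.Helper1.ArtFunVersalCrit
import Groth.Agent.Lib.Helper5.ArtFunLift

set_option autoImplicit false
universe u v
open CategoryTheory ArtFun ArtFun.Art

namespace Groth.Agent.Lib.Helper1.ArtFunCut

open Groth.Agent.Lib.Helper1.ArtFunBasic Groth.Agent.Lib.Helper1.ArtFunCRing
  Groth.Agent.Lib.Helper1.ArtFunHullStep Groth.Agent.Lib.Helper1.ArtFunTangent
  Groth.Agent.Lib.Helper1.ArtFunVersalCrit Groth.Agent.Lib.Helper1.ArtFunSmall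
  Groth.Agent.Lib.Helper1.ArtFunQuot

variable {Λ : Type u} {k : Type u} [CommRing Λ] [Field k] [Algebra Λ k]
variable [IsNoetherianRing Λ] [Module.Finite Λ k]

section Shift

variable {R : Type u} [CommRing R] [Algebra Λ R] {resR : R →ₐ[Λ] k}

/-- Shifting a map `R → B` by a tangent vector along a socle element. -/
theorem exists_shift {B : Art Λ k} (κ : B) (hκm : κ ∈ IsLocalRing.maximalIdeal B)
    (hκ : ∀ x ∈ IsLocalRing.maximalIdeal B, x * κ = 0)
    (ψ : HomSet R resR B) (φ₀ : HomSet R resR (dual Λ k)) :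
    ∃ ψ' : HomSet R resR B,
      ∀ s, ψ'.1 s = ψ.1 s + sec B (TrivSqZeroExt.snd (φ₀.1 s : TrivSqZeroExt k k)) * κ := by
  obtain ⟨v, hv1, hv2⟩ := Groth.Agent.Lib.Helper5.ArtFunLift.exists_homSet_lift
    (tObj_isFibreProd B) ψ φ₀ (homSet_base_subsingleton _ _)
  refine ⟨HomSet.map (tAct κ hκm hκ) v, fun s => ?_⟩
  have h1 : (tFst B).toAlgHom (v.1 s) = ψ.1 s :=
    congrArg (fun g : HomSet R resR B => g.1 s) hv1
  have h2 : (tSnd B).toAlgHom (v.1 s) = φ₀.1 s :=
    congrArg (fun g : HomSet R resR (dual Λ k) => g.1 s) hv2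
  change (tAct κ hκm hκ).toAlgHom (v.1 s) = _
  rw [tAct_apply, ← h1, ← h2, tFst_apply, tSnd_apply]

omit [IsNoetherianRing Λ] [Module.Finite Λ k] in
lemma snd_map_scale (c : k) (φ₀ : HomSet R resR (dual Λ k)) (s : R) :
    TrivSqZeroExt.snd ((HomSet.map (scale c) φ₀).1 s : TrivSqZeroExt k k) =
      c * TrivSqZeroExt.snd (φ₀.1 s : TrivSqZeroExt k k) := rfl

end Shift

variable (S : CRing Λ k)

/-- The lifting property of `S / I`, phrased on `S`. -/
def LiftI (I : Ideal S.carrier) : Prop :=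
  ∀ ⦃B A : Art Λ k⦄ (μ : B ⟶ A), Function.Surjective μ →
    ∀ φ : HomSet S.carrier S.res A, I ≤ RingHom.ker φ.1 →
      ∃ ψ : HomSet S.carrier S.res B, I ≤ RingHom.ker ψ.1 ∧ HomSet.map μ ψ = φ

variable {S}

omit [IsNoetherianRing Λ] [Module.Finite Λ k] in
theorem liftI_bot
    (hlift : ∀ ⦃B A : Art Λ k⦄ (μ : B ⟶ A), Function.Surjective μ →
      ∀ φ : HomSet S.carrier S.res A, ∃ ψ : HomSet S.carrier S.res B, HomSet.map μ ψ = φ) :
    LiftI S ⊥ := fun _ _ μ hμ φ _ => by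
  obtain ⟨ψ, hψ⟩ := hlift μ hμ φ
  exact ⟨ψ, bot_le, hψ⟩

/-- Cutting by an element on which some tangent vector does not vanish preserves smoothness. -/
theorem liftI_sup_span {I : Ideal S.carrier} (hI : LiftI S I)
    (φ₀ : HomSet S.carrier S.res (dual Λ k)) (h₀ : I ≤ RingHom.ker φ₀.1) (t : S.carrier)
    (ht : TrivSqZeroExt.snd (φ₀.1 t : TrivSqZeroExt k k) ≠ 0) :
    LiftI S (I ⊔ Ideal.span {t}) := by
  intro B A μ hμ
  refine surjective_induction_smallExt
    (P := fun A B μ => ∀ φ : HomSet S.carrier S.res A, I ⊔ Ideal.span {t} ≤ RingHom.ker φ.1 →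
      ∃ ψ : HomSet S.carrier S.res B, I ⊔ Ideal.span {t} ≤ RingHom.ker ψ.1 ∧ HomSet.map μ ψ = φ)
    ?_ ?_ ?_ μ hμ
  · intro A B e he φ hφ
    have := he
    refine ⟨HomSet.map (inv e) φ, ?_, ?_⟩
    · intro s hs
      have := hφ hs
      rw [RingHom.mem_ker] at this ⊢
      rw [map_apply, this]
      exact map_zero (inv e).toAlgHom
    · rw [← homSet_map_comp, IsIso.inv_hom_id, homSet_map_id]
  · intro A B p hp φ hφ
    obtain ⟨κ, hker, hκ0, hκ⟩ := exists_gen_of_isSmallExt hp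
    have hκker : κ ∈ RingHom.ker p.toAlgHom := hker ▸ Ideal.mem_span_singleton_self κ
    have hκm : κ ∈ IsLocalRing.maximalIdeal B := ker_le_maximalIdeal p hκker
    have hpκ : p κ = 0 := hκker
    obtain ⟨ψ, hψI, hψ⟩ := hI p hp.1 φ (le_sup_left.trans hφ)
    have hψt : ψ.1 t ∈ Ideal.span {κ} := by
      rw [← hker, RingHom.mem_ker]
      have h1 : p (ψ.1 t) = φ.1 t := congrArg (fun g : HomSet S.carrier S.res A => g.1 t) hψ
      have h2 : φ.1 t = 0 := hφ (le_sup_right (a := I) (Ideal.mem_span_singleton_self t))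
      exact h1.trans h2
    obtain ⟨b, hb⟩ := Ideal.mem_span_singleton'.1 hψt
    set d := TrivSqZeroExt.snd (φ₀.1 t : TrivSqZeroExt k k) with hd
    set c : k := -(B.res b) / d with hc
    obtain ⟨ψ', hψ'⟩ := exists_shift κ hκm hκ ψ (HomSet.map (scale c) φ₀)
    refine ⟨ψ', ?_, ?_⟩
    · rw [sup_le_iff, Ideal.span_le, Set.singleton_subset_iff]
      constructor
      · intro s hs
        rw [RingHom.mem_ker, hψ', snd_map_scale]
        have h1 : ψ.1 s = 0 := hψI hs
        have h2 : TrivSqZeroExt.snd (φ₀.1 s : TrivSqZeroExt k k) = 0 := by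
          have h2' : φ₀.1 s = 0 := h₀ hs
          rw [h2']; rfl
        rw [h1, h2, mul_zero,
          sec_mul_eq κ hκ (y := 0) (map_zero _), zero_mul, add_zero]
      · change ψ'.1 t = 0
        rw [hψ', snd_map_scale, ← hb]
        have h3 : c * d = B.res (-b) := by
          rw [hc, map_neg]; field_simp
        rw [sec_mul_eq κ hκ h3.symm]
        ring
    · apply Groth.Agent.Lib.Helper1.ArtFunDer.homSet_ext
      intro s
      have h1 : p (ψ.1 s) = φ.1 s := congrArg (fun g : HomSet S.carrier S.res A => g.1 s) hψ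
      change p (ψ'.1 s) = φ.1 s
      rw [hψ', map_add, map_mul, hpκ, mul_zero, add_zero, h1]
  · intro A B C p q hp hq φ hφ
    obtain ⟨ψB, hψB, hψB'⟩ := hq φ hφ
    obtain ⟨ψC, hψC, hψC'⟩ := hp ψB hψB
    exact ⟨ψC, hψC, by rw [homSet_map_comp, hψC', hψB']⟩

/-- A maximal smooth quotient through which a given map factors has no extra tangent vectors. -/
theorem exists_maximal_cut (hlift : LiftI S ⊥) {C₀ : Art Λ k} (w : HomSet S.carrier S.res C₀) :
    ∃ I : Ideal S.carrier, I ≤ RingHom.ker w.1 ∧ LiftI S I ∧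
      ∀ φ₀ : HomSet S.carrier S.res (dual Λ k), I ≤ RingHom.ker φ₀.1 →
        RingHom.ker w.1 ≤ RingHom.ker φ₀.1 := by
  have hN : IsNoetherian S.carrier S.carrier := inferInstance
  obtain ⟨I, ⟨hIw, hIl⟩, hmax⟩ := (set_has_maximal_iff_noetherian.2 hN)
    {I : Ideal S.carrier | I ≤ RingHom.ker w.1 ∧ LiftI S I} ⟨⊥, bot_le, hlift⟩
  refine ⟨I, hIw, hIl, fun φ₀ h₀ t htw => ?_⟩
  by_contra hne
  have hres : S.res t = 0 := by
    have h1 : C₀.res (w.1 t) = S.res t := congrArg (fun g : S.carrier →ₐ[Λ] k => g t) w.2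
    have h2 : w.1 t = 0 := htw
    rw [← h1, h2, map_zero]
  have hfst : TrivSqZeroExt.fst (φ₀.1 t : TrivSqZeroExt k k) = 0 := by
    have h1 : (dual Λ k).res (φ₀.1 t) = S.res t :=
      congrArg (fun g : S.carrier →ₐ[Λ] k => g t) φ₀.2
    exact h1.trans hres
  have hsnd : TrivSqZeroExt.snd (φ₀.1 t : TrivSqZeroExt k k) ≠ 0 := by
    intro h
    apply hne
    rw [RingHom.mem_ker]
    exact TrivSqZeroExt.ext hfst h
  have hmem : I ⊔ Ideal.span {t} ∈ {I : Ideal S.carrier | I ≤ RingHom.ker w.1 ∧ LiftI S I} :=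
    ⟨sup_le hIw (by rw [Ideal.span_le, Set.singleton_subset_iff]; exact htw),
      liftI_sup_span hIl φ₀ h₀ t hsnd⟩
  have hle : I ≤ I ⊔ Ideal.span {t} := le_sup_left
  have heq : I = I ⊔ Ideal.span {t} := by
    by_contra hneq
    exact hmax _ hmem (lt_of_le_of_ne hle hneq)
  have htI : t ∈ I := by
    rw [heq]; exact le_sup_right (a := I) (Ideal.mem_span_singleton_self t)
  exact hne (h₀ htI)

end Groth.Agent.Lib.Helper1.ArtFunCut
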