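import Groth.Agent.Lib.Helper1.ArtFunBasic

set_option autoImplicit false
universe u v

open CategoryTheory

namespace Groth.Agent.Lib.Helper1.ArtFunFib

open ArtFun ArtFun.Art Groth.Agent.Lib.Helper1.ArtFunBasic

variable {Λ : Type u} {k : Type u} [CommRing Λ] [Field k] [Algebra Λ k]

lemma surjective_comp {A B C : Art Λ k} (p : C ⟶ B) (q : B ⟶ A) (hp : Function.Surjective p)
    (hq : Function.Surjective q) : Function.Surjective (p ≫ q) := by
  intro a
  obtain ⟨b, rfl⟩ := hq a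
  obtain ⟨c, rfl⟩ := hp b
  exact ⟨c, rfl⟩

section Paste

variable {B A A' C B0 : Art Λ k} {p' : B ⟶ A'} {p'' : B ⟶ C} {f' : A' ⟶ A} {p : C ⟶ B0}
  {q : B0 ⟶ A}

/-- The kernel of `B = A' ×_A C ⟶ A' ×_A B0`. -/
def midIdeal (p' : B ⟶ A') (p'' : B ⟶ C) (p : C ⟶ B0) : Ideal B :=
  RingHom.ker p'.toAlgHom ⊓ RingHom.ker (p'' ≫ p).toAlgHom

lemma midIdeal_le (p' : B ⟶ A') (p'' : B ⟶ C) (p : C ⟶ B0) :
    midIdeal p' p'' p ≤ IsLocalRing.maximalIdeal B :=
  inf_le_left.trans (ker_le_maximalIdeal p')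

/-- The intermediate fibre product `A' ×_A B0` as a quotient of `B = A' ×_A C`. -/
noncomputable def mid (p' : B ⟶ A') (p'' : B ⟶ C) (p : C ⟶ B0) : Art Λ k :=
  quot B (midIdeal p' p'' p) (midIdeal_le p' p'' p)

noncomputable def midMk (p' : B ⟶ A') (p'' : B ⟶ C) (p : C ⟶ B0) : B ⟶ mid p' p'' p :=
  quotMk B _ (midIdeal_le p' p'' p)

noncomputable def midFst (p' : B ⟶ A') (p'' : B ⟶ C) (p : C ⟶ B0) : mid p' p'' p ⟶ A' :=
  quotFactor (midIdeal_le p' p'' p) p' inf_le_left

noncomputable def midSnd (p' : B ⟶ A') (p'' : B ⟶ C) (p : C ⟶ B0) : mid p' p'' p ⟶ B0 :=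
  quotFactor (midIdeal_le p' p'' p) (p'' ≫ p) inf_le_right

lemma midMk_midFst (p' : B ⟶ A') (p'' : B ⟶ C) (p : C ⟶ B0) :
    midMk p' p'' p ≫ midFst p' p'' p = p' := quotMk_quotFactor _ _ _

lemma midMk_midSnd (p' : B ⟶ A') (p'' : B ⟶ C) (p : C ⟶ B0) :
    midMk p' p'' p ≫ midSnd p' p'' p = p'' ≫ p := quotMk_quotFactor _ _ _

lemma midMk_surjective (p' : B ⟶ A') (p'' : B ⟶ C) (p : C ⟶ B0) :
    Function.Surjective (midMk p' p'' p) := quotMk_surjective _ _ _

lemma midMk_eq_iff (p' : B ⟶ A') (p'' : B ⟶ C) (p : C ⟶ B0) (b₁ b₂ : B) :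
    midMk p' p'' p b₁ = midMk p' p'' p b₂ ↔ p' b₁ = p' b₂ ∧ p (p'' b₁) = p (p'' b₂) := by
  have h1 : midMk p' p'' p b₁ = midMk p' p'' p b₂ ↔ b₁ - b₂ ∈ midIdeal p' p'' p := by
    rw [← ker_quotMk B (midIdeal p' p'' p) (midIdeal_le p' p'' p), RingHom.mem_ker, map_sub,
      sub_eq_zero]
    rfl
  rw [h1, midIdeal, Ideal.mem_inf, RingHom.mem_ker, RingHom.mem_ker, map_sub, map_sub,
    sub_eq_zero, sub_eq_zero]
  rfl

theorem mid_isFibreProd (h : IsFibreProd p' p'' f' (p ≫ q)) (hp : Function.Surjective p) :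
    IsFibreProd (midFst p' p'' p) (midSnd p' p'' p) f' q where
  w := by
    apply hom_ext; apply AlgHom.ext; intro x
    obtain ⟨b, rfl⟩ := midMk_surjective p' p'' p x
    exact h.w_apply b
  inj x₁ x₂ h₁ h₂ := by
    obtain ⟨b₁, rfl⟩ := midMk_surjective p' p'' p x₁
    obtain ⟨b₂, rfl⟩ := midMk_surjective p' p'' p x₂
    rw [midMk_eq_iff]
    exact ⟨h₁, h₂⟩
  surj a' b0 hab := by
    obtain ⟨c, rfl⟩ := hp b0
    obtain ⟨b, hb1, hb2⟩ := h.surj a' c hab
    refine ⟨midMk p' p'' p b, hb1, ?_⟩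
    change p (p'' b) = p c
    rw [hb2]

theorem top_isFibreProd (h : IsFibreProd p' p'' f' (p ≫ q)) :
    IsFibreProd (midMk p' p'' p) p'' (midSnd p' p'' p) p where
  w := midMk_midSnd p' p'' p
  inj b₁ b₂ h₁ h₂ := by
    rw [midMk_eq_iff] at h₁
    exact h.inj b₁ b₂ h₁.1 h₂
  surj x c hxc := by
    obtain ⟨b, rfl⟩ := midMk_surjective p' p'' p x
    have hxc' : p (p'' b) = p c := hxc
    have h1 : f' (p' b) = (p ≫ q) c := by
      rw [h.w_apply b]
      change q (p (p'' b)) = q (p c)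
      rw [hxc']
    obtain ⟨b₂, hb1, hb2⟩ := h.surj (p' b) c h1
    refine ⟨b₂, ?_, hb2⟩
    rw [midMk_eq_iff]
    exact ⟨hb1, by rw [hb2, hxc']⟩

end Paste

section IsoCase

variable {B A A' A'' : Art Λ k} {p' : B ⟶ A'} {p'' : B ⟶ A''} {f' : A' ⟶ A} {f'' : A'' ⟶ A}

theorem fst_bijective_of_bijective (h : IsFibreProd p' p'' f' f'') (hf : Function.Bijective f'') :
    Function.Bijective p' := by
  constructor
  · intro b₁ b₂ hb
    apply h.inj b₁ b₂ hb
    apply hf.1
    rw [← h.w_apply, ← h.w_apply]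
    exact congrArg f' hb
  · intro a'
    obtain ⟨a'', ha''⟩ := hf.2 (f' a')
    obtain ⟨b, hb, _⟩ := h.surj a' a'' ha''.symm
    exact ⟨b, hb⟩

theorem fst_surjective_of_surjective (h : IsFibreProd p' p'' f' f'')
    (hf : Function.Surjective f'') : Function.Surjective p' := by
  intro a'
  obtain ⟨a'', ha''⟩ := hf (f' a')
  obtain ⟨b, hb, _⟩ := h.surj a' a'' ha''.symm
  exact ⟨b, hb⟩

end IsoCase

section Cmp

variable (F : Art Λ k ⥤ Type v)

lemma map_comp_apply {A B C : Art Λ k} (f : A ⟶ B) (g : B ⟶ C) (x : F.obj A) :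
    F.map (f ≫ g) x = F.map g (F.map f x) := by
  rw [F.map_comp]; rfl

lemma map_id_apply {A : Art Λ k} (x : F.obj A) : F.map (𝟙 A) x = x := by
  rw [F.map_id]; rfl

/-- Comparison map is bijective when `f''` is an isomorphism. -/
theorem cmp_bijective_of_isIso {B A A' A'' : Art Λ k} {p' : B ⟶ A'} {p'' : B ⟶ A''} {f' : A' ⟶ A}
    {f'' : A'' ⟶ A} (h : IsFibreProd p' p'' f' f'') [hiso : IsIso f''] :
    Function.Bijective (cmp F h) := by
  have hp' : IsIso p' := isIso_of_bijective p' (fst_bijective_of_bijective h (bijective_of_isIso f''))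
  constructor
  · intro z z' hz
    have h1 : F.map p' z = F.map p' z' := congrArg (fun t => t.1.1) hz
    have := congrArg (F.map (inv p')) h1
    rwa [← map_comp_apply, ← map_comp_apply, IsIso.hom_inv_id, map_id_apply, map_id_apply] at this
  · rintro ⟨⟨x', x''⟩, hx⟩
    refine ⟨F.map (inv p') x', ?_⟩
    apply FibProd.ext
    · change F.map p' (F.map (inv p') x') = x'
      rw [← map_comp_apply, IsIso.inv_hom_id, map_id_apply]
    · change F.map p'' (F.map (inv p') x') = x''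
      have e : inv p' ≫ p'' = f' ≫ inv f'' := by
        rw [IsIso.inv_comp_eq, ← Category.assoc, IsIso.eq_comp_inv, h.w]
      rw [← map_comp_apply, e, map_comp_apply]
      have hx' : F.map f' x' = F.map f'' x'' := hx
      rw [hx', ← map_comp_apply, IsIso.hom_inv_id, map_id_apply]

/-- Surjectivity of the comparison maps passes to composites. -/
theorem cmp_surjective_comp {B A A' C B0 : Art Λ k} {p' : B ⟶ A'} {p'' : B ⟶ C} {f' : A' ⟶ A}
    {p : C ⟶ B0} {q : B0 ⟶ A} (h : IsFibreProd p' p'' f' (p ≫ q)) (hp : Function.Surjective p)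
    (h1 : Function.Surjective (cmp F (mid_isFibreProd h hp)))
    (h2 : Function.Surjective (cmp F (top_isFibreProd h))) :
    Function.Surjective (cmp F h) := by
  rintro ⟨⟨x', x''⟩, hx⟩
  have hx' : F.map f' x' = F.map (p ≫ q) x'' := hx
  obtain ⟨z1, hz1⟩ := h1 ⟨(x', F.map p x''), by
    change F.map f' x' = F.map q (F.map p x'')
    rw [hx', map_comp_apply]⟩
  have hz1a : F.map (midFst p' p'' p) z1 = x' := congrArg (fun t => t.1.1) hz1
  have hz1b : F.map (midSnd p' p'' p) z1 = F.map p x'' := congrArg (fun t => t.1.2) hz1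
  obtain ⟨z, hz⟩ := h2 ⟨(z1, x''), hz1b⟩
  have hza : F.map (midMk p' p'' p) z = z1 := congrArg (fun t => t.1.1) hz
  have hzb : F.map p'' z = x'' := congrArg (fun t => t.1.2) hz
  refine ⟨z, ?_⟩
  apply FibProd.ext
  · change F.map p' z = x'
    rw [← midMk_midFst p' p'' p, map_comp_apply, hza, hz1a]
  · exact hzb

/-- Injectivity of the comparison maps passes to composites. -/
theorem cmp_injective_comp {B A A' C B0 : Art Λ k} {p' : B ⟶ A'} {p'' : B ⟶ C} {f' : A' ⟶ A}
    {p : C ⟶ B0} {q : B0 ⟶ A} (h : IsFibreProd p' p'' f' (p ≫ q)) (hp : Function.Surjective p)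
    (h1 : Function.Injective (cmp F (mid_isFibreProd h hp)))
    (h2 : Function.Injective (cmp F (top_isFibreProd h))) :
    Function.Injective (cmp F h) := by
  intro z z' hz
  have hza : F.map p' z = F.map p' z' := congrArg (fun t => t.1.1) hz
  have hzb : F.map p'' z = F.map p'' z' := congrArg (fun t => t.1.2) hz
  apply h2
  apply FibProd.ext
  · change F.map (midMk p' p'' p) z = F.map (midMk p' p'' p) z'
    apply h1
    apply FibProd.ext
    · change F.map (midFst p' p'' p) (F.map (midMk p' p'' p) z) =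
        F.map (midFst p' p'' p) (F.map (midMk p' p'' p) z')
      rw [← map_comp_apply, ← map_comp_apply, midMk_midFst]
      exact hza
    · change F.map (midSnd p' p'' p) (F.map (midMk p' p'' p) z) =
        F.map (midSnd p' p'' p) (F.map (midMk p' p'' p) z')
      rw [← map_comp_apply, ← map_comp_apply, midMk_midSnd, map_comp_apply, map_comp_apply, hzb]
  · exact hzb

end Cmp

end Groth.Agent.Lib.Helper1.ArtFunFib
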