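import Groth.Agent.Lib.Helper1.ArtFunCRing

set_option autoImplicit false
universe u v

open CategoryTheory

namespace Groth.Agent.Lib.Helper1.ArtFunFormal

open ArtFun ArtFun.Art Groth.Agent.Lib.Helper1.ArtFunBasic Groth.Agent.Lib.Helper1.ArtFunCRing
  Groth.Agent.Lib.Helper1.ArtFunFib

variable {Λ : Type u} {k : Type u} [CommRing Λ] [Field k] [Algebra Λ k]
variable [IsNoetherianRing Λ] [Module.Finite Λ k]
variable (R : CRing Λ k) {F : Art Λ k ⥤ Type v}

/-- The transition map `R/m^(m+1) → R/m^(n+1)` for `n ≤ m`. -/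
noncomputable def truncLE {n m : ℕ} (h : n ≤ m) : R.trunc m ⟶ R.trunc n :=
  ⟨Ideal.Quotient.factorₐ Λ (Ideal.pow_le_pow_right (Nat.succ_le_succ h) :
      CRing.mpow R m ≤ CRing.mpow R n), by
    apply AlgHom.ext
    intro x
    obtain ⟨a, rfl⟩ := Ideal.Quotient.mk_surjective x
    rfl⟩

lemma truncLE_truncHom {n m : ℕ} (h : n ≤ m) :
    HomSet.map (truncLE R h) (R.truncHom m) = R.truncHom n :=
  Subtype.ext (AlgHom.ext fun _ => rfl)

lemma truncLE_refl (n : ℕ) : truncLE R (le_refl n) = 𝟙 (R.trunc n) := by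
  apply trunc_hom_ext R
  rw [truncLE_truncHom]
  exact Subtype.ext (AlgHom.ext fun _ => rfl)

lemma truncLE_succ {n m : ℕ} (h : n ≤ m) :
    truncLE R (Nat.le_succ_of_le h) = R.truncMap m ≫ truncLE R h := by
  apply trunc_hom_ext R
  exact Subtype.ext (AlgHom.ext fun _ => rfl)

lemma formalElt_compat_le (u : FormalElt F R) {n m : ℕ} (h : n ≤ m) :
    F.map (truncLE R h) (u.elt m) = u.elt n := by
  induction m, h using Nat.le_induction with
  | base => rw [truncLE_refl, map_id_apply]
  | succ m hnm ih => rw [truncLE_succ R hnm, map_comp_apply, u.compat, ih]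

lemma formalElt_wd (u : FormalElt F R) {A : Art Λ k} {n m : ℕ} (θ : R.trunc n ⟶ A)
    (θ' : R.trunc m ⟶ A)
    (h : HomSet.map θ (R.truncHom n) = HomSet.map θ' (R.truncHom m)) :
    F.map θ (u.elt n) = F.map θ' (u.elt m) := by
  have key : ∀ {n m : ℕ} (hnm : n ≤ m) (θ : R.trunc n ⟶ A) (θ' : R.trunc m ⟶ A),
      HomSet.map θ (R.truncHom n) = HomSet.map θ' (R.truncHom m) →
      F.map θ (u.elt n) = F.map θ' (u.elt m) := by
    intro n m hnm θ θ' h
    have : θ' = truncLE R hnm ≫ θ := by
      apply trunc_hom_ext R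
      rw [← h]
      exact Subtype.ext (AlgHom.ext fun _ => rfl)
    rw [this, map_comp_apply, formalElt_compat_le]
  rcases le_total n m with hnm | hmn
  · exact key hnm θ θ' h
  · exact (key hmn θ' θ h.symm).symm

/-- The family attached to a formal element. -/
noncomputable def familyOfFormalElt (u : FormalElt F R) : Family R.carrier R.res F where
  app A φ := F.map (exists_factor_trunc' R φ).choose_spec.choose
    (u.elt (exists_factor_trunc' R φ).choose)
  natural {A B} f φ := by
    have h1 := (exists_factor_trunc' R φ).choose_spec.choose_spec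
    have h2 := (exists_factor_trunc' R (HomSet.map f φ)).choose_spec.choose_spec
    rw [← map_comp_apply]
    apply formalElt_wd R u
    rw [h2]
    conv_lhs => rw [← h1]
    exact Subtype.ext (AlgHom.ext fun _ => rfl)

lemma familyOfFormalElt_toFormalElt (u : FormalElt F R) :
    (familyOfFormalElt R u).toFormalElt = u := by
  apply FormalElt.ext'
  intro n
  have h2 := (exists_factor_trunc' R (R.truncHom n)).choose_spec.choose_spec
  change F.map _ (u.elt _) = u.elt n
  rw [← map_id_apply (F := F) (u.elt n)]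
  apply formalElt_wd R u
  rw [h2]
  exact Subtype.ext (AlgHom.ext fun _ => rfl)

theorem bijective_toFormalElt :
    Function.Bijective (fun ξ : Family R.carrier R.res F => ξ.toFormalElt) := by
  constructor
  · intro ξ₁ ξ₂ h
    have happ : ξ₁.app = ξ₂.app := by
      funext A φ
      exact family_app_eq_of_toFormalElt_eq R ξ₁ ξ₂ h A φ
    cases ξ₁; cases ξ₂
    cases happ
    rfl
  · intro u
    exact ⟨familyOfFormalElt R u, familyOfFormalElt_toFormalElt R u⟩

end Groth.Agent.Lib.Helper1.ArtFunFormal
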