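import Groth.Agent.Lib.Helper1.ArtFunProrepUnique
import Groth.Agent.Lib.Helper1.ArtFunTangent

set_option autoImplicit false
universe u v

open CategoryTheory

namespace Groth.Agent.Lib.Helper1.ArtFunFormalLift

open ArtFun ArtFun.Art Groth.Agent.Lib.Helper1.ArtFunBasic Groth.Agent.Lib.Helper1.ArtFunCRing
  Groth.Agent.Lib.Helper1.ArtFunFib Groth.Agent.Lib.Helper1.ArtFunPullback
  Groth.Agent.Lib.Helper1.ArtFunTangent Groth.Agent.Lib.Helper1.ArtFunProrepUnique

variable {Λ : Type u} {k : Type u} [CommRing Λ] [Field k] [Algebra Λ k]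
variable [IsNoetherianRing Λ] [Module.Finite Λ k]

section Surj

variable {A' A : CRing Λ k} (g : A'.carrier →ₐ[Λ] A.carrier) (hg : A.res.comp g = A'.res)

omit [IsNoetherianRing Λ] [Module.Finite Λ k] in
lemma truncMapOfHom_mk (n : ℕ) (a : A'.carrier) :
    (CRing.truncMapOfHom g hg n).toAlgHom (Ideal.Quotient.mk (CRing.mpow A' n) a) =
      Ideal.Quotient.mk (CRing.mpow A n) (g a) := rfl

omit [IsNoetherianRing Λ] [Module.Finite Λ k] in
include hg in
/-- A surjective morphism of coefficient rings maps `m'^j` onto `m^j`. -/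
lemma map_mpow_eq (hgs : Function.Surjective g) (n : ℕ) :
    Ideal.map g (CRing.mpow A' n) = CRing.mpow A n := by
  have h1 : Ideal.map g (IsLocalRing.maximalIdeal A'.carrier) = IsLocalRing.maximalIdeal A.carrier := by
    apply le_antisymm
    · rw [Ideal.map_le_iff_le_comap]
      exact CRing.maximalIdeal_le_comap g hg
    · intro a ha
      obtain ⟨a', rfl⟩ := hgs a
      apply Ideal.mem_map_of_mem
      rw [CRing.mem_maximalIdeal_iff, ← CRing.res_comp_apply g hg, ← CRing.mem_maximalIdeal_iff]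
      exact ha
  rw [CRing.mpow, Ideal.map_pow, h1]

/-- The canonical map `A'/m'^(n+2) → A'/m'^(n+1) ×_{A/m^(n+1)} A/m^(n+2)` is surjective. -/
lemma exists_trunc_lift (hgs : Function.Surjective g) (n : ℕ) (a' : A'.trunc n)
    (a : A.trunc (n + 1))
    (h : (CRing.truncMapOfHom g hg n).toAlgHom a' = (A.truncMap n).toAlgHom a) :
    ∃ x : A'.trunc (n + 1), (A'.truncMap n).toAlgHom x = a' ∧
      (CRing.truncMapOfHom g hg (n + 1)).toAlgHom x = a := by
  obtain ⟨α', rfl⟩ := Ideal.Quotient.mk_surjective a'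
  obtain ⟨α, rfl⟩ := Ideal.Quotient.mk_surjective a
  have h1 : g α' - α ∈ CRing.mpow A n := by
    rw [← Ideal.Quotient.eq]
    exact h
  rw [← map_mpow_eq g hg hgs n, Ideal.mem_map_iff_of_surjective g hgs] at h1
  obtain ⟨β, hβ, hβ'⟩ := h1
  refine ⟨Ideal.Quotient.mk _ (α' - β), ?_, ?_⟩
  · change Ideal.Quotient.mk (CRing.mpow A' n) (α' - β) = Ideal.Quotient.mk (CRing.mpow A' n) α'
    rw [Ideal.Quotient.eq]
    simpa using (CRing.mpow A' n).neg_mem hβ
  · change Ideal.Quotient.mk (CRing.mpow A (n + 1)) (g (α' - β)) =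
      Ideal.Quotient.mk (CRing.mpow A (n + 1)) α
    rw [map_sub, hβ']
    congr 1
    ring

end Surj

section Main

variable {F : Art Λ k ⥤ Type v}

omit [IsNoetherianRing Λ] [Module.Finite Λ k] in
lemma trunc_zero_bijective {A' A : CRing Λ k} (g : A'.carrier →ₐ[Λ] A.carrier)
    (hg : A.res.comp g = A'.res) : Function.Bijective (CRing.truncMapOfHom g hg 0) := by
  have hinj : ∀ (X : CRing Λ k), Function.Injective (X.trunc 0).res := by
    intro X
    rw [injective_iff_map_eq_zero]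
    intro x hx
    obtain ⟨a, rfl⟩ := Ideal.Quotient.mk_surjective x
    have ha : a ∈ IsLocalRing.maximalIdeal X.carrier := (CRing.mem_maximalIdeal_iff X a).2 hx
    change Ideal.Quotient.mk (CRing.mpow X 0) a = 0
    rw [Ideal.Quotient.eq_zero_iff_mem, CRing.mpow, zero_add, pow_one]
    exact ha
  constructor
  · intro x y hxy
    apply hinj A'
    rw [← Art.res_app (CRing.truncMapOfHom g hg 0) x, ← Art.res_app (CRing.truncMapOfHom g hg 0) y,
      hxy]
  · intro y
    obtain ⟨x, hx⟩ := (A'.trunc 0).res_surjective ((A.trunc 0).res y)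
    refine ⟨x, hinj A ?_⟩
    rw [Art.res_app, hx]

/-- Versality along surjections of complete rings. -/
theorem exists_lift_along (hRS : ∀ ⦃B A A₁ A₂ : Art Λ k⦄ (p₁ : B ⟶ A₁) (p₂ : B ⟶ A₂) (f₁ : A₁ ⟶ A)
      (f₂ : A₂ ⟶ A) (h : IsFibreProd p₁ p₂ f₁ f₂), Function.Surjective f₂ →
      Function.Bijective (cmp F h))
    (R : CRing Λ k) (ξ : Family R.carrier R.res F) (hξ : IsVersal ξ)
    (A' A : CRing Λ k) (g : A'.carrier →ₐ[Λ] A.carrier) (hg : A.res.comp g = A'.res)
    (hgs : Function.Surjective g) (η' : FormalElt F A')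
    (φ : R.carrier →ₐ[Λ] A.carrier) (hφ : A.res.comp φ = R.res)
    (hsq : (ξ.along φ hφ).toFormalElt = η'.push g hg) :
    ∃ (ψ : R.carrier →ₐ[Λ] A'.carrier) (hψ : A'.res.comp ψ = R.res),
      g.comp ψ = φ ∧ (ξ.along ψ hψ).toFormalElt = η' := by
  classical
  -- the truncations of φ
  let φn : ∀ n, HomSet R.carrier R.res (A.trunc n) := fun n =>
    ⟨(A.truncHom n).1.comp φ, by rw [← AlgHom.comp_assoc, (A.truncHom n).2, hφ]⟩
  have hφn : ∀ n, ξ.app _ (φn n) = F.map (CRing.truncMapOfHom g hg n) (η'.elt n) := fun n =>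
    congrArg (fun w : FormalElt F A => w.elt n) hsq
  have hφcompat : ∀ n, HomSet.map (A.truncMap n) (φn (n + 1)) = φn n := fun n =>
    Subtype.ext (AlgHom.ext fun _ => rfl)
  let P : ∀ n, HomSet R.carrier R.res (A'.trunc n) → Prop := fun n ψ =>
    HomSet.map (CRing.truncMapOfHom g hg n) ψ = φn n ∧ ξ.app _ ψ = η'.elt n
  -- base
  have hbase : ∃ ψ, P 0 ψ := by
    haveI := isIso_of_bijective _ (trunc_zero_bijective g hg)
    refine ⟨HomSet.map (inv (CRing.truncMapOfHom g hg 0)) (φn 0), ?_, ?_⟩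
    · apply Subtype.ext
      apply AlgHom.ext
      intro r
      have := congrArg (fun m : A.trunc 0 ⟶ A.trunc 0 => m.toAlgHom ((φn 0).1 r))
        (IsIso.inv_hom_id (CRing.truncMapOfHom g hg 0))
      exact this
    · rw [ξ.natural, hφn 0, ← map_comp_apply, IsIso.hom_inv_id, map_id_apply]
  -- step
  have hstep : ∀ n ψ, P n ψ → ∃ ψ', P (n + 1) ψ' ∧ HomSet.map (A'.truncMap n) ψ' = ψ := by
    intro n ψ ⟨hb, hc⟩
    obtain ⟨B, p₁, p₂, hB⟩ := exists_isFibreProd_of_surjective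
      (CRing.truncMapOfHom g hg n) (A.truncMap n) (truncMap_surjective A n)
    obtain ⟨c, hc1, hc2⟩ := exists_lift hB (A'.truncMap n) (CRing.truncMapOfHom g hg (n + 1))
      (CRing.truncMapOfHom_truncMap g hg n).symm
    have hcs : Function.Surjective c := by
      intro b
      obtain ⟨x, hx1, hx2⟩ := exists_trunc_lift g hg hgs n (p₁ b) (p₂ b) (hB.w_apply b)
      refine ⟨x, hB.inj _ _ ?_ ?_⟩
      · have := congrArg (fun m : A'.trunc (n + 1) ⟶ A'.trunc n => m.toAlgHom x) hc1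
        exact this.trans hx1
      · have := congrArg (fun m : A'.trunc (n + 1) ⟶ A.trunc (n + 1) => m.toAlgHom x) hc2
        exact this.trans hx2
    obtain ⟨v, hv1, hv2⟩ := Groth.Agent.Lib.Helper5.ArtFunLift.exists_homSet_lift hB ψ (φn (n + 1))
      (hb.trans (hφcompat n).symm)
    have hy : F.map c (η'.elt (n + 1)) = ξ.app B v := by
      apply (hRS p₁ p₂ _ _ hB (truncMap_surjective A n)).1
      apply FibProd.ext
      · change F.map p₁ (F.map c (η'.elt (n + 1))) = F.map p₁ (ξ.app B v)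
        rw [← map_comp_apply, hc1, η'.compat, ← ξ.natural, hv1, hc]
      · change F.map p₂ (F.map c (η'.elt (n + 1))) = F.map p₂ (ξ.app B v)
        rw [← map_comp_apply, hc2, ← ξ.natural, hv2, hφn]
    obtain ⟨ψ', hψ'1, hψ'2⟩ := hξ c hcs v (η'.elt (n + 1)) hy
    have hmapcomp : ∀ {X Y Z : Art Λ k} (a : X ⟶ Y) (b : Y ⟶ Z) (w : HomSet R.carrier R.res X),
        HomSet.map (a ≫ b) w = HomSet.map b (HomSet.map a w) := fun _ _ _ =>
      Subtype.ext (AlgHom.ext fun _ => rfl)
    refine ⟨ψ', ⟨?_, hψ'2⟩, ?_⟩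
    · rw [← hc2, hmapcomp, hψ'1, hv2]
    · rw [← hc1, hmapcomp, hψ'1, hv1]
  let seq : ∀ n : ℕ, {ψ : HomSet R.carrier R.res (A'.trunc n) // P n ψ} := fun n =>
    Nat.rec (motive := fun n => {ψ : HomSet R.carrier R.res (A'.trunc n) // P n ψ})
      ⟨hbase.choose, hbase.choose_spec⟩
      (fun n ih => ⟨(hstep n ih.1 ih.2).choose, (hstep n ih.1 ih.2).choose_spec.1⟩) n
  have hseq : ∀ n, HomSet.map (A'.truncMap n) (seq (n + 1)).1 = (seq n).1 := fun n =>
    (hstep n (seq n).1 (seq n).2).choose_spec.2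
  obtain ⟨ψ, hψ, hψn⟩ := exists_lift_of_compat A' (fun n => (seq n).1) hseq
  refine ⟨ψ, hψ, ?_, ?_⟩
  · apply algHom_ext_trunc A
    intro n
    have h1 := congrArg Subtype.val (seq n).2.1
    change (CRing.truncMapOfHom g hg n).toAlgHom.comp (seq n).1.1 = (A.truncHom n).1.comp φ at h1
    rw [← h1, ← hψn n]
    exact AlgHom.ext fun _ => rfl
  · apply FormalElt.ext'
    intro n
    change ξ.app _ ⟨(A'.truncHom n).1.comp ψ, _⟩ = η'.elt n
    rw [← (seq n).2.2]
    congr 1
    exact Subtype.ext (hψn n)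

end Main

end Groth.Agent.Lib.Helper1.ArtFunFormalLift
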