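import Groth.Agent.Lib.Helper1.ArtFunAction

set_option autoImplicit false
universe u v

open CategoryTheory

namespace Groth.Agent.Lib.Helper1.ArtFunFree

open ArtFun ArtFun.Art Groth.Agent.Lib.Helper1.ArtFunBasic Groth.Agent.Lib.Helper1.ArtFunFib
  Groth.Agent.Lib.Helper1.ArtFunPullback Groth.Agent.Lib.Helper1.ArtFunSmall
  Groth.Agent.Lib.Helper1.ArtFunTangent Groth.Agent.Lib.Helper1.ArtFunCond
  Groth.Agent.Lib.Helper1.ArtFunAction

variable {Λ : Type u} {k : Type u} [CommRing Λ] [Field k] [Algebra Λ k]
variable [IsNoetherianRing Λ] [Module.Finite Λ k]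
variable {F G : Art Λ k ⥤ Type v}

/-- Freeness: if `q : G ⟶ F` is injective on tangent spaces, two elements of `G(B)` with the same
image in `G(A)` (along a small extension) and the same image in `F(B)` are equal. -/
theorem eq_of_map_eq_of_app_eq (hG : RS G) (hF : RS F) (q : G ⟶ F)
    (hq : Function.Injective (TangentSpace.map q)) {B A : Art Λ k} (μ : B ⟶ A) (hμ : IsSmallExt μ)
    (g₁ g₂ : G.obj B) (h1 : G.map μ g₁ = G.map μ g₂) (h2 : q.app B g₁ = q.app B g₂) : g₁ = g₂ := by
  obtain ⟨d⟩ := nonempty_smallData hμ
  have sq1 := tObj_isFibreProd B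
  have sq2 := d.sq
  obtain ⟨w, hw⟩ := (hG _ _ _ _ sq2 hμ.1).2 ⟨(g₁, g₂), h1⟩
  have hw1 : G.map (tFst B) w = g₁ := congrArg (fun t => t.1.1) hw
  have hw2 : G.map d.act w = g₂ := congrArg (fun t => t.1.2) hw
  -- q w = q (G tSec g₁)
  have hqw : q.app (tObj B) w = q.app (tObj B) (G.map (tSec B) g₁) := by
    apply (hF _ _ _ _ sq2 hμ.1).1
    apply FibProd.ext
    · change F.map (tFst B) (q.app _ w) = F.map (tFst B) (q.app _ (G.map (tSec B) g₁))
      rw [← naturality_apply, ← naturality_apply, hw1, ← map_comp_apply, tSec_tFst, map_id_apply]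
    · change F.map d.act (q.app _ w) = F.map d.act (q.app _ (G.map (tSec B) g₁))
      rw [← naturality_apply, ← naturality_apply, hw2, ← map_comp_apply, d.sec_act, map_id_apply,
        h2]
  have hsnd : G.map (tSnd B) w = G.map (tSnd B) (G.map (tSec B) g₁) := by
    apply hq
    change q.app _ (G.map (tSnd B) w) = q.app _ (G.map (tSnd B) (G.map (tSec B) g₁))
    rw [naturality_apply, naturality_apply, hqw]
  have hweq : w = G.map (tSec B) g₁ := by
    apply (hG _ _ _ _ sq1 (dual Λ k).res_surjective).1
    apply FibProd.ext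
    · change G.map (tFst B) w = G.map (tFst B) (G.map (tSec B) g₁)
      rw [hw1, ← map_comp_apply, tSec_tFst, map_id_apply]
    · exact hsnd
  rw [← hw2, hweq, ← map_comp_apply, d.sec_act, map_id_apply]

/-- A smooth morphism of deformation functors which is bijective on tangent spaces is bijective. -/
theorem bijective_app_of_isSmooth_of_tangent_bijective (hF0 : H0 F) (hF : RS F) (hG0 : H0 G)
    (hG : RS G) (φ : F ⟶ G) (hφ : IsSmooth φ) (hd : Function.Bijective (TangentSpace.map φ))
    (A : Art Λ k) : Function.Bijective (φ.app A) := by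
  have hsub := hF0.2
  have hsubG := hG0.2
  constructor
  · have key : Function.Injective (φ.app (base Λ k)) → Function.Injective (φ.app A) := by
      refine surjective_induction_smallExt
        (P := fun A B μ => Function.Injective (φ.app A) → Function.Injective (φ.app B))
        ?_ ?_ ?_ (toBase A) A.res_surjective
      · intro A B e he hA x₁ x₂ hx
        have := he
        have h1 : F.map e x₁ = F.map e x₂ := by
          apply hA
          rw [naturality_apply, naturality_apply, hx]
        have := congrArg (F.map (inv e)) h1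
        rwa [← map_comp_apply, ← map_comp_apply, IsIso.hom_inv_id, map_id_apply,
          map_id_apply] at this
      · intro A B μ hμ hA x₁ x₂ hx
        have h1 : F.map μ x₁ = F.map μ x₂ := by
          apply hA
          rw [naturality_apply, naturality_apply, hx]
        exact eq_of_map_eq_of_app_eq hF hG φ hd.1 μ hμ x₁ x₂ h1 hx
      · intro A B C p q hp hq hA
        exact hp (hq hA)
    exact key (fun x y _ => Subsingleton.elim x y)
  · apply surjective_app_of_isSmooth φ hφ
    intro y
    obtain ⟨x0⟩ := hF0.1
    exact ⟨x0, Subsingleton.elim _ _⟩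

end Groth.Agent.Lib.Helper1.ArtFunFree
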