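import Mathlib.RingTheory.MvPowerSeries.Basic
import Mathlib.RingTheory.MvPowerSeries.Inverse
import Mathlib.RingTheory.MvPowerSeries.Equiv
import Mathlib.RingTheory.AdicCompletion.Basic
import Mathlib.Data.Finsupp.Weight

set_option autoImplicit false
universe u

namespace Groth.Agent.Lib.Helper1.PSDecomp

open MvPowerSeries Finsupp

variable {Λ : Type u} [CommRing Λ] {r : ℕ}

/-- The part of `f` consisting of monomials whose least variable is `X i`, divided by `X i`. -/
noncomputable def part (i : Fin r) (f : MvPowerSeries (Fin r) Λ) : MvPowerSeries (Fin r) Λ :=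
  fun e => if (e + single i 1).support.min = (i : WithTop (Fin r)) then coeff (e + single i 1) f else 0

lemma coeff_part (i : Fin r) (f : MvPowerSeries (Fin r) Λ) (e : Fin r →₀ ℕ) :
    coeff e (part i f) =
      if (e + single i 1).support.min = (i : WithTop (Fin r)) then coeff (e + single i 1) f else 0 :=
  rfl

/-- Every power series is its constant term plus a combination of the variables. -/
theorem decomp (f : MvPowerSeries (Fin r) Λ) :
    f = C (coeff 0 f) + ∑ i : Fin r, X i * part i f := by
  classical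
  ext d
  rw [map_add, map_sum]
  have hterm : ∀ i : Fin r, coeff d (X i * part i f) =
      if d.support.min = (i : WithTop (Fin r)) then coeff d f else 0 := by
    intro i
    rw [X_def, coeff_monomial_mul, one_mul]
    by_cases hle : single i 1 ≤ d
    · rw [if_pos hle, coeff_part, tsub_add_cancel_of_le hle]
    · rw [if_neg hle, if_neg]
      intro hmin
      apply hle
      have hmem : i ∈ d.support := Finset.mem_of_min hmin
      rw [Finsupp.mem_support_iff] at hmem
      intro j
      by_cases hji : j = i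
      · subst hji
        rw [Finsupp.single_eq_same]
        exact Nat.one_le_iff_ne_zero.2 hmem
      · rw [Finsupp.single_eq_of_ne hji]
        exact Nat.zero_le _
  simp_rw [hterm]
  by_cases hd : d = 0
  · subst hd
    rw [coeff_zero_C]
    have : ∀ i : Fin r, (if (0 : Fin r →₀ ℕ).support.min = (i : WithTop (Fin r)) then
        coeff (0 : Fin r →₀ ℕ) f else 0) = 0 := by
      intro i
      rw [if_neg]
      rw [Finsupp.support_zero, Finset.min_empty]
      exact WithTop.top_ne_coe
    simp_rw [this]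
    rw [Finset.sum_const_zero, add_zero]
  · rw [coeff_C, if_neg hd, zero_add]
    obtain ⟨i₀, hi₀⟩ := Finset.min_of_nonempty (Finsupp.support_nonempty_iff.2 hd)
    rw [Finset.sum_eq_single i₀]
    · rw [if_pos hi₀]
    · intro j _ hj
      rw [if_neg]
      rw [hi₀]
      intro h
      exact hj (WithTop.coe_injective h).symm
    · intro h
      exact absurd (Finset.mem_univ _) h

section Filtration

variable [IsLocalRing Λ]

open IsLocalRing

/-- The weight filtration: coefficients of degree `j` lie in `m^(N - j)`. -/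
def W (Λ : Type u) [CommRing Λ] [IsLocalRing Λ] (r N : ℕ) : Ideal (MvPowerSeries (Fin r) Λ) where
  carrier := {f | ∀ d : Fin r →₀ ℕ, coeff d f ∈ maximalIdeal Λ ^ (N - d.degree)}
  add_mem' := by
    intro f g hf hg d
    rw [map_add]
    exact Ideal.add_mem _ (hf d) (hg d)
  zero_mem' := by
    intro d
    rw [map_zero]
    exact Ideal.zero_mem _
  smul_mem' := by
    classical
    intro g f hf d
    rw [smul_eq_mul, coeff_mul]
    apply Ideal.sum_mem
    rintro ⟨a, b⟩ hab
    rw [Finset.mem_antidiagonal] at hab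
    apply Ideal.mul_mem_left
    have hdeg : b.degree ≤ d.degree := by
      rw [← hab, map_add]
      exact Nat.le_add_left _ _
    exact Ideal.pow_le_pow_right (Nat.sub_le_sub_left hdeg N) (hf b)

lemma mem_W {N : ℕ} {f : MvPowerSeries (Fin r) Λ} :
    f ∈ W Λ r N ↔ ∀ d : Fin r →₀ ℕ, coeff d f ∈ maximalIdeal Λ ^ (N - d.degree) := Iff.rfl

lemma mem_maximalIdeal_iff (f : MvPowerSeries (Fin r) Λ) :
    f ∈ maximalIdeal (MvPowerSeries (Fin r) Λ) ↔ constantCoeff f ∈ maximalIdeal Λ := by
  rw [mem_maximalIdeal, mem_maximalIdeal, mem_nonunits_iff, mem_nonunits_iff,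
    MvPowerSeries.isUnit_iff_constantCoeff]

lemma W_zero : W Λ r 0 = ⊤ := by
  rw [eq_top_iff]
  intro f _ d
  rw [Nat.zero_sub, pow_zero, Ideal.one_eq_top]
  exact Submodule.mem_top

/-- `n · W_N ⊆ W_{N+1}`. -/
lemma maximalIdeal_mul_W_le (N : ℕ) :
    maximalIdeal (MvPowerSeries (Fin r) Λ) * W Λ r N ≤ W Λ r (N + 1) := by
  classical
  rw [Ideal.mul_le]
  intro g hg f hf d
  rw [mem_maximalIdeal_iff] at hg
  rw [coeff_mul]
  apply Ideal.sum_mem
  rintro ⟨a, b⟩ hab
  rw [Finset.mem_antidiagonal] at hab
  have hdeg : a.degree + b.degree = d.degree := by rw [← hab, map_add]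
  by_cases ha : a = 0
  · subst ha
    rw [zero_add] at hab
    subst hab
    by_cases hle : b.degree ≤ N
    · have : N + 1 - b.degree = (N - b.degree) + 1 := by omega
      rw [this, pow_succ']
      exact Ideal.mul_mem_mul hg (hf b)
    · have : N + 1 - b.degree = 0 := by omega
      rw [this, pow_zero, Ideal.one_eq_top]
      exact Submodule.mem_top
  · have ha' : 1 ≤ a.degree := by
      rw [Nat.one_le_iff_ne_zero]
      intro h0
      exact ha ((Finsupp.degree_eq_zero_iff a).1 h0)
    apply Ideal.mul_mem_left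
    refine Ideal.pow_le_pow_right ?_ (hf b)
    omega

lemma pow_maximalIdeal_le_W (N : ℕ) : maximalIdeal (MvPowerSeries (Fin r) Λ) ^ N ≤ W Λ r N := by
  induction N with
  | zero => rw [W_zero]; exact le_top
  | succ N ih =>
    rw [pow_succ']
    exact (Ideal.mul_mono_right ih).trans (maximalIdeal_mul_W_le N)

lemma part_mem_W {N : ℕ} {f : MvPowerSeries (Fin r) Λ} (hf : f ∈ W Λ r (N + 1)) (i : Fin r) :
    part i f ∈ W Λ r N := by
  intro d
  rw [coeff_part]
  split_ifs
  · have := hf (d + single i 1)
    rw [map_add, Finsupp.degree_single] at this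
    have e : N + 1 - (d.degree + 1) = N - d.degree := by omega
    rwa [e] at this
  · exact Ideal.zero_mem _

lemma C_mem_W {N : ℕ} {b : Λ} (hb : b ∈ maximalIdeal Λ ^ N) :
    (C b : MvPowerSeries (Fin r) Λ) ∈ W Λ r N := by
  classical
  intro d
  rw [coeff_C]
  split_ifs with h
  · subst h
    rw [map_zero, Nat.sub_zero]
    exact hb
  · exact Ideal.zero_mem _

lemma X_mem_maximalIdeal (i : Fin r) :
    (X i : MvPowerSeries (Fin r) Λ) ∈ maximalIdeal (MvPowerSeries (Fin r) Λ) := by
  rw [mem_maximalIdeal_iff]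
  have : constantCoeff (X i : MvPowerSeries (Fin r) Λ) = 0 := constantCoeff_X i
  rw [this]
  exact Ideal.zero_mem _

lemma C_mem_maximalIdeal {a : Λ} (ha : a ∈ maximalIdeal Λ) :
    (C a : MvPowerSeries (Fin r) Λ) ∈ maximalIdeal (MvPowerSeries (Fin r) Λ) := by
  rw [mem_maximalIdeal_iff]
  have : constantCoeff (C a : MvPowerSeries (Fin r) Λ) = a := constantCoeff_C a
  rw [this]
  exact ha

lemma W_succ_le (N : ℕ) :
    W Λ r (N + 1) ≤ maximalIdeal (MvPowerSeries (Fin r) Λ) * W Λ r N := by
  intro f hf
  rw [decomp f]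
  apply Ideal.add_mem
  · have h0 : coeff (0 : Fin r →₀ ℕ) f ∈ maximalIdeal Λ * maximalIdeal Λ ^ N := by
      have := hf 0
      rwa [map_zero, Nat.sub_zero, pow_succ'] at this
    have hmap : Ideal.map (C : Λ →+* MvPowerSeries (Fin r) Λ) (maximalIdeal Λ * maximalIdeal Λ ^ N) ≤
        maximalIdeal (MvPowerSeries (Fin r) Λ) * W Λ r N := by
      rw [Ideal.map_mul]
      apply Ideal.mul_mono
      · rw [Ideal.map_le_iff_le_comap]
        intro a ha
        exact C_mem_maximalIdeal ha
      · rw [Ideal.map_le_iff_le_comap]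
        intro b hb
        exact C_mem_W hb
    exact hmap (Ideal.mem_map_of_mem _ h0)
  · apply Ideal.sum_mem
    intro i _
    exact Ideal.mul_mem_mul (X_mem_maximalIdeal i) (part_mem_W hf i)

theorem W_eq_pow (N : ℕ) : W Λ r N = maximalIdeal (MvPowerSeries (Fin r) Λ) ^ N := by
  apply le_antisymm _ (pow_maximalIdeal_le_W N)
  induction N with
  | zero => rw [pow_zero, Ideal.one_eq_top]; exact le_top
  | succ N ih =>
    rw [pow_succ']
    exact (W_succ_le N).trans (Ideal.mul_mono_right ih)

end Filtration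

section Complete

variable [IsLocalRing Λ]

open IsLocalRing

lemma smodEq_pow_iff {R : Type*} [CommRing R] (I : Ideal R) (a : ℕ) (x y : R) :
    x ≡ y [SMOD (I ^ a • ⊤ : Submodule R R)] ↔ x - y ∈ I ^ a := by
  rw [SModEq.sub_mem, smul_eq_mul, Ideal.mul_top]

theorem isPrecomplete [IsPrecomplete (maximalIdeal Λ) Λ] :
    IsPrecomplete (maximalIdeal (MvPowerSeries (Fin r) Λ)) (MvPowerSeries (Fin r) Λ) := by
  refine ⟨fun f hf => ?_⟩
  have hf' : ∀ {a b : ℕ}, a ≤ b → f a - f b ∈ W Λ r a := by
    intro a b hab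
    rw [W_eq_pow, ← smodEq_pow_iff]
    exact hf hab
  have hcoeff : ∀ d : Fin r →₀ ℕ, ∃ L : Λ, ∀ j : ℕ,
      coeff d (f (j + d.degree)) - L ∈ maximalIdeal Λ ^ j := by
    intro d
    obtain ⟨L, hL⟩ := IsPrecomplete.prec (I := maximalIdeal Λ) (M := Λ) inferInstance
      (f := fun j => coeff d (f (j + d.degree))) (by
        intro a b hab
        rw [smodEq_pow_iff]
        have := hf' (Nat.add_le_add_right hab d.degree) d
        rw [map_sub, Nat.add_sub_cancel] at this
        exact this)
    exact ⟨L, fun j => (smodEq_pow_iff _ _ _ _).1 (hL j)⟩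
  choose L hL using hcoeff
  refine ⟨(fun d => L d : MvPowerSeries (Fin r) Λ), fun a => ?_⟩
  rw [smodEq_pow_iff, ← W_eq_pow]
  intro d
  rw [map_sub]
  by_cases hle : a ≤ d.degree
  · rw [Nat.sub_eq_zero_of_le hle, pow_zero, Ideal.one_eq_top]
    exact Submodule.mem_top
  · have := hL d (a - d.degree)
    rw [Nat.sub_add_cancel (by omega)] at this
    exact this

end Complete

end Groth.Agent.Lib.Helper1.PSDecomp
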