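import Groth.Prelude.Def_ArtFun5
import Groth.Agent.Lib.Helper1.PSDecomp
import Groth.Agent.Lib.Helper1.ArtFunCRing
import Mathlib.RingTheory.MvPowerSeries.Evaluation
import Mathlib.RingTheory.MvPowerSeries.Equiv
import Mathlib.RingTheory.MvPowerSeries.Inverse
import Mathlib.RingTheory.AdicCompletion.Noetherian

set_option autoImplicit false
universe u v
open CategoryTheory ArtFun ArtFun.Art

namespace Groth.Agent.Lib.Helper1.PSRing

open Groth.Agent.Lib.Helper1.PSDecomp Groth.Agent.Lib.Helper1.ArtFunBasic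

variable {Λ : Type u} {k : Type u} [CommRing Λ] [Field k] [Algebra Λ k]

section Eval

variable {r : ℕ} {A : Type u} [CommRing A] [Algebra Λ A]

/-- Evaluation of power series at nilpotent elements. -/
noncomputable def evalNil (b : Fin r → A) (hb : ∀ i, IsNilpotent (b i)) :
    MvPowerSeries (Fin r) Λ →ₐ[Λ] A :=
  letI : UniformSpace Λ := ⊥
  letI : UniformSpace A := ⊥
  haveI : DiscreteTopology Λ := ⟨rfl⟩
  haveI : DiscreteTopology A := ⟨rfl⟩
  haveI : ContinuousSMul Λ A := ⟨continuous_of_discreteTopology⟩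
  MvPowerSeries.aeval (σ := Fin r) (R := Λ) (S := A) (a := b)
    ⟨fun i => (hb i).isTopologicallyNilpotent, by
      rw [Filter.cofinite_eq_bot]; exact Filter.tendsto_bot⟩

lemma evalNil_X (b : Fin r → A) (hb : ∀ i, IsNilpotent (b i)) (i : Fin r) :
    evalNil (Λ := Λ) b hb (MvPowerSeries.X i) = b i := by
  let _ : UniformSpace Λ := ⊥
  let _ : UniformSpace A := ⊥
  have : DiscreteTopology Λ := ⟨rfl⟩
  have : DiscreteTopology A := ⟨rfl⟩
  have : ContinuousSMul Λ A := ⟨continuous_of_discreteTopology⟩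
  have h := MvPowerSeries.aeval_coe (σ := Fin r) (R := Λ) (S := A) (a := b)
    ⟨fun i => (hb i).isTopologicallyNilpotent, by
      rw [Filter.cofinite_eq_bot]; exact Filter.tendsto_bot⟩ (MvPolynomial.X i)
  rw [MvPolynomial.coe_X, MvPolynomial.aeval_X] at h
  exact h

/-- An algebra map out of the power series ring is determined by the (nilpotent) images of the
variables. -/
theorem algHom_ext_X (φ ψ : MvPowerSeries (Fin r) Λ →ₐ[Λ] A)
    (h : ∀ i, φ (MvPowerSeries.X i) = ψ (MvPowerSeries.X i))
    (hn : ∀ i, IsNilpotent (φ (MvPowerSeries.X i))) : φ = ψ := by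
  classical
  let I : Ideal A := Ideal.span (Set.range fun i : Fin r => φ (MvPowerSeries.X i))
  have hI : IsNilpotent I := by
    rw [Ideal.FG.isNilpotent_iff_le_nilradical ⟨Finset.univ.image fun i : Fin r => φ (MvPowerSeries.X i), by
      rw [Finset.coe_image, Finset.coe_univ, Set.image_univ]⟩]
    rw [Ideal.span_le]
    rintro _ ⟨i, rfl⟩
    exact (mem_nilradical).2 (hn i)
  obtain ⟨M, hM⟩ := hI
  have key : ∀ N : ℕ, ∀ f : MvPowerSeries (Fin r) Λ, φ f - ψ f ∈ I ^ N := by
    intro N
    induction N with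
    | zero => intro f; rw [pow_zero, Ideal.one_eq_top]; exact Submodule.mem_top
    | succ N ih =>
      intro f
      have hd := decomp f
      have e : φ f - ψ f = ∑ i : Fin r, φ (MvPowerSeries.X i) * (φ (part i f) - ψ (part i f)) := by
        conv_lhs => rw [hd]
        rw [map_add, map_add, map_sum, map_sum, MvPowerSeries.c_eq_algebraMap, AlgHom.commutes,
          AlgHom.commutes, add_sub_add_left_eq_sub, ← Finset.sum_sub_distrib]
        apply Finset.sum_congr rfl
        intro i _
        rw [map_mul, map_mul, ← h i, mul_sub]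
      rw [e, pow_succ']
      apply Ideal.sum_mem
      intro i _
      exact Ideal.mul_mem_mul (Ideal.subset_span ⟨i, rfl⟩) (ih _)
  apply AlgHom.ext
  intro f
  have := key M f
  rw [hM, Ideal.zero_eq_bot, Ideal.mem_bot, sub_eq_zero] at this
  exact this

end Eval

section Ring

variable [IsLocalRing Λ] [IsNoetherianRing Λ] [IsAdicComplete (IsLocalRing.maximalIdeal Λ) Λ]

/-- The augmentation of the power series ring. -/
noncomputable def psRes (r : ℕ) : MvPowerSeries (Fin r) Λ →ₐ[Λ] k :=
  { ((algebraMap Λ k).comp (MvPowerSeries.constantCoeff (σ := Fin r) (R := Λ))) with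
    commutes' := fun a => by
      change algebraMap Λ k (MvPowerSeries.constantCoeff (algebraMap Λ (MvPowerSeries (Fin r) Λ) a)) = _
      rw [← MvPowerSeries.c_eq_algebraMap, MvPowerSeries.constantCoeff_C] }

omit [IsLocalRing Λ] [IsNoetherianRing Λ] [IsAdicComplete (IsLocalRing.maximalIdeal Λ) Λ] in
lemma psRes_apply (r : ℕ) (f : MvPowerSeries (Fin r) Λ) :
    psRes (k := k) r f = algebraMap Λ k (MvPowerSeries.constantCoeff f) := rfl

omit [IsLocalRing Λ] [IsNoetherianRing Λ] [IsAdicComplete (IsLocalRing.maximalIdeal Λ) Λ] in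
lemma psRes_X (r : ℕ) (i : Fin r) : psRes (Λ := Λ) (k := k) r (MvPowerSeries.X i) = 0 := by
  rw [psRes_apply, MvPowerSeries.constantCoeff_X, map_zero]

variable (hsurj : Function.Surjective (algebraMap Λ k))

/-- The power series ring `Λ[[X₁, …, X_r]]` as a coefficient ring. -/
noncomputable def psRing (r : ℕ) : CRing Λ k where
  carrier := MvPowerSeries (Fin r) Λ
  res := psRes r
  res_surjective := fun c => by
    obtain ⟨a, rfl⟩ := hsurj c
    exact ⟨MvPowerSeries.C a, by rw [psRes_apply, MvPowerSeries.constantCoeff_C]⟩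
  isAdicComplete :=
    { toIsHausdorff := inferInstance
      toIsPrecomplete := isPrecomplete }

/-- `x : Fin r → S` freely generates the coefficient ring `S` (as far as maps to Artinian
objects are concerned). -/
structure IsFreeOn (S : CRing Λ k) {r : ℕ} (x : Fin r → S.carrier) : Prop where
  mem : ∀ i, x i ∈ IsLocalRing.maximalIdeal S.carrier
  exists_hom : ∀ (A : Art Λ k) (b : Fin r → A), (∀ i, b i ∈ IsLocalRing.maximalIdeal A) →
    ∃ w : HomSet S.carrier S.res A, ∀ i, w.1 (x i) = b i
  hom_ext : ∀ (A : Art Λ k) (φ ψ : HomSet S.carrier S.res A),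
    (∀ i, φ.1 (x i) = ψ.1 (x i)) → φ = ψ

omit [IsLocalRing Λ] [IsNoetherianRing Λ] [IsAdicComplete (IsLocalRing.maximalIdeal Λ) Λ] in
lemma isNilpotent_of_mem_maximalIdeal (A : Art Λ k) {a : A}
    (ha : a ∈ IsLocalRing.maximalIdeal A) : IsNilpotent a := by
  obtain ⟨n, hn⟩ := exists_pow_maximalIdeal_eq_bot A
  refine ⟨n, ?_⟩
  have := Ideal.pow_mem_pow ha n
  rwa [hn, Ideal.mem_bot] at this

theorem psRing_isFreeOn (r : ℕ) :
    IsFreeOn (psRing hsurj r) (fun i => (MvPowerSeries.X i : MvPowerSeries (Fin r) Λ)) where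
  mem := fun i => X_mem_maximalIdeal i
  exists_hom := fun A b hb => by
    have hnil : ∀ i, IsNilpotent (b i) := fun i => isNilpotent_of_mem_maximalIdeal A (hb i)
    refine ⟨⟨evalNil b hnil, ?_⟩, fun i => evalNil_X b hnil i⟩
    apply algHom_ext_X
    · intro i
      change A.res (evalNil (Λ := Λ) b hnil (MvPowerSeries.X i)) = psRes r (MvPowerSeries.X i)
      rw [evalNil_X, psRes_X]
      exact (A.mem_maximalIdeal_iff _).1 (hb i)
    · intro i
      change IsNilpotent (A.res (evalNil (Λ := Λ) b hnil (MvPowerSeries.X i)))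
      rw [evalNil_X, (A.mem_maximalIdeal_iff _).1 (hb i)]
      exact IsNilpotent.zero
  hom_ext := fun A φ ψ h => by
    apply Subtype.ext
    apply algHom_ext_X _ _ h
    intro i
    apply isNilpotent_of_mem_maximalIdeal A
    rw [A.mem_maximalIdeal_iff]
    have : A.res (φ.1 (MvPowerSeries.X i)) = psRes r (MvPowerSeries.X i) :=
      congrArg (fun g : MvPowerSeries (Fin r) Λ →ₐ[Λ] k => g (MvPowerSeries.X i)) φ.2
    exact this.trans (psRes_X r i)

end Ring

end Groth.Agent.Lib.Helper1.PSRing
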