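import Groth.Agent.Lib.Helper1.ArtFunHullLimit
import Groth.Agent.Lib.Helper1.PSRing

set_option autoImplicit false
universe u v

open CategoryTheory

namespace Groth.Agent.Lib.Helper1.ArtFunTszeObj

open ArtFun ArtFun.Art Groth.Agent.Lib.Helper1.ArtFunBasic Groth.Agent.Lib.Helper1.ArtFunFib
  Groth.Agent.Lib.Helper1.ArtFunCRing Groth.Agent.Lib.Helper1.ArtFunVersalCrit
  Groth.Agent.Lib.Helper1.ArtFunHullStep Groth.Agent.Lib.Helper1.PSRing

variable (Λ : Type u) (k : Type u) [CommRing Λ] [Field k] [Algebra Λ k]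

/-- The object `k ⊕ k^j` with square-zero maximal ideal. -/
noncomputable def tszeObj (j : ℕ) : Art Λ k :=
  { carrier := TrivSqZeroExt k (Fin j → k)
    isLocalRing := isLocalRing_tsze k (Fin j → k)
    isArtinianRing := isArtinianRing_tsze k (Fin j → k)
    res := TrivSqZeroExt.fstHom Λ k (Fin j → k)
    res_surjective := fun a => ⟨TrivSqZeroExt.inl a, rfl⟩ }

variable {Λ k}

/-- The `i`-th projection `k ⊕ k^j → k[ε]`. -/
noncomputable def prj (j : ℕ) (i : Fin j) : tszeObj Λ k j ⟶ dual Λ k :=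
  ⟨tszeMap (LinearMap.proj i), AlgHom.ext fun _ => rfl⟩

/-- Forgetting the last coordinate. -/
noncomputable def initMap (j : ℕ) : tszeObj Λ k (j + 1) ⟶ tszeObj Λ k j :=
  ⟨tszeMap (LinearMap.funLeft k k Fin.castSucc), AlgHom.ext fun _ => rfl⟩

lemma prj_apply (j : ℕ) (i : Fin j) (x : TrivSqZeroExt k (Fin j → k)) :
    (prj (Λ := Λ) j i).toAlgHom x = ((x.fst, x.snd i) : TrivSqZeroExt k k) := rfl

lemma initMap_apply (j : ℕ) (x : TrivSqZeroExt k (Fin (j + 1) → k)) :
    (initMap (Λ := Λ) j).toAlgHom x =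
      ((x.fst, fun i => x.snd (Fin.castSucc i)) : TrivSqZeroExt k (Fin j → k)) := rfl

lemma initMap_prj (j : ℕ) (i : Fin j) :
    initMap (Λ := Λ) (k := k) j ≫ prj (Λ := Λ) j i = prj (Λ := Λ) (j + 1) (Fin.castSucc i) :=
  hom_ext (AlgHom.ext fun _ => rfl)

theorem isFibreProd_snoc (j : ℕ) :
    IsFibreProd (initMap (Λ := Λ) (k := k) j) (prj (Λ := Λ) (j + 1) (Fin.last j)) (toBase _)
      (toBase (dual Λ k)) where
  w := by rw [eq_toBase (initMap j ≫ toBase _), eq_toBase (prj (j + 1) (Fin.last j) ≫ toBase _)]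
  inj b₁ b₂ h₁ h₂ := by
    have e₁ : b₁.fst = b₂.fst := by have e := congrArg TrivSqZeroExt.fst h₁; exact e
    have e₂ : ∀ i : Fin j, b₁.snd (Fin.castSucc i) = b₂.snd (Fin.castSucc i) := fun i => by
      have e := congrFun (congrArg TrivSqZeroExt.snd h₁) i; exact e
    have e₃ : b₁.snd (Fin.last j) = b₂.snd (Fin.last j) := by
      have e := congrArg TrivSqZeroExt.snd h₂; exact e
    refine TrivSqZeroExt.ext e₁ (funext fun i => ?_)
    refine Fin.lastCases e₃ (fun i => e₂ i) i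
  surj a' a'' h := by
    have h' : a'.fst = a''.fst := h
    refine ⟨(a'.fst, Fin.snoc (α := fun _ => k) a'.snd a''.snd), ?_, ?_⟩
    · refine TrivSqZeroExt.ext rfl (funext fun i => ?_)
      change Fin.snoc (α := fun _ => k) a'.snd a''.snd (Fin.castSucc i) = a'.snd i
      rw [Fin.snoc_castSucc]
    · refine TrivSqZeroExt.ext h' ?_
      change Fin.snoc (α := fun _ => k) a'.snd a''.snd (Fin.last j) = a''.snd
      rw [Fin.snoc_last]

/-- The structure map `k → k ⊕ k^j`. -/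
noncomputable def ofBaseT (j : ℕ) : base Λ k ⟶ tszeObj Λ k j :=
  ⟨(Algebra.ofId k (TrivSqZeroExt k (Fin j → k))).restrictScalars Λ, AlgHom.ext fun _ => rfl⟩

theorem exists_elt {F : Art Λ k ⥤ Type v} (h0 : H0 F) (h2 : Heps F) (j : ℕ)
    (τ : Fin j → F.obj (dual Λ k)) :
    ∃ x : F.obj (tszeObj Λ k j), ∀ i, F.map (prj j i) x = τ i := by
  have hsub := h0.2
  induction j with
  | zero =>
    obtain ⟨x0⟩ := h0.1
    exact ⟨F.map (ofBaseT 0) x0, fun i => i.elim0⟩
  | succ j ih =>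
    obtain ⟨x', hx'⟩ := ih (fun i => τ (Fin.castSucc i))
    obtain ⟨x, hx⟩ := (h2 (initMap j) (prj (j + 1) (Fin.last j)) (isFibreProd_snoc j)).2
      ⟨(x', τ (Fin.last j)), Subsingleton.elim _ _⟩
    have hx1 : F.map (initMap j) x = x' := congrArg (fun t => t.1.1) hx
    have hx2 : F.map (prj (j + 1) (Fin.last j)) x = τ (Fin.last j) := congrArg (fun t => t.1.2) hx
    refine ⟨x, fun i => ?_⟩
    refine Fin.lastCases hx2 (fun i => ?_) i
    rw [← initMap_prj, map_comp_apply, hx1, hx' i]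

theorem exists_surjective_hom (hsurj : Function.Surjective (algebraMap Λ k)) {S : CRing Λ k}
    {r : ℕ} {x : Fin r → S.carrier} (hfree : IsFreeOn S x) :
    ∃ w : HomSet S.carrier S.res (tszeObj Λ k r), Function.Surjective w.1 := by
  classical
  let e : Fin r → tszeObj Λ k r := fun i =>
    (TrivSqZeroExt.inr (Pi.single i (1 : k)) : TrivSqZeroExt k (Fin r → k))
  have he : ∀ i, e i ∈ IsLocalRing.maximalIdeal (tszeObj Λ k r) := by
    intro i
    rw [Art.mem_maximalIdeal_iff]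
    rfl
  obtain ⟨w, hw⟩ := hfree.exists_hom (tszeObj Λ k r) e he
  refine ⟨w, fun y => ?_⟩
  obtain ⟨l, hl⟩ := hsurj (TrivSqZeroExt.fst (y : TrivSqZeroExt k (Fin r → k)))
  choose c hc using fun i : Fin r => hsurj (TrivSqZeroExt.snd (y : TrivSqZeroExt k (Fin r → k)) i)
  refine ⟨algebraMap Λ S.carrier l + ∑ i, algebraMap Λ S.carrier (c i) * x i, ?_⟩
  rw [map_add, map_sum, AlgHom.commutes]
  have h1 : ∀ i, w.1 (algebraMap Λ S.carrier (c i) * x i) =
      (TrivSqZeroExt.inr (Pi.single i (TrivSqZeroExt.snd (y : TrivSqZeroExt k (Fin r → k)) i)) :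
        TrivSqZeroExt k (Fin r → k)) := by
    intro i
    rw [map_mul, AlgHom.commutes, hw i]
    change algebraMap Λ (TrivSqZeroExt k (Fin r → k)) (c i) * TrivSqZeroExt.inr (Pi.single i (1 : k)) = _
    rw [TrivSqZeroExt.algebraMap_eq_inl', TrivSqZeroExt.inl_mul_inr, hc i]
    congr 1
    rw [← Pi.single_smul, smul_eq_mul, mul_one]
  rw [Finset.sum_congr rfl (fun i _ => h1 i)]
  change algebraMap Λ (TrivSqZeroExt k (Fin r → k)) l + _ = _
  rw [TrivSqZeroExt.algebraMap_eq_inl', hl]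
  have key : ∀ y : TrivSqZeroExt k (Fin r → k),
      (TrivSqZeroExt.inl y.fst + ∑ i, TrivSqZeroExt.inr (Pi.single i (y.snd i)) :
        TrivSqZeroExt k (Fin r → k)) = y := by
    intro y
    refine TrivSqZeroExt.ext ?_ ?_
    · rw [TrivSqZeroExt.fst_add, TrivSqZeroExt.fst_inl, TrivSqZeroExt.fst_sum]
      simp
    · rw [TrivSqZeroExt.snd_add, TrivSqZeroExt.snd_inl, zero_add, TrivSqZeroExt.snd_sum]
      simp only [TrivSqZeroExt.snd_inr]
      exact Finset.univ_sum_single _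
  exact key y

end Groth.Agent.Lib.Helper1.ArtFunTszeObj
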