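import Groth.Agent.Lib.Helper1.ArtFunCompl
import Groth.Agent.Lib.Helper1.ArtFunTszeObj

set_option autoImplicit false
universe u v
open CategoryTheory ArtFun ArtFun.Art

namespace Groth.Agent.Lib.Helper1.ArtFunGenFree

open Groth.Agent.Lib.Helper1.PSDecomp Groth.Agent.Lib.Helper1.PSRing
  Groth.Agent.Lib.Helper1.ArtFunBasic Groth.Agent.Lib.Helper1.ArtFunCompl
  Groth.Agent.Lib.Helper1.ArtFunTszeObj

variable {Λ : Type u} {k : Type u} [CommRing Λ] [Field k] [Algebra Λ k]

section Poly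

variable {N : ℕ} (α : Fin N → k)

/-- The augmentation `x_i ↦ α_i` of the polynomial ring. -/
noncomputable def polyRes : MvPolynomial (Fin N) Λ →ₐ[Λ] k := MvPolynomial.aeval α

lemma polyRes_X (i : Fin N) : polyRes (Λ := Λ) α (MvPolynomial.X i) = α i :=
  MvPolynomial.aeval_X α i

/-- Maps out of the polynomial ring are given by values on the variables. -/
theorem poly_exists_hom (A : Art Λ k) (b : Fin N → A) (hb : ∀ i, A.res (b i) = α i) :
    ∃ w : HomSet (MvPolynomial (Fin N) Λ) (polyRes α) A, ∀ i, w.1 (MvPolynomial.X i) = b i := by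
  refine ⟨⟨MvPolynomial.aeval b, ?_⟩, fun i => MvPolynomial.aeval_X b i⟩
  apply MvPolynomial.algHom_ext
  intro i
  change A.res (MvPolynomial.aeval b (MvPolynomial.X i)) = polyRes α (MvPolynomial.X i)
  rw [MvPolynomial.aeval_X, polyRes_X, hb]

theorem poly_hom_ext (A : Art Λ k) (φ ψ : HomSet (MvPolynomial (Fin N) Λ) (polyRes α) A)
    (h : ∀ i, φ.1 (MvPolynomial.X i) = ψ.1 (MvPolynomial.X i)) : φ = ψ :=
  Subtype.ext (MvPolynomial.algHom_ext h)

theorem poly_exists_lift ⦃B A : Art Λ k⦄ (μ : B ⟶ A) (hμ : Function.Surjective μ)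
    (φ : HomSet (MvPolynomial (Fin N) Λ) (polyRes α) A) :
    ∃ ψ : HomSet (MvPolynomial (Fin N) Λ) (polyRes α) B, HomSet.map μ ψ = φ := by
  choose b hb using fun i : Fin N => hμ (φ.1 (MvPolynomial.X i))
  have hbres : ∀ i, B.res (b i) = α i := by
    intro i
    rw [← res_app μ, hb i]
    have : A.res (φ.1 (MvPolynomial.X i)) = polyRes α (MvPolynomial.X i) :=
      congrArg (fun g : MvPolynomial (Fin N) Λ →ₐ[Λ] k => g (MvPolynomial.X i)) φ.2
    rw [this, polyRes_X]
  obtain ⟨ψ, hψ⟩ := poly_exists_hom α B b hbres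
  refine ⟨ψ, poly_hom_ext α A _ _ fun i => ?_⟩
  change μ (ψ.1 (MvPolynomial.X i)) = _
  rw [hψ i, hb i]

end Poly

/-- A finite generating family of `k` as a `Λ`-algebra. -/
theorem exists_surjective_polyRes [Module.Finite Λ k] :
    ∃ (n : ℕ) (α : Fin n → k), Function.Surjective (polyRes (Λ := Λ) α) := by
  obtain ⟨n, s, hs⟩ := Module.Finite.exists_fin (R := Λ) (M := k)
  refine ⟨n, s, fun c => ?_⟩
  have hc : c ∈ Submodule.span Λ (Set.range s) := by rw [hs]; exact Submodule.mem_top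
  obtain ⟨l, rfl⟩ := (Submodule.mem_span_range_iff_exists_fun Λ).1 hc
  refine ⟨∑ i, MvPolynomial.C (l i) * MvPolynomial.X i, ?_⟩
  rw [map_sum]
  apply Finset.sum_congr rfl
  intro i _
  rw [map_mul, polyRes_X]
  change MvPolynomial.aeval s (MvPolynomial.C (l i)) * s i = _
  rw [MvPolynomial.aeval_C, Algebra.smul_def]

end Groth.Agent.Lib.Helper1.ArtFunGenFree
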