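import Groth.Agent.Lib.Helper1.ArtFunGenVersal
import Groth.Agent.Lib.Helper1.ArtFunCut

set_option autoImplicit false
universe u v
open CategoryTheory ArtFun ArtFun.Art

namespace Groth.Agent.Lib.Helper1.ArtFunGenHull

open Groth.Agent.Lib.Helper1.ArtFunBasic Groth.Agent.Lib.Helper1.ArtFunCRing
  Groth.Agent.Lib.Helper1.ArtFunHullStep Groth.Agent.Lib.Helper1.ArtFunTszeObj
  Groth.Agent.Lib.Helper1.ArtFunVersalCrit Groth.Agent.Lib.Helper1.ArtFunQuot
  Groth.Agent.Lib.Helper1.ArtFunCut Groth.Agent.Lib.Helper1.ArtFunGenVersal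
  Groth.Agent.Lib.Helper1.ArtFunHullLimit Groth.Agent.Lib.Helper1.ArtFunDer

variable {Λ : Type u} {k : Type u} [CommRing Λ] [Field k] [Algebra Λ k]
variable [IsNoetherianRing Λ] [Module.Finite Λ k]

omit [IsNoetherianRing Λ] [Module.Finite Λ k] in
lemma ker_le_maximalIdeal_homSet (S : CRing Λ k) {A : Art Λ k} (w : HomSet S.carrier S.res A) :
    RingHom.ker w.1 ≤ IsLocalRing.maximalIdeal S.carrier := by
  intro s hs
  rw [S.mem_maximalIdeal_iff]
  have h1 : A.res (w.1 s) = S.res s := congrArg (fun g : S.carrier →ₐ[Λ] k => g s) w.2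
  have h2 : w.1 s = 0 := hs
  rw [← h1, h2, map_zero]

/-- A smooth coefficient ring with a surjection onto `k ⊕ k^r` through which every tangent vector
factors. -/
theorem exists_smooth_stage_min (r : ℕ) :
    ∃ (S : CRing Λ k) (w : HomSet S.carrier S.res (tszeObj Λ k r)) (y : Fin r → S.carrier),
      (∀ ⦃B A : Art Λ k⦄ (μ : B ⟶ A), Function.Surjective μ →
        ∀ φ : HomSet S.carrier S.res A, ∃ ψ : HomSet S.carrier S.res B, HomSet.map μ ψ = φ) ∧
      Function.Surjective w.1 ∧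
      (∀ j, w.1 (y j) = (TrivSqZeroExt.inr (Pi.single j (1 : k)) : TrivSqZeroExt k (Fin r → k))) ∧
      ∀ φ₀ : HomSet S.carrier S.res (dual Λ k), RingHom.ker w.1 ≤ RingHom.ker φ₀.1 := by
  obtain ⟨S, w, y, hlift, hw, hy⟩ := exists_smooth_stage (Λ := Λ) (k := k) r
  obtain ⟨I, hIw, hIl, hImax⟩ := exists_maximal_cut (liftI_bot hlift) w
  have hI : I ≤ IsLocalRing.maximalIdeal S.carrier := hIw.trans (ker_le_maximalIdeal_homSet S w)
  refine ⟨quot S I hI, desc S I hI w hIw, fun j => mkQ S I hI (y j), ?_,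
    desc_surjective S I hI w hIw hw, fun j => ?_, ?_⟩
  · intro B A μ hμ φ
    obtain ⟨ψ, hψI, hψ⟩ := hIl μ hμ (toS S I hI φ) (le_ker_toS S I hI φ)
    refine ⟨desc S I hI ψ hψI, toS_injective S I hI ?_⟩
    rw [toS_map, toS_desc, hψ]
  · rw [desc_apply, hy]
  · intro φ₀ x hx
    obtain ⟨s, rfl⟩ := mkQ_surjective S I hI x
    rw [ker_desc] at hx
    have := hImax (toS S I hI φ₀) (le_ker_toS S I hI φ₀) hx
    rw [RingHom.mem_ker, toS_apply] at this
    exact this

omit [IsNoetherianRing Λ] [Module.Finite Λ k] in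
/-- An endomorphism-type map `k ⊕ k^r → k[ε]` vanishing on the basis vectors is trivial when `k` has
no derivations. -/
theorem snd_eq_zero_of_inr (hk : Subsingleton (Derivation Λ k k)) (r : ℕ)
    (θ : tszeObj Λ k r ⟶ dual Λ k)
    (hθ : ∀ j : Fin r, TrivSqZeroExt.snd (θ.toAlgHom
      (TrivSqZeroExt.inr (Pi.single j (1 : k)) : TrivSqZeroExt k (Fin r → k)) : TrivSqZeroExt k k) = 0)
    (x : tszeObj Λ k r) : TrivSqZeroExt.snd (θ.toAlgHom x : TrivSqZeroExt k k) = 0 := by
  classical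
  have hres₀ : ∀ a : k, algebraMap k k a = (AlgHom.id Λ k) a := fun _ => rfl
  have hinl : ∀ c : k, TrivSqZeroExt.snd (θ.toAlgHom
      (TrivSqZeroExt.inl c : TrivSqZeroExt k (Fin r → k)) : TrivSqZeroExt k k) = 0 := by
    intro c
    let φ : HomSet k (AlgHom.id Λ k) (dual Λ k) :=
      ⟨(ofBaseT r ≫ θ).toAlgHom, (ofBaseT r ≫ θ).res_comp⟩
    have h0 : derOf hres₀ φ = 0 := Subsingleton.elim _ _
    have h1 : derOf hres₀ φ c = TrivSqZeroExt.snd (φ.1 c : TrivSqZeroExt k k) := rfl
    rw [h0] at h1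
    exact h1.symm
  have hfst : ∀ z : tszeObj Λ k r, TrivSqZeroExt.fst (θ.toAlgHom z : TrivSqZeroExt k k) =
      TrivSqZeroExt.fst (z : TrivSqZeroExt k (Fin r → k)) := fun z => res_app θ z
  have hinr : ∀ j : Fin r, θ.toAlgHom
      (TrivSqZeroExt.inr (Pi.single j (1 : k)) : TrivSqZeroExt k (Fin r → k)) = 0 := by
    intro j
    refine TrivSqZeroExt.ext ?_ (hθ j)
    rw [hfst]; rfl
  have hx := tsze_decomp r (x : TrivSqZeroExt k (Fin r → k))
  have : θ.toAlgHom x = θ.toAlgHom (TrivSqZeroExt.inl (TrivSqZeroExt.fst (x : TrivSqZeroExt k (Fin r → k))) :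
      TrivSqZeroExt k (Fin r → k)) := by
    conv_lhs => rw [← hx]
    let g : TrivSqZeroExt k (Fin r → k) →ₐ[Λ] TrivSqZeroExt k k := θ.toAlgHom
    have hg : ∀ j : Fin r, g (TrivSqZeroExt.inr (Pi.single j (1 : k))) = 0 := hinr
    change g _ = g _
    rw [map_add, map_sum]
    rw [Finset.sum_eq_zero (fun i _ => by rw [map_mul, hg i, mul_zero]), add_zero]
  rw [this, hinl]

/-- Existence of a hull over a general base when `k` has no `Λ`-derivations. -/
theorem hasHull (hk : Subsingleton (Derivation Λ k k)) {F : Art Λ k ⥤ Type v} [TangentStr F]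
    (h0 : H0 F) (h1 : S1 F) (h2 : Heps F) (h3 : Hfin F) : HasHull F := by
  classical
  haveI : Module.Finite k (TangentSpace F) := h3
  set r := Module.finrank k (TangentSpace F) with hr
  let b := Module.finBasis k (TangentSpace F)
  obtain ⟨S, w, y, hlift, hw, hy, hmin⟩ := exists_smooth_stage_min (Λ := Λ) (k := k) r
  obtain ⟨e, he⟩ := exists_elt h0 h2 r b
  obtain ⟨R, π, hπ, hπs, ξ, hξ⟩ := exists_versal hlift h0 h1 h2 ⟨tszeObj Λ k r, w, hw, e⟩ b b.span_eq
    (prj r) he
  refine ⟨⟨R, ξ, hξ, ?_, Groth.Agent.Lib.Helper1.ArtFunVersal.surjective_app_of_isVersal h0 ξ hξ (dual Λ k)⟩⟩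
  have hsurj := Groth.Agent.Lib.Helper1.ArtFunVersal.surjective_app_of_isVersal h0 ξ hξ (dual Λ k)
  letI : Algebra R.carrier k := R.res.toRingHom.toAlgebra
  haveI : IsScalarTower Λ R.carrier k :=
    IsScalarTower.of_algebraMap_eq (fun l => (R.res.commutes l).symm)
  have hres : ∀ a, algebraMap R.carrier k a = R.res a := fun _ => rfl
  let E : Derivation Λ R.carrier k →ₗ[k] (Fin r → k) :=
    { toFun := fun D i => D (π (y i))
      map_add' := fun D D' => rfl
      map_smul' := fun c D => rfl }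
  have hE : Function.Injective E := by
    rw [← LinearMap.ker_eq_bot, LinearMap.ker_eq_bot']
    intro D hD
    have hDy : ∀ j, D (π (y j)) = 0 := fun j => congrFun hD j
    let φ₀ : HomSet S.carrier S.res (dual Λ k) :=
      ⟨(derHom hres D).1.comp π, by rw [← AlgHom.comp_assoc, (derHom hres D).2, hπ]⟩
    obtain ⟨θ, hθ⟩ := exists_factor w hw φ₀ (hmin φ₀)
    have hθs : ∀ s, θ.toAlgHom (w.1 s) = φ₀.1 s := fun s =>
      congrArg (fun g : HomSet S.carrier S.res (dual Λ k) => g.1 s) hθ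
    have hzero := snd_eq_zero_of_inr hk r θ (fun j => by
      rw [← hy j, hθs]
      exact hDy j)
    ext a
    obtain ⟨s, rfl⟩ := hπs a
    have := hzero (w.1 s)
    rw [hθs] at this
    exact this
  haveI : Module.Finite k (Derivation Λ R.carrier k) := Module.Finite.of_injective E hE
  have hle : Module.finrank k (Derivation Λ R.carrier k) ≤ r := by
    have := LinearMap.finrank_le_finrank_of_injective hE
    rwa [Module.finrank_fin_fun] at this
  have hLs := tangentLin_surjective hres ξ hsurj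
  have hge : r ≤ Module.finrank k (Derivation Λ R.carrier k) :=
    LinearMap.finrank_le_finrank_of_surjective hLs
  have heq : Module.finrank k (Derivation Λ R.carrier k) = Module.finrank k (TangentSpace F) :=
    le_antisymm hle hge
  have hLi : Function.Injective (tangentLin hres ξ) :=
    (LinearMap.injective_iff_surjective_of_finrank_eq_finrank heq).2 hLs
  intro φ ψ h
  rw [← derHom_derOf hres φ, ← derHom_derOf hres ψ] at h ⊢
  have := hLi (show tangentLin hres ξ (derOf hres φ) = tangentLin hres ξ (derOf hres ψ) from h)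
  rw [this]

end Groth.Agent.Lib.Helper1.ArtFunGenHull
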