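import Groth.Agent.Lib.Helper1.ArtFunAction

set_option autoImplicit false
universe u v

open CategoryTheory

namespace Groth.Agent.Lib.Helper1.ArtFunHomog

open ArtFun ArtFun.Art Groth.Agent.Lib.Helper1.ArtFunBasic Groth.Agent.Lib.Helper1.ArtFunFib
  Groth.Agent.Lib.Helper1.ArtFunPullback Groth.Agent.Lib.Helper1.ArtFunSmall
  Groth.Agent.Lib.Helper1.ArtFunTangent Groth.Agent.Lib.Helper1.ArtFunCond
  Groth.Agent.Lib.Helper1.ArtFunAction

variable {Λ : Type u} {k : Type u} [CommRing Λ] [Field k] [Algebra Λ k]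
variable [IsNoetherianRing Λ] [Module.Finite Λ k]

/-- Base change of small-extension data along a fibre-product square, with compatible generator. -/
theorem exists_smallData_fst {B A A₁ A₂ : Art Λ k} {p₁ : B ⟶ A₁} {p₂ : B ⟶ A₂}
    {f₁ : A₁ ⟶ A} {f₂ : A₂ ⟶ A} (h : IsFibreProd p₁ p₂ f₁ f₂) (d : SmallData f₂) :
    ∃ d' : SmallData p₁, p₂ d'.t = d.t := by
  have htk : f₂ d.t = 0 := by
    have : d.t ∈ RingHom.ker f₂.toAlgHom := d.hker ▸ Ideal.mem_span_singleton_self d.t
    exact this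
  obtain ⟨b₀, hb₁, hb₂⟩ := h.surj 0 d.t (by rw [htk]; exact map_zero f₁.toAlgHom)
  have hkerp : RingHom.ker p₁.toAlgHom = Ideal.span {b₀} := by
    apply le_antisymm
    · intro b hb
      have hb' : p₁ b = 0 := hb
      have h1 : p₂ b ∈ RingHom.ker f₂.toAlgHom := by
        rw [RingHom.mem_ker]
        rw [← h.w_apply, hb']
        exact map_zero f₁.toAlgHom
      rw [d.hker] at h1
      obtain ⟨c, hc⟩ := Ideal.mem_span_singleton'.mp h1
      obtain ⟨c', hc'⟩ := B.res_surjective (A₂.res c)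
      have hdiff : p₂ c' - c ∈ IsLocalRing.maximalIdeal A₂ := by
        rw [mem_maximalIdeal_iff, map_sub, res_app, hc', sub_self]
      have : b = c' * b₀ := by
        apply h.inj
        · change p₁.toAlgHom b = p₁.toAlgHom (c' * b₀)
          rw [map_mul]
          rw [hb', hb₁, mul_zero]
        · change p₂.toAlgHom b = p₂.toAlgHom (c' * b₀)
          rw [map_mul]
          rw [hb₂, ← hc]
          have := d.ht _ hdiff
          rw [sub_mul, sub_eq_zero] at this
          exact this.symm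
      rw [this]
      exact Ideal.mul_mem_left _ _ (Ideal.mem_span_singleton_self b₀)
    · rw [Ideal.span_singleton_le_iff_mem]
      exact hb₁
  have hb₀m : b₀ ∈ IsLocalRing.maximalIdeal B :=
    ker_le_maximalIdeal p₁ (hkerp ▸ Ideal.mem_span_singleton_self b₀)
  refine ⟨⟨b₀, hb₀m, ?_, hkerp, ?_⟩, hb₂⟩
  · intro x hx
    apply h.inj
    · change p₁.toAlgHom (x * b₀) = p₁.toAlgHom 0
      rw [map_mul, map_zero]
      rw [hb₁, mul_zero]
    · change p₂.toAlgHom (x * b₀) = p₂.toAlgHom 0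
      rw [map_mul, map_zero]
      rw [hb₂, d.ht _ (map_mem_maximalIdeal p₂ hx)]
  · rintro rfl
    apply d.ht0
    rw [← hb₂]
    exact map_zero p₂.toAlgHom

/-- Functoriality of `B ↦ B ×_k k[ε]`. -/
theorem exists_tMap {B A : Art Λ k} (g : B ⟶ A) :
    ∃ m : tObj B ⟶ tObj A, m ≫ tFst A = tFst B ≫ g ∧ m ≫ tSnd A = tSnd B :=
  exists_lift (tObj_isFibreProd A) (tFst B ≫ g) (tSnd B) (by
    rw [eq_toBase ((tFst B ≫ g) ≫ toBase A), eq_toBase (tSnd B ≫ toBase (dual Λ k))])

noncomputable def tMap {B A : Art Λ k} (g : B ⟶ A) : tObj B ⟶ tObj A := (exists_tMap g).choose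

lemma tMap_tFst {B A : Art Λ k} (g : B ⟶ A) : tMap g ≫ tFst A = tFst B ≫ g :=
  (exists_tMap g).choose_spec.1

lemma tMap_tSnd {B A : Art Λ k} (g : B ⟶ A) : tMap g ≫ tSnd A = tSnd B :=
  (exists_tMap g).choose_spec.2

/-- Compatibility of the actions under a map carrying generator to generator. -/
theorem act_comp_eq {B A : Art Λ k} (g : B ⟶ A) (t : B)
    (htm : t ∈ IsLocalRing.maximalIdeal B) (ht : ∀ x ∈ IsLocalRing.maximalIdeal B, x * t = 0)
    (s : A) (hsm : s ∈ IsLocalRing.maximalIdeal A)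
    (hs : ∀ x ∈ IsLocalRing.maximalIdeal A, x * s = 0) (hts : g t = s) :
    tAct t htm ht ≫ g = tMap g ≫ tAct s hsm hs := by
  apply hom_ext; apply AlgHom.ext
  intro (x : PB (toBase B) (toBase (dual Λ k)))
  obtain ⟨y, hy⟩ : ∃ y : PB (toBase A) (toBase (dual Λ k)), y = (tMap g).toAlgHom x := ⟨_, rfl⟩
  change g.toAlgHom ((tAct t htm ht).toAlgHom x) = (tAct s hsm hs).toAlgHom ((tMap g).toAlgHom x)
  rw [← hy, tAct_apply, tAct_apply]
  have h1 : (y : A × dual Λ k).1 = g.toAlgHom (x : B × dual Λ k).1 := by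
    rw [hy]
    exact congrArg (fun m : tObj B ⟶ A => m.toAlgHom x) (tMap_tFst g)
  have h2 : (y : A × dual Λ k).2 = (x : B × dual Λ k).2 := by
    rw [hy]
    exact congrArg (fun m : tObj B ⟶ dual Λ k => m.toAlgHom x) (tMap_tSnd g)
  rw [h1, h2, map_add, map_mul]
  congr 1
  have hts' : g.toAlgHom t = s := hts
  rw [hts']
  apply mul_eq_mul_of_res_eq hs
  have := res_app g (sec B (TrivSqZeroExt.snd (x : B × dual Λ k).2))
  rw [res_sec]
  exact this.trans (res_sec B _)

variable {F : Art Λ k ⥤ Type v}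

/-- Injectivity of the comparison map along a small extension from (H1), (H2), (H4). -/
theorem cmp_injective_of_hbar_heps_hsq (h1 : Hbar F) (h2 : Heps F) (h4 : HSq F)
    {B A A' A'' : Art Λ k} {p' : B ⟶ A'} {p'' : B ⟶ A''} {f' : A' ⟶ A} {f'' : A'' ⟶ A}
    (h : IsFibreProd p' p'' f' f'') (hf : IsSmallExt f'') : Function.Injective (cmp F h) := by
  obtain ⟨d⟩ := nonempty_smallData hf
  obtain ⟨d', hd'⟩ := exists_smallData_fst h d
  have hp' : IsSmallExt p' := isSmallExt_fst_of_isFibreProd h hf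
  have hcompat : d'.act ≫ p'' = tMap p'' ≫ d.act :=
    act_comp_eq p'' d'.t d'.htm d'.ht d.t d.htm d.ht hd'
  intro z₁ z₂ hz
  have hz1 : F.map p' z₁ = F.map p' z₂ := congrArg (fun w => w.1.1) hz
  have hz2 : F.map p'' z₁ = F.map p'' z₂ := congrArg (fun w => w.1.2) hz
  obtain ⟨w, hw⟩ := h1 _ _ _ _ d'.sq hp' ⟨(z₁, z₂), hz1⟩
  have hw1 : F.map (tFst B) w = z₁ := congrArg (fun t => t.1.1) hw
  have hw2 : F.map d'.act w = z₂ := congrArg (fun t => t.1.2) hw
  -- push to A''
  have hpush : F.map (tMap p'') w = F.map (tSec A'') (F.map p'' z₁) := by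
    apply (h4 _ _ _ d.sq hf).1
    apply FibProd.ext
    · change F.map (tFst A'') (F.map (tMap p'') w) =
        F.map (tFst A'') (F.map (tSec A'') (F.map p'' z₁))
      rw [← map_comp_apply, tMap_tFst, map_comp_apply, hw1, ← map_comp_apply (f := tSec A''),
        tSec_tFst, map_id_apply]
    · change F.map d.act (F.map (tMap p'') w) = F.map d.act (F.map (tSec A'') (F.map p'' z₁))
      rw [← map_comp_apply, ← hcompat, map_comp_apply, hw2, ← map_comp_apply (f := tSec A''),
        d.sec_act, map_id_apply, hz2]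
  have hsnd : F.map (tSnd B) w = F.map (tSnd B) (F.map (tSec B) z₁) := by
    have e1 : F.map (tSnd B) w = F.map (tSnd A'') (F.map (tMap p'') w) := by
      rw [← map_comp_apply, tMap_tSnd]
    rw [e1, hpush, ← map_comp_apply, ← map_comp_apply, ← map_comp_apply, tSec_tSnd, tSec_tSnd,
      ← Category.assoc, eq_toBase (p'' ≫ toBase A'')]
  have hweq : w = F.map (tSec B) z₁ := by
    apply (h2 _ _ (tObj_isFibreProd B)).1
    apply FibProd.ext
    · change F.map (tFst B) w = F.map (tFst B) (F.map (tSec B) z₁)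
      rw [hw1, ← map_comp_apply, tSec_tFst, map_id_apply]
    · exact hsnd
  rw [← hw2, hweq, ← map_comp_apply, d'.sec_act, map_id_apply]

/-- (H1), (H2), (H4) imply homogeneity (RS). -/
theorem rs_of_hbar_heps_hsq (h1 : Hbar F) (h2 : Heps F) (h4 : HSq F) : RS F := by
  apply rs_of_rs_smallExt
  intro B A A' A'' p' p'' f' f'' h hf
  exact ⟨cmp_injective_of_hbar_heps_hsq h1 h2 h4 h hf, h1 p' p'' f' f'' h hf⟩

end Groth.Agent.Lib.Helper1.ArtFunHomog
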