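import Groth.Agent.Lib.Helper1.ArtFunTszeObj
import Groth.Agent.Lib.Helper1.ArtFunVersal
import Mathlib.LinearAlgebra.FiniteDimensional.Lemmas

set_option autoImplicit false
universe u v

open CategoryTheory

namespace Groth.Agent.Lib.Helper1.ArtFunHull

open ArtFun ArtFun.Art Groth.Agent.Lib.Helper1.ArtFunBasic Groth.Agent.Lib.Helper1.ArtFunFib
  Groth.Agent.Lib.Helper1.ArtFunCRing Groth.Agent.Lib.Helper1.ArtFunVersalCrit
  Groth.Agent.Lib.Helper1.ArtFunHullStep Groth.Agent.Lib.Helper1.PSRing
  Groth.Agent.Lib.Helper1.ArtFunHullLimit Groth.Agent.Lib.Helper1.ArtFunTszeObj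
  Groth.Agent.Lib.Helper1.ArtFunDer

variable {Λ : Type u} {k : Type u} [CommRing Λ] [Field k] [Algebra Λ k]
variable [IsNoetherianRing Λ] [Module.Finite Λ k]
variable {S : CRing Λ k} {r : ℕ} {x : Fin r → S.carrier} {F : Art Λ k ⥤ Type v}

omit [IsNoetherianRing Λ] [Module.Finite Λ k] in
/-- `h_S` is smooth when `S` is free. -/
theorem exists_lift_of_isFreeOn (hfree : IsFreeOn S x) ⦃B A : Art Λ k⦄ (μ : B ⟶ A)
    (hμ : Function.Surjective μ) (φ : HomSet S.carrier S.res A) :
    ∃ ψ : HomSet S.carrier S.res B, HomSet.map μ ψ = φ := by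
  choose b hb using fun i : Fin r => hμ (φ.1 (x i))
  have hbm : ∀ i, b i ∈ IsLocalRing.maximalIdeal B := by
    intro i
    rw [Art.mem_maximalIdeal_iff, ← res_app μ, hb i, res_homSet, ← S.mem_maximalIdeal_iff]
    exact hfree.mem i
  obtain ⟨ψ, hψ⟩ := hfree.exists_hom B b hbm
  refine ⟨ψ, hfree.hom_ext A _ _ fun i => ?_⟩
  rw [map_apply, hψ i, hb i]

theorem exists_versal_of_isFreeOn (hsurj : Function.Surjective (algebraMap Λ k))
    (hfree : IsFreeOn S x) [TangentStr F] (h0 : H0 F) (h1 : S1 F) (h2 : Heps F)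
    (τ : Fin r → TangentSpace F) (hspan : Submodule.span k (Set.range τ) = ⊤) :
    ∃ (R : CRing Λ k) (π : S.carrier →ₐ[Λ] R.carrier) (_ : R.res.comp π = S.res)
      (_ : Function.Surjective π) (ξ : Family R.carrier R.res F), IsVersal ξ := by
  obtain ⟨w, hw⟩ := exists_surjective_hom hsurj hfree
  obtain ⟨e, he⟩ := exists_elt h0 h2 r τ
  exact exists_versal (exists_lift_of_isFreeOn hfree) h0 h1 h2 ⟨tszeObj Λ k r, w, hw, e⟩ τ hspan
    (prj r) he

section Der

variable (R : CRing Λ k) (π : S.carrier →ₐ[Λ] R.carrier) (hπ : R.res.comp π = S.res)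
  (hπs : Function.Surjective π)

include hπ hπs in
omit [IsNoetherianRing Λ] [Module.Finite Λ k] in
/-- A derivation of a quotient of a free ring is determined by its values on the generators. -/
theorem derivation_ext_of_isFreeOn (hfree : IsFreeOn S x) [Algebra R.carrier k]
    [IsScalarTower Λ R.carrier k] (hres : ∀ a, algebraMap R.carrier k a = R.res a)
    (D D' : Derivation Λ R.carrier k) (h : ∀ i, D (π (x i)) = D' (π (x i))) : D = D' := by
  apply derHom_injective hres
  have key : (⟨(derHom hres D).1.comp π, by rw [← AlgHom.comp_assoc, (derHom hres D).2, hπ]⟩ :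
      HomSet S.carrier S.res (dual Λ k)) =
      ⟨(derHom hres D').1.comp π, by rw [← AlgHom.comp_assoc, (derHom hres D').2, hπ]⟩ := by
    apply hfree.hom_ext
    intro i
    refine TrivSqZeroExt.ext rfl ?_
    exact h i
  apply homSet_ext
  intro a
  obtain ⟨s, rfl⟩ := hπs a
  exact congrArg (fun g : HomSet S.carrier S.res (dual Λ k) => g.1 s) key

include hπ hπs in
theorem isMiniversal_of_isVersal (hfree : IsFreeOn S x) [TangentStr F] (h0 : H0 F)
    (h3 : Hfin F) (hr : Module.finrank k (TangentSpace F) = r)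
    (ξ : Family R.carrier R.res F) (hξ : IsVersal ξ) : IsMiniversal ξ := by
  letI : Algebra R.carrier k := R.res.toRingHom.toAlgebra
  haveI : IsScalarTower Λ R.carrier k :=
    IsScalarTower.of_algebraMap_eq (fun l => (R.res.commutes l).symm)
  have hres : ∀ a, algebraMap R.carrier k a = R.res a := fun _ => rfl
  haveI : Module.Finite k (TangentSpace F) := h3
  have hsurj := Groth.Agent.Lib.Helper1.ArtFunVersal.surjective_app_of_isVersal h0 ξ hξ (dual Λ k)
  refine ⟨hξ, ?_, hsurj⟩
  -- the evaluation map on derivations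
  let E : Derivation Λ R.carrier k →ₗ[k] (Fin r → k) :=
    { toFun := fun D i => D (π (x i))
      map_add' := fun D D' => rfl
      map_smul' := fun c D => rfl }
  have hE : Function.Injective E := by
    intro D D' h
    exact derivation_ext_of_isFreeOn R π hπ hπs hfree hres D D' (fun i => congrFun h i)
  haveI : Module.Finite k (Derivation Λ R.carrier k) := Module.Finite.of_injective E hE
  have hle : Module.finrank k (Derivation Λ R.carrier k) ≤ r := by
    have := LinearMap.finrank_le_finrank_of_injective hE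
    rwa [Module.finrank_fin_fun] at this
  have hLs := tangentLin_surjective hres ξ hsurj
  have hge : r ≤ Module.finrank k (Derivation Λ R.carrier k) := by
    rw [← hr]
    exact LinearMap.finrank_le_finrank_of_surjective hLs
  have heq : Module.finrank k (Derivation Λ R.carrier k) = Module.finrank k (TangentSpace F) := by
    rw [hr]; exact le_antisymm hle hge
  have hLi : Function.Injective (tangentLin hres ξ) :=
    (LinearMap.injective_iff_surjective_of_finrank_eq_finrank heq).2 hLs
  intro φ ψ h
  rw [← derHom_derOf hres φ, ← derHom_derOf hres ψ] at h ⊢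
  have := hLi (show tangentLin hres ξ (derOf hres φ) = tangentLin hres ξ (derOf hres ψ) from h)
  rw [this]

end Der

/-- Schlessinger's theorem (existence of a hull) over a complete local Noetherian base with
`Λ → k` surjective. -/
theorem hasHull_of_complete [IsLocalRing Λ] [IsAdicComplete (IsLocalRing.maximalIdeal Λ) Λ]
    (hsurj : Function.Surjective (algebraMap Λ k)) [TangentStr F] (h0 : H0 F) (h1 : S1 F)
    (h2 : Heps F) (h3 : Hfin F) : HasHull F := by
  haveI : Module.Finite k (TangentSpace F) := h3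
  let b := Module.finBasis k (TangentSpace F)
  have hfree := psRing_isFreeOn hsurj (Module.finrank k (TangentSpace F))
  obtain ⟨R, π, hπ, hπs, ξ, hξ⟩ := exists_versal_of_isFreeOn hsurj hfree h0 h1 h2 b b.span_eq
  exact ⟨⟨R, ξ, isMiniversal_of_isVersal R π hπ hπs hfree h0 h3 rfl ξ hξ⟩⟩

end Groth.Agent.Lib.Helper1.ArtFunHull
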