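import Groth.Agent.Lib.Helper1.ArtFunUnique

set_option autoImplicit false
universe u v

open CategoryTheory

namespace Groth.Agent.Lib.Helper1.ArtFunProrep

open ArtFun ArtFun.Art Groth.Agent.Lib.Helper1.ArtFunBasic Groth.Agent.Lib.Helper1.ArtFunCRing
  Groth.Agent.Lib.Helper1.ArtFunMinimal Groth.Agent.Lib.Helper1.ArtFunDer
  Groth.Agent.Lib.Helper1.ArtFunUnique

variable {Λ : Type u} {k : Type u} [CommRing Λ] [Field k] [Algebra Λ k]
variable [IsNoetherianRing Λ] [Module.Finite Λ k]
variable {F : Art Λ k ⥤ Type v}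

section
omit [IsNoetherianRing Λ] [Module.Finite Λ k]
variable {R : Type u} [CommRing R] [Algebra Λ R] {resR : R →ₐ[Λ] k}

theorem isVersal_of_isUniversal (ξ : Family R resR F) (hξ : IsUniversal ξ) : IsVersal ξ := by
  intro B A μ _ φ y hy
  obtain ⟨ψ, rfl⟩ := (hξ B).2 y
  refine ⟨ψ, ?_, rfl⟩
  apply (hξ A).1
  rw [ξ.natural, hy]

theorem h0_of_isUniversal (ξ : Family R resR F) (hξ : IsUniversal ξ) : H0 F :=
  Groth.Agent.Lib.Helper5.ArtFunLift.h0_of_surjective ξ (hξ _).2

end

/-- An endomorphism of a prorepresentable functor which is injective on the tangent space is an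
isomorphism. -/
theorem bijective_app_of_universal {R : CRing Λ k} (ξ : Family R.carrier R.res F)
    (hξ : IsUniversal ξ) (φ : F ⟶ F) (hd : Function.Injective (TangentSpace.map φ))
    (A : Art Λ k) : Function.Bijective (φ.app A) := by
  have h0 := h0_of_isUniversal ξ hξ
  have hv := isVersal_of_isUniversal ξ hξ
  obtain ⟨g, hg, hgη⟩ := exists_along_toFormalElt_eq h0 R ξ hv R (ξ.toFormalElt.map φ)
  have key : ∀ (A : Art Λ k) (a : HomSet R.carrier R.res A),
      (ξ.along g hg).app A a = φ.app A (ξ.app A a) := by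
    intro A a
    exact family_app_eq_of_toFormalElt_eq R (ξ.along g hg) (ξ.push φ)
      (hgη.trans (FormalElt.ext' fun _ => rfl)) A a
  -- g is surjective
  letI : Algebra R.carrier k := R.res.toRingHom.toAlgebra
  haveI : IsScalarTower Λ R.carrier k :=
    IsScalarTower.of_algebraMap_eq (fun l => (R.res.commutes l).symm)
  haveI : IsAdicComplete (IsLocalRing.maximalIdeal R.carrier) R.carrier := R.isAdicComplete
  have hres : ∀ r, algebraMap R.carrier k r = R.res r := fun _ => rfl
  have hgs : Function.Surjective g := by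
    apply Groth.Agent.S12716.result R R.carrier R.res_surjective g
      (by rw [← hg]; exact AlgHom.ext fun _ => rfl)
    intro D₁ D₂ hD
    apply derHom_injective hres
    apply (hξ _).1
    apply hd
    change φ.app _ (ξ.app _ (derHom hres D₁)) = φ.app _ (ξ.app _ (derHom hres D₂))
    rw [← key, ← key]
    change ξ.app _ ⟨(derHom hres D₁).1.comp g, _⟩ = ξ.app _ ⟨(derHom hres D₂).1.comp g, _⟩
    congr 1
    apply Subtype.ext
    apply AlgHom.ext
    intro r
    exact TrivSqZeroExt.ext rfl (hD r)
  have hgi : Function.Injective g :=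
    injective_of_surjective_endo (g : R.carrier →+* R.carrier) hgs
  constructor
  · intro x y hxy
    obtain ⟨a, rfl⟩ := (hξ A).2 x
    obtain ⟨b, rfl⟩ := (hξ A).2 y
    rw [← key, ← key] at hxy
    have h1 := (hξ A).1 hxy
    congr 1
    apply Subtype.ext
    apply AlgHom.ext
    intro r
    obtain ⟨r', rfl⟩ := hgs r
    exact congrArg (fun w : HomSet R.carrier R.res A => w.1 r') h1
  · intro y
    obtain ⟨b, rfl⟩ := (hξ A).2 y
    let e : R.carrier ≃ₐ[Λ] R.carrier := AlgEquiv.ofBijective g ⟨hgi, hgs⟩
    have he : ∀ r, g (e.symm r) = r := fun r => e.apply_symm_apply r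
    have hres' : ∀ r, R.res (e.symm r) = R.res r := by
      intro r
      have := congrArg (fun w : R.carrier →ₐ[Λ] k => w (e.symm r)) hg
      simp only [AlgHom.comp_apply, he] at this
      exact this.symm
    let a : HomSet R.carrier R.res A :=
      ⟨b.1.comp (e.symm : R.carrier →ₐ[Λ] R.carrier), by
        apply AlgHom.ext
        intro r
        have := congrArg (fun w : R.carrier →ₐ[Λ] k => w (e.symm r)) b.2
        exact this.trans (hres' r)⟩
    refine ⟨ξ.app A a, ?_⟩
    rw [← key]
    change ξ.app _ ⟨a.1.comp g, _⟩ = ξ.app A b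
    congr 1
    apply Subtype.ext
    apply AlgHom.ext
    intro r
    change b.1 (e.symm (g r)) = b.1 r
    rw [show e.symm (g r) = r from e.symm_apply_apply r]

end Groth.Agent.Lib.Helper1.ArtFunProrep
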