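import Groth.Agent.Lib.Helper1.ArtFunUniversal
import Groth.Agent.Lib.Helper1.ArtFunHull
import Groth.Agent.Lib.Helper1.ArtFunHomog
import Groth.Agent.Lib.Helper1.ArtFunProrep
import Groth.Agent.Lib.Helper1.ArtFunCond
import Groth.Agent.S12731

set_option autoImplicit false
universe u v

open CategoryTheory

namespace Groth.Agent.Lib.Helper1.ArtFunSchlessinger

open ArtFun ArtFun.Art Groth.Agent.Lib.Helper1.ArtFunBasic Groth.Agent.Lib.Helper1.ArtFunFib
  Groth.Agent.Lib.Helper1.ArtFunCond Groth.Agent.Lib.Helper1.ArtFunAction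
  Groth.Agent.Lib.Helper1.ArtFunVersalCrit Groth.Agent.Lib.Helper1.ArtFunUniversal
  Groth.Agent.Lib.Helper1.ArtFunHull Groth.Agent.Lib.Helper1.ArtFunHomog
  Groth.Agent.Lib.Helper1.ArtFunProrep

variable {Λ : Type u} {k : Type u} [CommRing Λ] [Field k] [Algebra Λ k]
variable [IsNoetherianRing Λ] [Module.Finite Λ k]
variable {F : Art Λ k ⥤ Type v}

section Converse

variable {R : Type u} [CommRing R] [Algebra Λ R] {resR : R →ₐ[Λ] k}

omit [IsNoetherianRing Λ] [Module.Finite Λ k] in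
/-- A functor with a universal family is left exact. -/
theorem isLeftExact_of_isUniversal (ξ : Family R resR F) (hξ : IsUniversal ξ) : IsLeftExact F := by
  intro B A A' A'' p' p'' f' f'' h
  constructor
  · intro z₁ z₂ hz
    obtain ⟨v₁, rfl⟩ := (hξ B).2 z₁
    obtain ⟨v₂, rfl⟩ := (hξ B).2 z₂
    have h1 : F.map p' (ξ.app B v₁) = F.map p' (ξ.app B v₂) := congrArg (fun t => t.1.1) hz
    have h2 : F.map p'' (ξ.app B v₁) = F.map p'' (ξ.app B v₂) := congrArg (fun t => t.1.2) hz
    rw [← ξ.natural, ← ξ.natural] at h1 h2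
    rw [homSet_ext_of_isFibreProd h v₁ v₂ ((hξ A').1 h1) ((hξ A'').1 h2)]
  · rintro ⟨⟨x', x''⟩, hx⟩
    have hx' : F.map f' x' = F.map f'' x'' := hx
    obtain ⟨u', rfl⟩ := (hξ A').2 x'
    obtain ⟨u'', rfl⟩ := (hξ A'').2 x''
    rw [← ξ.natural, ← ξ.natural] at hx'
    obtain ⟨v, hv1, hv2⟩ := Groth.Agent.Lib.Helper5.ArtFunLift.exists_homSet_lift h u' u''
      ((hξ A).1 hx')
    refine ⟨ξ.app B v, ?_⟩
    apply FibProd.ext
    · change F.map p' (ξ.app B v) = ξ.app A' u'
      rw [← ξ.natural, hv1]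
    · change F.map p'' (ξ.app B v) = ξ.app A'' u''
      rw [← ξ.natural, hv2]

theorem hfin_of_isProrepresentable [TangentStr F] (h : IsProrepresentable F) : Hfin F := by
  obtain ⟨P⟩ := h
  have h0 := h0_of_isUniversal P.family P.universal
  have hv := isVersal_of_isUniversal P.family P.universal
  exact (Groth.Agent.S12731.result F h0 ⟨⟨P.ring, P.family, hv, P.universal _⟩⟩).2.2

theorem isLeftExact_of_isProrepresentable (h : IsProrepresentable F) : IsLeftExact F := by
  obtain ⟨P⟩ := h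
  exact isLeftExact_of_isUniversal P.family P.universal

end Converse

section Main

variable [IsLocalRing Λ] [IsAdicComplete (IsLocalRing.maximalIdeal Λ) Λ]
  (hsurj : Function.Surjective (algebraMap Λ k)) [TangentStr F]

include hsurj

theorem isProrepresentable_of_rs (h0 : H0 F) (hF : RS F) (h2 : Heps F) (h3 : Hfin F) :
    IsProrepresentable F := by
  have h1 : S1 F := fun _ _ _ _ p' p'' f' f'' h hf => (hF p' p'' f' f'' h hf).2
  obtain ⟨H⟩ := hasHull_of_complete hsurj h0 h1 h2 h3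
  exact ⟨⟨H.ring, H.family, isUniversal_of_isMiniversal h0 hF H.family H.miniversal⟩⟩

theorem isProrepresentable_iff_isLeftExact_and_hfin (h0 : H0 F) :
    IsProrepresentable F ↔ (IsLeftExact F ∧ Hfin F) := by
  constructor
  · intro h
    exact ⟨isLeftExact_of_isProrepresentable h, hfin_of_isProrepresentable h⟩
  · rintro ⟨hl, h3⟩
    exact isProrepresentable_of_rs hsurj h0 (fun _ _ _ _ p' p'' f' f'' h _ => hl p' p'' f' f'' h)
      (fun _ _ p' p'' h => hl p' p'' _ _ h) h3

theorem isProrepresentable_iff_hbar_heps_hfin_hsq (h0 : H0 F) :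
    IsProrepresentable F ↔ (Hbar F ∧ Heps F ∧ Hfin F ∧ HSq F) := by
  constructor
  · intro h
    have hl := isLeftExact_of_isProrepresentable h
    exact ⟨fun _ _ _ _ p' p'' f' f'' h _ => (hl p' p'' f' f'' h).2,
      fun _ _ p' p'' h => hl p' p'' _ _ h, hfin_of_isProrepresentable h,
      fun _ _ _ p₁ p₂ f h _ => hl p₁ p₂ f f h⟩
  · rintro ⟨h1, h2, h3, h4⟩
    exact isProrepresentable_of_rs hsurj h0 (rs_of_hbar_heps_hsq h1 h2 h4) h2 h3

end Main

end Groth.Agent.Lib.Helper1.ArtFunSchlessinger
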