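import Mathlib.RingTheory.Derivation.Basic
import Mathlib.RingTheory.LocalRing.MaximalIdeal.Basic
import Mathlib.LinearAlgebra.Basis.VectorSpace
import Mathlib.LinearAlgebra.FiniteDimensional.Lemmas
import Mathlib.LinearAlgebra.Dimension.Free

set_option autoImplicit false
universe u

namespace Groth.Agent.Lib.Helper1.DerSelect

open IsLocalRing

variable {Λ : Type u} [CommRing Λ] {R : Type u} [CommRing R] [Algebra Λ R] [IsLocalRing R]
  {k : Type u} [Field k] [Algebra R k] [Algebra Λ k] [IsScalarTower Λ R k]

lemma der_sum_apply {ι : Type*} (s : Finset ι) (f : ι → Derivation Λ R k) (y : R) :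
    (∑ i ∈ s, f i) y = ∑ i ∈ s, f i y := by
  classical
  induction s using Finset.induction_on with
  | empty => simp
  | insert a s ha ih => rw [Finset.sum_insert ha, Finset.sum_insert ha, Derivation.add_apply, ih]

/-- Dual generators: elements of the maximal ideal on which evaluation of derivations is a
coordinate system. -/
theorem exists_dual_gens (hres : Function.Surjective (algebraMap R k))
    (hgen : ∀ r : R, ∃ l : Λ, r - algebraMap Λ R l ∈ maximalIdeal R)
    [Module.Finite k (Derivation Λ R k)] :
    ∃ x : Fin (Module.finrank k (Derivation Λ R k)) → R, (∀ j, x j ∈ maximalIdeal R) ∧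
      Function.Bijective (fun (D : Derivation Λ R k) (j : Fin (Module.finrank k (Derivation Λ R k))) =>
        D (x j)) := by
  classical
  have hk : ∀ s : R, algebraMap R k s = 0 ↔ s ∈ maximalIdeal R := by
    intro s
    have hmax : (RingHom.ker (algebraMap R k)).IsMaximal :=
      RingHom.ker_isMaximal_of_surjective _ hres
    rw [← IsLocalRing.eq_maximalIdeal hmax, RingHom.mem_ker]
  set d := Module.finrank k (Derivation Λ R k) with hd
  let b := Module.finBasis k (Derivation Λ R k)
  -- the subspace of values
  let V : Submodule k (Fin d → k) :=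
    { carrier := {v | ∃ y ∈ maximalIdeal R, ∀ i, b i y = v i}
      add_mem' := by
        rintro v w ⟨y, hy, hv⟩ ⟨z, hz, hw⟩
        refine ⟨y + z, Ideal.add_mem _ hy hz, fun i => ?_⟩
        rw [map_add, hv, hw]; rfl
      zero_mem' := ⟨0, Ideal.zero_mem _, fun i => by rw [map_zero]; rfl⟩
      smul_mem' := by
        rintro c v ⟨y, hy, hv⟩
        obtain ⟨r, rfl⟩ := hres c
        refine ⟨r * y, Ideal.mul_mem_left _ _ hy, fun i => ?_⟩
        rw [Derivation.leibniz, hv, Algebra.smul_def, Algebra.smul_def, (hk y).2 hy, zero_mul,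
          add_zero]
        rfl }
  have hV : V = ⊤ := by
    by_contra hne
    obtain ⟨f, hf0, hfV⟩ := Submodule.exists_le_ker_of_lt_top V (lt_top_iff_ne_top.2 hne)
    let c : Fin d → k := fun i => f (fun j => if i = j then 1 else 0)
    have hfc : ∀ v, f v = ∑ i, v i * c i := by
      intro v
      rw [LinearMap.pi_apply_eq_sum_univ f v]
      rfl
    let D₀ : Derivation Λ R k := ∑ i, c i • b i
    have hD₀y : ∀ y ∈ maximalIdeal R, D₀ y = 0 := by
      intro y hy
      have hmem : (fun i => b i y) ∈ V := ⟨y, hy, fun _ => rfl⟩
      have := hfV hmem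
      rw [LinearMap.mem_ker, hfc] at this
      change (∑ i, c i • b i) y = 0
      rw [der_sum_apply]
      rw [← this]
      apply Finset.sum_congr rfl
      intro i _
      rw [Derivation.smul_apply, smul_eq_mul, mul_comm]
    have hD₀ : D₀ = 0 := by
      apply Derivation.ext
      intro r
      obtain ⟨l, hl⟩ := hgen r
      have := hD₀y _ hl
      rw [map_sub, Derivation.map_algebraMap, sub_zero] at this
      rw [this]; rfl
    have hc : c = 0 := by
      funext i
      exact Fintype.linearIndependent_iff.1 b.linearIndependent c hD₀ i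
    apply hf0
    apply LinearMap.ext
    intro v
    rw [hfc, hc]
    simp
  have hx : ∀ j : Fin d, ∃ y ∈ maximalIdeal R, ∀ i, b i y = (Pi.single j (1 : k) : Fin d → k) i := by
    intro j
    have : (Pi.single j (1 : k) : Fin d → k) ∈ V := hV ▸ Submodule.mem_top
    exact this
  choose x hxm hxb using hx
  refine ⟨x, hxm, ?_⟩
  have hE : ∀ (D : Derivation Λ R k) (j : Fin d), D (x j) = b.repr D j := by
    intro D j
    conv_lhs => rw [← b.sum_repr D]
    rw [der_sum_apply]
    rw [Finset.sum_eq_single j]
    · rw [Derivation.smul_apply, hxb, Pi.single_eq_same, smul_eq_mul, mul_one]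
    · intro i _ hij
      rw [Derivation.smul_apply, hxb, Pi.single_eq_of_ne hij, smul_zero]
    · intro h; exact absurd (Finset.mem_univ j) h
  have : (fun (D : Derivation Λ R k) (j : Fin d) => D (x j)) = b.equivFun := by
    funext D j
    rw [hE]
    rfl
  rw [this]
  exact b.equivFun.bijective

end Groth.Agent.Lib.Helper1.DerSelect
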