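import Groth.Agent.Lib.Helper1.ArtFunGenHull
import Groth.Agent.Lib.Helper1.ArtFunSchlessinger
import Groth.Agent.Lib.Helper1.DerSelect

set_option autoImplicit false
universe u v
open CategoryTheory ArtFun ArtFun.Art

namespace Groth.Agent.Lib.Helper1.ArtFunGenProrep

open Groth.Agent.Lib.Helper1.ArtFunBasic Groth.Agent.Lib.Helper1.ArtFunCRing
  Groth.Agent.Lib.Helper1.ArtFunHullStep Groth.Agent.Lib.Helper1.ArtFunTszeObj
  Groth.Agent.Lib.Helper1.ArtFunVersalCrit Groth.Agent.Lib.Helper1.ArtFunQuot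
  Groth.Agent.Lib.Helper1.ArtFunCut Groth.Agent.Lib.Helper1.ArtFunGenVersal
  Groth.Agent.Lib.Helper1.ArtFunHullLimit Groth.Agent.Lib.Helper1.ArtFunDer
  Groth.Agent.Lib.Helper1.ArtFunFib Groth.Agent.Lib.Helper1.ArtFunGenHull

variable {Λ : Type u} {k : Type u} [CommRing Λ] [Field k] [Algebra Λ k]
variable {F : Art Λ k ⥤ Type v}

/-- The family over an object of `Art` given by an element. -/
def eltFamily (C : Art Λ k) (e : F.obj C) : Family C.carrier C.res F where
  app A φ := F.map (homMk φ.1 φ.2 : C ⟶ A) e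
  natural {A B} f φ := by
    rw [← map_comp_apply]
    rfl

lemma eltFamily_app (C : Art Λ k) (e : F.obj C) {A : Art Λ k} (θ : C ⟶ A) :
    (eltFamily C e).app A ⟨θ.toAlgHom, θ.res_comp⟩ = F.map θ e := rfl

section Tsze

variable (r : ℕ)

/-- The ring `k ⊕ k^r`. -/
abbrev TT (k : Type u) [Field k] (r : ℕ) : Type u := TrivSqZeroExt k (Fin r → k)

/-- Its augmentation. -/
noncomputable abbrev resT : TT k r →ₐ[Λ] k := TrivSqZeroExt.fstHom Λ k (Fin r → k)

/-- `k` as an algebra over `k ⊕ k^r`. -/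
noncomputable abbrev tszeAlg : Algebra (TT k r) k :=
  (TrivSqZeroExt.fstHom k k (Fin r → k)).toRingHom.toAlgebra

attribute [local instance] tszeAlg

instance : IsScalarTower Λ (TT k r) k :=
  IsScalarTower.of_algebraMap_eq (R := Λ) (S := TT k r) (A := k)
    (fun l => ((resT (Λ := Λ) r).commutes l).symm)

lemma tsze_hres : ∀ a : TT k r, algebraMap (TT k r) k a = resT (Λ := Λ) r a := fun _ => rfl

lemma res₀ : ∀ a : k, algebraMap k k a = (AlgHom.id Λ k) a := fun _ => rfl

/-- A morphism out of `k ⊕ k^r` as an element of the hom-functor. -/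
def homOf {A : Art Λ k} (θ : tszeObj Λ k r ⟶ A) : HomSet (TT k r) (resT (Λ := Λ) r) A :=
  ⟨θ.toAlgHom, θ.res_comp⟩

/-- The `j`-th coordinate derivation of `k ⊕ k^r`. -/
noncomputable def coordDer (j : Fin r) : Derivation Λ (TT k r) k :=
  derOf (tsze_hres r) (homOf r (prj (Λ := Λ) r j))

lemma coordDer_apply (j : Fin r) (x : TT k r) :
    coordDer (Λ := Λ) r j x = x.snd j := rfl

/-- The restriction of a derivation of `k ⊕ k^r` to `k`. -/
noncomputable def restrDer (D : Derivation Λ (TT k r) k) : Derivation Λ k k :=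
  derOf (resR := AlgHom.id Λ k) res₀
    ⟨(derHom (tsze_hres r) D).1.comp (ofBaseT (Λ := Λ) r).toAlgHom, by
      rw [← AlgHom.comp_assoc, (derHom (tsze_hres r) D).2]
      exact (ofBaseT (Λ := Λ) r).res_comp⟩

lemma restrDer_apply (D : Derivation Λ (TT k r) k) (c : k) :
    restrDer r D c = D (TrivSqZeroExt.inl c) := rfl

/-- The pullback of a derivation of `k` to `k ⊕ k^r`. -/
noncomputable def pullDer (D₀ : Derivation Λ k k) : Derivation Λ (TT k r) k :=
  derOf (tsze_hres r)
    ⟨(derHom (resR := AlgHom.id Λ k) res₀ D₀).1.comp (resT (Λ := Λ) r), by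
      rw [← AlgHom.comp_assoc, (derHom (resR := AlgHom.id Λ k) res₀ D₀).2]
      rfl⟩

lemma pullDer_apply (D₀ : Derivation Λ k k) (x : TT k r) :
    pullDer (Λ := Λ) r D₀ x = D₀ x.fst := rfl

theorem der_decomp (D : Derivation Λ (TT k r) k) :
    D = ∑ j, D (TrivSqZeroExt.inr (Pi.single j (1 : k))) •
      coordDer (Λ := Λ) r j + pullDer r (restrDer r D) := by
  classical
  ext x
  have hx := tsze_decomp r x
  haveI : IsLocalRing (TT k r) := isLocalRing_tsze k (Fin r → k)
  rw [Derivation.add_apply, Groth.Agent.Lib.Helper1.DerSelect.der_sum_apply, pullDer_apply,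
    restrDer_apply]
  simp only [Derivation.smul_apply, coordDer_apply, smul_eq_mul]
  conv_lhs => rw [← hx]
  rw [map_add, map_sum, add_comm]
  congr 1
  apply Finset.sum_congr rfl
  intro j _
  rw [Derivation.leibniz]
  have h1 : (TrivSqZeroExt.inl (x.snd j) : TT k r) •
      D (TrivSqZeroExt.inr (Pi.single j (1 : k))) =
      x.snd j * D (TrivSqZeroExt.inr (Pi.single j (1 : k))) := rfl
  have h2 : (TrivSqZeroExt.inr (Pi.single j (1 : k)) : TT k r) •
      D (TrivSqZeroExt.inl (x.snd j)) = 0 := by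
    change (0 : k) * _ = 0
    rw [zero_mul]
  rw [h1, h2, add_zero, mul_comm]

end Tsze

section Lin

variable [T : TangentStr F] (r : ℕ) (e : F.obj (tszeObj Λ k r))

attribute [local instance] tszeAlg

/-- The family over `k ⊕ k^r` given by an element. -/
noncomputable def tszeFamily : Family (TT k r) (resT (Λ := Λ) r) F := eltFamily (tszeObj Λ k r) e

omit T in
lemma tszeFamily_app {A : Art Λ k} (θ : tszeObj Λ k r ⟶ A) :
    (tszeFamily r e).app A (homOf r θ) = F.map θ e := rfl

/-- The family over `k` given by a point. -/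
def baseFamily (x₀ : F.obj (base Λ k)) : Family k (AlgHom.id Λ k) F := eltFamily (base Λ k) x₀

/-- The morphism `k → k[ε]` of a derivation of `k`. -/
def sigmaOf (D₀ : Derivation Λ k k) : base Λ k ⟶ dual Λ k :=
  homMk (derHom (resR := AlgHom.id Λ k) res₀ D₀).1 (derHom (resR := AlgHom.id Λ k) res₀ D₀).2

/-- The map from derivations of `k` to the tangent space. -/
noncomputable def γ (x₀ : F.obj (base Λ k)) : Derivation Λ k k →ₗ[k] TangentSpace F :=
  tangentLin (resR := AlgHom.id Λ k) res₀ (baseFamily x₀)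

lemma γ_apply (x₀ : F.obj (base Λ k)) (D₀ : Derivation Λ k k) :
    γ x₀ D₀ = F.map (sigmaOf D₀) x₀ := rfl

/-- The tangent map of the family over `k ⊕ k^r`. -/
noncomputable def L : Derivation Λ (TT k r) k →ₗ[k] TangentSpace F :=
  tangentLin (tsze_hres r) (tszeFamily r e)

lemma L_coordDer (j : Fin r) : L r e (coordDer r j) = F.map (prj r j) e := by
  change (tszeFamily r e).app (dual Λ k) (derHom (tsze_hres r) (coordDer r j)) = _
  rw [coordDer, derHom_derOf, tszeFamily_app]

lemma L_pullDer (h0 : H0 F) (x₀ : F.obj (base Λ k)) (D₀ : Derivation Λ k k) :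
    L r e (pullDer r D₀) = γ x₀ D₀ := by
  change (tszeFamily r e).app (dual Λ k) (derHom (tsze_hres r) (pullDer r D₀)) = _
  rw [pullDer, derHom_derOf, γ_apply]
  have h1 : (⟨(derHom (resR := AlgHom.id Λ k) res₀ D₀).1.comp (resT (Λ := Λ) r), by
      rw [← AlgHom.comp_assoc, (derHom (resR := AlgHom.id Λ k) res₀ D₀).2]
      rfl⟩ : HomSet (TT k r) (resT (Λ := Λ) r) (dual Λ k)) =
      homOf r (toBase (tszeObj Λ k r) ≫ sigmaOf D₀) := rfl
  rw [h1, tszeFamily_app, map_comp_apply]
  haveI := h0.2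
  rw [Subsingleton.elim (F.map (toBase (tszeObj Λ k r)) e) x₀]

theorem L_injective (h0 : H0 F) (x₀ : F.obj (base Λ k)) (hγ : Function.Injective (γ x₀))
    (W : Submodule k (TangentSpace F)) (hW : Disjoint W (LinearMap.range (γ x₀)))
    (b : Module.Basis (Fin r) k W) (he : ∀ j, F.map (prj r j) e = (b j : TangentSpace F)) :
    Function.Injective (L r e) := by
  classical
  rw [injective_iff_map_eq_zero]
  intro D hD
  have hdec := der_decomp r D
  set lam : Fin r → k := fun j => D (TrivSqZeroExt.inr (Pi.single j (1 : k))) with hlam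
  have hL : L r e D = ((∑ j, lam j • b j : W) : TangentSpace F) + γ x₀ (restrDer r D) := by
    conv_lhs => rw [hdec]
    rw [map_add, map_sum, L_pullDer r e h0 x₀]
    congr 1
    rw [Submodule.coe_sum]
    apply Finset.sum_congr rfl
    intro j _
    rw [map_smul, L_coordDer, he, Submodule.coe_smul]
  rw [hD] at hL
  have hw : ((∑ j, lam j • b j : W) : TangentSpace F) = 0 := by
    apply Submodule.disjoint_def.1 hW _ (Submodule.coe_mem _)
    have : ((∑ j, lam j • b j : W) : TangentSpace F) = - γ x₀ (restrDer r D) :=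
      eq_neg_of_add_eq_zero_left hL.symm
    rw [this]
    exact Submodule.neg_mem _ (LinearMap.mem_range_self _ _)
  have hw' : (∑ j, lam j • b j : W) = 0 := Subtype.ext hw
  have hlam0 : ∀ j, lam j = 0 := Fintype.linearIndependent_iff.1 b.linearIndependent lam hw'
  have hγ0 : γ x₀ (restrDer r D) = 0 := by
    rw [hw, zero_add] at hL
    exact hL.symm
  have hr0 : restrDer r D = 0 := hγ (by rw [hγ0, map_zero])
  rw [hdec, hr0]
  have : pullDer (Λ := Λ) r (0 : Derivation Λ k k) = 0 := by
    ext x; rfl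
  rw [this, add_zero]
  apply Finset.sum_eq_zero
  intro j _
  have := hlam0 j
  change D (TrivSqZeroExt.inr (Pi.single j (1 : k))) = 0 at this
  rw [this, zero_smul]

end Lin

section Main

variable [IsNoetherianRing Λ] [Module.Finite Λ k] [TangentStr F]

attribute [local instance] tszeAlg

open Groth.Agent.Lib.Helper1.ArtFunAction Groth.Agent.Lib.Helper1.ArtFunUniversal in
/-- The general pro-representability criterion. -/
theorem isProrepresentable_of_rs (h0 : H0 F) (hF : RS F) (h3 : Hfin F)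
    (hc : ∀ x₀ : F.obj (base Λ k),
      Function.Injective (fun σ : base Λ k ⟶ dual Λ k => F.map σ x₀)) :
    IsProrepresentable F := by
  classical
  have h1 : S1 F := fun _ _ _ _ p' p'' f' f'' h hf => (hF p' p'' f' f'' h hf).2
  have h2 : Heps F := fun _ _ p' p'' h => hF p' p'' _ _ h (dual Λ k).res_surjective
  haveI : Module.Finite k (TangentSpace F) := h3
  obtain ⟨x₀⟩ := h0.1
  haveI := h0.2
  have hγ : Function.Injective (γ x₀) := by
    intro D₁ D₂ h
    have h' : sigmaOf D₁ = sigmaOf D₂ := hc x₀ h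
    apply derHom_injective (resR := AlgHom.id Λ k) res₀
    apply Subtype.ext
    exact congrArg Art.Hom.toAlgHom h'
  obtain ⟨W, hW⟩ := Submodule.exists_isCompl (LinearMap.range (γ x₀))
  set r := Module.finrank k W with hr
  let b : Module.Basis (Fin r) k W := Module.finBasis k W
  obtain ⟨S, w, y, hlift, hw, hy, hmin⟩ := exists_smooth_stage_min (Λ := Λ) (k := k) r
  obtain ⟨e, he⟩ := exists_elt h0 h2 r (fun j => (b j : TangentSpace F))
  let s0 : Stage S F := ⟨tszeObj Λ k r, w, hw, e⟩
  let T := towerOf h1 s0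
  letI : Algebra T.ring.carrier k := T.ring.res.toRingHom.toAlgebra
  haveI : IsScalarTower Λ T.ring.carrier k :=
    IsScalarTower.of_algebraMap_eq (fun l => (T.ring.res.commutes l).symm)
  have hres : ∀ a, algebraMap T.ring.carrier k a = T.ring.res a := fun _ => rfl
  -- tangent surjectivity
  have hb : ∀ j, (b j : TangentSpace F) ∈ LinearMap.range (tangentLin hres T.family) := by
    intro j
    let pj : T.obj 0 ⟶ dual Λ k := prj r j
    have hk : T.Jinf ≤ RingHom.ker (HomSet.map pj (T.w 0)).1 := by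
      intro s hs
      have := T.Jinf_le 0 hs
      rw [Tower.mem_J] at this
      rw [RingHom.mem_ker, map_apply, this]
      exact map_zero pj.toAlgHom
    refine ⟨derOf hres (T.desc _ hk), ?_⟩
    rw [tangentLin_apply, derHom_derOf, T.family_app_eq _ pj (T.toS_desc _ hk).symm]
    exact he j
  have hW' : W ≤ LinearMap.range (tangentLin hres T.family) := by
    intro x hx
    have := b.sum_repr ⟨x, hx⟩
    have hx' : x = ∑ j, b.repr ⟨x, hx⟩ j • (b j : TangentSpace F) := by
      conv_lhs => rw [show x = ((⟨x, hx⟩ : W) : TangentSpace F) from rfl, ← this]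
      rw [Submodule.coe_sum]
      rfl
    rw [hx']
    exact Submodule.sum_mem _ fun j _ => Submodule.smul_mem _ _ (hb j)
  have hγr : LinearMap.range (γ x₀) ≤ LinearMap.range (tangentLin hres T.family) := by
    rintro _ ⟨D₀, rfl⟩
    let φ : HomSet T.ring.carrier T.ring.res (dual Λ k) :=
      HomSet.map (sigmaOf D₀) (Groth.Agent.Lib.Helper1.ArtFunVersal.basePt T.ring.carrier T.ring.res)
    refine ⟨derOf hres φ, ?_⟩
    rw [tangentLin_apply, derHom_derOf, γ_apply]
    change T.family.app (dual Λ k) (HomSet.map (sigmaOf D₀) _) = _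
    rw [T.family.natural]
    rw [Subsingleton.elim (T.family.app (base Λ k) _) x₀]
  have htop : LinearMap.range (tangentLin hres T.family) = ⊤ := by
    rw [eq_top_iff, ← hW.sup_eq_top]
    exact sup_le hγr hW'
  have htan : Function.Surjective (T.family.app (dual Λ k)) := by
    intro x
    obtain ⟨D, hD⟩ := LinearMap.range_eq_top.1 htop x
    exact ⟨derHom hres D, hD⟩
  have hvers : IsVersal T.family :=
    T.isVersal hlift h0 h1 h2 (towerOf_isMinimal h1 s0) htan
  -- tangent injectivity
  have hLinj := L_injective r e h0 x₀ hγ W hW.symm.disjoint b he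
  have hinj : Function.Injective (T.family.app (dual Λ k)) := by
    intro φ₁ φ₂ h
    have hk₁ := hmin (T.toS φ₁)
    have hk₂ := hmin (T.toS φ₂)
    obtain ⟨θ₁, hθ₁⟩ := exists_factor w hw (T.toS φ₁) hk₁
    obtain ⟨θ₂, hθ₂⟩ := exists_factor w hw (T.toS φ₂) hk₂
    have e₁ : T.family.app (dual Λ k) φ₁ = F.map θ₁ e :=
      T.family_app_eq (q := 0) φ₁ (θ₁ : T.obj 0 ⟶ dual Λ k) hθ₁
    have e₂ : T.family.app (dual Λ k) φ₂ = F.map θ₂ e :=
      T.family_app_eq (q := 0) φ₂ (θ₂ : T.obj 0 ⟶ dual Λ k) hθ₂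
    rw [e₁, e₂] at h
    have hL : L r e (derOf (tsze_hres r) (homOf r θ₁)) = L r e (derOf (tsze_hres r) (homOf r θ₂)) := by
      change (tszeFamily r e).app (dual Λ k) (derHom (tsze_hres r) (derOf (tsze_hres r) (homOf r θ₁))) =
        (tszeFamily r e).app (dual Λ k) (derHom (tsze_hres r) (derOf (tsze_hres r) (homOf r θ₂)))
      rw [derHom_derOf, derHom_derOf, tszeFamily_app, tszeFamily_app, h]
    have hder := hLinj hL
    have hhom : homOf r θ₁ = homOf r θ₂ := by
      rw [← derHom_derOf (tsze_hres r) (homOf r θ₁), ← derHom_derOf (tsze_hres r) (homOf r θ₂), hder]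
    have hθ : θ₁ = θ₂ := Art.hom_ext (congrArg Subtype.val hhom)
    apply T.toS_injective
    rw [← hθ₁, ← hθ₂, hθ]
  exact ⟨⟨T.ring, T.family, isUniversal_of_isMiniversal h0 hF T.family ⟨hvers, hinj, htan⟩⟩⟩

end Main

end Groth.Agent.Lib.Helper1.ArtFunGenProrep
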