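import Groth.Agent.Lib.Helper1.ArtFunGenFree
import Groth.Agent.Lib.Helper1.ArtFunHull

set_option autoImplicit false
universe u v
open CategoryTheory ArtFun ArtFun.Art

namespace Groth.Agent.Lib.Helper1.ArtFunGenVersal

open Groth.Agent.Lib.Helper1.PSDecomp Groth.Agent.Lib.Helper1.PSRing
  Groth.Agent.Lib.Helper1.ArtFunBasic Groth.Agent.Lib.Helper1.ArtFunCompl
  Groth.Agent.Lib.Helper1.ArtFunTszeObj Groth.Agent.Lib.Helper1.ArtFunGenFree
  Groth.Agent.Lib.Helper1.ArtFunHullLimit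

variable {Λ : Type u} {k : Type u} [CommRing Λ] [Field k] [Algebra Λ k]

lemma polyRes_C {N : ℕ} (α : Fin N → k) (l : Λ) :
    polyRes (Λ := Λ) α (MvPolynomial.C l) = algebraMap Λ k l := MvPolynomial.aeval_C α l

theorem polyRes_surjective_of_span {N : ℕ} (α : Fin N → k)
    (h : Submodule.span Λ (Set.range α) = ⊤) : Function.Surjective (polyRes (Λ := Λ) α) := by
  intro c
  have hc : c ∈ Submodule.span Λ (Set.range α) := by rw [h]; exact Submodule.mem_top
  obtain ⟨l, rfl⟩ := (Submodule.mem_span_range_iff_exists_fun Λ).1 hc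
  refine ⟨∑ i, MvPolynomial.C (l i) * MvPolynomial.X i, ?_⟩
  rw [map_sum]
  apply Finset.sum_congr rfl
  intro i _
  rw [map_mul, polyRes_X, polyRes_C, Algebra.smul_def]

/-- Decomposition of an element of `k ⊕ k^r`. -/
lemma tsze_decomp (r : ℕ) (y : TrivSqZeroExt k (Fin r → k)) :
    (TrivSqZeroExt.inl y.fst + ∑ i, TrivSqZeroExt.inl (y.snd i) * TrivSqZeroExt.inr (Pi.single i (1 : k)) :
      TrivSqZeroExt k (Fin r → k)) = y := by
  classical
  refine TrivSqZeroExt.ext ?_ ?_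
  · rw [TrivSqZeroExt.fst_add, TrivSqZeroExt.fst_inl, TrivSqZeroExt.fst_sum]
    simp
  · rw [TrivSqZeroExt.snd_add, TrivSqZeroExt.snd_inl, zero_add, TrivSqZeroExt.snd_sum]
    simp only [TrivSqZeroExt.inl_mul_inr, TrivSqZeroExt.snd_inr]
    ext j
    rw [Finset.sum_apply]
    simp [Pi.single_apply]

section Stage

variable {n : ℕ} (s : Fin n → k) (hs : Submodule.span Λ (Set.range s) = ⊤) (r : ℕ)

/-- The augmentation data with `r` extra variables going to zero. -/
def α' : Fin (n + r) → k := Fin.append s (fun _ => 0)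

include hs in
lemma span_α' : Submodule.span Λ (Set.range (α' s r)) = ⊤ := by
  rw [eq_top_iff, ← hs]
  apply Submodule.span_mono
  rintro _ ⟨i, rfl⟩
  exact ⟨Fin.castAdd r i, Fin.append_left _ _ i⟩

/-- The images of the variables in `k ⊕ k^r`. -/
noncomputable def b' : Fin (n + r) → tszeObj Λ k r :=
  Fin.append (fun i => (TrivSqZeroExt.inl (s i) : TrivSqZeroExt k (Fin r → k)))
    (fun j => (TrivSqZeroExt.inr (Pi.single j (1 : k)) : TrivSqZeroExt k (Fin r → k)))

lemma res_b' (i : Fin (n + r)) : (tszeObj Λ k r).res (b' (Λ := Λ) s r i) = α' s r i := by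
  refine Fin.addCases (fun i => ?_) (fun j => ?_) i
  · rw [b', α', Fin.append_left, Fin.append_left]; rfl
  · rw [b', α', Fin.append_right, Fin.append_right]; rfl

include hs in
theorem exists_poly_stage :
    ∃ φ₀ : HomSet (MvPolynomial (Fin (n + r)) Λ) (polyRes (α' s r)) (tszeObj Λ k r),
      Function.Surjective φ₀.1 ∧ ∀ j : Fin r, φ₀.1 (MvPolynomial.X (Fin.natAdd n j)) =
        (TrivSqZeroExt.inr (Pi.single j (1 : k)) : TrivSqZeroExt k (Fin r → k)) := by
  classical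
  obtain ⟨φ₀, hφ₀⟩ := poly_exists_hom (α' s r) (tszeObj Λ k r) (b' s r) (res_b' s r)
  have hY : ∀ j : Fin r, φ₀.1 (MvPolynomial.X (Fin.natAdd n j)) =
      (TrivSqZeroExt.inr (Pi.single j (1 : k)) : TrivSqZeroExt k (Fin r → k)) := fun j => by
    rw [hφ₀, b', Fin.append_right]
  have hX : ∀ i : Fin n, φ₀.1 (MvPolynomial.X (Fin.castAdd r i)) =
      (TrivSqZeroExt.inl (s i) : TrivSqZeroExt k (Fin r → k)) := fun i => by
    rw [hφ₀, b', Fin.append_left]
  have hinl : ∀ c : k, ∃ p, φ₀.1 p = (TrivSqZeroExt.inl c : TrivSqZeroExt k (Fin r → k)) := by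
    intro c
    have hc : c ∈ Submodule.span Λ (Set.range s) := by rw [hs]; exact Submodule.mem_top
    obtain ⟨l, rfl⟩ := (Submodule.mem_span_range_iff_exists_fun Λ).1 hc
    refine ⟨∑ i, MvPolynomial.C (l i) * MvPolynomial.X (Fin.castAdd r i), ?_⟩
    rw [map_sum]
    have : (TrivSqZeroExt.inl (∑ i, l i • s i) : TrivSqZeroExt k (Fin r → k)) =
        ∑ i, TrivSqZeroExt.inl (l i • s i) := by
      rw [← TrivSqZeroExt.inlHom_apply, map_sum]; rfl
    rw [this]
    apply Finset.sum_congr rfl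
    intro i _
    rw [map_mul, hX, ← MvPolynomial.algebraMap_eq, AlgHom.commutes]
    change algebraMap Λ (TrivSqZeroExt k (Fin r → k)) (l i) * _ = _
    rw [TrivSqZeroExt.algebraMap_eq_inl', ← TrivSqZeroExt.inl_mul, Algebra.smul_def]
  refine ⟨φ₀, fun y => ?_, hY⟩
  obtain ⟨p, hp⟩ := hinl (TrivSqZeroExt.fst (y : TrivSqZeroExt k (Fin r → k)))
  choose q hq using fun j : Fin r => hinl (TrivSqZeroExt.snd (y : TrivSqZeroExt k (Fin r → k)) j)
  refine ⟨p + ∑ j, q j * MvPolynomial.X (Fin.natAdd n j), ?_⟩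
  rw [map_add, map_sum, hp]
  rw [Finset.sum_congr rfl (fun j _ => by rw [map_mul, hq j, hY j])]
  exact tsze_decomp r y

end Stage

section Versal

variable [IsNoetherianRing Λ] [Module.Finite Λ k]

/-- A smooth coefficient ring with a surjection onto `k ⊕ k^r`. -/
theorem exists_smooth_stage (r : ℕ) :
    ∃ (S : CRing Λ k) (w : HomSet S.carrier S.res (tszeObj Λ k r)) (y : Fin r → S.carrier),
      (∀ ⦃B A : Art Λ k⦄ (μ : B ⟶ A), Function.Surjective μ →
        ∀ φ : HomSet S.carrier S.res A, ∃ ψ : HomSet S.carrier S.res B, HomSet.map μ ψ = φ) ∧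
      Function.Surjective w.1 ∧
      ∀ j, w.1 (y j) = (TrivSqZeroExt.inr (Pi.single j (1 : k)) : TrivSqZeroExt k (Fin r → k)) := by
  classical
  obtain ⟨n, s, hs⟩ := Module.Finite.exists_fin (R := Λ) (M := k)
  have hα := polyRes_surjective_of_span (Λ := Λ) (α' s r) (span_α' s hs r)
  obtain ⟨G⟩ := nonempty_gens (MvPolynomial (Fin (n + r)) Λ) (polyRes (α' s r))
  obtain ⟨φ₀, hφ₀, hY⟩ := exists_poly_stage (Λ := Λ) s hs r
  obtain ⟨w, hw⟩ := G.restr_surjective hα φ₀
  have hwι : ∀ p, w.1 (G.ι p) = φ₀.1 p := fun p =>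
    congrArg (fun g : HomSet (MvPolynomial (Fin (n + r)) Λ) (polyRes (α' s r)) (tszeObj Λ k r) => g.1 p) hw
  refine ⟨G.ring hα, w, fun j => G.ι (MvPolynomial.X (Fin.natAdd n j)),
    G.exists_lift hα (poly_exists_lift (α' s r)), fun y => ?_, fun j => ?_⟩
  · obtain ⟨p, hp⟩ := hφ₀ y
    exact ⟨G.ι p, (hwι p).trans hp⟩
  · rw [hwι, hY]

/-- Existence of a versal family over a general base. -/
theorem hasVersal {F : Art Λ k ⥤ Type v} [TangentStr F]
    (h0 : H0 F) (h1 : S1 F) (h2 : Heps F) (h3 : Hfin F) : HasVersal F := by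
  haveI : Module.Finite k (TangentSpace F) := h3
  let b := Module.finBasis k (TangentSpace F)
  obtain ⟨S, w, y, hlift, hw, hy⟩ := exists_smooth_stage (Λ := Λ) (k := k)
    (Module.finrank k (TangentSpace F))
  obtain ⟨e, he⟩ := exists_elt h0 h2 (Module.finrank k (TangentSpace F)) b
  obtain ⟨R, π, hπ, hπs, ξ, hξ⟩ := exists_versal hlift h0 h1 h2 ⟨tszeObj Λ k _, w, hw, e⟩ b b.span_eq
    (prj _) he
  exact ⟨⟨R, ξ, hξ⟩⟩

end Versal

end Groth.Agent.Lib.Helper1.ArtFunGenVersal
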