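import Groth.Prelude.Def_ArtFun5
import Groth.Agent.Lib.Helper1.PSDecomp

set_option autoImplicit false
universe u v

namespace Groth.Agent.Lib.Helper1.Chevalley

open ArtFun Groth.Agent.Lib.Helper1.PSDecomp

variable {Λ : Type u} {k : Type u} [CommRing Λ] [Field k] [Algebra Λ k]
variable (S : CRing Λ k)

/-- Stabilisation of a decreasing chain of ideals modulo a power of the maximal ideal. -/
theorem exists_stable (J : ℕ → Ideal S.carrier) (hJ : Antitone J) (N : ℕ) :
    ∃ q₀ : ℕ, ∀ q q' : ℕ, q₀ ≤ q → q₀ ≤ q' →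
      J q ≤ J q' ⊔ IsLocalRing.maximalIdeal S.carrier ^ N := by
  cases N with
  | zero =>
    refine ⟨0, fun q q' _ _ => ?_⟩
    rw [pow_zero, Ideal.one_eq_top, sup_top_eq]
    exact le_top
  | succ n =>
    haveI := CRing.isArtinianRing_quot_mpow S n
    let mk := Ideal.Quotient.mk (CRing.mpow S n)
    let f : ℕ →o (Submodule (S.carrier ⧸ CRing.mpow S n) (S.carrier ⧸ CRing.mpow S n))ᵒᵈ :=
      ⟨fun q => OrderDual.toDual ((J q).map mk), fun a b hab =>
        OrderDual.toDual_le_toDual.2 (Ideal.map_mono (hJ hab))⟩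
    obtain ⟨q₀, hq₀⟩ := IsArtinian.monotone_stabilizes f
    have hst : ∀ q, q₀ ≤ q → (J q₀).map mk = (J q).map mk := fun q hq =>
      OrderDual.toDual.injective (hq₀ q hq)
    have hsup : ∀ q, q₀ ≤ q → J q ⊔ CRing.mpow S n = J q₀ ⊔ CRing.mpow S n := by
      intro q hq
      have h1 := Ideal.comap_map_of_surjective mk Ideal.Quotient.mk_surjective (J q)
      have h2 := Ideal.comap_map_of_surjective mk Ideal.Quotient.mk_surjective (J q₀)
      have hk : Ideal.comap mk ⊥ = CRing.mpow S n := by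
        rw [← RingHom.ker_eq_comap_bot, Ideal.mk_ker]
      rw [hk] at h1 h2
      rw [← h1, ← h2, hst q hq]
    refine ⟨q₀, fun q q' hq hq' => ?_⟩
    calc J q ≤ J q ⊔ CRing.mpow S n := le_sup_left
      _ = J q' ⊔ CRing.mpow S n := by rw [hsup q hq, hsup q' hq']

/-- Chevalley's lemma: a decreasing chain of open ideals in a complete local Noetherian ring is
cofinal, modulo its intersection, with the powers of the maximal ideal. -/
theorem exists_le_iInf_sup_pow (J : ℕ → Ideal S.carrier) (hJ : Antitone J)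
    (hopen : ∀ q, ∃ M, IsLocalRing.maximalIdeal S.carrier ^ M ≤ J q) (N : ℕ) :
    ∃ q, J q ≤ (⨅ q, J q) ⊔ IsLocalRing.maximalIdeal S.carrier ^ N := by
  classical
  set n := IsLocalRing.maximalIdeal S.carrier with hn
  have : IsAdicComplete n S.carrier := S.isAdicComplete
  choose q₀ hq₀ using exists_stable S J hJ
  let P : ℕ → ℕ := fun N => Nat.rec (q₀ 0) (fun N pN => max (max pN (q₀ (N + 1))) (N + 1)) N
  have hP0 : P 0 = q₀ 0 := rfl
  have hPs : ∀ N, P (N + 1) = max (max (P N) (q₀ (N + 1))) (N + 1) := fun _ => rfl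
  have hP1 : ∀ N, N ≤ P N := by
    intro N
    cases N with
    | zero => exact Nat.zero_le _
    | succ N => rw [hPs]; exact le_max_right _ _
  have hP2 : ∀ N, q₀ N ≤ P N := by
    intro N
    cases N with
    | zero => exact le_rfl
    | succ N => rw [hPs]; exact (le_max_right _ _).trans (le_max_left _ _)
  have hP3 : ∀ N, P N ≤ P (N + 1) := fun N => by
    rw [hPs]; exact (le_max_left _ _).trans (le_max_left _ _)
  have hP4 : Monotone P := monotone_nat_of_le_succ hP3
  refine ⟨P N, fun x hx => ?_⟩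
  -- the sequence
  have hstep : ∀ (j : ℕ) (y : {y : S.carrier // y ∈ J (P (N + j))}),
      ∃ y' : {y' : S.carrier // y' ∈ J (P (N + j + 1))}, y.1 - y'.1 ∈ n ^ (N + j) := by
    intro j y
    have := hq₀ (N + j) (P (N + j)) (P (N + j + 1)) (hP2 _) ((hP2 _).trans (hP3 _)) y.2
    obtain ⟨a, ha, b, hb, hab⟩ := Submodule.mem_sup.1 this
    refine ⟨⟨a, ha⟩, ?_⟩
    rw [← hab, add_sub_cancel_left]
    exact hb
  choose next hnext using hstep
  let seq : ∀ j : ℕ, {y : S.carrier // y ∈ J (P (N + j))} :=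
    fun j => Nat.rec (motive := fun j => {y : S.carrier // y ∈ J (P (N + j))}) ⟨x, hx⟩
      (fun j y => next j y) j
  obtain ⟨g, hgmem, hg0, hgs⟩ : ∃ g : ℕ → S.carrier, (∀ j, g j ∈ J (P (N + j))) ∧ g 0 = x ∧
      ∀ j, g j - g (j + 1) ∈ n ^ (N + j) :=
    ⟨fun j => (seq j).1, fun j => (seq j).2, rfl, fun j => hnext j (seq j)⟩
  have htel : ∀ m d : ℕ, g m - g (m + d) ∈ n ^ (N + m) := by
    intro m d
    induction d with
    | zero => rw [add_zero, sub_self]; exact Ideal.zero_mem _
    | succ d ih =>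
      have h1 := hgs (m + d)
      have h2 : n ^ (N + (m + d)) ≤ n ^ (N + m) := Ideal.pow_le_pow_right (by omega)
      have : g m - g (m + (d + 1)) = (g m - g (m + d)) + (g (m + d) - g (m + d + 1)) := by
        rw [← add_assoc]; ring
      rw [this]
      exact Ideal.add_mem _ ih (h2 h1)
  have hcauchy : ∀ {a b : ℕ}, a ≤ b →
      g a ≡ g b [SMOD (n ^ a • ⊤ : Submodule S.carrier S.carrier)] := by
    intro a b hab
    rw [smodEq_pow_iff]
    obtain ⟨d, rfl⟩ := Nat.exists_eq_add_of_le hab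
    exact Ideal.pow_le_pow_right (Nat.le_add_left a N) (htel a d)
  obtain ⟨L, hL⟩ := IsPrecomplete.prec (I := n) (M := S.carrier) inferInstance (f := g) hcauchy
  have hL' : ∀ j, g j - L ∈ n ^ j := fun j => (smodEq_pow_iff n j _ _).1 (hL j)
  have hLJ : L ∈ ⨅ q, J q := by
    rw [Ideal.mem_iInf]
    intro q
    obtain ⟨M, hM⟩ := hopen q
    have h1 : g (q + M) ∈ J q :=
      hJ ((by omega : q ≤ N + (q + M)).trans (hP1 _)) (hgmem (q + M))
    have h2 : g (q + M) - L ∈ J q :=
      hM (Ideal.pow_le_pow_right (Nat.le_add_left M q) (hL' (q + M)))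
    have := Ideal.sub_mem _ h1 h2
    rwa [sub_sub_cancel] at this
  have hxL : x - L ∈ n ^ N := by
    have h1 : x - g N ∈ n ^ N := by
      have := htel 0 N
      rw [zero_add, add_zero, hg0] at this
      exact this
    have h2 := hL' N
    have : x - L = (x - g N) + (g N - L) := by ring
    rw [this]
    exact Ideal.add_mem _ h1 h2
  rw [Submodule.mem_sup]
  exact ⟨L, hLJ, x - L, hxL, by ring⟩

end Groth.Agent.Lib.Helper1.Chevalley
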