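import Groth.Agent.Lib.Helper1.ArtFunHullStep
import Groth.Agent.Lib.Helper1.Chevalley
import Groth.Agent.S3866
import Groth.Agent.Lib.Helper1.ArtFunDer

set_option autoImplicit false
universe u v

open CategoryTheory

namespace Groth.Agent.Lib.Helper1.ArtFunHullLimit

open ArtFun ArtFun.Art Groth.Agent.Lib.Helper1.ArtFunBasic Groth.Agent.Lib.Helper1.ArtFunFib
  Groth.Agent.Lib.Helper1.ArtFunCRing Groth.Agent.Lib.Helper1.ArtFunVersalCrit
  Groth.Agent.Lib.Helper1.ArtFunHullStep

variable {Λ : Type u} {k : Type u} [CommRing Λ] [Field k] [Algebra Λ k]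
variable [IsNoetherianRing Λ] [Module.Finite Λ k]

/-- A tower of Artinian quotients of `S` with compatible elements of `F`. -/
structure Tower (S : CRing Λ k) (F : Art Λ k ⥤ Type v) where
  obj : ℕ → Art Λ k
  w : ∀ q, HomSet S.carrier S.res (obj q)
  hw : ∀ q, Function.Surjective (w q).1
  elt : ∀ q, F.obj (obj q)
  π : ∀ q, obj (q + 1) ⟶ obj q
  hπw : ∀ q, HomSet.map (π q) (w (q + 1)) = w q
  hπe : ∀ q, F.map (π q) (elt (q + 1)) = elt q

namespace Tower

variable {S : CRing Λ k} {F : Art Λ k ⥤ Type v} (T : Tower S F)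

/-- The kernel of `S → obj q`. -/
def J (q : ℕ) : Ideal S.carrier := RingHom.ker (T.w q).1

lemma mem_J {q : ℕ} {s : S.carrier} : s ∈ T.J q ↔ (T.w q).1 s = 0 := RingHom.mem_ker

lemma π_w (q : ℕ) (s : S.carrier) : T.π q ((T.w (q + 1)).1 s) = (T.w q).1 s :=
  congrArg (fun g : HomSet S.carrier S.res (T.obj q) => g.1 s) (T.hπw q)

lemma J_antitone : Antitone T.J := by
  apply antitone_nat_of_succ_le
  intro q s hs
  rw [mem_J] at hs ⊢
  rw [← T.π_w q s, hs, map_zero]

lemma J_le_maximalIdeal (q : ℕ) : T.J q ≤ IsLocalRing.maximalIdeal S.carrier := by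
  intro s hs
  rw [mem_J] at hs
  rw [S.mem_maximalIdeal_iff, ← res_homSet (T.w q) s, hs, map_zero]

lemma J_open (q : ℕ) : ∃ M, IsLocalRing.maximalIdeal S.carrier ^ M ≤ T.J q := by
  obtain ⟨N₀, hN₀⟩ := exists_pow_maximalIdeal_eq_bot (T.obj q)
  have hN₀' : IsLocalRing.maximalIdeal (T.obj q) ^ (N₀ + 1) = ⊥ := by
    rw [pow_succ, hN₀, Ideal.bot_mul]
  exact ⟨N₀ + 1, fun s hs => homSet_mpow_le S (T.w q) N₀ hN₀' s hs⟩

/-- The intersection of the kernels. -/
def Jinf : Ideal S.carrier := ⨅ q, T.J q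

lemma Jinf_le (q : ℕ) : T.Jinf ≤ T.J q := iInf_le _ q

lemma Jinf_le_maximalIdeal : T.Jinf ≤ IsLocalRing.maximalIdeal S.carrier :=
  (T.Jinf_le 0).trans (T.J_le_maximalIdeal 0)

lemma Jinf_ne_top : T.Jinf ≠ ⊤ := fun h =>
  (IsLocalRing.maximalIdeal.isMaximal S.carrier).ne_top (top_le_iff.1 (h ▸ T.Jinf_le_maximalIdeal))

instance : Nontrivial (S.carrier ⧸ T.Jinf) := Ideal.Quotient.nontrivial_iff.2 T.Jinf_ne_top

instance : IsLocalRing (S.carrier ⧸ T.Jinf) :=
  IsLocalRing.of_surjective' (Ideal.Quotient.mk T.Jinf) Ideal.Quotient.mk_surjective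

/-- The augmentation of the limit ring. -/
noncomputable def ringRes : (S.carrier ⧸ T.Jinf) →ₐ[Λ] k :=
  Ideal.Quotient.liftₐ T.Jinf S.res
    (fun a ha => (S.mem_maximalIdeal_iff a).1 (T.Jinf_le_maximalIdeal ha))

lemma ringRes_mk (a : S.carrier) : T.ringRes (Ideal.Quotient.mk T.Jinf a) = S.res a := rfl

lemma ringRes_surjective : Function.Surjective T.ringRes := fun c => by
  obtain ⟨a, ha⟩ := S.res_surjective c
  exact ⟨Ideal.Quotient.mk _ a, ha⟩

lemma mem_maximalIdeal_quot_iff (y : S.carrier ⧸ T.Jinf) :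
    y ∈ IsLocalRing.maximalIdeal (S.carrier ⧸ T.Jinf) ↔ T.ringRes y = 0 := by
  have hmax : (RingHom.ker (T.ringRes : (S.carrier ⧸ T.Jinf) →+* k)).IsMaximal :=
    RingHom.ker_isMaximal_of_surjective (T.ringRes : (S.carrier ⧸ T.Jinf) →+* k) T.ringRes_surjective
  rw [← IsLocalRing.eq_maximalIdeal hmax, RingHom.mem_ker]
  rfl

lemma map_maximalIdeal : (IsLocalRing.maximalIdeal S.carrier).map (algebraMap S.carrier (S.carrier ⧸ T.Jinf)) =
    IsLocalRing.maximalIdeal (S.carrier ⧸ T.Jinf) := by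
  ext y
  obtain ⟨a, rfl⟩ := Ideal.Quotient.mk_surjective y
  rw [mem_maximalIdeal_quot_iff, ringRes_mk, ← S.mem_maximalIdeal_iff]
  exact mem_map_iff_of_ker_le (Ideal.Quotient.mk T.Jinf) Ideal.Quotient.mk_surjective _
    (by rw [Ideal.mk_ker]; exact T.Jinf_le_maximalIdeal) a

lemma isAdicComplete :
    IsAdicComplete (IsLocalRing.maximalIdeal (S.carrier ⧸ T.Jinf)) (S.carrier ⧸ T.Jinf) := by
  haveI : IsAdicComplete (IsLocalRing.maximalIdeal S.carrier) S.carrier := S.isAdicComplete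
  have h := Groth.Agent.S3866.result S.carrier (IsLocalRing.maximalIdeal S.carrier) (S.carrier ⧸ T.Jinf)
  rw [← T.map_maximalIdeal]
  exact (IsAdicComplete.map_algebraMap_iff _ _).2 h

/-- The limit ring `S / ⋂ J_q`. -/
noncomputable def ring : CRing Λ k where
  carrier := S.carrier ⧸ T.Jinf
  res := T.ringRes
  res_surjective := T.ringRes_surjective
  isAdicComplete := T.isAdicComplete

section Hom

variable {A B : Art Λ k}

/-- Restriction of a map out of the limit ring to `S`. -/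
noncomputable def toS (φ : HomSet T.ring.carrier T.ring.res A) : HomSet S.carrier S.res A :=
  ⟨φ.1.comp (Ideal.Quotient.mkₐ Λ T.Jinf), by
    rw [← AlgHom.comp_assoc, φ.2]
    exact Ideal.Quotient.liftₐ_comp _ _ _⟩

lemma toS_apply (φ : HomSet T.ring.carrier T.ring.res A) (s : S.carrier) :
    (T.toS φ).1 s = φ.1 (Ideal.Quotient.mk T.Jinf s) := rfl

lemma toS_injective : Function.Injective (T.toS (A := A)) := by
  intro φ ψ h
  apply Subtype.ext
  apply AlgHom.ext
  intro y
  obtain ⟨s, rfl⟩ := Ideal.Quotient.mk_surjective y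
  exact congrArg (fun g : HomSet S.carrier S.res A => g.1 s) h

lemma toS_map (f : A ⟶ B) (φ : HomSet T.ring.carrier T.ring.res A) :
    T.toS (HomSet.map f φ) = HomSet.map f (T.toS φ) := rfl

lemma Jinf_le_ker_toS (φ : HomSet T.ring.carrier T.ring.res A) :
    T.Jinf ≤ RingHom.ker (T.toS φ).1 := by
  intro s hs
  rw [RingHom.mem_ker, toS_apply, Ideal.Quotient.eq_zero_iff_mem.2 hs]
  exact map_zero φ.1

/-- Descent of a map `S → A` killing `Jinf` to the limit ring. -/
noncomputable def desc (ψ : HomSet S.carrier S.res A) (h : T.Jinf ≤ RingHom.ker ψ.1) :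
    HomSet T.ring.carrier T.ring.res A :=
  ⟨Ideal.Quotient.liftₐ T.Jinf ψ.1 (fun a ha => h ha), by
    apply AlgHom.ext
    intro y
    obtain ⟨s, rfl⟩ := Ideal.Quotient.mk_surjective y
    exact res_homSet ψ s⟩

lemma toS_desc (ψ : HomSet S.carrier S.res A) (h : T.Jinf ≤ RingHom.ker ψ.1) :
    T.toS (T.desc ψ h) = ψ :=
  Subtype.ext (AlgHom.ext fun _ => rfl)

/-- Every map out of the limit ring factors through a stage. -/
theorem exists_factor_stage (φ : HomSet T.ring.carrier T.ring.res A) :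
    ∃ (q : ℕ) (θ : T.obj q ⟶ A), HomSet.map θ (T.w q) = T.toS φ := by
  obtain ⟨N₀, hN₀⟩ := exists_pow_maximalIdeal_eq_bot A
  have hN₀' : IsLocalRing.maximalIdeal A ^ (N₀ + 1) = ⊥ := by
    rw [pow_succ, hN₀, Ideal.bot_mul]
  obtain ⟨q, hq⟩ := Groth.Agent.Lib.Helper1.Chevalley.exists_le_iInf_sup_pow S T.J T.J_antitone
    T.J_open (N₀ + 1)
  have hker : RingHom.ker (T.w q).1 ≤ RingHom.ker (T.toS φ).1 := by
    refine le_trans hq (sup_le (T.Jinf_le_ker_toS φ) ?_)
    intro s hs
    exact homSet_mpow_le S (T.toS φ) N₀ hN₀' s hs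
  obtain ⟨θ, hθ⟩ := exists_factor (T.w q) (T.hw q) (T.toS φ) hker
  exact ⟨q, θ, hθ⟩

end Hom

section Trans

theorem exists_trans {q q' : ℕ} (h : q ≤ q') :
    ∃ τ : T.obj q' ⟶ T.obj q, HomSet.map τ (T.w q') = T.w q :=
  exists_factor (T.w q') (T.hw q') (T.w q) (T.J_antitone h)

/-- The transition maps. -/
noncomputable def trans {q q' : ℕ} (h : q ≤ q') : T.obj q' ⟶ T.obj q := (T.exists_trans h).choose

lemma trans_w {q q' : ℕ} (h : q ≤ q') : HomSet.map (T.trans h) (T.w q') = T.w q :=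
  (T.exists_trans h).choose_spec

lemma trans_elt {q q' : ℕ} (h : q ≤ q') : F.map (T.trans h) (T.elt q') = T.elt q := by
  induction q', h using Nat.le_induction with
  | base =>
    have : T.trans (le_refl q) = 𝟙 _ := by
      apply hom_ext_of_surjective (T.w q) (T.hw q)
      rw [trans_w, homSet_map_id]
    rw [this, map_id_apply]
  | succ m hqm ih =>
    have : T.trans (Nat.le_succ_of_le hqm) = T.π m ≫ T.trans hqm := by
      apply hom_ext_of_surjective (T.w (m + 1)) (T.hw (m + 1))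
      rw [trans_w, homSet_map_comp, T.hπw, trans_w]
    rw [this, map_comp_apply, T.hπe, ih]

variable {A B : Art Λ k}

theorem wd {q q' : ℕ} (θ : T.obj q ⟶ A) (θ' : T.obj q' ⟶ A)
    (h : HomSet.map θ (T.w q) = HomSet.map θ' (T.w q')) :
    F.map θ (T.elt q) = F.map θ' (T.elt q') := by
  have key : ∀ {q q' : ℕ} (hqq' : q ≤ q') (θ : T.obj q ⟶ A) (θ' : T.obj q' ⟶ A),
      HomSet.map θ (T.w q) = HomSet.map θ' (T.w q') →
      F.map θ (T.elt q) = F.map θ' (T.elt q') := by
    intro q q' hqq' θ θ' h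
    have : θ' = T.trans hqq' ≫ θ := by
      apply hom_ext_of_surjective (T.w q') (T.hw q')
      rw [homSet_map_comp, trans_w, h]
    rw [this, map_comp_apply, trans_elt]
  rcases le_total q q' with hqq' | hqq'
  · exact key hqq' θ θ' h
  · exact (key hqq' θ' θ h.symm).symm

/-- The limit family. -/
noncomputable def family : Family T.ring.carrier T.ring.res F where
  app A φ := F.map (T.exists_factor_stage φ).choose_spec.choose
    (T.elt (T.exists_factor_stage φ).choose)
  natural {A B} f φ := by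
    have h1 := (T.exists_factor_stage φ).choose_spec.choose_spec
    have h2 := (T.exists_factor_stage (HomSet.map f φ)).choose_spec.choose_spec
    rw [← map_comp_apply]
    apply T.wd
    rw [h2, homSet_map_comp, h1, toS_map]

theorem family_app_eq (φ : HomSet T.ring.carrier T.ring.res A) {q : ℕ} (θ : T.obj q ⟶ A)
    (h : HomSet.map θ (T.w q) = T.toS φ) : T.family.app A φ = F.map θ (T.elt q) := by
  have h1 := (T.exists_factor_stage φ).choose_spec.choose_spec
  change F.map _ (T.elt _) = _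
  apply T.wd
  rw [h1, h]

end Trans

section Versal

/-- The minimality property of the tower. -/
def IsMinimal : Prop :=
  ∀ (q : ℕ) (C : Art Λ k) (ρ : C ⟶ T.obj q) (v : HomSet S.carrier S.res C) (z : F.obj C),
    IsLocalRing.maximalIdeal C * RingHom.ker ρ.toAlgHom = ⊥ → Function.Surjective v.1 →
    HomSet.map ρ v = T.w q → F.map ρ z = T.elt q →
    RingHom.ker (T.w (q + 1)).1 ≤ RingHom.ker v.1

theorem isVersal
    (hlift : ∀ ⦃B A : Art Λ k⦄ (μ : B ⟶ A), Function.Surjective μ →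
      ∀ φ : HomSet S.carrier S.res A, ∃ ψ : HomSet S.carrier S.res B, HomSet.map μ ψ = φ)
    (h0 : H0 F) (h1 : S1 F) (h2 : Heps F) (hmin : T.IsMinimal)
    (htan : Function.Surjective (T.family.app (dual Λ k))) : IsVersal T.family := by
  refine (isVersal_iff_tangent_surjective_and_exists_lift h0 h1 h2 T.family).2 ⟨htan, ?_⟩
  intro B A μ hμ φ y hy
  obtain ⟨q, θ, hθ⟩ := T.exists_factor_stage φ
  have hval := T.family_app_eq φ θ hθ
  have sq := Groth.Agent.Lib.Helper1.ArtFunPullback.pb_isFibreProd θ μ hμ.1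
  set C := Groth.Agent.Lib.Helper1.ArtFunPullback.pbObj θ μ hμ.1 with hC
  set ρ : C ⟶ T.obj q := Groth.Agent.Lib.Helper1.ArtFunPullback.pbFst θ μ hμ.1 with hρ
  set p₂ : C ⟶ B := Groth.Agent.Lib.Helper1.ArtFunPullback.pbSnd θ μ hμ.1 with hp₂
  have hsmall : IsSmallExt ρ := Groth.Agent.Lib.Helper1.ArtFunSmall.isSmallExt_fst_of_isFibreProd sq hμ
  obtain ⟨z, hz⟩ := h1 ρ p₂ θ μ sq hμ.1 ⟨(T.elt q, y), by rw [hy, hval]⟩
  have hz1 : F.map ρ z = T.elt q := congrArg (fun t => t.1.1) hz
  obtain ⟨v, hv⟩ := hlift ρ hsmall.1 (T.w q)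
  have hJv : T.Jinf ≤ RingHom.ker v.1 := by
    rcases surjective_or_ker_le ρ hsmall (T.w q) (T.hw q) v hv with hs | hk
    · exact (T.Jinf_le (q + 1)).trans (hmin q C ρ v z hsmall.2.2.2 hs hv hz1)
    · exact (T.Jinf_le q).trans hk
  have hJv' : T.Jinf ≤ RingHom.ker (HomSet.map p₂ v).1 := by
    intro s hs
    have := hJv hs
    rw [RingHom.mem_ker] at this ⊢
    rw [map_apply, this]
    exact map_zero p₂.toAlgHom
  refine ⟨T.desc (HomSet.map p₂ v) hJv', ?_⟩
  apply T.toS_injective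
  rw [toS_map, toS_desc, ← homSet_map_comp, ← sq.w, homSet_map_comp, hv, hθ]

end Versal

section Tangent

variable [TangentStr F]

open Groth.Agent.Lib.Helper1.ArtFunDer in
theorem tangent_surjective {ι : Type*} (τ : ι → TangentSpace F)
    (hspan : Submodule.span k (Set.range τ) = ⊤)
    (pr : ι → (T.obj 0 ⟶ dual Λ k)) (hpr : ∀ i, F.map (pr i) (T.elt 0) = τ i) :
    Function.Surjective (T.family.app (dual Λ k)) := by
  letI : Algebra T.ring.carrier k := T.ring.res.toRingHom.toAlgebra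
  haveI : IsScalarTower Λ T.ring.carrier k :=
    IsScalarTower.of_algebraMap_eq (fun l => (T.ring.res.commutes l).symm)
  have hres : ∀ r, algebraMap T.ring.carrier k r = T.ring.res r := fun _ => rfl
  have hrange : ∀ i, τ i ∈ LinearMap.range (tangentLin hres T.family) := by
    intro i
    have hk : T.Jinf ≤ RingHom.ker (HomSet.map (pr i) (T.w 0)).1 := by
      intro s hs
      have := T.Jinf_le 0 hs
      rw [mem_J] at this
      rw [RingHom.mem_ker, map_apply, this]
      exact map_zero (pr i).toAlgHom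
    refine ⟨derOf hres (T.desc _ hk), ?_⟩
    rw [tangentLin_apply, derHom_derOf, T.family_app_eq _ (pr i) (T.toS_desc _ hk).symm, hpr]
  have htop : LinearMap.range (tangentLin hres T.family) = ⊤ := by
    rw [eq_top_iff, ← hspan, Submodule.span_le]
    rintro _ ⟨i, rfl⟩
    exact hrange i
  intro x
  obtain ⟨D, hD⟩ := LinearMap.range_eq_top.1 htop x
  exact ⟨derHom hres D, hD⟩

end Tangent

end Tower

section Build

variable (S : CRing Λ k) (F : Art Λ k ⥤ Type v)

/-- A stage of the construction. -/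
structure Stage where
  obj : Art Λ k
  w : HomSet S.carrier S.res obj
  hw : Function.Surjective w.1
  elt : F.obj obj

variable {S F}

/-- The data of one step. -/
structure StepData (s : Stage S F) where
  next : Stage S F
  π : next.obj ⟶ s.obj
  hπw : HomSet.map π next.w = s.w
  hπe : F.map π next.elt = s.elt
  hmin : ∀ (C : Art Λ k) (ρ : C ⟶ s.obj) (v : HomSet S.carrier S.res C) (z : F.obj C),
    IsLocalRing.maximalIdeal C * RingHom.ker ρ.toAlgHom = ⊥ → Function.Surjective v.1 →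
    HomSet.map ρ v = s.w → F.map ρ z = s.elt → RingHom.ker next.w.1 ≤ RingHom.ker v.1

theorem nonempty_stepData (h1 : S1 F) (s : Stage S F) : Nonempty (StepData s) := by
  obtain ⟨A', w', a', π, hw', hπw, hπe, hmin⟩ := exists_step S h1 s.w s.hw s.elt
  exact ⟨⟨⟨A', w', hw', a'⟩, π, hπw, hπe, hmin⟩⟩

noncomputable def stepData (h1 : S1 F) (s : Stage S F) : StepData s := (nonempty_stepData h1 s).some

noncomputable def stage (h1 : S1 F) (s0 : Stage S F) : ℕ → Stage S F
  | 0 => s0
  | q + 1 => (stepData h1 (stage h1 s0 q)).next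

/-- The tower built from an initial stage. -/
noncomputable def towerOf (h1 : S1 F) (s0 : Stage S F) : Tower S F where
  obj q := (stage h1 s0 q).obj
  w q := (stage h1 s0 q).w
  hw q := (stage h1 s0 q).hw
  elt q := (stage h1 s0 q).elt
  π q := (stepData h1 (stage h1 s0 q)).π
  hπw q := (stepData h1 (stage h1 s0 q)).hπw
  hπe q := (stepData h1 (stage h1 s0 q)).hπe

theorem towerOf_isMinimal (h1 : S1 F) (s0 : Stage S F) : (towerOf h1 s0).IsMinimal :=
  fun q => (stepData h1 (stage h1 s0 q)).hmin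

/-- Existence of a versal family over a quotient of `S`. -/
theorem exists_versal [TangentStr F]
    (hlift : ∀ ⦃B A : Art Λ k⦄ (μ : B ⟶ A), Function.Surjective μ →
      ∀ φ : HomSet S.carrier S.res A, ∃ ψ : HomSet S.carrier S.res B, HomSet.map μ ψ = φ)
    (h0 : H0 F) (h1 : S1 F) (h2 : Heps F) (s0 : Stage S F) {ι : Type*} (τ : ι → TangentSpace F)
    (hspan : Submodule.span k (Set.range τ) = ⊤)
    (pr : ι → (s0.obj ⟶ dual Λ k)) (hpr : ∀ i, F.map (pr i) s0.elt = τ i) :
    ∃ (R : CRing Λ k) (π : S.carrier →ₐ[Λ] R.carrier) (_ : R.res.comp π = S.res)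
      (_ : Function.Surjective π) (ξ : Family R.carrier R.res F), IsVersal ξ := by
  let T := towerOf h1 s0
  refine ⟨T.ring, Ideal.Quotient.mkₐ Λ T.Jinf, Ideal.Quotient.liftₐ_comp _ _ _,
    Ideal.Quotient.mk_surjective, T.family, ?_⟩
  exact T.isVersal hlift h0 h1 h2 (towerOf_isMinimal h1 s0) (T.tangent_surjective τ hspan pr hpr)

end Build

end Groth.Agent.Lib.Helper1.ArtFunHullLimit
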