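import Groth.Agent.Lib.Helper1.ArtFunLeast
import Groth.Agent.Lib.Helper1.ArtFunCRing
import Groth.Agent.Lib.Helper1.ArtFunVersalCrit
import Groth.Agent.Lib.Helper1.ArtFunAction

set_option autoImplicit false
universe u v

open CategoryTheory

namespace Groth.Agent.Lib.Helper1.ArtFunHullStep

open ArtFun ArtFun.Art Groth.Agent.Lib.Helper1.ArtFunBasic Groth.Agent.Lib.Helper1.ArtFunFib
  Groth.Agent.Lib.Helper1.ArtFunLeast Groth.Agent.Lib.Helper1.ArtFunCRing
  Groth.Agent.Lib.Helper1.ArtFunVersalCrit Groth.Agent.Lib.Helper1.ArtFunAction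

variable {Λ : Type u} {k : Type u} [CommRing Λ] [Field k] [Algebra Λ k]

section General

variable {R : Type u} [CommRing R] [Algebra Λ R] {resR : R →ₐ[Λ] k}

/-- Factorisation through a surjective element of `h_R`. -/
theorem exists_factor {A C : Art Λ k} (w : HomSet R resR A) (hw : Function.Surjective w.1)
    (v : HomSet R resR C) (h : RingHom.ker w.1 ≤ RingHom.ker v.1) :
    ∃ τ : A ⟶ C, HomSet.map τ w = v := by
  have hτ : ∀ s, AlgHom.liftOfSurjective w.1 hw v.1 h (w.1 s) = v.1 s :=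
    fun s => AlgHom.liftOfSurjective_apply w.1 hw v.1 h s
  refine ⟨⟨AlgHom.liftOfSurjective w.1 hw v.1 h, ?_⟩, ?_⟩
  · apply AlgHom.ext
    intro a
    obtain ⟨s, rfl⟩ := hw a
    change C.res (AlgHom.liftOfSurjective w.1 hw v.1 h (w.1 s)) = A.res (w.1 s)
    rw [hτ]
    have h1 : C.res (v.1 s) = resR s := congrArg (fun g : R →ₐ[Λ] k => g s) v.2
    have h2 : A.res (w.1 s) = resR s := congrArg (fun g : R →ₐ[Λ] k => g s) w.2
    rw [h1, h2]
  · apply Subtype.ext
    apply AlgHom.ext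
    intro s
    exact hτ s

theorem hom_ext_of_surjective {A C : Art Λ k} (w : HomSet R resR A)
    (hw : Function.Surjective w.1) (τ₁ τ₂ : A ⟶ C) (h : HomSet.map τ₁ w = HomSet.map τ₂ w) :
    τ₁ = τ₂ := by
  apply hom_ext
  apply AlgHom.ext
  intro a
  obtain ⟨s, rfl⟩ := hw a
  exact congrArg (fun g : HomSet R resR C => g.1 s) h

lemma map_apply {A C : Art Λ k} (τ : A ⟶ C) (w : HomSet R resR A) (s : R) :
    (HomSet.map τ w).1 s = τ (w.1 s) := rfl

lemma res_homSet {A : Art Λ k} (w : HomSet R resR A) (s : R) : A.res (w.1 s) = resR s :=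
  congrArg (fun g : R →ₐ[Λ] k => g s) w.2

/-- A lift of a surjective map along a small extension is surjective or kills the kernel. -/
theorem surjective_or_ker_le {C A : Art Λ k} (ρ : C ⟶ A) (hρ : IsSmallExt ρ)
    (w : HomSet R resR A) (hw : Function.Surjective w.1) (v : HomSet R resR C)
    (hv : HomSet.map ρ v = w) :
    Function.Surjective v.1 ∨ RingHom.ker w.1 ≤ RingHom.ker v.1 := by
  classical
  obtain ⟨t, hker, ht0, hmt⟩ := Groth.Agent.Lib.Helper1.ArtFunSmall.exists_gen_of_isSmallExt hρ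
  have hρv : ∀ s, ρ (v.1 s) = w.1 s := fun s => congrArg (fun g : HomSet R resR A => g.1 s) hv
  have hkk : ∀ j ∈ RingHom.ker ρ.toAlgHom, ∀ j' ∈ RingHom.ker ρ.toAlgHom, j * j' = 0 := by
    intro j hj j' hj'
    rw [hker] at hj'
    obtain ⟨c, rfl⟩ := Ideal.mem_span_singleton'.1 hj'
    rw [mul_comm c t, ← mul_assoc, hmt j (ker_le_maximalIdeal ρ hj), zero_mul]
  -- every element of `C` is in the image of `v` modulo the kernel
  have hmod : ∀ c : C, ∃ s : R, c - v.1 s ∈ RingHom.ker ρ.toAlgHom := by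
    intro c
    obtain ⟨s, hs⟩ := hw (ρ c)
    refine ⟨s, ?_⟩
    rw [RingHom.mem_ker, map_sub]
    change ρ c - ρ (v.1 s) = 0
    rw [hρv, hs, sub_self]
  by_cases hall : RingHom.ker w.1 ≤ RingHom.ker v.1
  · exact Or.inr hall
  · left
    obtain ⟨s, hs, hvs⟩ := Set.not_subset.1 hall
    have hs' : w.1 s = 0 := hs
    have hvs' : v.1 s ≠ 0 := hvs
    have hvk : v.1 s ∈ RingHom.ker ρ.toAlgHom := by
      rw [RingHom.mem_ker]
      change ρ (v.1 s) = 0
      rw [hρv, hs']
    have hvk' := hvk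
    rw [hker] at hvk'
    obtain ⟨c, hc⟩ := Ideal.mem_span_singleton'.1 hvk'
    have hcu : IsUnit c := by
      by_contra hnu
      have : c ∈ IsLocalRing.maximalIdeal C := (IsLocalRing.mem_maximalIdeal c).2 hnu
      exact hvs' (by rw [← hc, hmt c this])
    -- `t` is in the image
    have ht_im : ∃ s₀ : R, v.1 s₀ = t := by
      obtain ⟨u, rfl⟩ := hcu
      obtain ⟨s', hs'k⟩ := hmod (↑u⁻¹ : C)
      refine ⟨s' * s, ?_⟩
      have e1 : t = (↑u⁻¹ : C) * v.1 s := by rw [← hc, ← mul_assoc, Units.inv_mul, one_mul]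
      have e2 : ((↑u⁻¹ : C) - v.1 s') * v.1 s = 0 := hkk _ hs'k _ hvk
      rw [map_mul, e1]
      rw [sub_mul, sub_eq_zero] at e2
      exact e2.symm
    obtain ⟨s₀, hs₀⟩ := ht_im
    intro c'
    obtain ⟨s₁, hs₁⟩ := hmod c'
    have hs₁' := hs₁
    rw [hker] at hs₁'
    obtain ⟨c₂, hc₂⟩ := Ideal.mem_span_singleton'.1 hs₁'
    obtain ⟨s₂, hs₂⟩ := hmod c₂
    have e3 : (c₂ - v.1 s₂) * t = 0 :=
      hkk _ hs₂ _ (hker ▸ Ideal.mem_span_singleton_self t)
    refine ⟨s₁ + s₂ * s₀, ?_⟩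
    rw [map_add, map_mul, hs₀]
    rw [sub_mul, sub_eq_zero] at e3
    rw [← e3, hc₂]
    ring

end General

section Step

variable [IsNoetherianRing Λ] [Module.Finite Λ k]
variable (S : CRing Λ k) {F : Art Λ k ⥤ Type v}

/-- The quotient of a coefficient ring by an open ideal, as an Artinian object. -/
theorem exists_quot_obj (I : Ideal S.carrier) (hI : I ≤ IsLocalRing.maximalIdeal S.carrier) (N : ℕ)
    (hN : IsLocalRing.maximalIdeal S.carrier ^ (N + 1) ≤ I) :
    ∃ (B : Art Λ k) (wB : HomSet S.carrier S.res B), Function.Surjective wB.1 ∧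
      RingHom.ker wB.1 = I := by
  have hle : I.map (Ideal.Quotient.mk (CRing.mpow S N)) ≤ IsLocalRing.maximalIdeal (S.trunc N) := by
    rw [Ideal.map_le_iff_le_comap]
    intro a ha
    rw [Ideal.mem_comap]
    refine (Art.mem_maximalIdeal_iff (S.trunc N) _).2 ?_
    change S.res a = 0
    exact (S.mem_maximalIdeal_iff a).1 (hI ha)
  refine ⟨quot (S.trunc N) _ hle, HomSet.map (quotMk (S.trunc N) _ hle) (S.truncHom N), ?_, ?_⟩
  · intro b
    obtain ⟨c, rfl⟩ := quotMk_surjective (S.trunc N) _ hle b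
    obtain ⟨a, rfl⟩ := Ideal.Quotient.mk_surjective c
    exact ⟨a, rfl⟩
  · ext a
    rw [RingHom.mem_ker]
    change (quotMk (S.trunc N) _ hle).toAlgHom (Ideal.Quotient.mk (CRing.mpow S N) a) = 0 ↔ _
    rw [← RingHom.mem_ker, ker_quotMk]
    exact mem_map_iff_of_ker_le (Ideal.Quotient.mk (CRing.mpow S N)) Ideal.Quotient.mk_surjective I
      (by rw [Ideal.mk_ker]; exact hN) a

/-- One step of the construction of a hull. -/
theorem exists_step (h1 : S1 F) {A : Art Λ k} (w : HomSet S.carrier S.res A)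
    (hw : Function.Surjective w.1) (a : F.obj A) :
    ∃ (A' : Art Λ k) (w' : HomSet S.carrier S.res A') (a' : F.obj A') (π : A' ⟶ A),
      Function.Surjective w'.1 ∧ HomSet.map π w' = w ∧ F.map π a' = a ∧
      ∀ (C : Art Λ k) (ρ : C ⟶ A) (v : HomSet S.carrier S.res C) (z : F.obj C),
        IsLocalRing.maximalIdeal C * RingHom.ker ρ.toAlgHom = ⊥ → Function.Surjective v.1 →
        HomSet.map ρ v = w → F.map ρ z = a → RingHom.ker w'.1 ≤ RingHom.ker v.1 := by
  classical
  set n := IsLocalRing.maximalIdeal S.carrier with hn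
  set J : Ideal S.carrier := RingHom.ker w.1 with hJ
  obtain ⟨N₀, hN₀⟩ := exists_pow_maximalIdeal_eq_bot A
  have hN₀' : IsLocalRing.maximalIdeal A ^ (N₀ + 1) = ⊥ := by rw [pow_succ, hN₀, Ideal.bot_mul]
  have hnJ : n ^ (N₀ + 1) ≤ J := fun s hs => homSet_mpow_le S w N₀ hN₀' s hs
  have hI1 : n * J ≤ n := Ideal.mul_le_left
  have hI2 : n ^ (N₀ + 1 + 1) ≤ n * J := by
    rw [pow_succ']
    exact Ideal.mul_mono_right hnJ
  obtain ⟨B, wB, hwB, hkB⟩ := exists_quot_obj S (n * J) hI1 (N₀ + 1) hI2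
  obtain ⟨p, hp⟩ := exists_factor wB hwB w (by rw [hkB]; exact Ideal.mul_le_right)
  have hpw : ∀ s, p (wB.1 s) = w.1 s := fun s => congrArg (fun g : HomSet S.carrier S.res A => g.1 s) hp
  have hps : Function.Surjective p := by
    intro x
    obtain ⟨s, rfl⟩ := hw x
    exact ⟨wB.1 s, hpw s⟩
  have hsemi : IsSemismallExt p := by
    refine ⟨hps, ?_⟩
    rw [eq_bot_iff, Ideal.mul_le]
    intro b hb c hc
    obtain ⟨s, rfl⟩ := hwB b
    obtain ⟨t, rfl⟩ := hwB c
    have hs : s ∈ n := by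
      rw [hn, S.mem_maximalIdeal_iff, ← res_homSet wB s, ← Art.mem_maximalIdeal_iff]
      exact hb
    have ht : t ∈ J := by
      rw [hJ, RingHom.mem_ker, ← hpw]
      exact hc
    rw [Ideal.mem_bot, ← map_mul, ← RingHom.mem_ker, hkB]
    exact Ideal.mul_mem_mul hs ht
  obtain ⟨J₀, hJ₀, hleast⟩ := exists_least (x := a) h1 hsemi
  obtain ⟨hJ₀p, hJ₀m, y, hy⟩ := hJ₀
  refine ⟨quot B J₀ hJ₀m, HomSet.map (quotMk B J₀ hJ₀m) wB, y, quotFactor hJ₀m p hJ₀p, ?_, ?_, hy, ?_⟩
  · intro b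
    obtain ⟨c, rfl⟩ := quotMk_surjective B J₀ hJ₀m b
    obtain ⟨s, rfl⟩ := hwB c
    exact ⟨s, rfl⟩
  · rw [← homSet_map_comp, quotMk_quotFactor, hp]
  · intro C ρ v z hsm hv hρv hz
    have hρv' : ∀ s, ρ (v.1 s) = w.1 s :=
      fun s => congrArg (fun g : HomSet S.carrier S.res A => g.1 s) hρv
    have hIv : n * J ≤ RingHom.ker v.1 := by
      rw [Ideal.mul_le]
      intro s hs t ht
      rw [RingHom.mem_ker, map_mul, ← Ideal.mem_bot, ← hsm]
      refine Ideal.mul_mem_mul (homSet_mem_maximalIdeal S v hs) ?_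
      rw [RingHom.mem_ker]
      change ρ (v.1 t) = 0
      rw [hρv']
      exact ht
    obtain ⟨σ, hσ⟩ := exists_factor wB hwB v (by rw [hkB]; exact hIv)
    have hσv : ∀ s, σ (wB.1 s) = v.1 s :=
      fun s => congrArg (fun g : HomSet S.carrier S.res C => g.1 s) hσ
    have hσρ : σ ≫ ρ = p := by
      apply hom_ext_of_surjective wB hwB
      rw [homSet_map_comp, hσ, hρv, hp]
    have hσs : Function.Surjective σ := by
      intro c
      obtain ⟨s, rfl⟩ := hv c
      exact ⟨wB.1 s, hσv s⟩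
    have hK : RingHom.ker σ.toAlgHom ≤ RingHom.ker p.toAlgHom := by
      intro b hb
      rw [RingHom.mem_ker] at hb ⊢
      rw [← hσρ]
      change ρ (σ b) = 0
      have hb' : σ b = 0 := hb
      rw [hb', map_zero]
    have hK' := ker_le_maximalIdeal σ
    have hbij : Function.Bijective (quotFactor hK' σ le_rfl) := by
      refine ⟨?_, quotFactor_surjective _ _ _ hσs⟩
      rw [← AlgHom.coe_toRingHom, RingHom.injective_iff_ker_eq_bot]
      change RingHom.ker (quotFactor hK' σ le_rfl).toAlgHom = ⊥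
      rw [ker_quotFactor, Ideal.map_eq_bot_iff_le_ker, ker_quotMk]
    haveI := isIso_of_bijective _ hbij
    have hfac : quotFactor hK' p hK = quotFactor hK' σ le_rfl ≫ ρ := by
      apply hom_ext; apply AlgHom.ext; intro x
      obtain ⟨b, rfl⟩ := quotMk_surjective B _ hK' x
      change p b = ρ (σ b)
      rw [← hσρ]
      rfl
    have hlift : Lifts p a (RingHom.ker σ.toAlgHom) := by
      refine ⟨hK, hK', F.map (inv (quotFactor hK' σ le_rfl)) z, ?_⟩
      rw [hfac, ← map_comp_apply, IsIso.inv_hom_id_assoc, hz]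
    have hJ₀K := hleast _ hlift
    intro s hs
    rw [RingHom.mem_ker] at hs ⊢
    have hs' : (quotMk B J₀ hJ₀m).toAlgHom (wB.1 s) = 0 := hs
    rw [← RingHom.mem_ker, ker_quotMk] at hs'
    have := hJ₀K hs'
    rw [RingHom.mem_ker] at this
    rw [← hσv]
    exact this

end Step

end Groth.Agent.Lib.Helper1.ArtFunHullStep
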