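import Groth.Agent.Lib.Helper1.ArtFunTangent

set_option autoImplicit false
universe u v

open CategoryTheory

namespace Groth.Agent.Lib.Helper1.ArtFunLeast

open ArtFun ArtFun.Art Groth.Agent.Lib.Helper1.ArtFunBasic Groth.Agent.Lib.Helper1.ArtFunFib

variable {Λ : Type u} {k : Type u} [CommRing Λ] [Field k] [Algebra Λ k]
variable [IsNoetherianRing Λ] [Module.Finite Λ k]
variable {F : Art Λ k ⥤ Type v} {B A : Art Λ k} (p : B ⟶ A) (x : F.obj A)

/-- `x` lifts to `B/J`. -/
def Lifts (J : Ideal B) : Prop :=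
  ∃ (hJ : J ≤ RingHom.ker p.toAlgHom) (hJ' : J ≤ IsLocalRing.maximalIdeal B),
    ∃ y : F.obj (quot B J hJ'), F.map (quotFactor hJ' p hJ) y = x

omit [IsNoetherianRing Λ] [Module.Finite Λ k] in
lemma Lifts.mono {J J' : Ideal B} (h : Lifts p x J) (hJJ' : J ≤ J')
    (hJ' : J' ≤ RingHom.ker p.toAlgHom) : Lifts p x J' := by
  obtain ⟨hJ, hJm, y, hy⟩ := h
  have hJ'm := hJ'.trans (ker_le_maximalIdeal p)
  refine ⟨hJ', hJ'm, F.map (quotToQuot B hJm hJ'm hJJ') y, ?_⟩
  rw [← map_comp_apply, quotToQuot_comp_quotFactor, hy]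

omit [IsNoetherianRing Λ] [Module.Finite Λ k] in
/-- `B/(J ⊓ K) = B/J ×_A B/K` when `J ⊔ K = ker p`. -/
lemma quot_isFibreProd {J K : Ideal B} (hJ : J ≤ RingHom.ker p.toAlgHom)
    (hK : K ≤ RingHom.ker p.toAlgHom) (hJK : J ⊔ K = RingHom.ker p.toAlgHom) :
    IsFibreProd
      (quotToQuot B ((inf_le_left.trans hJ).trans (ker_le_maximalIdeal p))
        (hJ.trans (ker_le_maximalIdeal p)) (inf_le_left : J ⊓ K ≤ J))
      (quotToQuot B ((inf_le_left.trans hJ).trans (ker_le_maximalIdeal p))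
        (hK.trans (ker_le_maximalIdeal p)) (inf_le_right : J ⊓ K ≤ K))
      (quotFactor (hJ.trans (ker_le_maximalIdeal p)) p hJ)
      (quotFactor (hK.trans (ker_le_maximalIdeal p)) p hK) where
  w := by rw [quotToQuot_comp_quotFactor, quotToQuot_comp_quotFactor]
  inj := by
    intro b₁ b₂ h1 h2
    obtain ⟨β₁, rfl⟩ := Ideal.Quotient.mk_surjective b₁
    obtain ⟨β₂, rfl⟩ := Ideal.Quotient.mk_surjective b₂
    have h1' : Ideal.Quotient.mk J β₁ = Ideal.Quotient.mk J β₂ := h1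
    have h2' : Ideal.Quotient.mk K β₁ = Ideal.Quotient.mk K β₂ := h2
    rw [Ideal.Quotient.eq] at h1' h2'
    change Ideal.Quotient.mk (J ⊓ K) β₁ = Ideal.Quotient.mk (J ⊓ K) β₂
    rw [Ideal.Quotient.eq]
    exact ⟨h1', h2'⟩
  surj := by
    intro a' a'' h
    obtain ⟨β₁, rfl⟩ := Ideal.Quotient.mk_surjective a'
    obtain ⟨β₂, rfl⟩ := Ideal.Quotient.mk_surjective a''
    have h' : p.toAlgHom β₁ = p.toAlgHom β₂ := h
    have hmem : β₁ - β₂ ∈ J ⊔ K := by
      rw [hJK, RingHom.mem_ker, map_sub, h', sub_self]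
    obtain ⟨j, hj, k', hk', hjk⟩ := Submodule.mem_sup.1 hmem
    refine ⟨Ideal.Quotient.mk (J ⊓ K) (β₁ - j), ?_, ?_⟩
    · change Ideal.Quotient.mk J (β₁ - j) = Ideal.Quotient.mk J β₁
      rw [Ideal.Quotient.eq]
      simpa using J.neg_mem hj
    · change Ideal.Quotient.mk K (β₁ - j) = Ideal.Quotient.mk K β₂
      rw [Ideal.Quotient.eq]
      have : β₁ - j - β₂ = k' := by linear_combination -hjk
      rw [this]; exact hk'

variable {p x}

/-- Closure under intersections, using (S1). -/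
lemma Lifts.inf (h1 : S1 F) (hp : IsSemismallExt p) {J K : Ideal B} (hJ : Lifts p x J)
    (hK : Lifts p x K) : Lifts p x (J ⊓ K) := by
  classical
  have hJI := hJ.1
  have hKI := hK.1
  -- a maximal enlargement of J with the same intersection
  let T : Set (Ideal B) := {J'' | J ≤ J'' ∧ J'' ≤ RingHom.ker p.toAlgHom ∧ J'' ⊓ K = J ⊓ K}
  have hT : T.Nonempty := ⟨J, le_rfl, hJI, rfl⟩
  obtain ⟨J', ⟨hJJ', hJ'I, hJ'K⟩, hmax⟩ :=
    (IsNoetherian.wf (inferInstance : IsNoetherian B B)).has_min T hT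
  have hsup : J' ⊔ K = RingHom.ker p.toAlgHom := by
    apply le_antisymm (sup_le hJ'I hKI)
    intro t ht
    by_contra htn
    have hmem : J' ⊔ Ideal.span {t} ∈ T := by
      refine ⟨hJJ'.trans le_sup_left,
        sup_le hJ'I ((Ideal.span_singleton_le_iff_mem _).2 ht), ?_⟩
      apply le_antisymm
      · rintro z ⟨hz1, hz2⟩
        obtain ⟨j', hj', y, hy, rfl⟩ := Submodule.mem_sup.1 hz1
        obtain ⟨c, rfl⟩ := Ideal.mem_span_singleton'.1 hy
        by_cases hc : c ∈ IsLocalRing.maximalIdeal B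
        · have hct : c * t = 0 := by
            have : c * t ∈ IsLocalRing.maximalIdeal B * RingHom.ker p.toAlgHom :=
              Ideal.mul_mem_mul hc ht
            rw [hp.2] at this
            exact this
          rw [hct, add_zero] at hz2 ⊢
          rw [← hJ'K]
          exact ⟨hj', hz2⟩
        · exfalso
          have hu : IsUnit c := by
            by_contra hnu
            exact hc ((IsLocalRing.mem_maximalIdeal _).2 hnu)
          apply htn
          have h1 : c * t ∈ J' ⊔ K := by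
            have : c * t = (j' + c * t) - j' := by ring
            rw [this]
            exact (J' ⊔ K).sub_mem (Ideal.mem_sup_right hz2) (Ideal.mem_sup_left hj')
          have := Ideal.mul_mem_left (J' ⊔ K) (↑hu.unit⁻¹ : B) h1
          rwa [← mul_assoc, IsUnit.val_inv_mul, one_mul] at this
      · rw [← hJ'K]
        exact inf_le_inf_right K le_sup_left
    apply hmax _ hmem
    refine lt_of_le_of_ne le_sup_left ?_
    intro heq
    apply htn
    apply Ideal.mem_sup_left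
    rw [heq]
    exact Ideal.mem_sup_right (Ideal.mem_span_singleton_self t)
  have hJ'L : Lifts p x J' := hJ.mono p x hJJ' hJ'I
  obtain ⟨_, _, y₁, hy₁⟩ := hJ'L
  obtain ⟨_, _, y₂, hy₂⟩ := hK
  have sq := quot_isFibreProd p hJ'I hKI hsup
  obtain ⟨z, hz⟩ := h1 _ _ _ _ sq
    (quotFactor_surjective _ _ _ hp.1) ⟨(y₁, y₂), hy₁.trans hy₂.symm⟩
  have hz1 : F.map _ z = y₁ := congrArg (fun w => w.1.1) hz
  rw [← hJ'K]
  refine ⟨inf_le_left.trans hJ'I, (inf_le_left.trans hJ'I).trans (ker_le_maximalIdeal p), z, ?_⟩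
  rw [← hy₁, ← hz1, ← map_comp_apply, quotToQuot_comp_quotFactor]

/-- The least ideal over which `x` lifts. -/
theorem exists_least (h1 : S1 F) (hp : IsSemismallExt p) :
    ∃ J₀ : Ideal B, Lifts p x J₀ ∧ ∀ J : Ideal B, Lifts p x J → J₀ ≤ J := by
  classical
  have htop : Lifts p x (RingHom.ker p.toAlgHom) := by
    refine ⟨le_rfl, ker_le_maximalIdeal p, ?_⟩
    have hbij : Function.Bijective (quotFactor (ker_le_maximalIdeal p) p le_rfl) := by
      refine ⟨?_, quotFactor_surjective _ _ _ hp.1⟩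
      rw [← AlgHom.coe_toRingHom, RingHom.injective_iff_ker_eq_bot]
      change RingHom.ker (quotFactor (ker_le_maximalIdeal p) p le_rfl).toAlgHom = ⊥
      rw [ker_quotFactor, Ideal.map_eq_bot_iff_le_ker, ker_quotMk]
    haveI := isIso_of_bijective _ hbij
    refine ⟨F.map (inv (quotFactor (ker_le_maximalIdeal p) p le_rfl)) x, ?_⟩
    rw [← map_comp_apply, IsIso.inv_hom_id, map_id_apply]
  let T : Set (Ideal B) := {J | Lifts p x J}
  obtain ⟨J₀, hJ₀, hmin⟩ := IsArtinian.set_has_minimal (R := B) (M := B) T ⟨_, htop⟩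
  refine ⟨J₀, hJ₀, fun J hJ => ?_⟩
  have hinf : Lifts p x (J₀ ⊓ J) := hJ₀.inf h1 hp hJ
  have : ¬ (J₀ ⊓ J < J₀) := hmin _ hinf
  have heq : J₀ ⊓ J = J₀ := by
    by_contra hne
    exact this (lt_of_le_of_ne inf_le_left hne)
  rw [← heq]
  exact inf_le_right

end Groth.Agent.Lib.Helper1.ArtFunLeast
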