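import Groth.Agent.Lib.Helper1.ArtFunGenVersal
import Groth.Agent.Lib.Helper1.SpanExchange
import Groth.Agent.Lib.Helper1.Chevalley
import Groth.Agent.Lib.Helper1.ArtFunSurj
import Mathlib.Algebra.Module.SpanRankOperations

set_option autoImplicit false
universe u v
open CategoryTheory ArtFun ArtFun.Art

namespace Groth.Agent.Lib.Helper1.ArtFunLimit

open Groth.Agent.Lib.Helper1.ArtFunBasic Groth.Agent.Lib.Helper1.ArtFunCRing
  Groth.Agent.Lib.Helper1.ArtFunHullStep Groth.Agent.Lib.Helper1.ArtFunVersalCrit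
  Groth.Agent.Lib.Helper1.ArtFunGenVersal Groth.Agent.Lib.Helper1.ArtFunGenFree
  Groth.Agent.Lib.Helper1.ArtFunCompl Groth.Agent.Lib.Helper1.ArtFunHullLimit

variable {Λ : Type u} {k : Type u} [CommRing Λ] [Field k] [Algebra Λ k]

section MapMax

lemma map_maximalIdeal_of_surjective {B A : Art Λ k} (p : B ⟶ A) (hp : Function.Surjective p) :
    Ideal.map (p.toAlgHom : B →+* A) (IsLocalRing.maximalIdeal B) = IsLocalRing.maximalIdeal A := by
  apply le_antisymm
  · rw [Ideal.map_le_iff_le_comap]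
    intro b hb
    rw [Ideal.mem_comap, Art.mem_maximalIdeal_iff]
    change A.res (p b) = 0
    rw [res_app, ← Art.mem_maximalIdeal_iff]
    exact hb
  · intro a ha
    obtain ⟨b, rfl⟩ := hp a
    apply Ideal.mem_map_of_mem
    rw [Art.mem_maximalIdeal_iff] at ha ⊢
    rw [← res_app p]
    exact ha

end MapMax

section Down

variable (A : ℕ → Art Λ k) (f : ∀ n, A (n + 1) ⟶ A n)

/-- The transition maps of the system. -/
def down {n : ℕ} : ∀ {m : ℕ}, n ≤ m → (A m ⟶ A n) :=
  fun {m} h => Nat.leRec (motive := fun m _ => A m ⟶ A n) (𝟙 _) (fun k _ g => f k ≫ g) h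

lemma down_self (n : ℕ) : down A f (le_refl n) = 𝟙 (A n) := Nat.leRec_self _ _

lemma down_succ {n m : ℕ} (h : n ≤ m) :
    down A f (Nat.le_succ_of_le h) = f m ≫ down A f h := Nat.leRec_succ _ _ h

lemma down_comp {n m : ℕ} (h : n + 1 ≤ m) :
    down A f h ≫ f n = down A f (Nat.le_of_succ_le h) := by
  induction m, h using Nat.le_induction with
  | base =>
    rw [down_self, Category.id_comp]
    have := down_succ A f (le_refl n)
    rw [down_self, Category.comp_id] at this
    exact this.symm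
  | succ m h ih =>
    rw [down_succ A f h, Category.assoc, ih]
    exact (down_succ A f (Nat.le_of_succ_le h)).symm

lemma down_surjective (hf : ∀ n, Function.Surjective (f n)) {n m : ℕ} (h : n ≤ m) :
    Function.Surjective (down A f h) := by
  induction m, h using Nat.le_induction with
  | base => rw [down_self]; exact Function.surjective_id
  | succ m h ih =>
    rw [down_succ A f h]
    exact ih.comp (hf m)

end Down

section Onto

variable [IsNoetherianRing Λ] [Module.Finite Λ k]

/-- A smooth coefficient ring surjecting onto a given Artinian object. -/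
theorem exists_smooth_onto (A₀ : Art Λ k) :
    ∃ (S : CRing Λ k) (w : HomSet S.carrier S.res A₀),
      (∀ ⦃B A : Art Λ k⦄ (μ : B ⟶ A), Function.Surjective μ →
        ∀ φ : HomSet S.carrier S.res A, ∃ ψ : HomSet S.carrier S.res B, HomSet.map μ ψ = φ) ∧
      Function.Surjective w.1 := by
  classical
  haveI := Groth.Agent.Lib.Helper1.ArtFunPullback.finite A₀
  obtain ⟨N, b, hb⟩ := Module.Finite.exists_fin (R := Λ) (M := A₀)
  have hgen : ∀ a : A₀, ∃ l : Fin N → Λ, ∑ i, l i • b i = a := fun a =>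
    (Submodule.mem_span_range_iff_exists_fun Λ).1 (by rw [hb]; exact Submodule.mem_top)
  let α : Fin N → k := fun i => A₀.res (b i)
  have hα : Function.Surjective (polyRes (Λ := Λ) α) := by
    apply polyRes_surjective_of_span
    rw [eq_top_iff]
    intro c _
    obtain ⟨a, rfl⟩ := A₀.res_surjective c
    obtain ⟨l, rfl⟩ := hgen a
    rw [map_sum]
    apply Submodule.sum_mem
    intro i _
    rw [map_smul]
    exact Submodule.smul_mem _ _ (Submodule.subset_span ⟨i, rfl⟩)
  obtain ⟨φ₀, hφ₀⟩ := poly_exists_hom α A₀ b (fun i => rfl)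
  have hφ₀s : Function.Surjective φ₀.1 := by
    intro a
    obtain ⟨l, rfl⟩ := hgen a
    refine ⟨∑ i, MvPolynomial.C (l i) * MvPolynomial.X i, ?_⟩
    rw [map_sum]
    apply Finset.sum_congr rfl
    intro i _
    rw [map_mul, hφ₀, ← MvPolynomial.algebraMap_eq, AlgHom.commutes, Algebra.smul_def]
  obtain ⟨G⟩ := nonempty_gens (MvPolynomial (Fin N) Λ) (polyRes α)
  obtain ⟨w, hw⟩ := G.restr_surjective hα φ₀
  have hwι : ∀ p, w.1 (G.ι p) = φ₀.1 p := fun p =>
    congrArg (fun g : HomSet (MvPolynomial (Fin N) Λ) (polyRes α) A₀ => g.1 p) hw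
  refine ⟨G.ring hα, w, G.exists_lift hα (poly_exists_lift α), fun a => ?_⟩
  obtain ⟨p, hp⟩ := hφ₀s a
  exact ⟨G.ι p, (hwι p).trans hp⟩

end Onto

section Stab

variable (A : ℕ → Art Λ k) (f : ∀ n, A (n + 1) ⟶ A n)

/-- Eventually the kernels of the transition maps lie in the square of the maximal ideal. -/
theorem exists_stable (hf : ∀ n, Function.Surjective (f n)) (d : ℕ)
    (hd : ∀ n, (IsLocalRing.maximalIdeal (A n)).spanFinrank ≤ d) :
    ∃ n₀, ∀ n, n₀ ≤ n → RingHom.ker (f n).toAlgHom ≤ IsLocalRing.maximalIdeal (A (n + 1)) ^ 2 := by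
  classical
  let c : ℕ → ℕ := fun n => (IsLocalRing.maximalIdeal (A n)).spanFinrank
  have hmono : ∀ n, c n ≤ c (n + 1) := by
    intro n
    have := Ideal.spanFinrank_map_le_of_fg ((f n).toAlgHom : A (n + 1) →+* A n)
      (I := IsLocalRing.maximalIdeal (A (n + 1))) (IsNoetherian.noetherian _)
    rwa [map_maximalIdeal_of_surjective (f n) (hf n)] at this
  have hmono' : Monotone c := monotone_nat_of_le_succ hmono
  have hbdd : BddAbove (Set.range c) := ⟨d, by rintro _ ⟨n, rfl⟩; exact hd n⟩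
  obtain ⟨n₀, hn₀⟩ := Nat.sSup_mem (Set.range_nonempty c) hbdd
  refine ⟨n₀, fun n hn => ?_⟩
  by_contra hker
  have hlt := Groth.Agent.Lib.Helper1.SpanExchange.spanFinrank_lt_of_not_le_sq
    ((f n).toAlgHom : A (n + 1) →+* A n) (map_maximalIdeal_of_surjective (f n) (hf n)) hker
  have h1 : c (n + 1) ≤ c n₀ := by rw [hn₀]; exact le_csSup hbdd ⟨n + 1, rfl⟩
  have h2 : c n₀ ≤ c n := hmono' hn
  have h3 : c n < c (n + 1) := hlt
  omega

end Stab

section TowerLimit

variable [IsNoetherianRing Λ] [Module.Finite Λ k]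
variable {S : CRing Λ k} {F : Art Λ k ⥤ Type v} (T : Tower S F)

/-- The projections from the limit ring. -/
noncomputable def proj (q : ℕ) : HomSet T.ring.carrier T.ring.res (T.obj q) :=
  T.desc (T.w q) (T.Jinf_le q)

/-- The quotient map onto the limit ring. -/
noncomputable def mkR : S.carrier →ₐ[Λ] T.ring.carrier := Ideal.Quotient.mkₐ Λ T.Jinf

lemma mkR_surjective : Function.Surjective (mkR T) := Ideal.Quotient.mk_surjective

lemma mkR_eq_zero_iff (s : S.carrier) : mkR T s = 0 ↔ s ∈ T.Jinf :=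
  Ideal.Quotient.eq_zero_iff_mem

lemma proj_mkR (q : ℕ) (s : S.carrier) : (proj T q).1 (mkR T s) = (T.w q).1 s := rfl

lemma proj_compat (q : ℕ) : HomSet.map (T.π q) (proj T (q + 1)) = proj T q := by
  apply T.toS_injective
  rw [Tower.toS_map, proj, proj, Tower.toS_desc, Tower.toS_desc, T.hπw]

lemma proj_surjective (q : ℕ) : Function.Surjective (proj T q).1 := fun a => by
  obtain ⟨s, rfl⟩ := T.hw q a
  exact ⟨mkR T s, rfl⟩

lemma map_pow_maximalIdeal (n : ℕ) :
    (IsLocalRing.maximalIdeal S.carrier ^ n).map (mkR T : S.carrier →+* T.ring.carrier) =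
      IsLocalRing.maximalIdeal T.ring.carrier ^ n := by
  rw [Ideal.map_pow]
  congr 1
  exact T.map_maximalIdeal

lemma mkR_mem_pow {n : ℕ} {t : S.carrier} (ht : t ∈ IsLocalRing.maximalIdeal S.carrier ^ n) :
    mkR T t ∈ IsLocalRing.maximalIdeal T.ring.carrier ^ n := by
  rw [← map_pow_maximalIdeal]
  exact Ideal.mem_map_of_mem _ ht

theorem exists_ker_proj_le (n : ℕ) :
    ∃ N, RingHom.ker (proj T N).1 ≤ IsLocalRing.maximalIdeal T.ring.carrier ^ n := by
  obtain ⟨q, hq⟩ := Groth.Agent.Lib.Helper1.Chevalley.exists_le_iInf_sup_pow S T.J T.J_antitone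
    T.J_open n
  refine ⟨q, fun x hx => ?_⟩
  obtain ⟨s, rfl⟩ := mkR_surjective T x
  rw [RingHom.mem_ker, proj_mkR] at hx
  have hs : s ∈ T.J q := hx
  obtain ⟨j, hj, t, ht, rfl⟩ := Submodule.mem_sup.1 (hq hs)
  rw [map_add, (mkR_eq_zero_iff T j).2 hj, zero_add]
  exact mkR_mem_pow T ht

theorem exists_pow_le_ker_proj (n : ℕ) :
    ∃ N, IsLocalRing.maximalIdeal T.ring.carrier ^ N ≤ RingHom.ker (proj T n).1 := by
  obtain ⟨M, hM⟩ := T.J_open n
  refine ⟨M, ?_⟩
  rw [← map_pow_maximalIdeal, Ideal.map_le_iff_le_comap]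
  intro s hs
  rw [Ideal.mem_comap, RingHom.mem_ker]
  change (proj T n).1 (mkR T s) = 0
  rw [proj_mkR]
  exact hM hs

theorem existsUnique_of_compatible (a : ∀ q, T.obj q) (ha : ∀ q, T.π q (a (q + 1)) = a q) :
    ∃! s : T.ring.carrier, ∀ q, (proj T q).1 s = a q := by
  classical
  have hdown : ∀ q' : ℕ, ∀ s : S.carrier, (T.w q').1 s = a q' → ∀ q, q ≤ q' → (T.w q).1 s = a q := by
    intro q'
    induction q' with
    | zero =>
      intro s hs q hq
      obtain rfl : q = 0 := Nat.le_zero.1 hq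
      exact hs
    | succ q' ih =>
      intro s hs q hq
      rcases Nat.lt_or_ge q (q' + 1) with h | h
      · apply ih s _ q (Nat.lt_succ_iff.1 h)
        rw [← T.π_w q' s, hs, ha]
      · obtain rfl : q = q' + 1 := le_antisymm hq h
        exact hs
  choose σ hσ using fun q => T.hw q (a q)
  have hσ' : ∀ q q', q ≤ q' → (T.w q).1 (σ q') = a q := fun q q' h => hdown q' (σ q') (hσ q') q h
  choose Q hQ using Groth.Agent.Lib.Helper1.Chevalley.exists_le_iInf_sup_pow S T.J T.J_antitone
    T.J_open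
  let P : ℕ → ℕ := fun N => max ((Finset.range (N + 1)).sup Q) N
  have hPmono : Monotone P := by
    intro N N' h
    apply max_le_max
    · exact Finset.sup_mono (Finset.range_mono (Nat.succ_le_succ h))
    · exact h
  have hPQ : ∀ N, Q N ≤ P N := fun N =>
    le_trans (Finset.le_sup (f := Q) (Finset.self_mem_range_succ N)) (le_max_left _ _)
  have hPN : ∀ N, N ≤ P N := fun N => le_max_right _ _
  let g : ℕ → T.ring.carrier := fun N => mkR T (σ (P N))
  have hg : ∀ {m n : ℕ}, m ≤ n →
      g m ≡ g n [SMOD (IsLocalRing.maximalIdeal T.ring.carrier ^ m • ⊤ : Submodule T.ring.carrier T.ring.carrier)] := by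
    intro m n hmn
    rw [Groth.Agent.Lib.Helper1.PSDecomp.smodEq_pow_iff]
    have h1 : σ (P m) - σ (P n) ∈ T.J (P m) := by
      rw [Tower.mem_J, map_sub, hσ' _ _ (le_refl _), hσ' _ _ (hPmono hmn), sub_self]
    have h2 : σ (P m) - σ (P n) ∈ T.Jinf ⊔ IsLocalRing.maximalIdeal S.carrier ^ m :=
      hQ m (T.J_antitone (hPQ m) h1)
    obtain ⟨j, hj, t, ht, hjt⟩ := Submodule.mem_sup.1 h2
    change mkR T (σ (P m)) - mkR T (σ (P n)) ∈ _
    rw [← map_sub, ← hjt, map_add, (mkR_eq_zero_iff T j).2 hj, zero_add]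
    exact mkR_mem_pow T ht
  haveI : IsAdicComplete (IsLocalRing.maximalIdeal T.ring.carrier) T.ring.carrier :=
    T.ring.isAdicComplete
  obtain ⟨L, hL⟩ := IsPrecomplete.prec (I := IsLocalRing.maximalIdeal T.ring.carrier)
    (M := T.ring.carrier) inferInstance (f := g) hg
  have hLq : ∀ q, (proj T q).1 L = a q := by
    intro q
    obtain ⟨M, hM⟩ := exists_pow_le_ker_proj T q
    set N := max M q with hN
    have h1 := hL N
    rw [Groth.Agent.Lib.Helper1.PSDecomp.smodEq_pow_iff] at h1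
    have h2 : g N - L ∈ RingHom.ker (proj T q).1 :=
      hM (Ideal.pow_le_pow_right (le_max_left M q) h1)
    rw [RingHom.mem_ker, map_sub, sub_eq_zero] at h2
    rw [← h2]
    change (T.w q).1 (σ (P N)) = a q
    exact hσ' q (P N) ((le_max_right M q).trans (hPN N))
  refine ⟨L, hLq, fun L' hL' => ?_⟩
  obtain ⟨s, hs⟩ := mkR_surjective T (L' - L)
  have hsJ : s ∈ T.Jinf := by
    rw [Tower.Jinf, Ideal.mem_iInf]
    intro q
    rw [Tower.mem_J, ← proj_mkR, hs, map_sub, hL' q, hLq q, sub_self]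
  have : L' - L = 0 := by rw [← hs]; exact (mkR_eq_zero_iff T s).2 hsJ
  exact sub_eq_zero.1 this

end TowerLimit

section Main

variable [IsNoetherianRing Λ] [Module.Finite Λ k]

/-- A lift of a surjective element along a map with kernel in the square of the maximal ideal is
surjective. -/
theorem surjective_lift (S : CRing Λ k) {B A : Art Λ k} (p : B ⟶ A)
    (hker : RingHom.ker p.toAlgHom ≤ IsLocalRing.maximalIdeal B ^ 2)
    (ψ : HomSet S.carrier S.res B) (hψ : Function.Surjective (HomSet.map p ψ).1) :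
    Function.Surjective ψ.1 := by
  haveI : IsAdicComplete (IsLocalRing.maximalIdeal S.carrier) S.carrier := S.isAdicComplete
  have hsq : IsLocalRing.maximalIdeal B ^ 2 ≤ IsLocalRing.maximalIdeal B :=
    Ideal.pow_le_self two_ne_zero
  have key : ∀ b : B, ∃ s : S.carrier, b - ψ.1 s ∈ RingHom.ker p.toAlgHom := by
    intro b
    obtain ⟨s, hs⟩ := hψ (p b)
    refine ⟨s, ?_⟩
    rw [RingHom.mem_ker, map_sub, sub_eq_zero]
    exact hs.symm
  have := Groth.Agent.Lib.Helper1.ArtFunSurj.surjective_of_map_sup_sq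
    (R := S.carrier) (S := B) (ψ.1 : S.carrier →+* B)
    (fun b => by
      obtain ⟨s, hs⟩ := key b
      exact ⟨s, hsq (hker hs)⟩)
    (by
      apply le_antisymm
      · refine sup_le ?_ hsq
        rw [Ideal.map_le_iff_le_comap]
        intro s hs
        exact homSet_mem_maximalIdeal S ψ hs
      · intro x hx
        obtain ⟨s, hs⟩ := key x
        have hsm : s ∈ IsLocalRing.maximalIdeal S.carrier := by
          rw [S.mem_maximalIdeal_iff, ← res_homSet ψ s, ← Art.mem_maximalIdeal_iff]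
          have h1 : x - ψ.1 s ∈ IsLocalRing.maximalIdeal B := hsq (hker hs)
          have h2 := Ideal.sub_mem _ hx h1
          rwa [sub_sub_cancel] at h2
        have : x = ψ.1 s + (x - ψ.1 s) := by ring
        rw [this]
        exact Ideal.add_mem _ (Ideal.mem_sup_left (Ideal.mem_map_of_mem _ hsm))
          (Ideal.mem_sup_right (hker hs)))
  exact this

variable (A : ℕ → Art Λ k) (f : ∀ n, A (n + 1) ⟶ A n) (hf : ∀ n, Function.Surjective (f n))

include hf in
/-- The limit of a surjective system of Artinian objects of bounded embedding dimension. -/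
theorem exists_limit (d : ℕ) (hd : ∀ n, (IsLocalRing.maximalIdeal (A n)).spanFinrank ≤ d) :
    ∃ (S : CRing Λ k) (π : ∀ n, HomSet S.carrier S.res (A n)),
      (∀ n, HomSet.map (f n) (π (n + 1)) = π n) ∧
      (∀ n, Function.Surjective (π n).1) ∧
      (∀ a : ∀ n, A n, (∀ n, f n (a (n + 1)) = a n) → ∃! s : S.carrier, ∀ n, (π n).1 s = a n) ∧
      (∀ n, ∃ N, RingHom.ker (π N).1 ≤ IsLocalRing.maximalIdeal S.carrier ^ n) ∧
      (∀ n, ∃ N, IsLocalRing.maximalIdeal S.carrier ^ N ≤ RingHom.ker (π n).1) := by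
  classical
  obtain ⟨n₀, hn₀⟩ := exists_stable A f hf d hd
  obtain ⟨S₁, w₀, hlift, hw₀⟩ := exists_smooth_onto (A n₀)
  -- the upward lifts
  have step : ∀ j (ψ : {ψ : HomSet S₁.carrier S₁.res (A (n₀ + j)) // Function.Surjective ψ.1}),
      ∃ ψ' : HomSet S₁.carrier S₁.res (A (n₀ + j + 1)),
        HomSet.map (f (n₀ + j)) ψ' = ψ.1 ∧ Function.Surjective ψ'.1 := by
    intro j ψ
    obtain ⟨ψ', hψ'⟩ := hlift (f (n₀ + j)) (hf _) ψ.1
    refine ⟨ψ', hψ', surjective_lift S₁ (f (n₀ + j)) (hn₀ _ (Nat.le_add_right _ _)) ψ' ?_⟩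
    rw [hψ']
    exact ψ.2
  let U : ∀ j, {ψ : HomSet S₁.carrier S₁.res (A (n₀ + j)) // Function.Surjective ψ.1} :=
    fun j => Nat.rec (motive := fun j => {ψ : HomSet S₁.carrier S₁.res (A (n₀ + j)) // Function.Surjective ψ.1})
      ⟨w₀, hw₀⟩ (fun j ψ => ⟨(step j ψ).choose, (step j ψ).choose_spec.2⟩) j
  have hU : ∀ j, HomSet.map (f (n₀ + j)) (U (j + 1)).1 = (U j).1 :=
    fun j => (step j (U j)).choose_spec.1
  let W : ∀ n, HomSet S₁.carrier S₁.res (A n) :=
    fun n => HomSet.map (down A f (Nat.le_add_left n n₀)) (U n).1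
  have hWs : ∀ n, Function.Surjective (W n).1 := fun n =>
    (down_surjective A f hf (Nat.le_add_left n n₀)).comp (U n).2
  have hWc : ∀ n, HomSet.map (f n) (W (n + 1)) = W n := by
    intro n
    change HomSet.map (f n) (HomSet.map (down A f (Nat.le_add_left (n + 1) n₀)) (U (n + 1)).1) = _
    rw [← homSet_map_comp, down_comp A f (Nat.le_add_left (n + 1) n₀)]
    have h1 : down A f (Nat.le_of_succ_le (Nat.le_add_left (n + 1) n₀)) =
        f (n₀ + n) ≫ down A f (Nat.le_add_left n n₀) := down_succ A f (Nat.le_add_left n n₀)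
    rw [h1, homSet_map_comp, hU]
  let F₀ : Art Λ k ⥤ Type := (Functor.const (Art Λ k)).obj PUnit
  let T : Tower S₁ F₀ :=
    { obj := A
      w := W
      hw := hWs
      elt := fun _ => PUnit.unit
      π := f
      hπw := hWc
      hπe := fun _ => rfl }
  exact ⟨T.ring, proj T, proj_compat T, proj_surjective T,
    fun a ha => existsUnique_of_compatible T a ha, exists_ker_proj_le T, exists_pow_le_ker_proj T⟩

end Main

end Groth.Agent.Lib.Helper1.ArtFunLimit
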