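import Groth.Agent.Lib.Helper1.ArtFunCRing
import Groth.Agent.Lib.Helper1.ArtFunDer
import Groth.Agent.S12716

set_option autoImplicit false
universe u v

open CategoryTheory

namespace Groth.Agent.Lib.Helper1.ArtFunMinimal

open ArtFun ArtFun.Art Groth.Agent.Lib.Helper1.ArtFunBasic Groth.Agent.Lib.Helper1.ArtFunCRing
  Groth.Agent.Lib.Helper1.ArtFunDer

variable {Λ : Type u} {k : Type u} [CommRing Λ] [Field k] [Algebra Λ k]
variable [IsNoetherianRing Λ] [Module.Finite Λ k]

omit [IsNoetherianRing Λ] [Module.Finite Λ k] in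
lemma dual_maximalIdeal_sq : IsLocalRing.maximalIdeal (dual Λ k) ^ (1 + 1) = ⊥ := by
  rw [pow_succ, pow_one, eq_bot_iff, Ideal.mul_le]
  intro x hx y hy
  rw [Art.mem_maximalIdeal_iff] at hx hy
  have hx' : TrivSqZeroExt.fst (x : TrivSqZeroExt k k) = 0 := hx
  have hy' : TrivSqZeroExt.fst (y : TrivSqZeroExt k k) = 0 := hy
  rw [Ideal.mem_bot]
  refine TrivSqZeroExt.ext ?_ ?_
  · refine (TrivSqZeroExt.fst_mul (x : TrivSqZeroExt k k) y).trans ?_
    rw [hx', zero_mul]; rfl
  · refine (TrivSqZeroExt.snd_mul (x : TrivSqZeroExt k k) y).trans ?_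
    rw [hx', hy', zero_smul, MulOpposite.op_zero, zero_smul, add_zero]; rfl

variable {F : Art Λ k ⥤ Type v}

omit [IsNoetherianRing Λ] [Module.Finite Λ k] in
lemma along_toFormalElt {R S : CRing Λ k} (ξ : Family R.carrier R.res F)
    (g : R.carrier →ₐ[Λ] S.carrier) (hg : S.res.comp g = R.res) :
    (ξ.along g hg).toFormalElt = ξ.toFormalElt.push g hg := by
  apply FormalElt.ext'
  intro n
  change ξ.app _ ⟨(S.truncHom n).1.comp g, _⟩ =
    F.map (CRing.truncMapOfHom g hg n) (ξ.app _ (R.truncHom n))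
  rw [← ξ.natural]
  congr 1

/-- A hull is a minimal versal family. -/
theorem isMinimalVersal_of_isMiniversal {R : CRing Λ k} (ξ : Family R.carrier R.res F)
    (hξ : IsMiniversal ξ) : ξ.IsMinimalVersal := by
  refine ⟨hξ.1, ?_⟩
  intro R' u f hf hpush
  letI : Algebra R.carrier k := R.res.toRingHom.toAlgebra
  haveI : IsScalarTower Λ R.carrier k :=
    IsScalarTower.of_algebraMap_eq (fun l => (R.res.commutes l).symm)
  haveI : IsAdicComplete (IsLocalRing.maximalIdeal R.carrier) R.carrier := R.isAdicComplete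
  have hres : ∀ r, algebraMap R.carrier k r = R.res r := fun _ => rfl
  apply Groth.Agent.S12716.result R' R.carrier R.res_surjective f
    (by rw [← hf]; exact AlgHom.ext fun _ => rfl)
  intro D₁ D₂ hD
  apply derHom_injective hres
  apply hξ.2.1
  obtain ⟨θ₁, hθ₁⟩ := exists_factor_trunc R (derHom hres D₁) 1 dual_maximalIdeal_sq
  obtain ⟨θ₂, hθ₂⟩ := exists_factor_trunc R (derHom hres D₂) 1 dual_maximalIdeal_sq
  have key : CRing.truncMapOfHom f hf 1 ≫ θ₁ = CRing.truncMapOfHom f hf 1 ≫ θ₂ := by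
    apply trunc_hom_ext R'
    apply Subtype.ext
    apply AlgHom.ext
    intro r'
    have h1 : θ₁.toAlgHom (Ideal.Quotient.mk _ (f r')) = (derHom hres D₁).1 (f r') :=
      congrArg (fun g : HomSet R.carrier R.res (dual Λ k) => g.1 (f r')) hθ₁
    have h2 : θ₂.toAlgHom (Ideal.Quotient.mk _ (f r')) = (derHom hres D₂).1 (f r') :=
      congrArg (fun g : HomSet R.carrier R.res (dual Λ k) => g.1 (f r')) hθ₂
    change θ₁.toAlgHom (Ideal.Quotient.mk _ (f r')) = θ₂.toAlgHom (Ideal.Quotient.mk _ (f r'))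
    rw [h1, h2]
    exact TrivSqZeroExt.ext rfl (hD r')
  have e1 : ∀ (θ : R.trunc 1 ⟶ dual Λ k),
      ξ.app _ (HomSet.map θ (R.truncHom 1)) =
        F.map (CRing.truncMapOfHom f hf 1 ≫ θ) (u.elt 1) := by
    intro θ
    rw [ξ.natural]
    have : ξ.app _ (R.truncHom 1) = F.map (CRing.truncMapOfHom f hf 1) (u.elt 1) :=
      (congrArg (fun w : FormalElt F R => w.elt 1) hpush).symm
    rw [this, F.map_comp]
    rfl
  rw [← hθ₁, ← hθ₂, e1, e1, key]

end Groth.Agent.Lib.Helper1.ArtFunMinimal
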