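import Groth.Agent.Lib.Helper1.ArtFunHull
import Groth.Agent.Lib.Helper1.DerSelect
import Groth.Agent.S12715
import Groth.Agent.S12716

set_option autoImplicit false
universe u v

open CategoryTheory

namespace Groth.Agent.Lib.Helper1.ArtFunPresent

open ArtFun ArtFun.Art Groth.Agent.Lib.Helper1.ArtFunBasic
  Groth.Agent.Lib.Helper1.ArtFunCRing Groth.Agent.Lib.Helper1.ArtFunVersalCrit
  Groth.Agent.Lib.Helper1.ArtFunHullStep Groth.Agent.Lib.Helper1.PSRing
  Groth.Agent.Lib.Helper1.ArtFunHull Groth.Agent.Lib.Helper1.PSDecomp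

variable {Λ : Type u} {k : Type u} [CommRing Λ] [Field k] [Algebra Λ k]
variable [IsNoetherianRing Λ] [Module.Finite Λ k]

/-- A free coefficient ring maps to any coefficient ring with prescribed images of the
generators. -/
theorem exists_algHom_of_isFreeOn {S : CRing Λ k} {r : ℕ} {X : Fin r → S.carrier}
    (hfree : IsFreeOn S X) (R : CRing Λ k) (y : Fin r → R.carrier)
    (hy : ∀ i, y i ∈ IsLocalRing.maximalIdeal R.carrier) :
    ∃ G : S.carrier →ₐ[Λ] R.carrier, R.res.comp G = S.res ∧ ∀ i, G (X i) = y i := by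
  have hmem : ∀ n i, Ideal.Quotient.mk (CRing.mpow R n) (y i) ∈
      IsLocalRing.maximalIdeal (R.trunc n) := by
    intro n i
    refine (Art.mem_maximalIdeal_iff (R.trunc n) _).2 ?_
    change R.res (y i) = 0
    exact (R.mem_maximalIdeal_iff _).1 (hy i)
  choose ψ hψ using fun n => hfree.exists_hom (R.trunc n)
    (fun i => Ideal.Quotient.mk (CRing.mpow R n) (y i)) (hmem n)
  have hcompat : ∀ n, HomSet.map (R.truncMap n) (ψ (n + 1)) = ψ n := by
    intro n
    apply hfree.hom_ext
    intro i
    rw [map_apply, hψ (n + 1) i, hψ n i]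
    rfl
  obtain ⟨G, hG, hGn⟩ := exists_lift_of_compat R ψ hcompat
  refine ⟨G, hG, fun i => ?_⟩
  haveI : IsAdicComplete (IsLocalRing.maximalIdeal R.carrier) R.carrier := R.isAdicComplete
  have hmemn : ∀ n, G (X i) - y i ∈ IsLocalRing.maximalIdeal R.carrier ^ n := by
    intro n
    have h1 : Ideal.Quotient.mk (CRing.mpow R n) (G (X i)) = (ψ n).1 (X i) :=
      congrArg (fun g : S.carrier →ₐ[Λ] R.trunc n => g (X i)) (hGn n)
    rw [hψ n i] at h1
    have h2 := (Ideal.Quotient.eq).1 h1
    exact Ideal.pow_le_pow_right (Nat.le_succ n) h2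
  have hbot := Ideal.iInf_pow_eq_bot_of_isLocalRing (IsLocalRing.maximalIdeal R.carrier)
    (IsLocalRing.maximalIdeal.isMaximal R.carrier).ne_top
  have : G (X i) - y i ∈ ⨅ n, IsLocalRing.maximalIdeal R.carrier ^ n := (Ideal.mem_iInf).2 hmemn
  rw [hbot, Ideal.mem_bot, sub_eq_zero] at this
  exact this

section Present

variable [IsLocalRing Λ] [IsAdicComplete (IsLocalRing.maximalIdeal Λ) Λ]
  (hsurj : Function.Surjective (algebraMap Λ k)) (R : CRing Λ k)

include hsurj in
/-- A minimal presentation of a coefficient ring as a quotient of a power series ring, together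
with the dual coordinate property of the generators. -/
theorem exists_presentation' :
    letI : Algebra R.carrier k := R.res.toRingHom.toAlgebra
    ∃ (d : ℕ) (π : MvPowerSeries (Fin d) Λ →ₐ[Λ] R.carrier), R.res.comp π = psRes d ∧
      Function.Surjective π ∧
      Function.Bijective (fun (D : Derivation Λ R.carrier k) (j : Fin d) =>
        D (π (MvPowerSeries.X j))) ∧
      RingHom.ker π ≤ IsLocalRing.maximalIdeal (MvPowerSeries (Fin d) Λ) ^ 2 ⊔
        Ideal.map MvPowerSeries.C (IsLocalRing.maximalIdeal Λ) := by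
  classical
  letI : Algebra R.carrier k := R.res.toRingHom.toAlgebra
  haveI : IsScalarTower Λ R.carrier k :=
    IsScalarTower.of_algebraMap_eq (fun l => (R.res.commutes l).symm)
  haveI : IsAdicComplete (IsLocalRing.maximalIdeal R.carrier) R.carrier := R.isAdicComplete
  have hres : Function.Surjective (algebraMap R.carrier k) := R.res_surjective
  have hresdef : ∀ a : R.carrier, algebraMap R.carrier k a = R.res a := fun _ => rfl
  haveI : Module.Finite k (Derivation Λ R.carrier k) := Groth.Agent.S12715.result R.carrier hres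
  have hgen : ∀ a : R.carrier, ∃ l : Λ, a - algebraMap Λ R.carrier l ∈
      IsLocalRing.maximalIdeal R.carrier := by
    intro a
    obtain ⟨l, hl⟩ := hsurj (R.res a)
    refine ⟨l, ?_⟩
    rw [R.mem_maximalIdeal_iff, map_sub, AlgHom.commutes, hl, sub_self]
  obtain ⟨d, x, hxm, hE⟩ : ∃ (d : ℕ) (x : Fin d → R.carrier),
      (∀ j, x j ∈ IsLocalRing.maximalIdeal R.carrier) ∧
      Function.Bijective (fun (D : Derivation Λ R.carrier k) (j : Fin d) => D (x j)) :=
    ⟨_, Groth.Agent.Lib.Helper1.DerSelect.exists_dual_gens (Λ := Λ) hres hgen⟩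
  obtain ⟨π, hπres, hπX⟩ : ∃ π : MvPowerSeries (Fin d) Λ →ₐ[Λ] R.carrier,
      R.res.comp π = psRes d ∧ ∀ i, π (MvPowerSeries.X i) = x i :=
    exists_algHom_of_isFreeOn (psRing_isFreeOn hsurj d) R x hxm
  have hπres' : R.res.comp π = psRes d := hπres
  have hπs : Function.Surjective π := by
    apply Groth.Agent.S12716.result (psRing hsurj d) R.carrier hres π
    · exact hπres
    · intro D₁ D₂ h
      apply hE.1
      funext j
      change D₁ (x j) = D₂ (x j)
      rw [← hπX j]
      exact h _
  have hE' : Function.Bijective (fun (D : Derivation Λ R.carrier k) (j : Fin d) =>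
      D (π (MvPowerSeries.X j))) := by
    have : (fun (D : Derivation Λ R.carrier k) (j : Fin d) => D (π (MvPowerSeries.X j))) =
        (fun (D : Derivation Λ R.carrier k) (j : Fin d) => D (x j)) := by
      funext D j
      rw [hπX j]
    rw [this]
    exact hE
  refine ⟨d, π, hπres', hπs, hE', ?_⟩
  -- the kernel
  have hDsq : ∀ (D : Derivation Λ R.carrier k) (a b : R.carrier),
      a ∈ IsLocalRing.maximalIdeal R.carrier → D (a * b) = R.res b * D a := by
    intro D a b ha
    rw [Derivation.leibniz, Algebra.smul_def, Algebra.smul_def, hresdef, hresdef,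
      (R.mem_maximalIdeal_iff a).1 ha, zero_mul, zero_add]
  have hkΛ : ∀ l : Λ, algebraMap Λ k l = 0 → l ∈ IsLocalRing.maximalIdeal Λ := by
    intro l hl
    have hmax : (RingHom.ker (algebraMap Λ k)).IsMaximal :=
      RingHom.ker_isMaximal_of_surjective _ hsurj
    rw [← IsLocalRing.eq_maximalIdeal hmax, RingHom.mem_ker]
    exact hl
  have hπpsRes : ∀ s, R.res (π s) = algebraMap Λ k (MvPowerSeries.constantCoeff s) := fun s =>
    congrArg (fun g : MvPowerSeries (Fin d) Λ →ₐ[Λ] k => g s) hπres'
  intro s hs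
  rw [RingHom.mem_ker] at hs
  have hd' := decomp s
  -- constant term
  have hc0 : MvPowerSeries.coeff 0 s ∈ IsLocalRing.maximalIdeal Λ := by
    apply hkΛ
    have := hπpsRes s
    rw [hs, map_zero] at this
    exact this.symm
  -- linear coefficients
  have hci : ∀ j, part j s ∈ IsLocalRing.maximalIdeal (MvPowerSeries (Fin d) Λ) := by
    intro j
    rw [PSDecomp.mem_maximalIdeal_iff]
    apply hkΛ
    obtain ⟨D, hD⟩ := hE'.2 (Pi.single j (1 : k))
    have hDj : ∀ i, D (π (MvPowerSeries.X i)) = (Pi.single j (1 : k) : Fin d → k) i :=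
      fun i => congrFun hD i
    have h0 : D (π s) = 0 := by rw [hs, map_zero]
    rw [hd', map_add, map_sum, map_add, map_sum, MvPowerSeries.c_eq_algebraMap, AlgHom.commutes,
      Derivation.map_algebraMap, zero_add] at h0
    have hterm : ∀ i, D (π (MvPowerSeries.X i * part i s)) =
        algebraMap Λ k (MvPowerSeries.constantCoeff (part i s)) *
          (Pi.single j (1 : k) : Fin d → k) i := by
      intro i
      rw [map_mul, hDsq D _ _ (by rw [hπX i]; exact hxm i), hπpsRes, hDj]
    rw [Finset.sum_congr rfl (fun i _ => hterm i), Finset.sum_eq_single j] at h0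
    · rw [Pi.single_eq_same, mul_one] at h0
      exact h0
    · intro i _ hij
      rw [Pi.single_eq_of_ne hij, mul_zero]
    · intro h; exact absurd (Finset.mem_univ j) h
  rw [hd']
  apply Ideal.add_mem
  · exact Ideal.mem_sup_right (Ideal.mem_map_of_mem _ hc0)
  · apply Ideal.mem_sup_left
    apply Ideal.sum_mem
    intro j _
    rw [pow_two]
    exact Ideal.mul_mem_mul (X_mem_maximalIdeal j) (hci j)

end Present

end Groth.Agent.Lib.Helper1.ArtFunPresent
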