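import Groth.Agent.Lib.Helper1.ArtFunProrep
import Groth.Agent.Lib.Helper1.ArtFunFormal

set_option autoImplicit false
universe u v

open CategoryTheory

namespace Groth.Agent.Lib.Helper1.ArtFunProrepUnique

open ArtFun ArtFun.Art Groth.Agent.Lib.Helper1.ArtFunBasic Groth.Agent.Lib.Helper1.ArtFunCRing
  Groth.Agent.Lib.Helper1.ArtFunProrep

variable {Λ : Type u} {k : Type u} [CommRing Λ] [Field k] [Algebra Λ k]

/-- Maps into a complete ring agreeing on all truncations are equal. -/
theorem algHom_ext_trunc {R' : Type u} [CommRing R'] [Algebra Λ R'] (S : CRing Λ k)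
    (g₁ g₂ : R' →ₐ[Λ] S.carrier)
    (h : ∀ n, (S.truncHom n).1.comp g₁ = (S.truncHom n).1.comp g₂) : g₁ = g₂ := by
  haveI : IsAdicComplete (IsLocalRing.maximalIdeal S.carrier) S.carrier := S.isAdicComplete
  apply IsAdicComplete.algHom_ext (IsLocalRing.maximalIdeal S.carrier)
  intro n
  apply AlgHom.ext
  intro x
  have h1 : Ideal.Quotient.mk (CRing.mpow S n) (g₁ x) = Ideal.Quotient.mk (CRing.mpow S n) (g₂ x) :=
    congrArg (fun w : R' →ₐ[Λ] (S.trunc n) => w x) (h n)
  rw [Ideal.Quotient.eq] at h1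
  change Ideal.Quotient.mk (IsLocalRing.maximalIdeal S.carrier ^ n) (g₁ x) =
    Ideal.Quotient.mk (IsLocalRing.maximalIdeal S.carrier ^ n) (g₂ x)
  rw [Ideal.Quotient.eq]
  exact Ideal.pow_le_pow_right (Nat.le_succ n) h1

variable [IsNoetherianRing Λ] [Module.Finite Λ k]
variable {F : Art Λ k ⥤ Type v}

/-- If `ξ` is universal and `ξ ∘ g₁ = ξ ∘ g₂` as families over `S`, then `g₁ = g₂`. -/
theorem eq_of_along_app_eq {R S : CRing Λ k} (ξ : Family R.carrier R.res F) (hξ : IsUniversal ξ)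
    (g₁ g₂ : R.carrier →ₐ[Λ] S.carrier) (h₁ : S.res.comp g₁ = R.res) (h₂ : S.res.comp g₂ = R.res)
    (h : ∀ (A : Art Λ k) (ψ : HomSet S.carrier S.res A),
      (ξ.along g₁ h₁).app A ψ = (ξ.along g₂ h₂).app A ψ) : g₁ = g₂ := by
  apply algHom_ext_trunc S
  intro n
  have := (hξ _).1 (h _ (S.truncHom n))
  exact congrArg Subtype.val this

theorem existsUnique_algEquiv (P Q : ProRep F) :
    ∃! e : P.ring.carrier ≃ₐ[Λ] Q.ring.carrier,
      ∃ he : Q.ring.res.comp e.toAlgHom = P.ring.res, P.family.along e.toAlgHom he = Q.family := by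
  have h0 := h0_of_isUniversal P.family P.universal
  have hvP := isVersal_of_isUniversal P.family P.universal
  have hvQ := isVersal_of_isUniversal Q.family Q.universal
  obtain ⟨g, hg, hgη⟩ := exists_along_toFormalElt_eq h0 P.ring P.family hvP Q.ring
    Q.family.toFormalElt
  obtain ⟨g', hg', hgη'⟩ := exists_along_toFormalElt_eq h0 Q.ring Q.family hvQ P.ring
    P.family.toFormalElt
  have e1 : ∀ (A : Art Λ k) (ψ : HomSet Q.ring.carrier Q.ring.res A),
      (P.family.along g hg).app A ψ = Q.family.app A ψ :=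
    fun A ψ => family_app_eq_of_toFormalElt_eq Q.ring _ _ hgη A ψ
  have e2 : ∀ (A : Art Λ k) (ψ : HomSet P.ring.carrier P.ring.res A),
      (Q.family.along g' hg').app A ψ = P.family.app A ψ :=
    fun A ψ => family_app_eq_of_toFormalElt_eq P.ring _ _ hgη' A ψ
  have hcomp1 : g'.comp g = AlgHom.id Λ P.ring.carrier := by
    apply eq_of_along_app_eq P.family P.universal (g'.comp g) (AlgHom.id Λ _)
      (by rw [← AlgHom.comp_assoc, hg', hg]) (AlgHom.comp_id _)
    intro A ψ
    have h1 := e2 A ψ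
    change Q.family.app A ⟨ψ.1.comp g', _⟩ = _ at h1
    rw [← e1] at h1
    exact h1.trans (by congr 1)
  have hcomp2 : g.comp g' = AlgHom.id Λ Q.ring.carrier := by
    apply eq_of_along_app_eq Q.family Q.universal (g.comp g') (AlgHom.id Λ _)
      (by rw [← AlgHom.comp_assoc, hg, hg']) (AlgHom.comp_id _)
    intro A ψ
    have h1 := e1 A ψ
    change P.family.app A ⟨ψ.1.comp g, _⟩ = _ at h1
    rw [← e2] at h1
    exact h1.trans (by congr 1)
  have hfam : ∀ (g₂ : P.ring.carrier →ₐ[Λ] Q.ring.carrier) (hg₂ : Q.ring.res.comp g₂ = P.ring.res),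
      (∀ (A : Art Λ k) (ψ : HomSet Q.ring.carrier Q.ring.res A),
        (P.family.along g₂ hg₂).app A ψ = Q.family.app A ψ) → P.family.along g₂ hg₂ = Q.family := by
    intro g₂ hg₂ h
    have happ : (P.family.along g₂ hg₂).app = Q.family.app := by
      funext A ψ; exact h A ψ
    generalize P.family.along g₂ hg₂ = ζ at happ
    cases ζ; cases hQ : Q.family
    rw [hQ] at happ
    cases happ
    rfl
  refine ⟨AlgEquiv.ofAlgHom g g' hcomp2 hcomp1, ⟨hg, hfam g hg e1⟩, ?_⟩
  rintro e' ⟨he', hfe'⟩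
  apply AlgEquiv.ext
  intro x
  have : e'.toAlgHom = g := by
    apply eq_of_along_app_eq P.family P.universal e'.toAlgHom g he' hg
    intro A ψ
    rw [hfe', e1]
  exact congrArg (fun w : P.ring.carrier →ₐ[Λ] Q.ring.carrier => w x) this

end Groth.Agent.Lib.Helper1.ArtFunProrepUnique
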