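import Groth.Agent.Lib.Helper1.ArtFunHullLimit

set_option autoImplicit false
universe u v
open CategoryTheory ArtFun ArtFun.Art

namespace Groth.Agent.Lib.Helper1.ArtFunQuot

open Groth.Agent.Lib.Helper1.ArtFunBasic Groth.Agent.Lib.Helper1.ArtFunCRing
  Groth.Agent.Lib.Helper1.ArtFunHullStep

variable {Λ : Type u} {k : Type u} [CommRing Λ] [Field k] [Algebra Λ k]
variable (S : CRing Λ k) (I : Ideal S.carrier) (hI : I ≤ IsLocalRing.maximalIdeal S.carrier)

include hI in
lemma ne_top : I ≠ ⊤ := fun h =>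
  (IsLocalRing.maximalIdeal.isMaximal S.carrier).ne_top (top_le_iff.1 (h ▸ hI))

include hI in
lemma isLocalRing_quot : IsLocalRing (S.carrier ⧸ I) :=
  haveI : Nontrivial (S.carrier ⧸ I) := Ideal.Quotient.nontrivial_iff.2 (ne_top S I hI)
  IsLocalRing.of_surjective' (Ideal.Quotient.mk I) Ideal.Quotient.mk_surjective

/-- The augmentation of the quotient. -/
noncomputable def quotRes : (S.carrier ⧸ I) →ₐ[Λ] k :=
  Ideal.Quotient.liftₐ I S.res (fun a ha => (S.mem_maximalIdeal_iff a).1 (hI ha))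

lemma quotRes_mk (a : S.carrier) : quotRes S I hI (Ideal.Quotient.mk I a) = S.res a := rfl

lemma quotRes_surjective : Function.Surjective (quotRes S I hI) := fun c => by
  obtain ⟨a, ha⟩ := S.res_surjective c
  exact ⟨Ideal.Quotient.mk _ a, ha⟩

lemma mem_maximalIdeal_quot_iff (y : S.carrier ⧸ I) :
    y ∈ @IsLocalRing.maximalIdeal (S.carrier ⧸ I) _ (isLocalRing_quot S I hI) ↔
      quotRes S I hI y = 0 := by
  letI := isLocalRing_quot S I hI
  have hmax : (RingHom.ker (quotRes S I hI : (S.carrier ⧸ I) →+* k)).IsMaximal :=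
    RingHom.ker_isMaximal_of_surjective (quotRes S I hI : (S.carrier ⧸ I) →+* k)
      (quotRes_surjective S I hI)
  rw [← IsLocalRing.eq_maximalIdeal hmax, RingHom.mem_ker]
  rfl

lemma map_maximalIdeal :
    (IsLocalRing.maximalIdeal S.carrier).map (algebraMap S.carrier (S.carrier ⧸ I)) =
      @IsLocalRing.maximalIdeal (S.carrier ⧸ I) _ (isLocalRing_quot S I hI) := by
  ext y
  obtain ⟨a, rfl⟩ := Ideal.Quotient.mk_surjective y
  rw [mem_maximalIdeal_quot_iff S I hI, quotRes_mk, ← S.mem_maximalIdeal_iff]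
  exact mem_map_iff_of_ker_le (Ideal.Quotient.mk I) Ideal.Quotient.mk_surjective _
    (by rw [Ideal.mk_ker]; exact hI) a

lemma isAdicComplete_quot :
    IsAdicComplete (@IsLocalRing.maximalIdeal (S.carrier ⧸ I) _ (isLocalRing_quot S I hI))
      (S.carrier ⧸ I) := by
  haveI : IsAdicComplete (IsLocalRing.maximalIdeal S.carrier) S.carrier := S.isAdicComplete
  have h := Groth.Agent.S3866.result S.carrier (IsLocalRing.maximalIdeal S.carrier) (S.carrier ⧸ I)
  rw [← map_maximalIdeal S I hI]
  exact (IsAdicComplete.map_algebraMap_iff _ _).2 h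

/-- The quotient of a coefficient ring by a proper ideal. -/
noncomputable def quot : CRing Λ k :=
  letI := isLocalRing_quot S I hI
  { carrier := S.carrier ⧸ I
    res := quotRes S I hI
    res_surjective := quotRes_surjective S I hI
    isAdicComplete := isAdicComplete_quot S I hI }

/-- The quotient map. -/
noncomputable def mkQ : S.carrier →ₐ[Λ] (quot S I hI).carrier := Ideal.Quotient.mkₐ Λ I

lemma mkQ_surjective : Function.Surjective (mkQ S I hI) := Ideal.Quotient.mk_surjective

lemma res_mkQ : (quot S I hI).res.comp (mkQ S I hI) = S.res := Ideal.Quotient.liftₐ_comp _ _ _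

lemma ker_mkQ : RingHom.ker (mkQ S I hI) = I := Ideal.mk_ker

section Hom

variable {A B : Art Λ k}

/-- Restriction of a map out of the quotient to `S`. -/
noncomputable def toS (φ : HomSet (quot S I hI).carrier (quot S I hI).res A) :
    HomSet S.carrier S.res A :=
  ⟨φ.1.comp (mkQ S I hI), by rw [← AlgHom.comp_assoc, φ.2]; exact res_mkQ S I hI⟩

lemma toS_apply (φ : HomSet (quot S I hI).carrier (quot S I hI).res A) (s : S.carrier) :
    (toS S I hI φ).1 s = φ.1 (mkQ S I hI s) := rfl

lemma toS_injective : Function.Injective (toS S I hI (A := A)) := by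
  intro φ ψ h
  apply Subtype.ext
  apply AlgHom.ext
  intro y
  obtain ⟨s, rfl⟩ := mkQ_surjective S I hI y
  exact congrArg (fun g : HomSet S.carrier S.res A => g.1 s) h

lemma toS_map (f : A ⟶ B) (φ : HomSet (quot S I hI).carrier (quot S I hI).res A) :
    toS S I hI (HomSet.map f φ) = HomSet.map f (toS S I hI φ) := rfl

lemma le_ker_toS (φ : HomSet (quot S I hI).carrier (quot S I hI).res A) :
    I ≤ RingHom.ker (toS S I hI φ).1 := by
  intro s hs
  rw [RingHom.mem_ker, toS_apply]
  have : mkQ S I hI s = 0 := by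
    have h : s ∈ RingHom.ker (mkQ S I hI) := by rw [ker_mkQ]; exact hs
    exact h
  rw [this, map_zero]

/-- Descent of a map killing `I`. -/
noncomputable def desc (ψ : HomSet S.carrier S.res A) (h : I ≤ RingHom.ker ψ.1) :
    HomSet (quot S I hI).carrier (quot S I hI).res A :=
  ⟨Ideal.Quotient.liftₐ I ψ.1 (fun a ha => h ha), by
    apply Ideal.Quotient.algHom_ext
    apply AlgHom.ext
    intro s
    change A.res (ψ.1 s) = S.res s
    exact congrArg (fun g : S.carrier →ₐ[Λ] k => g s) ψ.2⟩

lemma toS_desc (ψ : HomSet S.carrier S.res A) (h : I ≤ RingHom.ker ψ.1) :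
    toS S I hI (desc S I hI ψ h) = ψ :=
  Subtype.ext (AlgHom.ext fun _ => rfl)

lemma desc_apply (ψ : HomSet S.carrier S.res A) (h : I ≤ RingHom.ker ψ.1) (s : S.carrier) :
    (desc S I hI ψ h).1 (mkQ S I hI s) = ψ.1 s := rfl

lemma desc_surjective (ψ : HomSet S.carrier S.res A) (h : I ≤ RingHom.ker ψ.1)
    (hψ : Function.Surjective ψ.1) : Function.Surjective (desc S I hI ψ h).1 := fun a => by
  obtain ⟨s, rfl⟩ := hψ a
  exact ⟨mkQ S I hI s, rfl⟩

lemma ker_desc (ψ : HomSet S.carrier S.res A) (h : I ≤ RingHom.ker ψ.1) (s : S.carrier) :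
    mkQ S I hI s ∈ RingHom.ker (desc S I hI ψ h).1 ↔ s ∈ RingHom.ker ψ.1 := by
  rw [RingHom.mem_ker, RingHom.mem_ker, desc_apply]

end Hom

end Groth.Agent.Lib.Helper1.ArtFunQuot
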