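import Groth.Agent.Lib.Helper1.ArtFunPullback

set_option autoImplicit false
universe u v

open CategoryTheory

namespace Groth.Agent.Lib.Helper1.ArtFunSmall

open ArtFun ArtFun.Art Groth.Agent.Lib.Helper1.ArtFunBasic Groth.Agent.Lib.Helper1.ArtFunFib

variable {Λ : Type u} {k : Type u} [CommRing Λ] [Field k] [Algebra Λ k]

lemma map_mem_maximalIdeal {A B : Art Λ k} (f : B ⟶ A) {b : B}
    (hb : b ∈ IsLocalRing.maximalIdeal B) : f b ∈ IsLocalRing.maximalIdeal A := by
  rw [mem_maximalIdeal_iff] at hb ⊢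
  rw [res_app, hb]

/-- A small extension has kernel generated by some `t ≠ 0` killed by the maximal ideal. -/
lemma exists_gen_of_isSmallExt {A B : Art Λ k} {p : B ⟶ A} (hp : IsSmallExt p) :
    ∃ t : B, RingHom.ker p.toAlgHom = Ideal.span {t} ∧ t ≠ 0 ∧
      ∀ x ∈ IsLocalRing.maximalIdeal B, x * t = 0 := by
  obtain ⟨_, hne, ⟨t, ht⟩, hm⟩ := hp
  have ht' : RingHom.ker p.toAlgHom = Ideal.span {t} := ht
  refine ⟨t, ht', ?_, ?_⟩
  · rintro rfl
    apply hne
    rw [ht']
    simp
  · intro x hx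
    have : x * t ∈ IsLocalRing.maximalIdeal B * RingHom.ker p.toAlgHom :=
      Ideal.mul_mem_mul hx (ht' ▸ Ideal.mem_span_singleton_self t)
    rw [hm] at this
    exact this

/-- Base change of a small extension is a small extension. -/
theorem isSmallExt_fst_of_isFibreProd {B A A₁ A₂ : Art Λ k} {p₁ : B ⟶ A₁} {p₂ : B ⟶ A₂}
    {f₁ : A₁ ⟶ A} {f₂ : A₂ ⟶ A} (h : IsFibreProd p₁ p₂ f₁ f₂) (hf₂ : IsSmallExt f₂) :
    IsSmallExt p₁ := by
  obtain ⟨t, hker, ht0, hmt⟩ := exists_gen_of_isSmallExt hf₂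
  have htk : f₂ t = 0 := by
    have : t ∈ RingHom.ker f₂.toAlgHom := hker ▸ Ideal.mem_span_singleton_self t
    exact this
  obtain ⟨b₀, hb₁, hb₂⟩ := h.surj 0 t (by rw [htk]; exact map_zero f₁.toAlgHom)
  have hkerp : RingHom.ker p₁.toAlgHom = Ideal.span {b₀} := by
    apply le_antisymm
    · intro b hb
      have hb' : p₁ b = 0 := hb
      have h1 : p₂ b ∈ RingHom.ker f₂.toAlgHom := by
        rw [RingHom.mem_ker]
        rw [← h.w_apply, hb']
        exact map_zero f₁.toAlgHom
      rw [hker] at h1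
      obtain ⟨c, hc⟩ := Ideal.mem_span_singleton'.mp h1
      obtain ⟨c', hc'⟩ := B.res_surjective (A₂.res c)
      have hdiff : p₂ c' - c ∈ IsLocalRing.maximalIdeal A₂ := by
        rw [mem_maximalIdeal_iff, map_sub, res_app, hc', sub_self]
      have : b = c' * b₀ := by
        apply h.inj
        · change p₁.toAlgHom b = p₁.toAlgHom (c' * b₀)
          rw [map_mul]
          rw [hb', hb₁, mul_zero]
        · change p₂.toAlgHom b = p₂.toAlgHom (c' * b₀)
          rw [map_mul]
          rw [hb₂, ← hc]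
          have := hmt _ hdiff
          rw [sub_mul, sub_eq_zero] at this
          exact this.symm
      rw [this]
      exact Ideal.mul_mem_left _ _ (Ideal.mem_span_singleton_self b₀)
    · rw [Ideal.span_singleton_le_iff_mem]
      exact hb₁
  refine ⟨fst_surjective_of_surjective h hf₂.1, ?_, ?_, ?_⟩
  · rw [hkerp]
    intro hbot
    rw [Ideal.span_singleton_eq_bot] at hbot
    apply ht0
    rw [← hb₂, hbot]
    exact map_zero p₂.toAlgHom
  · rw [hkerp]; exact ⟨⟨_, rfl⟩⟩
  · rw [hkerp, eq_bot_iff, Ideal.mul_le]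
    intro x hx y hy
    obtain ⟨c, rfl⟩ := Ideal.mem_span_singleton'.mp hy
    rw [Ideal.mem_bot]
    apply h.inj
    · change p₁.toAlgHom (x * (c * b₀)) = p₁.toAlgHom 0
      rw [map_mul, map_mul, map_zero]
      rw [hb₁, mul_zero, mul_zero]
    · change p₂.toAlgHom (x * (c * b₀)) = p₂.toAlgHom 0
      rw [map_mul, map_mul, map_zero]
      rw [hb₂, mul_left_comm, hmt _ (map_mem_maximalIdeal p₂ hx), mul_zero]

end Groth.Agent.Lib.Helper1.ArtFunSmall
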