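import Groth.Agent.Lib.Helper1.ArtFunMinimal

set_option autoImplicit false
universe u v

open CategoryTheory

namespace Groth.Agent.Lib.Helper1.ArtFunUnique

open ArtFun ArtFun.Art Groth.Agent.Lib.Helper1.ArtFunBasic Groth.Agent.Lib.Helper1.ArtFunCRing
  Groth.Agent.Lib.Helper1.ArtFunMinimal

/-- A surjective endomorphism of a Noetherian ring is injective. -/
theorem injective_of_surjective_endo {R : Type*} [CommRing R] [IsNoetherianRing R]
    (φ : R →+* R) (hφ : Function.Surjective φ) : Function.Injective φ := by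
  let K : ℕ →o Ideal R :=
    ⟨fun n => RingHom.ker (φ ^ n), by
      intro m n hmn x hx
      rw [RingHom.mem_ker] at hx ⊢
      obtain ⟨d, rfl⟩ := Nat.exists_eq_add_of_le hmn
      rw [add_comm, pow_add, RingHom.mul_def, RingHom.comp_apply, hx, map_zero]⟩
  obtain ⟨n, hn⟩ := monotone_stabilizes_iff_noetherian.mpr (inferInstance : IsNoetherian R R) K
  have hsurj : Function.Surjective (φ ^ n) := by
    rw [RingHom.coe_pow]
    exact hφ.iterate n
  rw [injective_iff_map_eq_zero]
  intro x hx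
  obtain ⟨y, rfl⟩ := hsurj x
  have h1 : y ∈ K (n + 1) := by
    change y ∈ RingHom.ker (φ ^ (n + 1))
    rw [RingHom.mem_ker, pow_succ', RingHom.mul_def, RingHom.comp_apply]
    exact hx
  rw [← hn (n + 1) (Nat.le_succ n)] at h1
  exact h1

variable {Λ : Type u} {k : Type u} [CommRing Λ] [Field k] [Algebra Λ k]
variable [IsNoetherianRing Λ] [Module.Finite Λ k]
variable {F : Art Λ k ⥤ Type v}

/-- Two minimal versal families are isomorphic. -/
theorem isMinimalVersal_unique (h0 : H0 F) {R₁ R₂ : CRing Λ k}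
    (ξ₁ : Family R₁.carrier R₁.res F) (ξ₂ : Family R₂.carrier R₂.res F)
    (h₁ : ξ₁.IsMinimalVersal) (h₂ : ξ₂.IsMinimalVersal) :
    ∃ (e : R₁.carrier ≃ₐ[Λ] R₂.carrier)
      (he : R₂.res.comp (e : R₁.carrier →ₐ[Λ] R₂.carrier) = R₁.res),
      (ξ₁.along (e : R₁.carrier →ₐ[Λ] R₂.carrier) he).toFormalElt = ξ₂.toFormalElt := by
  obtain ⟨g, hg, hgη⟩ := exists_along_toFormalElt_eq h0 R₁ ξ₁ h₁.1 R₂ ξ₂.toFormalElt
  obtain ⟨g', hg', hgη'⟩ := exists_along_toFormalElt_eq h0 R₂ ξ₂ h₂.1 R₁ ξ₁.toFormalElt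
  have hs : Function.Surjective g := h₂.2 R₁ ξ₁.toFormalElt g hg (by rw [← along_toFormalElt, hgη])
  have hs' : Function.Surjective g' :=
    h₁.2 R₂ ξ₂.toFormalElt g' hg' (by rw [← along_toFormalElt, hgη'])
  have hinj : Function.Injective g := by
    have hcomp : Function.Surjective ((g'.comp g : R₁.carrier →ₐ[Λ] R₁.carrier) : R₁.carrier →+* R₁.carrier) :=
      hs'.comp hs
    have := injective_of_surjective_endo _ hcomp
    exact Function.Injective.of_comp this
  refine ⟨AlgEquiv.ofBijective g ⟨hinj, hs⟩, hg, ?_⟩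
  exact hgη

end Groth.Agent.Lib.Helper1.ArtFunUnique
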