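import Groth.Agent.Lib.Helper1.ArtFunFree
import Groth.Agent.Lib.Helper1.ArtFunVersalCrit
import Groth.Agent.Lib.Helper1.ArtFunVersal
import Groth.Agent.Lib.Helper5.ArtFunLift

set_option autoImplicit false
universe u v

open CategoryTheory

namespace Groth.Agent.Lib.Helper1.ArtFunUniversal

open ArtFun ArtFun.Art Groth.Agent.Lib.Helper1.ArtFunBasic Groth.Agent.Lib.Helper1.ArtFunFib
  Groth.Agent.Lib.Helper1.ArtFunPullback Groth.Agent.Lib.Helper1.ArtFunSmall
  Groth.Agent.Lib.Helper1.ArtFunTangent Groth.Agent.Lib.Helper1.ArtFunCond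
  Groth.Agent.Lib.Helper1.ArtFunAction Groth.Agent.Lib.Helper1.ArtFunVersalCrit

variable {Λ : Type u} {k : Type u} [CommRing Λ] [Field k] [Algebra Λ k]
variable [IsNoetherianRing Λ] [Module.Finite Λ k]
variable {R : Type u} [CommRing R] [Algebra Λ R] {resR : R →ₐ[Λ] k} {F : Art Λ k ⥤ Type v}

omit [IsNoetherianRing Λ] [Module.Finite Λ k] in
lemma homSet_ext_of_isFibreProd {B A A' A'' : Art Λ k} {p' : B ⟶ A'} {p'' : B ⟶ A''}
    {f' : A' ⟶ A} {f'' : A'' ⟶ A} (h : IsFibreProd p' p'' f' f'') (v₁ v₂ : HomSet R resR B)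
    (h1 : HomSet.map p' v₁ = HomSet.map p' v₂) (h2 : HomSet.map p'' v₁ = HomSet.map p'' v₂) :
    v₁ = v₂ := by
  apply Subtype.ext
  apply AlgHom.ext
  intro s
  apply h.inj
  · exact congrArg (fun g : HomSet R resR A' => g.1 s) h1
  · exact congrArg (fun g : HomSet R resR A'' => g.1 s) h2

/-- Freeness for a family which is injective on tangent spaces. -/
theorem eq_of_map_eq_of_app_eq (hF : RS F) (ξ : Family R resR F)
    (hq : Function.Injective (ξ.app (dual Λ k))) {B A : Art Λ k} (μ : B ⟶ A) (hμ : IsSmallExt μ)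
    (g₁ g₂ : HomSet R resR B) (h1 : HomSet.map μ g₁ = HomSet.map μ g₂)
    (h2 : ξ.app B g₁ = ξ.app B g₂) : g₁ = g₂ := by
  obtain ⟨d⟩ := nonempty_smallData hμ
  have sq1 := tObj_isFibreProd B
  have sq2 := d.sq
  obtain ⟨w, hw1, hw2⟩ := Groth.Agent.Lib.Helper5.ArtFunLift.exists_homSet_lift sq2 g₁ g₂ h1
  have hqw : ξ.app (tObj B) w = ξ.app (tObj B) (HomSet.map (tSec B) g₁) := by
    apply (hF _ _ _ _ sq2 hμ.1).1
    apply FibProd.ext
    · change F.map (tFst B) (ξ.app _ w) = F.map (tFst B) (ξ.app _ (HomSet.map (tSec B) g₁))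
      rw [← ξ.natural, ← ξ.natural, hw1, ← homSet_map_comp, tSec_tFst, homSet_map_id]
    · change F.map d.act (ξ.app _ w) = F.map d.act (ξ.app _ (HomSet.map (tSec B) g₁))
      rw [← ξ.natural, ← ξ.natural, hw2, ← homSet_map_comp, d.sec_act, homSet_map_id, h2]
  have hsnd : HomSet.map (tSnd B) w = HomSet.map (tSnd B) (HomSet.map (tSec B) g₁) := by
    apply hq
    rw [ξ.natural, ξ.natural, hqw]
  have hweq : w = HomSet.map (tSec B) g₁ := by
    apply homSet_ext_of_isFibreProd sq1
    · rw [hw1, ← homSet_map_comp, tSec_tFst, homSet_map_id]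
    · exact hsnd
  rw [← hw2, hweq, ← homSet_map_comp, d.sec_act, homSet_map_id]

/-- A miniversal family of a functor satisfying (RS) is universal. -/
theorem isUniversal_of_isMiniversal (h0 : H0 F) (hF : RS F) (ξ : Family R resR F)
    (hξ : IsMiniversal ξ) : IsUniversal ξ := by
  intro A
  refine ⟨?_, Groth.Agent.Lib.Helper1.ArtFunVersal.surjective_app_of_isVersal h0 ξ hξ.1 A⟩
  have key : Function.Injective (ξ.app (base Λ k)) → Function.Injective (ξ.app A) := by
    refine surjective_induction_smallExt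
      (P := fun A B μ => Function.Injective (ξ.app A) → Function.Injective (ξ.app B))
      ?_ ?_ ?_ (toBase A) A.res_surjective
    · intro A B e he hA x₁ x₂ hx
      have := he
      have h1 : HomSet.map e x₁ = HomSet.map e x₂ := by
        apply hA
        rw [ξ.natural, ξ.natural, hx]
      have := congrArg (HomSet.map (inv e)) h1
      rwa [← homSet_map_comp, ← homSet_map_comp, IsIso.hom_inv_id, homSet_map_id,
        homSet_map_id] at this
    · intro A B μ hμ hA x₁ x₂ hx
      have h1 : HomSet.map μ x₁ = HomSet.map μ x₂ := by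
        apply hA
        rw [ξ.natural, ξ.natural, hx]
      exact eq_of_map_eq_of_app_eq hF ξ hξ.2.1 μ hμ x₁ x₂ h1 hx
    · intro A B C p q hp hq hA
      exact hp (hq hA)
  exact key (fun x y _ => homSet_base_subsingleton x y)

end Groth.Agent.Lib.Helper1.ArtFunUniversal
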