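import Mathlib
import Groth.Agent.Lib.Helper16.BiCx7

/-!
# Helper1 — BiCxNat: total complexes and natural isomorphisms of bifunctors; symmetry
-/

set_option autoImplicit false
open CategoryTheory CategoryTheory.Limits HomologicalComplex

namespace Groth.Agent.Lib.Helper1.BiCxNat

open Groth.Agent.Lib.Helper16.BiCx
open Groth.Agent.Lib.Helper16.KF (Idx)

variable {C₁ C₂ D : Type*} [Category C₁] [Category C₂] [Category D]
  [Abelian C₁] [Abelian C₂] [Abelian D]
  (F F' : C₁ ⥤ C₂ ⥤ D) [F.Additive] [∀ X, (F.obj X).Additive]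
  [F'.Additive] [∀ X, (F'.obj X).Additive]
  [∀ (K₁ : CochainComplex C₁ ℤ) (K₂ : CochainComplex C₂ ℤ),
    HasMapBifunctor K₁ K₂ F (ComplexShape.up ℤ)]
  [∀ (K₁ : CochainComplex C₁ ℤ) (K₂ : CochainComplex C₂ ℤ),
    HasMapBifunctor K₁ K₂ F' (ComplexShape.up ℤ)]

variable {F F'}

/-- the map of total complexes induced by a natural transformation of bifunctors, in degree `n` -/
noncomputable def natHomX (τ : F ⟶ F') (L : CochainComplex C₁ ℤ) (K : CochainComplex C₂ ℤ)
    (n : ℤ) : (T F L K).X n ⟶ (T F' L K).X n :=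
  TDesc F (fun p q h => (τ.app (L.X p)).app (K.X q) ≫ ιT F' L K p q n h)

@[reassoc (attr := simp)]
lemma ι_natHomX (τ : F ⟶ F') (L : CochainComplex C₁ ℤ) (K : CochainComplex C₂ ℤ)
    (p q n : ℤ) (h : p + q = n) :
    ιT F L K p q n h ≫ natHomX τ L K n = (τ.app (L.X p)).app (K.X q) ≫ ιT F' L K p q n h :=
  ι_TDesc F _ p q h

/-- the map of total complexes induced by a natural transformation of bifunctors -/
noncomputable def natHom (τ : F ⟶ F') (L : CochainComplex C₁ ℤ) (K : CochainComplex C₂ ℤ) :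
    T F L K ⟶ T F' L K where
  f := natHomX τ L K
  comm' i j hij := by
    obtain rfl : i + 1 = j := hij
    apply T_hom_ext
    intro p q h
    rw [ι_natHomX_assoc, ιT_d, ιT_d_assoc, Preadditive.add_comp, Preadditive.comp_add,
      Category.assoc, ι_natHomX, Units.smul_def, Units.smul_def, Preadditive.zsmul_comp,
      Preadditive.comp_zsmul, Category.assoc, ι_natHomX]
    congr 1
    · rw [← NatTrans.comp_app_assoc, ← NatTrans.comp_app_assoc, τ.naturality]
    · rw [← (τ.app (L.X p)).naturality_assoc]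

lemma natHom_comp {F'' : C₁ ⥤ C₂ ⥤ D} [F''.Additive] [∀ X, (F''.obj X).Additive]
    [∀ (K₁ : CochainComplex C₁ ℤ) (K₂ : CochainComplex C₂ ℤ),
      HasMapBifunctor K₁ K₂ F'' (ComplexShape.up ℤ)]
    (τ : F ⟶ F') (τ' : F' ⟶ F'') (L : CochainComplex C₁ ℤ) (K : CochainComplex C₂ ℤ) :
    natHom τ L K ≫ natHom τ' L K = natHom (τ ≫ τ') L K := by
  ext n : 1
  apply T_hom_ext
  intro p q h
  change ιT F L K p q n h ≫ natHomX τ L K n ≫ natHomX τ' L K n = ιT F L K p q n h ≫ natHomX _ L K n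
  rw [ι_natHomX_assoc, ι_natHomX, ι_natHomX]
  simp

lemma natHom_id (L : CochainComplex C₁ ℤ) (K : CochainComplex C₂ ℤ) :
    natHom (𝟙 F) L K = 𝟙 _ := by
  ext n : 1
  apply T_hom_ext
  intro p q h
  change ιT F L K p q n h ≫ natHomX _ L K n = ιT F L K p q n h ≫ 𝟙 _
  rw [ι_natHomX]
  simp

/-- the isomorphism of total complexes induced by a natural isomorphism of bifunctors -/
noncomputable def natIso (e : F ≅ F') (L : CochainComplex C₁ ℤ) (K : CochainComplex C₂ ℤ) :
    T F L K ≅ T F' L K where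
  hom := natHom e.hom L K
  inv := natHom e.inv L K
  hom_inv_id := by rw [natHom_comp, e.hom_inv_id, natHom_id]
  inv_hom_id := by rw [natHom_comp, e.inv_hom_id, natHom_id]

end Groth.Agent.Lib.Helper1.BiCxNat

namespace Groth.Agent.Lib.Helper1.BiCxNat

open Groth.Agent.Lib.Helper16.BiCx

section Symm

variable {C D : Type*} [Category C] [Category D] [Abelian C] [Abelian D]
  (F : C ⥤ C ⥤ D) [F.Additive] [∀ X, (F.obj X).Additive]
  [∀ (K₁ K₂ : CochainComplex C ℤ), HasMapBifunctor K₁ K₂ F (ComplexShape.up ℤ)]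

instance additive_flip : F.flip.Additive where
  map_add {X Y f g} := by
    ext Z
    change (F.obj Z).map (f + g) = (F.obj Z).map f + (F.obj Z).map g
    rw [Functor.map_add]

instance hasMapBifunctor_flip (K₁ K₂ : CochainComplex C ℤ) :
    HasMapBifunctor K₁ K₂ F.flip (ComplexShape.up ℤ) := inferInstance

/-- for a symmetric bifunctor, `Tot F(L, K)` is acyclic iff `Tot F(K, L)` is. -/
theorem acyc_T_symm (σ : F ≅ F.flip) (L K : CochainComplex C ℤ) :
    Acyc (T F L K) ↔ Acyc (T F K L) := by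
  have e : T F L K ≅ T F K L :=
    natIso σ L K ≪≫ HomologicalComplex.mapBifunctorFlipIso K L F (ComplexShape.up ℤ)
  exact ⟨fun h => h.of_iso e, fun h => h.of_iso e.symm⟩

end Symm

end Groth.Agent.Lib.Helper1.BiCxNat
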