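import Mathlib
import Groth.Agent.Lib.Helper16.BiCx7
import Groth.Agent.Lib.Helper16.BiCx8

/-!
# Helper1 — KFlatZeroD: complexes with zero differential and "flat" terms are K-flat
(abstract bifunctor version)
-/

set_option autoImplicit false
open CategoryTheory CategoryTheory.Limits HomologicalComplex

namespace Groth.Agent.Lib.Helper1.KFlatA

open Groth.Agent.Lib.Helper16.BiCx
open Groth.Agent.Lib.Helper16.KF (Idx cofan_exact)

section Abelian

variable {A : Type*} [Category A] [Abelian A]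

lemma exactAt_succ_iff (K : CochainComplex A ℤ) (n : ℤ) :
    K.ExactAt (n + 1) ↔ (K.sc' n (n + 1) (n + 1 + 1)).Exact :=
  K.exactAt_iff' n (n + 1) (n + 1 + 1) (by simp) (by simp)

lemma acyc_of_forall_exact_sc' (K : CochainComplex A ℤ)
    (h : ∀ n : ℤ, (K.sc' n (n + 1) (n + 1 + 1)).Exact) : Acyc K := by
  intro N
  obtain ⟨n, rfl⟩ : ∃ n, N = n + 1 := ⟨N - 1, by omega⟩
  rw [← HomologicalComplex.exactAt_iff_isZero_homology, exactAt_succ_iff]
  exact h n

lemma exact_sc'_of_acyc (K : CochainComplex A ℤ) (h : Acyc K) (n : ℤ) :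
    (K.sc' n (n + 1) (n + 1 + 1)).Exact := by
  rw [← exactAt_succ_iff, HomologicalComplex.exactAt_iff_isZero_homology]
  exact h _

lemma exact_sc'_of_acyc' (K : CochainComplex A ℤ) (h : Acyc K) (i j k : ℤ) (hij : i + 1 = j)
    (hjk : j + 1 = k) : (K.sc' i j k).Exact := by
  subst hij hjk
  exact exact_sc'_of_acyc K h i

end Abelian

variable {C₁ C₂ D : Type*} [Category C₁] [Category C₂] [Category D]
  [Abelian C₁] [Abelian C₂] [Abelian D]
  (F : C₁ ⥤ C₂ ⥤ D) [F.Additive] [∀ X, (F.obj X).Additive]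
  [∀ (K₁ : CochainComplex C₁ ℤ) (K₂ : CochainComplex C₂ ℤ),
    HasMapBifunctor K₁ K₂ F (ComplexShape.up ℤ)]

/-- the equivalence `ℤ ≃ Idx n`, `q ↦ (n - q, q)`. -/
def idxEquiv (n : ℤ) : ℤ ≃ Idx n where
  toFun q := ⟨(n - q, q), by simp [ComplexShape.π]⟩
  invFun i := i.1.2
  left_inv q := rfl
  right_inv i := by
    obtain ⟨⟨p, q⟩, h⟩ := i
    replace h : p + q = n := h
    subst h
    simp

/-- `(Tot F(L, K)).X n` as a cofan indexed by `q : ℤ`. -/
noncomputable abbrev cofanZ (L : CochainComplex C₁ ℤ) (K : CochainComplex C₂ ℤ) (n : ℤ) :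
    Cofan (fun q : ℤ => (F.obj (L.X (n - q))).obj (K.X q)) :=
  Cofan.mk ((T F L K).X n) (fun q => ιT F L K (n - q) q n (by omega))

noncomputable def isColimitCofanZ (L : CochainComplex C₁ ℤ) (K : CochainComplex C₂ ℤ) (n : ℤ) :
    IsColimit (cofanZ F L K n) :=
  Cofan.isColimitEquivOfEquiv (idxEquiv n) (cofanT F L K n) (isColimitCofanT F L K n)

variable [HasColimitsOfShape (Discrete ℤ) D] [HasExactColimitsOfShape (Discrete ℤ) D]

omit [HasColimitsOfShape (Discrete ℤ) D] [HasExactColimitsOfShape (Discrete ℤ) D] in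
lemma ιT_d_of_d_eq_zero (L : CochainComplex C₁ ℤ) (K : CochainComplex C₂ ℤ) (p p' q n n' : ℤ)
    (h : p + q = n) (hp : p + 1 = p') (hn : n + 1 = n') (hd : K.d q (q + 1) = 0) :
    ιT F L K p q n h ≫ (T F L K).d n n' =
      (F.map (L.d p p')).app (K.X q) ≫ ιT F L K p' q n' (by omega) := by
  subst hp hn
  rw [ιT_d, hd]
  simp

/-- a complex with zero differential whose terms `Y` are such that `F(-, Y)` preserves exact
sequences is K-flat. -/
theorem isKFlatR_of_d_eq_zero (N : CochainComplex C₂ ℤ) (hd : ∀ i j, N.d i j = 0)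
    (hN : ∀ (q : ℤ) (S : ShortComplex C₁), S.Exact → (S.map (F.flip.obj (N.X q))).Exact) :
    IsKFlatR F N := by
  intro L hL
  apply acyc_of_forall_exact_sc'
  intro n
  have hx : ∀ q : ℤ, ((L.sc' (n - q) (n + 1 - q) (n + 1 + 1 - q)).map
      (F.flip.obj (N.X q))).Exact := fun q =>
    hN q _ (exact_sc'_of_acyc' L hL _ _ _ (by omega) (by omega))
  exact cofan_exact (isColimitCofanZ F L N n) (isColimitCofanZ F L N (n + 1))
    (isColimitCofanZ F L N (n + 1 + 1))
    (fun q => (F.map (L.d (n - q) (n + 1 - q))).app (N.X q))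
    (fun q => (F.map (L.d (n + 1 - q) (n + 1 + 1 - q))).app (N.X q))
    (fun q => ((L.sc' (n - q) (n + 1 - q) (n + 1 + 1 - q)).map (F.flip.obj (N.X q))).zero)
    hx _ _
    (fun q => ιT_d_of_d_eq_zero F L N (n - q) (n + 1 - q) q n (n + 1) (by omega) (by omega) rfl
      (hd _ _))
    (fun q => ιT_d_of_d_eq_zero F L N (n + 1 - q) (n + 1 + 1 - q) q (n + 1) (n + 1 + 1)
      (by omega) (by omega) rfl (hd _ _)) _

end Groth.Agent.Lib.Helper1.KFlatA
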