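import Mathlib
import Groth.Agent.Lib.Helper1.KFlatZeroD

/-!
# Helper1 — KFlatSingle: the total complex `Tot F(L, K)` for `L` concentrated in degree `0`
-/

set_option autoImplicit false
open CategoryTheory CategoryTheory.Limits HomologicalComplex

namespace Groth.Agent.Lib.Helper1.KFlatA

open Groth.Agent.Lib.Helper16.BiCx
open Groth.Agent.Lib.Helper16.KF (Idx)

section

variable {C : Type*} [Category C] [HasZeroMorphisms C]

open Classical in
/-- in a coproduct all of whose summands but one vanish, the remaining inclusion is an iso. -/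
lemma isIso_inj_of_isZero {ι : Type*} {X : ι → C} {c : Cofan X} (hc : IsColimit c) (i₀ : ι)
    (h : ∀ i, i ≠ i₀ → IsZero (X i)) : IsIso (c.inj i₀) := by
  let r : c.pt ⟶ X i₀ := Cofan.IsColimit.desc hc
    (fun i => if hi : i = i₀ then eqToHom (by rw [hi]) else 0)
  have h1 : c.inj i₀ ≫ r = 𝟙 _ := by
    rw [Cofan.IsColimit.fac, dif_pos rfl]
    rfl
  refine ⟨r, h1, ?_⟩
  apply Cofan.IsColimit.hom_ext hc
  intro i
  by_cases hi : i = i₀
  · subst hi
    rw [reassoc_of% h1, Category.comp_id]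
  · exact (h i hi).eq_of_src _ _

end

variable {C₁ C₂ D : Type*} [Category C₁] [Category C₂] [Category D]
  [Abelian C₁] [Abelian C₂] [Abelian D]
  (F : C₁ ⥤ C₂ ⥤ D) [F.Additive] [∀ X, (F.obj X).Additive]
  [∀ (K₁ : CochainComplex C₁ ℤ) (K₂ : CochainComplex C₂ ℤ),
    HasMapBifunctor K₁ K₂ F (ComplexShape.up ℤ)]

lemma isIso_ιT_of_concentrated (L : CochainComplex C₁ ℤ) (hL : ∀ p, p ≠ 0 → IsZero (L.X p))
    (K : CochainComplex C₂ ℤ) (n : ℤ) : IsIso (ιT F L K 0 n n (zero_add n)) := by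
  let i₀ : Idx n := ⟨(0, n), zero_add n⟩
  refine isIso_inj_of_isZero (isColimitCofanT F L K n) i₀ (fun i hi => ?_)
  have : i.1.1 ≠ 0 := fun hk => hi (by
    have h2 : i.1.1 + i.1.2 = n := i.2
    ext
    · exact hk
    · change i.1.2 = n
      omega)
  exact (Functor.isZero_iff _).1 (F.map_isZero (hL _ this)) _

/-- if `L` is concentrated in degree `0` and `Tot F(L, K)` is acyclic, then `F(L⁰, K)` is
acyclic. -/
theorem exact_map_sc'_of_acyc_T (L : CochainComplex C₁ ℤ) (hL : ∀ p, p ≠ 0 → IsZero (L.X p))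
    (K : CochainComplex C₂ ℤ) (h : Acyc (T F L K)) (n : ℤ) :
    ((K.sc' n (n + 1) (n + 1 + 1)).map (F.obj (L.X 0))).Exact := by
  have hx := exact_sc'_of_acyc (T F L K) h n
  have h1 := isIso_ιT_of_concentrated F L hL K n
  have h2 := isIso_ιT_of_concentrated F L hL K (n + 1)
  have h3 := isIso_ιT_of_concentrated F L hL K (n + 1 + 1)
  have hd : L.d 0 (0 + 1) = 0 := (hL _ (by omega)).eq_of_tgt _ _
  refine (ShortComplex.exact_iff_of_iso (ShortComplex.isoMk
    (@asIso _ _ _ _ _ h1) (@asIso _ _ _ _ _ h2) (@asIso _ _ _ _ _ h3) ?_ ?_)).2 hx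
  · change ιT F L K 0 n n _ ≫ (T F L K).d n (n + 1) =
      (F.obj (L.X 0)).map (K.d n (n + 1)) ≫ ιT F L K 0 (n + 1) (n + 1) _
    rw [ιT_d, hd]
    simp
  · change ιT F L K 0 (n + 1) (n + 1) _ ≫ (T F L K).d (n + 1) (n + 1 + 1) =
      (F.obj (L.X 0)).map (K.d (n + 1) (n + 1 + 1)) ≫ ιT F L K 0 (n + 1 + 1) (n + 1 + 1) _
    rw [ιT_d, hd]
    simp

end Groth.Agent.Lib.Helper1.KFlatA
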