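import Mathlib
import Groth.Agent.Lib.Helper1.KFlatSingle
import Groth.Agent.Lib.Helper16.BiCx7

/-!
# Helper1 — BiCxSingle: `Tot F(M[0], K)` is the termwise complex `F(M, K^•)`, naturally in `M`
-/

set_option autoImplicit false
open CategoryTheory CategoryTheory.Limits HomologicalComplex CochainComplex

namespace Groth.Agent.Lib.Helper1.BiCxSingle

open Groth.Agent.Lib.Helper16.BiCx Groth.Agent.Lib.Helper1.KFlatA

variable {C₁ C₂ D : Type*} [Category C₁] [Category C₂] [Category D]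
  [Abelian C₁] [Abelian C₂] [Abelian D]
  (F : C₁ ⥤ C₂ ⥤ D) [F.Additive] [∀ X, (F.obj X).Additive]
  [∀ (K₁ : CochainComplex C₁ ℤ) (K₂ : CochainComplex C₂ ℤ),
    HasMapBifunctor K₁ K₂ F (ComplexShape.up ℤ)]

/-- the complex `M[0]` -/
noncomputable abbrev sg (M : C₁) : CochainComplex C₁ ℤ :=
  (HomologicalComplex.single C₁ (ComplexShape.up ℤ) 0).obj M

/-- the termwise complex `F(M, K^•)`, as a functor of `M` -/
noncomputable def tw (K : CochainComplex C₂ ℤ) : C₁ ⥤ CochainComplex D ℤ where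
  obj M := ((F.obj M).mapHomologicalComplex (ComplexShape.up ℤ)).obj K
  map g := (NatTrans.mapHomologicalComplex (F.map g) (ComplexShape.up ℤ)).app K
  map_id M := by
    ext n
    simp
  map_comp g h := by
    ext n
    simp

omit [∀ (K₁ : CochainComplex C₁ ℤ) (K₂ : CochainComplex C₂ ℤ),
    HasMapBifunctor K₁ K₂ F (ComplexShape.up ℤ)] in
instance additive_tw (K : CochainComplex C₂ ℤ) : (tw F K).Additive where
  map_add {M M' f g} := by
    refine HomologicalComplex.hom_ext _ _ (fun n => ?_)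
    change (F.map (f + g)).app (K.X n) = (F.map f).app (K.X n) + (F.map g).app (K.X n)
    rw [Functor.map_add]
    rfl

omit [∀ (K₁ : CochainComplex C₁ ℤ) (K₂ : CochainComplex C₂ ℤ),
    HasMapBifunctor K₁ K₂ F (ComplexShape.up ℤ)] in
@[simp]
lemma tw_obj_X (K : CochainComplex C₂ ℤ) (M : C₁) (n : ℤ) :
    ((tw F K).obj M).X n = (F.obj M).obj (K.X n) := rfl

omit [∀ (K₁ : CochainComplex C₁ ℤ) (K₂ : CochainComplex C₂ ℤ),
    HasMapBifunctor K₁ K₂ F (ComplexShape.up ℤ)] in
@[simp]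
lemma tw_obj_d (K : CochainComplex C₂ ℤ) (M : C₁) (i j : ℤ) :
    ((tw F K).obj M).d i j = (F.obj M).map (K.d i j) := rfl

omit [∀ (K₁ : CochainComplex C₁ ℤ) (K₂ : CochainComplex C₂ ℤ),
    HasMapBifunctor K₁ K₂ F (ComplexShape.up ℤ)] in
@[simp]
lemma tw_map_f (K : CochainComplex C₂ ℤ) {M M' : C₁} (g : M ⟶ M') (n : ℤ) :
    ((tw F K).map g).f n = (F.map g).app (K.X n) := rfl

lemma isZero_sg_X (M : C₁) (p : ℤ) (hp : p ≠ 0) : IsZero ((sg M).X p) :=
  HomologicalComplex.isZero_single_obj_X _ _ _ _ hp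

/-- the component of the comparison map -/
noncomputable def cmpF (K : CochainComplex C₂ ℤ) (M : C₁) (n : ℤ) :
    (F.obj M).obj (K.X n) ⟶ (T F (sg M) K).X n :=
  (F.map (HomologicalComplex.singleObjXSelf (ComplexShape.up ℤ) 0 M).inv).app (K.X n) ≫
    ιT F (sg M) K 0 n n (zero_add n)

instance (K : CochainComplex C₂ ℤ) (M : C₁) (n : ℤ) : IsIso (cmpF F K M n) := by
  haveI := isIso_ιT_of_concentrated F (sg M) (isZero_sg_X M) K n
  unfold cmpF
  infer_instance

lemma cmpF_d (K : CochainComplex C₂ ℤ) (M : C₁) (i : ℤ) :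
    cmpF F K M i ≫ (T F (sg M) K).d i (i + 1) =
      (F.obj M).map (K.d i (i + 1)) ≫ cmpF F K M (i + 1) := by
  have hd : (sg M).d 0 (0 + 1) = 0 := (isZero_sg_X M (0 + 1) (by omega)).eq_of_tgt _ _
  rw [cmpF, cmpF, Category.assoc, ιT_d, hd]
  simp only [Functor.map_zero, NatTrans.app_zero, zero_comp, zero_add, Int.negOnePow_zero,
    one_smul]
  rw [← Category.assoc, ← Category.assoc]
  congr 1
  exact ((F.map _).naturality _).symm

/-- the comparison map `F(M, K^•) ⟶ Tot F(M[0], K)` -/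
noncomputable def cmp (K : CochainComplex C₂ ℤ) (M : C₁) :
    (tw F K).obj M ⟶ T F (sg M) K where
  f n := cmpF F K M n
  comm' i j hij := by
    have hij' : i + 1 = j := hij
    subst hij'
    exact cmpF_d F K M i

instance (K : CochainComplex C₂ ℤ) (M : C₁) : IsIso (cmp F K M) := by
  haveI : ∀ n, IsIso ((cmp F K M).f n) := fun n => inferInstanceAs (IsIso (cmpF F K M n))
  exact HomologicalComplex.Hom.isIso_of_components _

lemma cmp_naturality (K : CochainComplex C₂ ℤ) {M M' : C₁} (g : M ⟶ M') :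
    (tw F K).map g ≫ cmp F K M' =
      cmp F K M ≫ mapL F ((HomologicalComplex.single C₁ (ComplexShape.up ℤ) 0).map g) K := by
  ext n
  change (F.map g).app (K.X n) ≫ cmpF F K M' n = cmpF F K M n ≫ (mapL F _ K).f n
  rw [cmpF, cmpF, Category.assoc, ι_mapL, ← Category.assoc, ← Category.assoc,
    ← NatTrans.comp_app, ← NatTrans.comp_app, ← F.map_comp, ← F.map_comp]
  congr 3
  rw [HomologicalComplex.single_map_f_self, Iso.inv_hom_id_assoc]

/-- the comparison isomorphism -/
noncomputable def cmpIso (K : CochainComplex C₂ ℤ) (M : C₁) : (tw F K).obj M ≅ T F (sg M) K :=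
  asIso (cmp F K M)

/-- **`Tot F(M[0], K)` is the termwise complex `F(M, K^•)`, naturally in `M`.** -/
noncomputable def twIso (K : CochainComplex C₂ ℤ) :
    tw F K ≅ HomologicalComplex.single C₁ (ComplexShape.up ℤ) 0 ⋙ funL F K :=
  NatIso.ofComponents (fun M => cmpIso F K M) (fun g => cmp_naturality F K g)

end Groth.Agent.Lib.Helper1.BiCxSingle
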