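import Groth.Agent.Lib.Helper8.PicCl
import Groth.Agent.Lib.Helper28.IdealDual
import Groth.Agent.Lib.Helper28.TensorPowGen

/-!
# Classes of ideal modules of effective Cartier divisors (helper1)

* restriction of a nonzerodivisor generator of an ideal sheaf on an affine open to smaller affine opens;
* products / powers of effective Cartier ideals are effective Cartier;
* `idealMod (I * J) ≅ idealMod I ⊗ idealMod J` for effective Cartier `I`, `J`;
* `idealMod I ≅ O_X` for `I` generated by a global section which is a nonzerodivisor on affine opens.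
-/

set_option autoImplicit false
universe u
open CategoryTheory CategoryTheory.Limits AlgebraicGeometry Opposite TopologicalSpace
noncomputable section

namespace Groth.Agent.Lib.Helper1.CartCl

open Groth.Agent.Lib.Helper28 Groth.Agent.Lib.Helper28.QCohLoc Groth.Agent.Lib.Helper28.GenLocus
  Groth.Agent.Lib.Helper28.IdealDual Groth.Agent.Lib.Helper28.TensorGen
  Groth.Agent.Lib.Helper28.InvTensor

variable {X : Scheme.{u}}

/-- the restriction of a nonzerodivisor on an affine open to a smaller open is a nonzerodivisor. -/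
theorem resO_mem_nonZeroDivisors {U : X.Opens} (hU : IsAffineOpen U) {f : Γ(X, U)}
    (hf : f ∈ nonZeroDivisors Γ(X, U)) {V : X.Opens} (hV : V ≤ U) :
    resO hV f ∈ nonZeroDivisors Γ(X, V) := by
  rw [mem_nonZeroDivisors_iff_right]
  intro s hs
  refine TopCat.Presheaf.section_ext X.sheaf V s 0 ?_
  intro x hx
  rw [map_zero]
  have hxU : x ∈ U := hV hx
  letI := X.presheaf.algebra_section_stalk (⟨x, hxU⟩ : U)
  haveI := hU.isLocalization_stalk ⟨x, hxU⟩
  have h1 : X.presheaf.germ U x hxU f ∈ nonZeroDivisors (X.presheaf.stalk x) :=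
    IsLocalization.map_nonZeroDivisors_le (hU.primeIdealOf ⟨x, hxU⟩).asIdeal.primeCompl
      (X.presheaf.stalk x) ⟨f, hf, rfl⟩
  have h2 : X.presheaf.germ V x hx (resO hV f) = X.presheaf.germ U x hxU f :=
    TopCat.Presheaf.germ_res_apply X.presheaf (homOfLE hV) x hx f
  have h3 : X.presheaf.germ V x hx s * X.presheaf.germ V x hx (resO hV f) = 0 := by
    rw [← map_mul, hs, map_zero]
  rw [h2] at h3
  exact (mem_nonZeroDivisors_iff_right.mp h1) _ h3

/-- the ideal of `I` on a smaller affine open is generated by the restriction of a generator. -/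
theorem ideal_eq_span_resO (I : X.IdealSheafData) {U V : X.affineOpens} (hVU : V.1 ≤ U.1)
    {f : Γ(X, U.1)} (hI : I.ideal U = Ideal.span {f}) :
    I.ideal V = Ideal.span {resO hVU f} := by
  rw [← I.map_ideal (U := V) (V := U) hVU, hI, Ideal.map_span, Set.image_singleton]
  rfl

theorem isEffCartierIdeal_top : BlowUp.IsEffCartierIdeal (⊤ : X.IdealSheafData) := by
  intro x
  obtain ⟨_, ⟨(V : X.Opens), hV, rfl⟩, hxV, -⟩ :=
    X.isBasis_affineOpens.exists_subset_of_mem_open (Set.mem_univ x) isOpen_univ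
  exact ⟨⟨V, hV⟩, hxV, 1, one_mem _, by simp [Ideal.span_singleton_one]⟩

theorem isEffCartierIdeal_mul {I J : X.IdealSheafData} (hI : BlowUp.IsEffCartierIdeal I)
    (hJ : BlowUp.IsEffCartierIdeal J) : BlowUp.IsEffCartierIdeal (I * J) := by
  intro x
  obtain ⟨U₁, hx₁, f, hf, hIf⟩ := hI x
  obtain ⟨U₂, hx₂, g, hg, hJg⟩ := hJ x
  obtain ⟨_, ⟨(V : X.Opens), hV, rfl⟩, hxV, hVle⟩ :=
    X.isBasis_affineOpens.exists_subset_of_mem_open
      (show x ∈ ((U₁.1 ⊓ U₂.1 : X.Opens) : Set X) from ⟨hx₁, hx₂⟩) (U₁.1 ⊓ U₂.1).isOpen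
  have h1 : V ≤ U₁.1 := fun y hy => (hVle hy).1
  have h2 : V ≤ U₂.1 := fun y hy => (hVle hy).2
  refine ⟨⟨V, hV⟩, hxV, resO h1 f * resO h2 g,
    mul_mem (resO_mem_nonZeroDivisors U₁.2 hf h1) (resO_mem_nonZeroDivisors U₂.2 hg h2), ?_⟩
  have e1 := ideal_eq_span_resO I (U := U₁) (V := ⟨V, hV⟩) h1 hIf
  have e2 := ideal_eq_span_resO J (U := U₂) (V := ⟨V, hV⟩) h2 hJg
  change I.ideal ⟨V, hV⟩ * J.ideal ⟨V, hV⟩ = _
  rw [e1, e2, Ideal.span_singleton_mul_span_singleton]

theorem isEffCartierIdeal_pow {I : X.IdealSheafData} (hI : BlowUp.IsEffCartierIdeal I) (n : ℕ) :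
    BlowUp.IsEffCartierIdeal (I ^ n) := by
  induction n with
  | zero => rw [pow_zero]; exact isEffCartierIdeal_top
  | succ n ih => rw [pow_succ]; exact isEffCartierIdeal_mul ih hI

theorem isEffCartierIdeal_prod {ι : Type*} (s : Finset ι) (I : ι → X.IdealSheafData)
    (hI : ∀ i ∈ s, BlowUp.IsEffCartierIdeal (I i)) : BlowUp.IsEffCartierIdeal (∏ i ∈ s, I i) := by
  classical
  induction s using Finset.induction_on with
  | empty => rw [Finset.prod_empty]; exact isEffCartierIdeal_top
  | insert j T hjT ih =>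
    rw [Finset.prod_insert hjT]
    exact isEffCartierIdeal_mul (hI j (Finset.mem_insert_self j T))
      (ih fun i hi => hI i (Finset.mem_insert_of_mem hi))

end Groth.Agent.Lib.Helper1.CartCl
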