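import Groth.Agent.Lib.Helper1.CartCl1

/-!
# `idealMod (I * J) ≅ idealMod I ⊗ idealMod J` for effective Cartier ideals; principal ideals (helper1)
-/

set_option autoImplicit false
universe u
open CategoryTheory CategoryTheory.Limits AlgebraicGeometry Opposite TopologicalSpace
noncomputable section

namespace Groth.Agent.Lib.Helper1.CartCl

open Groth.Agent.Lib.Helper28 Groth.Agent.Lib.Helper28.QCohLoc Groth.Agent.Lib.Helper28.GenLocus
  Groth.Agent.Lib.Helper28.IdealDual Groth.Agent.Lib.Helper28.TensorGen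
  Groth.Agent.Lib.Helper28.InvTensor

variable {X : Scheme.{u}}

/-- a chart for a pair of effective Cartier ideals. -/
structure Chart₂ (I J : X.IdealSheafData) where
  U : X.affineOpens
  f : Γ(X, U.1)
  g : Γ(X, U.1)
  hf : f ∈ nonZeroDivisors Γ(X, U.1)
  hg : g ∈ nonZeroDivisors Γ(X, U.1)
  hI : I.ideal U = Ideal.span {f}
  hJ : J.ideal U = Ideal.span {g}

theorem exists_chart₂ {I J : X.IdealSheafData} (hI : BlowUp.IsEffCartierIdeal I)
    (hJ : BlowUp.IsEffCartierIdeal J) (x : X) : ∃ c : Chart₂ I J, x ∈ c.U.1 := by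
  obtain ⟨U₁, hx₁, f, hf, hIf⟩ := hI x
  obtain ⟨U₂, hx₂, g, hg, hJg⟩ := hJ x
  obtain ⟨_, ⟨(V : X.Opens), hV, rfl⟩, hxV, hVle⟩ :=
    X.isBasis_affineOpens.exists_subset_of_mem_open
      (show x ∈ ((U₁.1 ⊓ U₂.1 : X.Opens) : Set X) from ⟨hx₁, hx₂⟩) (U₁.1 ⊓ U₂.1).isOpen
  have h1 : V ≤ U₁.1 := fun y hy => (hVle hy).1
  have h2 : V ≤ U₂.1 := fun y hy => (hVle hy).2
  exact ⟨⟨⟨V, hV⟩, resO h1 f, resO h2 g, resO_mem_nonZeroDivisors U₁.2 hf h1,
    resO_mem_nonZeroDivisors U₂.2 hg h2,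
    ideal_eq_span_resO I (U := U₁) (V := ⟨V, hV⟩) h1 hIf,
    ideal_eq_span_resO J (U := U₂) (V := ⟨V, hV⟩) h2 hJg⟩, hxV⟩

theorem Chart₂.hIJ {I J : X.IdealSheafData} (c : Chart₂ I J) :
    (I * J).ideal c.U = Ideal.span {c.f * c.g} := by
  change I.ideal c.U * J.ideal c.U = _
  rw [c.hI, c.hJ, Ideal.span_singleton_mul_span_singleton]

/-- **`idealMod (I * J) ≅ idealMod I ⊗ idealMod J`** for effective Cartier ideals. -/
theorem nonempty_idealMod_mul_iso {I J : X.IdealSheafData} (hI : BlowUp.IsEffCartierIdeal I)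
    (hJ : BlowUp.IsEffCartierIdeal J) :
    Nonempty (ClSub.idealMod (I * J) ≅
      CohB1.tensorMod (ClSub.idealMod I) (ClSub.idealMod J)) := by
  have hφ : ∀ c : Chart₂ I J, ∃ φ : Γ(ClSub.idealMod I, c.U.1),
      IsGen (ClSub.idealMod I) c.U.1 φ ∧ iota I φ = c.f :=
    fun c => exists_isGen_idealMod I c.U.2 c.f c.hf c.hI
  have hχ : ∀ c : Chart₂ I J, ∃ χ : Γ(ClSub.idealMod J, c.U.1),
      IsGen (ClSub.idealMod J) c.U.1 χ ∧ iota J χ = c.g :=
    fun c => exists_isGen_idealMod J c.U.2 c.g c.hg c.hJ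
  have hψ : ∀ c : Chart₂ I J, ∃ ψ : Γ(ClSub.idealMod (I * J), c.U.1),
      IsGen (ClSub.idealMod (I * J)) c.U.1 ψ ∧ iota (I * J) ψ = c.f * c.g :=
    fun c => exists_isGen_idealMod (I * J) c.U.2 (c.f * c.g) (mul_mem c.hf c.hg) c.hIJ
  choose φ hφg hφe using hφ
  choose χ hχg hχe using hχ
  choose ψ hψg hψe using hψ
  obtain ⟨e, -⟩ := exists_iso_of_cocycle_gen (M := ClSub.idealMod (I * J))
    (N := CohB1.tensorMod (ClSub.idealMod I) (ClSub.idealMod J)) (ι := Chart₂ I J)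
    (fun c => c.U.1) ψ (fun c => tmulSec _ _ (φ c) (χ c)) hψg
    (fun c => isGen_tmulSec _ _ (hφg c) (hχg c))
    (fun x => exists_chart₂ hI hJ x)
    (fun c d => by
      set a := (hφg d).coef inf_le_right (res (ClSub.idealMod I) inf_le_left (φ c)) with ha
      set b := (hχg d).coef inf_le_right (res (ClSub.idealMod J) inf_le_left (χ c)) with hb
      have h1 : res (ClSub.idealMod I) inf_le_left (φ c) =
          (a • res (ClSub.idealMod I) inf_le_right (φ d) : Γ(ClSub.idealMod I, c.U.1 ⊓ d.U.1)) :=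
        ((hφg d).coef_smul inf_le_right _).symm
      have h2 : res (ClSub.idealMod J) inf_le_left (χ c) =
          (b • res (ClSub.idealMod J) inf_le_right (χ d) : Γ(ClSub.idealMod J, c.U.1 ⊓ d.U.1)) :=
        ((hχg d).coef_smul inf_le_right _).symm
      have h1' : resO (inf_le_left : c.U.1 ⊓ d.U.1 ≤ c.U.1) c.f =
          a * resO (inf_le_right : c.U.1 ⊓ d.U.1 ≤ d.U.1) d.f := by
        have := congrArg (iota I) h1
        rwa [iota_res, iota_smul, iota_res, hφe, hφe] at this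
      have h2' : resO (inf_le_left : c.U.1 ⊓ d.U.1 ≤ c.U.1) c.g =
          b * resO (inf_le_right : c.U.1 ⊓ d.U.1 ≤ d.U.1) d.g := by
        have := congrArg (iota J) h2
        rwa [iota_res, iota_smul, iota_res, hχe, hχe] at this
      refine ⟨a * b, ?_, ?_⟩
      · apply iota_injective (I * J)
        rw [iota_res, iota_smul, iota_res, hψe, hψe, resO_mul, resO_mul, h1', h2']
        ring
      · rw [tmulSec_res, tmulSec_res, h1, h2, tmulSec_smul_left, tmulSec_smul_right, ← mul_smul])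
  exact ⟨e⟩

end Groth.Agent.Lib.Helper1.CartCl
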