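import Groth.Agent.Lib.Helper1.CartCl2
import Groth.Prelude.Def_FGA

/-!
# The class of the ideal module of an effective Cartier divisor in the monoid of classes of modules (helper1)
-/

set_option autoImplicit false
universe u
open CategoryTheory CategoryTheory.Limits AlgebraicGeometry Opposite TopologicalSpace
noncomputable section

namespace Groth.Agent.Lib.Helper1.CartCl

open Groth.Agent.Lib.Helper28 Groth.Agent.Lib.Helper28.QCohLoc Groth.Agent.Lib.Helper28.GenLocus
  Groth.Agent.Lib.Helper28.IdealDual Groth.Agent.Lib.Helper28.TensorGen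
  Groth.Agent.Lib.Helper28.InvTensor Groth.Agent.Lib.Helper8.PicCl

attribute [local instance] Groth.Agent.Lib.Helper8.PicCl.commMonoid

variable {X : Scheme.{u}}

/-- the ideal module of an ideal sheaf generated by a global section which is a nonzerodivisor on affine opens is
trivial. -/
theorem nonempty_idealMod_iso_of_principal (I : X.IdealSheafData) (π : Γ(X, ⊤))
    (hπ : ∀ U : X.affineOpens, resO (le_top : U.1 ≤ ⊤) π ∈ nonZeroDivisors Γ(X, U.1) ∧
      I.ideal U = Ideal.span {resO (le_top : U.1 ≤ ⊤) π}) :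
    Nonempty (ClSub.idealMod I ≅ Coh.structureModule X) := by
  have hψ : ∀ U : X.affineOpens, ∃ ψ : Γ(ClSub.idealMod I, U.1),
      IsGen (ClSub.idealMod I) U.1 ψ ∧ iota I ψ = resO (le_top : U.1 ≤ ⊤) π :=
    fun U => exists_isGen_idealMod I U.2 _ (hπ U).1 (hπ U).2
  choose ψ hψg hψe using hψ
  obtain ⟨e, -⟩ := exists_iso_of_cocycle_gen (M := ClSub.idealMod I)
    (N := Coh.structureModule X) (ι := X.affineOpens)
    (fun U => U.1) ψ (fun U => oneSec X U.1) hψg (fun U => isGen_oneSec U.1)
    (fun x => by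
      obtain ⟨_, ⟨(V : X.Opens), hV, rfl⟩, hxV, -⟩ :=
        X.isBasis_affineOpens.exists_subset_of_mem_open (Set.mem_univ x) isOpen_univ
      exact ⟨⟨V, hV⟩, hxV⟩)
    (fun U V => by
      refine ⟨1, ?_, ?_⟩
      · apply iota_injective I
        rw [one_smul, iota_res, iota_res, hψe, hψe, resO_resO, resO_resO]
      · rw [one_smul, res_oneSec, res_oneSec])
  exact ⟨e⟩

theorem cl_idealMod_mul {I J : X.IdealSheafData} (hI : BlowUp.IsEffCartierIdeal I)
    (hJ : BlowUp.IsEffCartierIdeal J) :
    PicF.cl (ClSub.idealMod (I * J)) = PicF.cl (ClSub.idealMod I) * PicF.cl (ClSub.idealMod J) := by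
  rw [cl_mul_cl, cl_eq_iff]
  exact nonempty_idealMod_mul_iso hI hJ

theorem cl_idealMod_top : PicF.cl (ClSub.idealMod (⊤ : X.IdealSheafData)) = 1 := by
  rw [one_def, cl_eq_iff]
  refine nonempty_idealMod_iso_of_principal ⊤ 1 fun U => ⟨?_, ?_⟩
  · have : resO (le_top : U.1 ≤ ⊤) (1 : Γ(X, ⊤)) = 1 := map_one _
    rw [this]; exact one_mem _
  · have : resO (le_top : U.1 ≤ ⊤) (1 : Γ(X, ⊤)) = 1 := map_one _
    rw [this, Ideal.span_singleton_one]
    rfl

theorem cl_idealMod_pow {I : X.IdealSheafData} (hI : BlowUp.IsEffCartierIdeal I) (n : ℕ) :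
    PicF.cl (ClSub.idealMod (I ^ n)) = PicF.cl (ClSub.idealMod I) ^ n := by
  induction n with
  | zero => rw [pow_zero, pow_zero]; exact cl_idealMod_top
  | succ n ih => rw [pow_succ, pow_succ, cl_idealMod_mul (isEffCartierIdeal_pow hI n) hI, ih]

theorem cl_idealMod_prod {ι : Type*} (s : Finset ι) (I : ι → X.IdealSheafData)
    (hI : ∀ i ∈ s, BlowUp.IsEffCartierIdeal (I i)) :
    PicF.cl (ClSub.idealMod (∏ i ∈ s, I i)) = ∏ i ∈ s, PicF.cl (ClSub.idealMod (I i)) := by
  classical
  induction s using Finset.induction_on with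
  | empty => rw [Finset.prod_empty, Finset.prod_empty]; exact cl_idealMod_top
  | insert j T hjT ih =>
    rw [Finset.prod_insert hjT, Finset.prod_insert hjT,
      cl_idealMod_mul (hI j (Finset.mem_insert_self j T))
        (isEffCartierIdeal_prod T I fun i hi => hI i (Finset.mem_insert_of_mem hi)),
      ih fun i hi => hI i (Finset.mem_insert_of_mem hi)]

theorem cl_tensorPow (L : X.Modules) (n : ℕ) :
    PicF.cl (CohB1.tensorPow L n) = PicF.cl L ^ n := by
  induction n with
  | zero => rw [pow_zero]; rfl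
  | succ n ih =>
    rw [pow_succ, ← ih]
    rfl

theorem cl_tensorList (l : List X.Modules) :
    PicF.cl (FGA.tensorList l) = (l.map PicF.cl).prod := by
  induction l with
  | nil => rfl
  | cons M l ih =>
    rw [List.map_cons, List.prod_cons, ← ih]
    rfl

theorem cl_multiTwist {n : ℕ} (L : Fin n → X.Modules) (a : Fin n → ℕ) :
    PicF.cl (FGA.multiTwist L a) = ∏ i, PicF.cl (L i) ^ a i := by
  unfold FGA.multiTwist
  rw [cl_tensorList, List.map_map, Fin.prod_univ_def]
  congr 1
  apply List.map_congr_left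
  intro i _
  exact cl_tensorPow (L i) (a i)

end Groth.Agent.Lib.Helper1.CartCl
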