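import Mathlib
import Groth.Agent.Lib.Helper16.BiCx1
import Groth.Agent.Lib.Helper8.HColim2

set_option autoImplicit false
open CategoryTheory CategoryTheory.Limits HomologicalComplex CochainComplex HomComplex ZeroObject

namespace Groth.Agent.Lib.Helper1.CellRes

open Groth.Agent.Lib.Helper16.BiCx

/-- a choice of covers of the objects of an abelian category -/
structure Cov (A : Type*) [Category A] [Abelian A] where
  obj : A → A
  π : ∀ X, obj X ⟶ X
  epi : ∀ X, Epi (π X)

variable {A : Type*} [Category A] [Abelian A]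

section Step

variable (cv : Cov A) {P G : CochainComplex A ℤ} (q : P ⟶ G)

/-- the complex of cells: zero differential, covers of the cycles of the cone. -/
noncomputable def cellN : CochainComplex A ℤ where
  X p := cv.obj ((mappingCone q).cycles (p - 1))
  d _ _ := 0
  shape _ _ _ := rfl
  d_comp_d' _ _ _ _ _ := zero_comp

lemma cellN_d (i j : ℤ) : (cellN cv q).d i j = 0 := rfl

/-- the cover of the cycles. -/
noncomputable def cellπ (p : ℤ) : (cellN cv q).X p ⟶ (mappingCone q).cycles (p - 1) := cv.π _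

instance (p : ℤ) : Epi (cellπ cv q p) := cv.epi _

/-- the cover of the cycles, as a map to the cone. -/
noncomputable def cellc (p : ℤ) : (cellN cv q).X p ⟶ (mappingCone q).X (p - 1) :=
  cellπ cv q p ≫ (mappingCone q).iCycles (p - 1)

@[reassoc (attr := simp)]
lemma cellc_d (p j : ℤ) : cellc cv q p ≫ (mappingCone q).d (p - 1) j = 0 := by
  simp [cellc]

/-- the attaching map. -/
noncomputable def cellφ : cellN cv q ⟶ P where
  f p := cellc cv q p ≫ (mappingCone.fst q).1.v (p - 1) p (by omega)
  comm' i j hij := by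
    have hij' : i + 1 = j := hij
    subst hij'
    rw [cellN_d, zero_comp, Category.assoc, ← neg_eq_zero, ← Preadditive.comp_neg,
      ← mappingCone.d_fst_v q (i - 1) i (i + 1) (by omega) rfl, cellc_d_assoc, zero_comp]

/-- the null-homotopy of the attaching map composed with `q`. -/
noncomputable def cellα : Cochain (cellN cv q) G (-1) :=
  Cochain.mk (fun p p' hpp' => -(cellc cv q p ≫ (mappingCone.snd q).v (p - 1) p' (by omega)))

lemma cellα_eq : δ (-1) 0 (cellα cv q) = Cochain.ofHom (cellφ cv q ≫ q) := by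
  ext p
  rw [δ_v (-1) 0 (neg_add_cancel 1) _ p p (add_zero p) (p - 1) (p + 1) (by omega) (by omega)]
  simp only [cellN_d, zero_comp, smul_zero, add_zero, Cochain.ofHom_v, HomologicalComplex.comp_f]
  simp only [cellα, Cochain.mk_v, cellφ, Preadditive.neg_comp, Category.assoc]
  have := mappingCone.d_snd_v q (p - 1) p (by omega)
  have h2 := cellc_d_assoc cv q p p ((mappingCone.snd q).v p p (add_zero p))
  rw [this, Preadditive.comp_add, zero_comp] at h2
  rw [neg_eq_iff_add_eq_zero, add_comm]
  exact h2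

/-- the new complex -/
noncomputable abbrev stepP : CochainComplex A ℤ := mappingCone (cellφ cv q)

/-- the new map to `G` -/
noncomputable def stepq : stepP cv q ⟶ G :=
  mappingCone.desc (cellφ cv q) (cellα cv q) q (cellα_eq cv q)

/-- the inclusion of the old complex -/
noncomputable abbrev stepι : P ⟶ stepP cv q := mappingCone.inr (cellφ cv q)

@[reassoc (attr := simp)]
lemma stepι_q : stepι cv q ≫ stepq cv q = q := mappingCone.inr_desc _ _ _ _

/-- the induced map on cones -/
noncomputable def stepCone : mappingCone q ⟶ mappingCone (stepq cv q) :=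
  mappingCone.map q (stepq cv q) (stepι cv q) (𝟙 G) (by simp)

lemma stepCone_f (m m' : ℤ) (h : m + 1 = m') :
    (stepCone cv q).f m = (mappingCone.fst q).1.v m m' h ≫ (stepι cv q).f m' ≫
        (mappingCone.inl (stepq cv q)).v m' m (by omega) +
      (mappingCone.snd q).v m m (add_zero m) ≫ (mappingCone.inr (stepq cv q)).f m := by
  rw [stepCone, mappingCone.map, mappingCone.desc_f _ _ _ _ m m' h]
  simp

@[reassoc (attr := simp)]
lemma inl_stepq (p p' : ℤ) (h : p + (-1) = p') :
    (mappingCone.inl (cellφ cv q)).v p p' h ≫ (stepq cv q).f p' = (cellα cv q).v p p' h :=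
  mappingCone.inl_v_desc_f _ _ _ _ _ _ _

/-- the null-homotopy of the cycles -/
noncomputable def stepH (p : ℤ) : (cellN cv q).X p ⟶ (mappingCone (stepq cv q)).X (p - 1 - 1) :=
  (mappingCone.inl (cellφ cv q)).v p (p - 1) (by omega) ≫
    (mappingCone.inl (stepq cv q)).v (p - 1) (p - 1 - 1) (by omega)

lemma stepH_d (p : ℤ) :
    stepH cv q p ≫ (mappingCone (stepq cv q)).d (p - 1 - 1) (p - 1) =
      -(cellc cv q p ≫ (stepCone cv q).f (p - 1)) := by
  rw [stepH, Category.assoc, mappingCone.inl_v_d _ (p - 1) (p - 1 - 1) p (by omega) (by omega),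
    Preadditive.comp_sub, inl_stepq_assoc,
    mappingCone.inl_v_d_assoc _ p (p - 1) (p + 1) (by omega) (by omega), cellN_d, zero_comp,
    sub_zero, stepCone_f cv q (p - 1) p (by omega), Preadditive.comp_add]
  simp only [cellα, Cochain.mk_v, cellφ, Preadditive.neg_comp, Category.assoc]
  abel

/-- the map on cones induces zero on homology. -/
lemma homologyMap_stepCone (m : ℤ) : homologyMap (stepCone cv q) m = 0 := by
  obtain ⟨p, rfl⟩ : ∃ p, m = p - 1 := ⟨m + 1, by omega⟩
  have h : cellπ cv q p ≫ cyclesMap (stepCone cv q) (p - 1) =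
      -(stepH cv q p ≫ (mappingCone (stepq cv q)).toCycles (p - 1 - 1) (p - 1)) := by
    rw [← cancel_mono ((mappingCone (stepq cv q)).iCycles (p - 1)), Category.assoc, cyclesMap_i,
      Preadditive.neg_comp, Category.assoc, toCycles_i, stepH_d, neg_neg, cellc, Category.assoc]
  rw [← cancel_epi ((mappingCone q).homologyπ (p - 1)),
    ← cancel_epi (cellπ cv q p), comp_zero, comp_zero,
    homologyπ_naturality, reassoc_of% h, Preadditive.neg_comp, Category.assoc,
    toCycles_comp_homologyπ, comp_zero, neg_zero]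

end Step

section ConeColim

variable {D : ℕ ⥤ CochainComplex A ℤ} (c : Cocone D)
  {G : CochainComplex A ℤ} (g : c.pt ⟶ G)

lemma map_congr {K₁ L₁ K₂ L₂ : CochainComplex A ℤ} (φ₁ : K₁ ⟶ L₁) (φ₂ : K₂ ⟶ L₂)
    {a a' : K₁ ⟶ K₂} {b b' : L₁ ⟶ L₂} (ha : a = a') (hb : b = b') (comm : φ₁ ≫ b = a ≫ φ₂) :
    mappingCone.map φ₁ φ₂ a b comm = mappingCone.map φ₁ φ₂ a' b' (by rw [← ha, ← hb, comm]) := by
  subst ha hb
  rfl

@[reassoc]
lemma inl_map_f {K₁ L₁ K₂ L₂ : CochainComplex A ℤ} (φ₁ : K₁ ⟶ L₁) (φ₂ : K₂ ⟶ L₂)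
    (a : K₁ ⟶ K₂) (b : L₁ ⟶ L₂) (comm : φ₁ ≫ b = a ≫ φ₂) (i j : ℤ) (h : i + (-1) = j) :
    (mappingCone.inl φ₁).v i j h ≫ (mappingCone.map φ₁ φ₂ a b comm).f j =
      a.f i ≫ (mappingCone.inl φ₂).v i j h := by
  simp [mappingCone.map]

@[reassoc]
lemma inr_map_f {K₁ L₁ K₂ L₂ : CochainComplex A ℤ} (φ₁ : K₁ ⟶ L₁) (φ₂ : K₂ ⟶ L₂)
    (a : K₁ ⟶ K₂) (b : L₁ ⟶ L₂) (comm : φ₁ ≫ b = a ≫ φ₂) (j : ℤ) :
    (mappingCone.inr φ₁).f j ≫ (mappingCone.map φ₁ φ₂ a b comm).f j =
      b.f j ≫ (mappingCone.inr φ₂).f j := by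
  simp [mappingCone.map]

/-- the maps to `G` -/
abbrev legq (n : ℕ) : D.obj n ⟶ G := c.ι.app n ≫ g

@[reassoc]
lemma map_legq {n n' : ℕ} (f : n ⟶ n') : D.map f ≫ legq c g n' = legq c g n := by
  rw [legq, legq, ← Category.assoc, c.w]

lemma legq_comm {n n' : ℕ} (f : n ⟶ n') : legq c g n ≫ 𝟙 G = D.map f ≫ legq c g n' := by
  rw [Category.comp_id, map_legq]

lemma legq_comm' (n : ℕ) : legq c g n ≫ 𝟙 G = c.ι.app n ≫ g := Category.comp_id _

/-- the functor of cones -/
noncomputable def coneF : ℕ ⥤ CochainComplex A ℤ where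
  obj n := mappingCone (legq c g n)
  map {n n'} f := mappingCone.map (legq c g n) (legq c g n') (D.map f) (𝟙 G) (legq_comm c g f)
  map_id n := by
    rw [map_congr _ _ (D.map_id n) rfl, mappingCone.map_id]
  map_comp {n n' n''} f f' := by
    rw [← mappingCone.map_comp]
    exact map_congr _ _ (D.map_comp f f') (Category.comp_id _).symm _

/-- the cocone of cones -/
noncomputable def coneCocone : Cocone (coneF c g) where
  pt := mappingCone g
  ι :=
    { app := fun n => mappingCone.map (legq c g n) g (c.ι.app n) (𝟙 G) (legq_comm' c g n)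
      naturality := fun n n' f => by
        change mappingCone.map _ _ _ _ (legq_comm c g f) ≫
          mappingCone.map _ _ _ _ (legq_comm' c g n') = _ ≫ 𝟙 _
        rw [Category.comp_id, ← mappingCone.map_comp]
        exact map_congr _ _ (c.w f) (Category.comp_id _) _ }

variable [HasColimitsOfShape ℕ A]

variable {c} in
/-- the colimit property of `c` in degree `m`. -/
noncomputable def hcEval (hc : IsColimit c) (m : ℤ) :
    IsColimit ((HomologicalComplex.eval A (ComplexShape.up ℤ) m).mapCocone c) :=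
  isColimitOfPreserves _ hc

/-- the legs of a cocone, with a convenient type -/
abbrev sleg {m : ℤ} (s : Cocone (coneF c g ⋙ HomologicalComplex.eval A (ComplexShape.up ℤ) m))
    (n : ℕ) : (mappingCone (legq c g n)).X m ⟶ s.pt := s.ι.app n

omit [HasColimitsOfShape ℕ A] in
lemma sleg_w {m : ℤ} (s : Cocone (coneF c g ⋙ HomologicalComplex.eval A (ComplexShape.up ℤ) m))
    {n n' : ℕ} (f : n ⟶ n') :
    (mappingCone.map (legq c g n) (legq c g n') (D.map f) (𝟙 G) (legq_comm c g f)).f m ≫
      sleg c g s n' = sleg c g s n := s.w f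

/-- auxiliary cocone for the description of maps out of the cone of the colimit -/
noncomputable def auxCocone (m : ℤ)
    (s : Cocone (coneF c g ⋙ HomologicalComplex.eval A (ComplexShape.up ℤ) m)) :
    Cocone (D ⋙ HomologicalComplex.eval A (ComplexShape.up ℤ) (m + 1)) where
  pt := s.pt
  ι :=
    { app := fun n => (mappingCone.inl (legq c g n)).v (m + 1) m (by omega) ≫ sleg c g s n
      naturality := fun n n' f => by
        change (D.map f).f (m + 1) ≫ (mappingCone.inl (legq c g n')).v (m + 1) m _ ≫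
          sleg c g s n' = ((mappingCone.inl (legq c g n)).v (m + 1) m _ ≫ sleg c g s n) ≫ 𝟙 _
        rw [Category.comp_id, ← sleg_w c g s f, inl_map_f_assoc] }

variable {c} in
/-- the component on `c.pt` of the descent map -/
noncomputable def descP (hc : IsColimit c) (m : ℤ)
    (s : Cocone (coneF c g ⋙ HomologicalComplex.eval A (ComplexShape.up ℤ) m)) :
    c.pt.X (m + 1) ⟶ s.pt :=
  (hcEval hc (m + 1)).desc (auxCocone c g m s)

variable {c} in
@[reassoc]
lemma ι_descP (hc : IsColimit c) (m : ℤ)
    (s : Cocone (coneF c g ⋙ HomologicalComplex.eval A (ComplexShape.up ℤ) m)) (n : ℕ) :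
    (c.ι.app n).f (m + 1) ≫ descP g hc m s =
      (mappingCone.inl (legq c g n)).v (m + 1) m (by omega) ≫ sleg c g s n :=
  (hcEval hc (m + 1)).fac (auxCocone c g m s) n

variable {c} in
lemma descP_ext (hc : IsColimit c) (m : ℤ) {Y : A} {a b : c.pt.X (m + 1) ⟶ Y}
    (h : ∀ n, (c.ι.app n).f (m + 1) ≫ a = (c.ι.app n).f (m + 1) ≫ b) : a = b :=
  (hcEval hc (m + 1)).hom_ext h

variable {c} in
/-- the cone of a colimit is the colimit of the cones. -/
noncomputable def isColimitConeCocone (hc : IsColimit c) : IsColimit (coneCocone c g) :=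
  HomologicalComplex.isColimitOfEval _ _ (fun m =>
    { desc := fun s =>
        (mappingCone.fst g).1.v m (m + 1) rfl ≫ descP g hc m s +
          (mappingCone.snd g).v m m (add_zero m) ≫ (mappingCone.inr (legq c g 0)).f m ≫
            sleg c g s 0
      fac := fun s n => by
        change (mappingCone.map (legq c g n) g (c.ι.app n) (𝟙 G) (legq_comm' c g n)).f m ≫ _ =
          sleg c g s n
        rw [mappingCone.ext_from_iff _ (m + 1) m rfl]
        constructor
        · rw [inl_map_f_assoc, Preadditive.comp_add, Preadditive.comp_add]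
          simp only [mappingCone.inl_v_fst_v_assoc, mappingCone.inl_v_snd_v_assoc, zero_comp,
            comp_zero, add_zero]
          rw [ι_descP]
        · rw [inr_map_f_assoc, Preadditive.comp_add, Preadditive.comp_add]
          simp only [mappingCone.inr_f_fst_v_assoc, mappingCone.inr_f_snd_v_assoc, zero_comp,
            comp_zero, zero_add, HomologicalComplex.id_f, Category.id_comp]
          rw [← sleg_w c g s (homOfLE (Nat.zero_le n)), inr_map_f_assoc]
          simp
      uniq := fun s φ hφ => by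
        have hφ' : ∀ n, (mappingCone.map (legq c g n) g (c.ι.app n) (𝟙 G) (legq_comm' c g n)).f m ≫
          φ = sleg c g s n := hφ
        refine (mappingCone.ext_from_iff g (m + 1) m rfl (A := s.pt) φ _).2 ⟨?_, ?_⟩
        · rw [Preadditive.comp_add]
          simp only [mappingCone.inl_v_fst_v_assoc, mappingCone.inl_v_snd_v_assoc, zero_comp,
            add_zero]
          apply descP_ext hc m
          intro n
          rw [ι_descP, ← hφ' n, inl_map_f_assoc]
        · rw [Preadditive.comp_add]
          simp only [mappingCone.inr_f_fst_v_assoc, mappingCone.inr_f_snd_v_assoc, zero_comp,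
            zero_add]
          rw [← hφ' 0, inr_map_f_assoc]
          simp })

end ConeColim

section AcycColim

variable [HasColimitsOfShape ℕ A] [HasExactColimitsOfShape ℕ A]

/-- a sequential colimit of complexes whose transition maps induce zero in homology is acyclic -/
lemma acyc_of_isColimit_of_homologyMap_eq_zero {F : ℕ ⥤ CochainComplex A ℤ} {c : Cocone F}
    (hc : IsColimit c)
    (h : ∀ (n : ℕ) (m : ℤ), homologyMap (F.map (homOfLE (n.le_add_right 1))) m = 0) :
    Acyc c.pt := by
  intro m
  let H := HomologicalComplex.homologyFunctor A (ComplexShape.up ℤ) m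
  have hc' : IsColimit (H.mapCocone c) := isColimitOfPreserves H hc
  rw [IsZero.iff_id_eq_zero]
  apply hc'.hom_ext
  intro n
  change homologyMap (c.ι.app n) m ≫ 𝟙 _ = homologyMap (c.ι.app n) m ≫ 0
  rw [Category.comp_id, comp_zero, ← c.w (homOfLE (n.le_add_right 1)), homologyMap_comp, h,
    zero_comp]

end AcycColim

section Disk

variable (cv : Cov A) (G : CochainComplex A ℤ)

/-- zero differential complex of covers of the terms of `G` (shifted). -/
noncomputable def diskN : CochainComplex A ℤ where
  X p := cv.obj (G.X (p - 1))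
  d _ _ := 0
  shape _ _ _ := rfl
  d_comp_d' _ _ _ _ _ := zero_comp

lemma diskN_d (i j : ℤ) : (diskN cv G).d i j = 0 := rfl

/-- the covering maps -/
noncomputable def diskπ (p : ℤ) : (diskN cv G).X p ⟶ G.X (p - 1) := cv.π _

instance (p : ℤ) : Epi (diskπ cv G p) := cv.epi _

noncomputable def diskα : Cochain (diskN cv G) G (-1) :=
  Cochain.mk (fun p p' h => diskπ cv G p ≫ (G.XIsoOfEq (show p - 1 = p' by omega)).hom)

noncomputable def diskβ : diskN cv G ⟶ G where
  f p := (diskα cv G).v p (p - 1) (by omega) ≫ G.d (p - 1) p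
  comm' i j _ := by
    rw [diskN_d, zero_comp, Category.assoc, G.d_comp_d, comp_zero]

lemma diskα_eq : δ (-1) 0 (diskα cv G) = Cochain.ofHom (𝟙 (diskN cv G) ≫ diskβ cv G) := by
  ext p
  rw [δ_v (-1) 0 (neg_add_cancel 1) _ p p (add_zero p) (p - 1) (p + 1) (by omega) (by omega)]
  simp [diskN_d, diskβ]

/-- the disk complex -/
noncomputable abbrev diskP : CochainComplex A ℤ := mappingCone (𝟙 (diskN cv G))

/-- the map from the disk complex -/
noncomputable def diskq : diskP cv G ⟶ G :=
  mappingCone.desc (𝟙 (diskN cv G)) (diskα cv G) (diskβ cv G) (diskα_eq cv G)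

instance epi_diskq_f (m : ℤ) : Epi ((diskq cv G).f m) := by
  have h : (mappingCone.inl (𝟙 (diskN cv G))).v (m + 1) m (by omega) ≫ (diskq cv G).f m =
      diskπ cv G (m + 1) ≫ (G.XIsoOfEq (show m + 1 - 1 = m by omega)).hom := by
    rw [diskq, mappingCone.inl_v_desc_f, diskα, Cochain.mk_v]
  haveI : Epi ((mappingCone.inl (𝟙 (diskN cv G))).v (m + 1) m (by omega) ≫ (diskq cv G).f m) := by
    rw [h]
    infer_instance
  exact epi_of_epi ((mappingCone.inl (𝟙 (diskN cv G))).v (m + 1) m (add_neg_cancel_right m 1))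
    ((diskq cv G).f m)

end Disk

section Seq

variable (cv : Cov A) (G : CochainComplex A ℤ)

/-- a complex over `G` -/
structure Stage where
  P : CochainComplex A ℤ
  q : P ⟶ G

/-- the sequence of cellular approximations -/
noncomputable def stage : ℕ → Stage G
  | 0 => ⟨diskP cv G, diskq cv G⟩
  | n + 1 => ⟨stepP cv (stage n).q, stepq cv (stage n).q⟩

noncomputable abbrev seqP (n : ℕ) : CochainComplex A ℤ := (stage cv G n).P

noncomputable abbrev seqq (n : ℕ) : seqP cv G n ⟶ G := (stage cv G n).q

noncomputable def seqι (n : ℕ) : seqP cv G n ⟶ seqP cv G (n + 1) := stepι cv (seqq cv G n)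

@[reassoc (attr := simp)]
lemma seqι_q (n : ℕ) : seqι cv G n ≫ seqq cv G (n + 1) = seqq cv G n := stepι_q cv _

/-- the sequence as a functor -/
noncomputable def seqF : ℕ ⥤ CochainComplex A ℤ := Functor.ofSequence (seqι cv G)

/-- the cocone to `G` -/
noncomputable def seqCocone : Cocone (seqF cv G) where
  pt := G
  ι := NatTrans.ofSequence (F := seqF cv G) (G := (Functor.const ℕ).obj G) (seqq cv G)
    (fun n => by
      simp only [seqF, Functor.ofSequence_map_homOfLE_succ, Functor.const_obj_obj,
        Functor.const_obj_map]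
      exact (seqι_q cv G n).trans (Category.comp_id _).symm)

lemma epi_seqq_f (n : ℕ) (m : ℤ) : Epi ((seqq cv G n).f m) := by
  induction n with
  | zero => exact epi_diskq_f cv G m
  | succ n ih =>
    have h : (seqι cv G n).f m ≫ (seqq cv G (n + 1)).f m = (seqq cv G n).f m := by
      rw [← HomologicalComplex.comp_f, seqι_q]
    haveI : Epi ((seqι cv G n).f m ≫ (seqq cv G (n + 1)).f m) := by rw [h]; exact ih
    exact epi_of_epi ((seqι cv G n).f m) _

variable [HasColimitsOfShape ℕ A]

/-- the resolution -/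
noncomputable abbrev resP : CochainComplex A ℤ := colimit (seqF cv G)

/-- the resolution map -/
noncomputable def resq : resP cv G ⟶ G := colimit.desc (seqF cv G) (seqCocone cv G)

@[reassoc (attr := simp)]
lemma ι_resq (n : ℕ) : colimit.ι (seqF cv G) n ≫ resq cv G = seqq cv G n :=
  colimit.ι_desc _ _

theorem epi_resq_f (m : ℤ) : Epi ((resq cv G).f m) := by
  have h : (colimit.ι (seqF cv G) 0).f m ≫ (resq cv G).f m = (seqq cv G 0).f m := by
    rw [← HomologicalComplex.comp_f, ι_resq]
  haveI : Epi ((colimit.ι (seqF cv G) 0).f m ≫ (resq cv G).f m) := by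
    rw [h]; exact epi_seqq_f cv G 0 m
  exact epi_of_epi ((colimit.ι (seqF cv G) 0).f m) _

omit [HasColimitsOfShape ℕ A] in
/-- A morphism of cochain complexes is a quasi-isomorphism iff its mapping cone is acyclic. -/
theorem quasiIso_iff_exactAt_mappingCone {K L : CochainComplex A ℤ} (φ : K ⟶ L) :
    QuasiIso φ ↔ ∀ n : ℤ, (mappingCone φ).ExactAt n := by
  rw [← HomologicalComplex.mem_quasiIso_iff, ← HomotopyCategory.quotient_map_mem_quasiIso_iff,
    HomotopyCategory.quasiIso_eq_trW_subcategoryAcyclic,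
    ← HomotopyCategory.quotient_obj_mem_subcategoryAcyclic_iff_exactAt]
  exact (HomotopyCategory.subcategoryAcyclic A).trW_iff_of_distinguished
    (mappingCone.triangleh φ) (HomotopyCategory.mappingCone_triangleh_distinguished φ)

omit [HasColimitsOfShape ℕ A] in
lemma homologyMap_map_eq_zero {P : CochainComplex A ℤ} (q : P ⟶ G) (q₁ : P ⟶ G)
    (q₂ : stepP cv q ⟶ G) (a : P ⟶ stepP cv q) (h₁ : q₁ = q) (h₂ : q₂ = stepq cv q)
    (ha : a = stepι cv q) (comm : q₁ ≫ 𝟙 G = a ≫ q₂) (m : ℤ) :
    homologyMap (mappingCone.map q₁ q₂ a (𝟙 G) comm) m = 0 := by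
  subst h₁ h₂ ha
  exact homologyMap_stepCone cv _ m

variable [HasExactColimitsOfShape ℕ A]

theorem quasiIso_resq : QuasiIso (resq cv G) := by
  rw [quasiIso_iff_exactAt_mappingCone]
  have hcol := isColimitConeCocone (resq cv G) (colimit.isColimit (seqF cv G))
  have hac : Acyc (mappingCone (resq cv G)) :=
    acyc_of_isColimit_of_homologyMap_eq_zero hcol (fun n m => by
      change homologyMap (mappingCone.map _ _ _ _ (legq_comm _ _ _)) m = 0
      exact homologyMap_map_eq_zero cv G (seqq cv G n) _ _ _ (ι_resq cv G n) (ι_resq cv G (n + 1))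
        (Functor.ofSequence_map_homOfLE_succ _ n) _ m)
  intro n
  rw [exactAt_iff_isZero_homology]
  exact hac n

/-- **Existence of cellular resolutions**: for a class `WC` of complexes containing the complexes
with zero differential and terms of the form `cv.obj X`, stable under mapping cones and sequential
colimits, every complex `G` receives a degreewise epimorphic quasi-isomorphism from a complex in
`WC`. -/
theorem exists_resolution (WC : CochainComplex A ℤ → Prop)
    (hzd : ∀ N : CochainComplex A ℤ, (∀ i j, N.d i j = 0) → (∀ i, ∃ X, N.X i = cv.obj X) → WC N)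
    (hcone : ∀ {N P : CochainComplex A ℤ} (φ : N ⟶ P), WC N → WC P → WC (mappingCone φ))
    (hcolim : ∀ F : ℕ ⥤ CochainComplex A ℤ, (∀ n, WC (F.obj n)) → WC (colimit F)) :
    ∃ (K : CochainComplex A ℤ) (q : K ⟶ G), WC K ∧ QuasiIso q ∧ ∀ n, Epi (q.f n) := by
  have h : ∀ n, WC (seqP cv G n) := by
    intro n
    induction n with
    | zero =>
      have h0 : WC (diskN cv G) := hzd _ (diskN_d cv G) (fun i => ⟨_, rfl⟩)
      exact hcone _ h0 h0
    | succ n ih =>
      exact hcone _ (hzd _ (cellN_d cv _) (fun i => ⟨_, rfl⟩)) ih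
  exact ⟨resP cv G, resq cv G, hcolim _ h, quasiIso_resq cv G, epi_resq_f cv G⟩

end Seq

end Groth.Agent.Lib.Helper1.CellRes
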