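import Mathlib
import Groth.Prelude.Def_CxOX
import Groth.Agent.Lib.Helper16.RS13
import Groth.Agent.Lib.Helper16.PC1

/-!
# Helper1 — LocPC1: pseudo-coherence on schemes, local form

`PCat m K`: `K ∈ D(O_U)` receives a `Good m` map from a strictly perfect complex (on all of `U`).
`DCoh.IsPseudoCoherentD m K` iff every point has an open neighbourhood `V` with
`PCat m (K|_V)`; stability of `PCat` under restriction, isomorphisms and shifts; transitivity
of the restriction functors on objects.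
-/

set_option autoImplicit false
universe u
open CategoryTheory CategoryTheory.Limits AlgebraicGeometry CategoryTheory.Pretriangulated

attribute [local instance] HasDerivedCategory.standard

namespace Groth.Agent.Lib.Helper1.LocPC

open Groth.Agent.Lib.Helper16.RS Groth.Agent.Lib.Helper16.PC DerivedCategory

section generic

universe w₁ w₂ v₁ v₂ u₁ u₂

variable {A : Type u₁} {B : Type u₂} [Category.{v₁} A] [Category.{v₂} B] [Abelian A] [Abelian B]
  [HasDerivedCategory.{w₁} A] [HasDerivedCategory.{w₂} B] (G : A ⥤ B) [G.Additive]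
  [PreservesFiniteLimits G] [PreservesFiniteColimits G]

lemma map_isLE (K : DerivedCategory A) (b : ℤ) (hK : K.IsLE b) :
    (G.mapDerivedCategory.obj K).IsLE b := by
  obtain ⟨L, hL, ⟨e⟩⟩ := K.exists_iso_Q_obj_of_isLE b
  have e' := G.mapDerivedCategory.mapIso e ≪≫ G.mapDerivedCategoryFactors.app L
  have : CochainComplex.IsStrictlyLE
      ((G.mapHomologicalComplex (ComplexShape.up ℤ)).obj L) b := by
    rw [CochainComplex.isStrictlyLE_iff]
    intro i hi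
    exact Functor.map_isZero G (L.isZero_of_isStrictlyLE b i hi)
  have h2 : (Q.obj ((G.mapHomologicalComplex (ComplexShape.up ℤ)).obj L)).IsLE b := by
    rw [isLE_Q_obj_iff]
    infer_instance
  haveI : (TStructure.t).IsLE ((G.mapHomologicalComplex (ComplexShape.up ℤ) ⋙ Q).obj L) b := h2
  exact (TStructure.t).isLE_of_iso e'.symm b

lemma map_good {m : ℤ} {X Y : DerivedCategory A} (α : X ⟶ Y) (h : Good m α) :
    Good m (G.mapDerivedCategory.map α) := by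
  obtain ⟨C, g, w, hT⟩ := distinguished_cocone_triangle α
  have hC : C.IsLE (m - 1) := (good_iff_isLE _ hT m (m - 1) (by omega)).1 h
  have hT' := G.mapDerivedCategory.map_distinguished _ hT
  exact (good_iff_isLE _ hT' m (m - 1) (by omega)).2 (map_isLE G C (m - 1) hC)

end generic

variable {X U U' : Scheme.{u}}

lemma good_RD (j : U ⟶ X) [IsOpenImmersion j] {m : ℤ} {K L : DCoh.D X} (α : K ⟶ L)
    (h : Good m α) : Good m ((RD j).map α) :=
  map_good (Scheme.Modules.restrictFunctor j) α h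

lemma good_iso_comp {m : ℤ} {K K' L : DCoh.D X} (e : K' ≅ K) {α : K ⟶ L} (h : Good m α) :
    Good m (e.hom ≫ α) := (good_of_isIso m e.hom).comp h

lemma good_comp_iso {m : ℤ} {K L L' : DCoh.D X} (e : L ≅ L') {α : K ⟶ L} (h : Good m α) :
    Good m (α ≫ e.hom) := h.comp (good_of_isIso m e.hom)

/-- `K` receives a `Good m` map from a strictly perfect complex. -/
def PCat (m : ℤ) (K : DCoh.D X) : Prop :=
  ∃ (E : CochainComplex X.Modules ℤ) (α : DerivedCategory.Q.obj E ⟶ K),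
    DCoh.IsStrictlyPerfect E ∧ Good m α

lemma PCat.of_iso {m : ℤ} {K K' : DCoh.D X} (h : PCat m K) (e : K ≅ K') : PCat m K' := by
  obtain ⟨E, α, hE, hα⟩ := h
  exact ⟨E, α ≫ e.hom, hE, good_comp_iso e hα⟩

lemma PCat.of_le {m m' : ℤ} (hm : m ≤ m') {K : DCoh.D X} (h : PCat m K) : PCat m' K := by
  obtain ⟨E, α, hE, hα⟩ := h
  exact ⟨E, α, hE, hα.of_le hm⟩

lemma PCat.restrict {m : ℤ} {K : DCoh.D X} (h : PCat m K) (j : U ⟶ X) [IsOpenImmersion j] :
    PCat m ((RD j).obj K) := by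
  obtain ⟨E, α, hE, hα⟩ := h
  exact ⟨(RCx j).obj E, (RDQIso j E).inv ≫ (RD j).map α, isStrictlyPerfect_RCx j E hE,
    good_iso_comp (RDQIso j E).symm (good_RD j α hα)⟩

lemma PCat.shift {m : ℤ} {K : DCoh.D X} (h : PCat m K) (n m' : ℤ) (hm : m' + n = m) :
    PCat m' (K⟦n⟧) := by
  obtain ⟨E, α, hE, hα⟩ := h
  exact ⟨E⟦n⟧, ((Q.commShiftIso n).app E).hom ≫ α⟦n⟧', isStrictlyPerfect_shift E n hE,
    (good_of_isIso m' _).comp (hα.shift n m' hm)⟩

/-- transitivity of restriction, on objects. -/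
theorem nonempty_RD_comp_iso (j : U ⟶ X) [IsOpenImmersion j] (k : U' ⟶ U) [IsOpenImmersion k]
    (K : DCoh.D X) : Nonempty ((RD k).obj ((RD j).obj K) ≅ (RD (k ≫ j)).obj K) := by
  obtain ⟨F, ⟨e⟩⟩ := exists_rep K
  exact ⟨(RD k).mapIso ((RD j).mapIso e.symm ≪≫ RDQIso j F) ≪≫ RDQIso k _ ≪≫
    QRCxCompIso j k F ≪≫ (RDQIso (k ≫ j) F).symm ≪≫ (RD (k ≫ j)).mapIso e⟩

theorem nonempty_RD_fac_iso (j : U ⟶ X) [IsOpenImmersion j] (k : U' ⟶ U) [IsOpenImmersion k]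
    (j' : U' ⟶ X) [IsOpenImmersion j'] (h : k ≫ j = j') (K : DCoh.D X) :
    Nonempty ((RD k).obj ((RD j).obj K) ≅ (RD j').obj K) := by
  subst h
  exact nonempty_RD_comp_iso j k K

lemma PCat.restrict_of_fac {m : ℤ} {K : DCoh.D X} (j : U ⟶ X) [IsOpenImmersion j]
    (h : PCat m ((RD j).obj K)) (k : U' ⟶ U) [IsOpenImmersion k]
    (j' : U' ⟶ X) [IsOpenImmersion j'] (hk : k ≫ j = j') : PCat m ((RD j').obj K) := by
  obtain ⟨e⟩ := nonempty_RD_fac_iso j k j' hk K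
  exact (h.restrict k).of_iso e

lemma PCat.of_le_opens {m : ℤ} {K : DCoh.D X} {V W : X.Opens} (hWV : W ≤ V)
    (h : PCat m ((RD V.ι).obj K)) : PCat m ((RD W.ι).obj K) :=
  h.restrict_of_fac V.ι (X.homOfLE hWV) W.ι (X.homOfLE_ι hWV)

lemma PCat.image {m : ℤ} {K : DCoh.D X} (V : X.Opens) (W : (V : Scheme.{u}).Opens)
    (h : PCat m ((RD W.ι).obj ((RD V.ι).obj K))) : PCat m ((RD (V.ι ''ᵁ W).ι).obj K) := by
  obtain ⟨e⟩ := nonempty_RD_comp_iso V.ι W.ι K
  have h1 : PCat m ((RD (W.ι ≫ V.ι)).obj K) := h.of_iso e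
  exact h1.restrict_of_fac (W.ι ≫ V.ι) (V.ι.isoImage W).inv _ (by simp)

/-- pointwise version of pseudo-coherence. -/
def PCAt (m : ℤ) (K : DCoh.D X) (x : X) : Prop :=
  ∃ V : X.Opens, x ∈ V ∧ PCat m ((RD V.ι).obj K)

theorem isPseudoCoherentD_iff (m : ℤ) (K : DCoh.D X) :
    DCoh.IsPseudoCoherentD m K ↔ ∀ x : X, PCAt m K x := by
  constructor
  · intro h x
    obtain ⟨V, hx, hV⟩ := h x
    obtain ⟨F, ⟨e⟩⟩ := exists_rep K
    obtain ⟨E, α, hE, h1, h2⟩ := hV F ⟨e⟩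
    refine ⟨V, hx, E, α ≫ (RDQIso V.ι F).inv ≫ (RD V.ι).map e.hom, hE, ?_⟩
    exact good_comp_iso ((RDQIso V.ι F).symm ≪≫ (RD V.ι).mapIso e) ⟨h1, h2⟩
  · intro h x
    obtain ⟨V, hx, E, α, hE, hα⟩ := h x
    refine ⟨V, hx, ?_⟩
    rintro F ⟨e⟩
    have hg : Good m (α ≫ (RD V.ι).map e.inv ≫ (RDQIso V.ι F).hom) :=
      good_comp_iso ((RD V.ι).mapIso e.symm ≪≫ RDQIso V.ι F) hα
    exact ⟨E, α ≫ (RD V.ι).map e.inv ≫ (RDQIso V.ι F).hom, hE, hg.1, hg.2⟩

lemma PCAt.of_iso {m : ℤ} {K K' : DCoh.D X} {x : X} (h : PCAt m K x) (e : K ≅ K') :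
    PCAt m K' x := by
  obtain ⟨V, hx, hV⟩ := h
  exact ⟨V, hx, hV.of_iso ((RD V.ι).mapIso e)⟩

lemma PCAt.of_le {m m' : ℤ} (hm : m ≤ m') {K : DCoh.D X} {x : X} (h : PCAt m K x) :
    PCAt m' K x := by
  obtain ⟨V, hx, hV⟩ := h
  exact ⟨V, hx, hV.of_le hm⟩

lemma PCAt.shift {m : ℤ} {K : DCoh.D X} {x : X} (h : PCAt m K x) (n m' : ℤ) (hm : m' + n = m) :
    PCAt m' (K⟦n⟧) x := by
  obtain ⟨V, hx, hV⟩ := h
  exact ⟨V, hx, (hV.shift n m' hm).of_iso (((RD V.ι).commShiftIso n).app K).symm⟩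

end Groth.Agent.Lib.Helper1.LocPC
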