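import Mathlib
import Groth.Prelude.Def_CxOX
import Groth.Agent.Lib.Helper1.LocPC1
import Groth.Agent.Lib.Helper16.RS8

/-!
# Helper1 — LocPC2: the triangle lemma for pseudo-coherence on schemes (pointwise form)

* `good_of_lift`: the octahedral argument of helper16's `PC1.IsPC.of_triangle₃`, with the lift of
  `α ≫ T.mor₁` through `β` given as an actual chain map `γ`.
* `locally_lift_D`: maps in `D(O_U)` out of a strictly perfect complex lift locally through a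
  `Good` map, as chain maps.
* `PCat.triangle_locally`, `PCAt.triangle₃` and the two-out-of-three statement for `PCAt`.
-/

set_option autoImplicit false
universe u
open CategoryTheory CategoryTheory.Limits AlgebraicGeometry CategoryTheory.Pretriangulated

attribute [local instance] HasDerivedCategory.standard

namespace Groth.Agent.Lib.Helper1.LocPC

open Groth.Agent.Lib.Helper16.RS Groth.Agent.Lib.Helper16.PC DerivedCategory

section generic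

universe w v u'

variable {A : Type u'} [Category.{v} A] [Abelian A] [HasDerivedCategory.{w} A]

/-- the octahedral part of the triangle lemma. -/
theorem good_of_lift (T : Triangle (DerivedCategory A)) (hT : T ∈ distTriang _) (m : ℤ)
    {P P' : CochainComplex A ℤ} (α : Q.obj P ⟶ T.obj₁) (β : Q.obj P' ⟶ T.obj₂) (γ : P ⟶ P')
    (hγ : Q.map γ ≫ β = α ≫ T.mor₁) (hα : Good (m + 1) α) (hβ : Good m β) :
    ∃ φ : Q.obj (CochainComplex.mappingCone γ) ⟶ T.obj₃, Good m φ := by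
  obtain ⟨Cα, gα, hα', hTα⟩ := distinguished_cocone_triangle α
  have hCα : Cα.IsLE m := (good_iff_isLE _ hTα (m + 1) m rfl).1 hα
  obtain ⟨Cβ, gβ, hβ', hTβ⟩ := distinguished_cocone_triangle β
  have hCβ : Cβ.IsLE (m - 1) := (good_iff_isLE _ hTβ m (m - 1) (by omega)).1 hβ
  obtain ⟨Cg, gg, hg', hTg⟩ := distinguished_cocone_triangle (α ≫ T.mor₁)
  have hT' : Triangle.mk T.mor₁ T.mor₂ T.mor₃ ∈ distTriang _ := hT
  have o1 := Triangulated.someOctahedron rfl hTα hT' hTg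
  have hTγ := DerivedCategory.mappingCone_triangle_distinguished γ
  have o2 := Triangulated.someOctahedron hγ hTγ hTβ hTg
  have g1 : Good m o2.m₁ := (good_iff_isLE _ o2.mem m (m - 1) (by omega)).2 hCβ
  have g2 : Good m o1.m₃ := by
    refine (good_iff_isLE _ (rot_of_distTriang _ o1.mem) m (m - 1) (by omega)).2 ?_
    exact (TStructure.t).isLE_shift Cα m 1 (m - 1) (by omega)
  exact ⟨o2.m₁ ≫ o1.m₃, g1.comp g2⟩

end generic

variable {U : Scheme.{u}}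

lemma good_Q_map_iff (m : ℤ) {K L : CochainComplex U.Modules ℤ} (φ : K ⟶ L) :
    Good m (DerivedCategory.Q.map φ) ↔
      (∀ j : ℤ, m < j → IsIso (HomologicalComplex.homologyMap φ j)) ∧
        Epi (HomologicalComplex.homologyMap φ m) :=
  HW_Q_map_iff m φ

/-- maps out of a strictly perfect complex lift locally through a `Good` map. -/
theorem locally_lift_D {P P' : CochainComplex U.Modules ℤ} {L : DCoh.D U}
    (β : Q.obj P' ⟶ L) (c : Q.obj P ⟶ L) (hP : DCoh.IsStrictlyPerfect P) (a : ℤ)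
    (hPa : ∀ j : ℤ, j < a → IsZero (P.X j)) (hβ : Good (a - 1) β) (x : U) :
    ∃ (V : U.Opens) (γ : (RCx V.ι).obj P ⟶ (RCx V.ι).obj P'), x ∈ V ∧
      Q.map γ ≫ (RDQIso V.ι P').inv ≫ (RD V.ι).map β =
        (RDQIso V.ι P).inv ≫ (RD V.ι).map c := by
  obtain ⟨F, ⟨e⟩⟩ := exists_rep L
  obtain ⟨F₁, f₁, s₁, hs₁, h₁⟩ := left_fac (β ≫ e.inv)
  obtain ⟨F₂, f₂, s₂, hs₂, h₂⟩ := left_fac (c ≫ e.inv ≫ Q.map s₁)
  let σ : L ≅ Q.obj F₂ := e.symm ≪≫ asIso (Q.map s₁) ≪≫ asIso (Q.map s₂)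
  have hg : Q.map (f₁ ≫ s₂) = β ≫ σ.hom := by
    have : Q.map f₁ = (β ≫ e.inv) ≫ Q.map s₁ := by rw [h₁]; simp
    rw [Functor.map_comp, this]
    simp [σ]
  have hf₂ : Q.map f₂ = c ≫ σ.hom := by
    have : Q.map f₂ = (c ≫ e.inv ≫ Q.map s₁) ≫ Q.map s₂ := by rw [h₂]; simp
    rw [this]
    simp [σ]
  have hgood : Good (a - 1) (Q.map (f₁ ≫ s₂)) := by
    rw [hg]
    exact good_comp_iso σ hβ
  obtain ⟨hi, he⟩ := (good_Q_map_iff (a - 1) (f₁ ≫ s₂)).1 hgood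
  have hfa : Epi (HomologicalComplex.homologyMap (f₁ ≫ s₂) a) := by
    have := hi a (by omega)
    infer_instance
  obtain ⟨V, γ, hxV, ⟨H⟩⟩ := locally_lift f₂ (f₁ ≫ s₂) hP a hPa (fun j hj => hi j (by omega)) hfa x
  refine ⟨V, γ, hxV, ?_⟩
  have hH : Q.map γ ≫ Q.map ((RCx V.ι).map (f₁ ≫ s₂)) = Q.map ((RCx V.ι).map f₂) := by
    rw [← Functor.map_comp]
    exact DerivedCategory.Q_map_eq_of_homotopy _ H
  have n1 := RDQIso_hom_naturality V.ι (f₁ ≫ s₂)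
  have n2 := RDQIso_hom_naturality V.ι f₂
  have e1 : Q.map ((RCx V.ι).map (f₁ ≫ s₂)) =
      (RDQIso V.ι P').inv ≫ (RD V.ι).map (β ≫ σ.hom) ≫ (RDQIso V.ι F₂).hom := by
    rw [← hg, n1, Iso.inv_hom_id_assoc]
  have e2 : Q.map ((RCx V.ι).map f₂) =
      (RDQIso V.ι P).inv ≫ (RD V.ι).map (c ≫ σ.hom) ≫ (RDQIso V.ι F₂).hom := by
    rw [← hf₂, n2, Iso.inv_hom_id_assoc]
  rw [e1, e2] at hH
  have hτ : IsIso ((RD V.ι).map σ.hom ≫ (RDQIso V.ι F₂).hom) := inferInstance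
  rw [← cancel_mono ((RD V.ι).map σ.hom ≫ (RDQIso V.ι F₂).hom)]
  simpa [Functor.map_comp] using hH

/-- the triangle lemma, on a neighbourhood of a point. -/
theorem PCat.triangle_locally (T : Triangle (DCoh.D U)) (hT : T ∈ distTriang (DCoh.D U)) (m : ℤ)
    (h₁ : PCat (m + 1) T.obj₁) (h₂ : PCat m T.obj₂) (x : U) :
    ∃ W : U.Opens, x ∈ W ∧ PCat m ((RD W.ι).obj T.obj₃) := by
  obtain ⟨E₁, α₁, ⟨⟨a₁, b₁, hab₁⟩, hfree₁⟩, hα₁⟩ := h₁
  obtain ⟨P', β, hP', hβ⟩ := h₂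
  have hzero : ∀ M : U.Modules, IsZero M → FlatMod.IsFinLocFree M := by
    intro M hM y
    exact ⟨⊤, 0, trivial, ⟨((Scheme.Modules.restrictFunctor (⊤ : U.Opens).ι).map_isZero hM).iso
      isZero_freeMod_zero⟩⟩
  obtain ⟨P, φ, hP0, hP1, hφ⟩ := Groth.Agent.Lib.Helper16.PC.exists_trunc
    (Pc := fun M : U.Modules => FlatMod.IsFinLocFree M) hzero
    (fun _ _ e h => isFinLocFree_of_iso e h) (m + 1) (m + 1 - a₁).toNat E₁ a₁ b₁ (by omega)
    hab₁ hfree₁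
  have hP : DCoh.IsStrictlyPerfect P := ⟨⟨m + 1, b₁, hP0⟩, hP1⟩
  let α : Q.obj P ⟶ T.obj₁ := Q.map φ ≫ α₁
  have hα : Good (m + 1) α := hφ.comp hα₁
  obtain ⟨V, γ, hxV, hγ⟩ := locally_lift_D β (α ≫ T.mor₁) hP (m + 1)
    (fun j hj => hP0 j (Or.inl hj)) (by simpa using hβ) x
  refine ⟨V, hxV, ?_⟩
  let T' := (RD V.ι).mapTriangle.obj T
  have hT' : T' ∈ distTriang _ := (RD V.ι).map_distinguished T hT
  let α' : Q.obj ((RCx V.ι).obj P) ⟶ T'.obj₁ := (RDQIso V.ι P).inv ≫ (RD V.ι).map α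
  let β' : Q.obj ((RCx V.ι).obj P') ⟶ T'.obj₂ := (RDQIso V.ι P').inv ≫ (RD V.ι).map β
  have hα' : Good (m + 1) α' := good_iso_comp (RDQIso V.ι P).symm (good_RD V.ι α hα)
  have hβ' : Good m β' := good_iso_comp (RDQIso V.ι P').symm (good_RD V.ι β hβ)
  have hγ' : Q.map γ ≫ β' = α' ≫ T'.mor₁ := by
    change Q.map γ ≫ (RDQIso V.ι P').inv ≫ (RD V.ι).map β =
      ((RDQIso V.ι P).inv ≫ (RD V.ι).map α) ≫ (RD V.ι).map T.mor₁
    rw [hγ, Functor.map_comp, Category.assoc]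
  obtain ⟨ψ, hψ⟩ := good_of_lift T' hT' m α' β' γ hγ' hα' hβ'
  exact ⟨CochainComplex.mappingCone γ, ψ,
    isStrictlyPerfect_mappingCone γ (isStrictlyPerfect_RCx V.ι P hP)
      (isStrictlyPerfect_RCx V.ι P' hP'), hψ⟩

variable {X : Scheme.{u}}

/-- the triangle lemma at a point. -/
theorem PCAt.triangle₃ (T : Triangle (DCoh.D X)) (hT : T ∈ distTriang (DCoh.D X)) (m : ℤ) (x : X)
    (h₁ : PCAt (m + 1) T.obj₁ x) (h₂ : PCAt m T.obj₂ x) : PCAt m T.obj₃ x := by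
  obtain ⟨V₁, hx₁, hV₁⟩ := h₁
  obtain ⟨V₂, hx₂, hV₂⟩ := h₂
  let V := V₁ ⊓ V₂
  have hx : x ∈ V := ⟨hx₁, hx₂⟩
  have h₁' : PCat (m + 1) ((RD V.ι).obj T.obj₁) := hV₁.of_le_opens inf_le_left
  have h₂' : PCat m ((RD V.ι).obj T.obj₂) := hV₂.of_le_opens inf_le_right
  obtain ⟨W, hxW, hW⟩ := PCat.triangle_locally ((RD V.ι).mapTriangle.obj T)
    ((RD V.ι).map_distinguished T hT) m h₁' h₂' (⟨x, hx⟩ : (V : Scheme.{u}))
  exact ⟨V.ι ''ᵁ W, ⟨⟨x, hx⟩, hxW, rfl⟩, PCat.image V W hW⟩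

theorem PCAt.two_of_three (T : Triangle (DCoh.D X)) (hT : T ∈ distTriang (DCoh.D X)) (m : ℤ)
    (x : X) :
    (PCAt (m + 1) T.obj₁ x → PCAt m T.obj₂ x → PCAt m T.obj₃ x) ∧
    (PCAt m T.obj₁ x → PCAt m T.obj₃ x → PCAt m T.obj₂ x) ∧
    (PCAt (m + 1) T.obj₂ x → PCAt m T.obj₃ x → PCAt (m + 1) T.obj₁ x) := by
  refine ⟨PCAt.triangle₃ T hT m x, fun h1 h3 => ?_, fun h2 h3 => ?_⟩
  · exact PCAt.triangle₃ _ (inv_rot_of_distTriang _ hT) m x (h3.shift (-1) (m + 1) (by omega)) h1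
  · have := PCAt.triangle₃ _ (rot_of_distTriang _ hT) m x h2 h3
    exact (this.shift (-1) (m + 1) (by omega)).of_iso
      ((shiftFunctorCompIsoId (DCoh.D X) (1 : ℤ) (-1) (by norm_num)).app T.obj₁)

end Groth.Agent.Lib.Helper1.LocPC
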