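import Mathlib
import Groth.Prelude.Def_CxOX
import Groth.Agent.Lib.Helper1.LocPC2

/-!
# Helper1 — LocPC3: direct summands of pseudo-coherent objects (pointwise form)
-/

set_option autoImplicit false
universe u
open CategoryTheory CategoryTheory.Limits AlgebraicGeometry CategoryTheory.Pretriangulated

attribute [local instance] HasDerivedCategory.standard

namespace Groth.Agent.Lib.Helper1.LocPC

open Groth.Agent.Lib.Helper16.RS Groth.Agent.Lib.Helper16.PC DerivedCategory ZeroObject

variable {U : Scheme.{u}}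

lemma isFinLocFree_of_isZero (M : U.Modules) (hM : IsZero M) : FlatMod.IsFinLocFree M := by
  intro y
  exact ⟨⊤, 0, trivial, ⟨((Scheme.Modules.restrictFunctor (⊤ : U.Opens).ι).map_isZero hM).iso
    isZero_freeMod_zero⟩⟩

lemma isStrictlyPerfect_zero : DCoh.IsStrictlyPerfect (0 : CochainComplex U.Modules ℤ) :=
  ⟨⟨0, 0, fun i _ => (HomologicalComplex.eval _ _ i).map_isZero (isZero_zero _)⟩,
    fun i => isFinLocFree_of_isZero _ ((HomologicalComplex.eval _ _ i).map_isZero (isZero_zero _))⟩

/-- the target of a `Good m` map from a complex vanishing above `b` is in `D^{≤ max b m}`. -/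
lemma isLE_of_good {m b : ℤ} {E : CochainComplex U.Modules ℤ} {M : DCoh.D U}
    (α : Q.obj E ⟶ M) (hα : Good m α) (hE : ∀ i : ℤ, b < i → IsZero (E.X i)) :
    M.IsLE (max b m) := by
  rw [DerivedCategory.isLE_iff]
  intro i hi
  have hi' : b < i ∧ m < i := max_lt_iff.1 hi
  haveI := hα.1 i hi'.2
  have hz : IsZero ((homologyFunctor U.Modules i).obj (Q.obj E)) := by
    refine IsZero.of_iso ?_ ((homologyFunctorFactors U.Modules i).app E)
    exact ((HomologicalComplex.exactAt_iff_isZero_homology _ _).1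
      (ShortComplex.exact_of_isZero_X₂ _ (hE i hi'.1)))
  exact IsZero.of_iso hz (asIso ((homologyFunctor U.Modules i).map α)).symm

lemma isLE_of_retract {K M : DCoh.D U} (i : K ⟶ M) (p : M ⟶ K) (hip : i ≫ p = 𝟙 K) (N : ℤ)
    (hM : M.IsLE N) : K.IsLE N := by
  rw [DerivedCategory.isLE_iff] at hM ⊢
  intro n hn
  rw [IsZero.iff_id_eq_zero, ← CategoryTheory.Functor.map_id, ← hip, CategoryTheory.Functor.map_comp,
    (hM n hn).eq_of_tgt ((homologyFunctor U.Modules n).map i) 0, zero_comp]

lemma PCat.of_isLE (K : DCoh.D U) (N : ℤ) (hK : K.IsLE N) : PCat (N + 1) K := by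
  rw [DerivedCategory.isLE_iff] at hK
  refine ⟨0, 0, isStrictlyPerfect_zero, fun i hi => ?_, ?_⟩
  · have h2 := hK i (by omega)
    have h1 : IsZero ((homologyFunctor U.Modules i).obj (Q.obj (0 : CochainComplex U.Modules ℤ))) :=
      (homologyFunctor U.Modules i).map_isZero (Q.map_isZero (isZero_zero _))
    exact ⟨0, h1.eq_of_src _ _, h2.eq_of_src _ _⟩
  · have h2 := hK (N + 1) (by omega)
    exact ⟨fun g h _ => h2.eq_of_src g h⟩

variable {X : Scheme.{u}}

/-- direct summands of pseudo-coherent objects, at a point. -/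
theorem PCAt.of_biprod (m : ℤ) (K L : DCoh.D X) (x : X) (h : PCAt m (K ⊞ L) x) :
    PCAt m K x ∧ PCAt m L x := by
  obtain ⟨V, hx, E, α, ⟨⟨a, b, hab⟩, hfree⟩, hα⟩ := h
  have hM : ((RD V.ι).obj (K ⊞ L)).IsLE (max b m) :=
    isLE_of_good α hα (fun i hi => hab i (Or.inr hi))
  set N := max b m with hN
  have hK : PCAt (N + 1) K x := ⟨V, hx, PCat.of_isLE _ N (isLE_of_retract
    ((RD V.ι).map biprod.inl) ((RD V.ι).map biprod.fst)
    (by rw [← CategoryTheory.Functor.map_comp, biprod.inl_fst, CategoryTheory.Functor.map_id]) N hM)⟩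
  have hL : PCAt (N + 1) L x := ⟨V, hx, PCat.of_isLE _ N (isLE_of_retract
    ((RD V.ι).map biprod.inr) ((RD V.ι).map biprod.snd)
    (by rw [← CategoryTheory.Functor.map_comp, biprod.inr_snd, CategoryTheory.Functor.map_id]) N hM)⟩
  have hKL : PCAt m (K ⊞ L) x := ⟨V, hx, E, α, ⟨⟨a, b, hab⟩, hfree⟩, hα⟩
  have key : ∀ (d : ℕ) (m' : ℤ), m ≤ m' → m' + d = N + 1 → PCAt m' K x ∧ PCAt m' L x := by
    intro d
    induction d with
    | zero =>
      intro m' _ h
      have : m' = N + 1 := by simpa using h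
      subst this
      exact ⟨hK, hL⟩
    | succ d ih =>
      intro m' hm h
      obtain ⟨ihK, ihL⟩ := ih (m' + 1) (by omega) (by push_cast at h; omega)
      have h2 : PCAt m' (K ⊞ L) x := hKL.of_le hm
      have h2' : PCAt m' (L ⊞ K) x := h2.of_iso (biprod.braiding K L)
      exact ⟨(PCAt.two_of_three _ (binaryBiproductTriangle_distinguished L K) m' x).1 ihL h2',
        (PCAt.two_of_three _ (binaryBiproductTriangle_distinguished K L) m' x).1 ihK h2⟩
  have hmN : m ≤ N := le_max_right b m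
  exact key (N + 1 - m).toNat m le_rfl (by omega)

end Groth.Agent.Lib.Helper1.LocPC
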