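import Mathlib
import Groth.Agent.Lib.Helper16.PC10

/-!
# Helper1 — LocPerf1: flatness of `opcycles` (ring level)

If `P` is a bounded above complex of projective `R`-modules, `F` a complex of flat modules placed in
`[a, b]` and `α : Q P ⟶ Q F` is an isomorphism on `H^i` for `i ≥ a`, then `coker (P^{a-1} → P^a)`
is flat (variant of helper16's `PC10.perfAmp_of_pc_torAmp` for a given `P`).
-/

open CategoryTheory CategoryTheory.Limits DerivedCategory CategoryTheory.Pretriangulated

namespace Groth.Agent.Lib.Helper1.LocPerf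

universe u

attribute [local instance] HasDerivedCategory.standard

variable {R : Type u} [CommRing R]

open Groth.Agent.Lib.Helper16.CycProp Groth.Agent.Lib.Helper16.FlatKer
  Groth.Agent.Lib.Helper16.PC
  Groth.Agent.Lib.Helper8.DRing2 Groth.Agent.Lib.Helper8.DRing5 Groth.Agent.Lib.Helper8.PAmp
  Groth.Agent.Lib.Helper8

theorem flat_opcycles_of_good (P F : CochainComplex (ModuleCat.{u} R) ℤ) (a b b' : ℤ)
    (hPproj : ∀ i : ℤ, Projective (P.X i)) (hPb : ∀ i : ℤ, b' < i → IsZero (P.X i))
    (hF : ∀ i : ℤ, i < a ∨ b < i → IsZero (F.X i)) (hFflat : ∀ i : ℤ, Module.Flat R (F.X i))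
    (α : Q.obj P ⟶ Q.obj F) (hα : Good (a - 1) α) :
    Module.Flat R (P.opcycles a) := by
  have : P.IsKProjective := isKProjective_of_hasProjAmp_data P b' hPb hPproj
  obtain ⟨f, rfl⟩ := exists_Q_map_of_isKProjective P F α
  have hFge : F.IsStrictlyGE a :=
    (CochainComplex.isStrictlyGE_iff _ _).2 (fun i hi => hF i (Or.inl hi))
  have hqi : ∀ i : ℤ, a ≤ i → QuasiIsoAt f i := fun i hi => by
    have h3 := hα.1 i (by omega)
    rw [quasiIsoAt_iff_isIso_homologyMap]
    exact (NatIso.isIso_map_iff (homologyFunctorFactors _ i) f).1 h3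
  have hq1 : QuasiIso (CochainComplex.truncGEMap f a) :=
    (CochainComplex.quasiIso_truncGEMap_iff f a).2 hqi
  let g : P.truncGE a ⟶ F := CochainComplex.truncGEMap f a ≫ inv (F.πTruncGE a)
  have hg : QuasiIso g := inferInstance
  have hflatP : ∀ i : ℤ, flatProp R (P.X i) := fun i => by
    have : Module.Projective R (P.X i) := (IsProjective.iff_projective _).2 (hPproj i)
    exact (inferInstance : Module.Flat R (P.X i))
  have hEzero : ∀ i : ℤ, i < a ∨ b' < i → IsZero ((P.truncGE a).X i) := by
    intro i hi
    rcases hi with hi | hi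
    · exact (P.truncGE a).isZero_of_isStrictlyGE a i hi
    · rcases lt_trichotomy i a with h | h | h
      · exact (P.truncGE a).isZero_of_isStrictlyGE a i h
      · subst h
        refine IsZero.of_iso ?_ (P.truncGEXIsoOpcycles i)
        rw [IsZero.iff_id_eq_zero, ← cancel_epi (P.pOpcycles i)]
        exact (hPb i hi).eq_of_src _ _
      · exact (hPb i hi).of_iso (P.truncGEXIso a i h)
  have hflatE : ∀ i : ℤ, a < i → flatProp R ((P.truncGE a).X i) := fun i hi =>
    (flatProp R).prop_of_iso (P.truncGEXIso a i hi).symm (hflatP i)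
  have hex : ∀ i : ℤ, (CochainComplex.mappingCone g).ExactAt i :=
    exactAt_mappingCone_of_quasiIso g
  have hC : flatProp R ((CochainComplex.mappingCone g).X (a - 1)) :=
    prop_bottom (flatProp R) flatProp_zero flatProp_kernel (CochainComplex.mappingCone g) (a - 1)
      (max b b')
      (fun i hi => isZero_mappingCone_X g i (hEzero _ (Or.inr (by omega)))
        (hF i (Or.inr (by omega))))
      (fun i hi => isZero_mappingCone_X g i (hEzero _ (Or.inl (by omega)))
        (hF i (Or.inl (by omega))))
      hex
      (fun i hi => (flatProp R).prop_of_iso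
        (HomologicalComplex.homotopyCofiber.XIsoBiprod g i (i + 1) (by simp)).symm
        (flatProp_biprod _ _ (hflatE _ (by omega)) (hFflat i)))
  have h1 : flatProp R ((P.truncGE a).X a) := by
    have e := mappingConeXIso' g (a - 1) (hF (a - 1) (Or.inl (by omega)))
    have e' : (P.truncGE a).X (a - 1 + 1) ≅ (P.truncGE a).X a :=
      HomologicalComplex.XIsoOfEq _ (by omega)
    exact (flatProp R).prop_of_iso (e ≪≫ e') hC
  exact (flatProp R).prop_of_iso (P.truncGEXIsoOpcycles a) h1

end Groth.Agent.Lib.Helper1.LocPerf
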