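import Mathlib
import Groth.Agent.Lib.Helper29.FPFree
import Groth.Agent.Lib.Helper29.ThickVanish
import Groth.Agent.Lib.Helper17.FTExt

/-!
# Helper1 — LocPerf2: cokernels of maps of finitely presented modules on a scheme

The cokernel of a morphism between finitely presented `O_X`-modules is finitely presented; a
finitely presented module with flat stalks is finite locally free.
-/

set_option autoImplicit false
universe u
open CategoryTheory CategoryTheory.Limits AlgebraicGeometry Opposite TopologicalSpace

namespace Groth.Agent.Lib.Helper1.LocPerf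

open Groth.Agent.Lib.Helper29.FPDict Groth.Agent.Lib.Helper29.FPFree
  Groth.Agent.Lib.Helper29.ThickVanish Groth.Agent.Lib.Helper17.FTExt

variable {X : Scheme.{u}}

theorem isFinitePresentation_cokernel {A B : X.Modules}
    [SheafOfModules.IsFinitePresentation.{u} (R := X.ringCatSheaf) A]
    [SheafOfModules.IsFinitePresentation.{u} (R := X.ringCatSheaf) B] (φ : A ⟶ B) :
    SheafOfModules.IsFinitePresentation.{u} (R := X.ringCatSheaf) (cokernel φ) := by
  haveI := isQuasicoherent_of_isFinitePresentation A
  haveI := isQuasicoherent_of_isFinitePresentation B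
  have hq : (cokernel φ).IsQuasicoherent :=
    Groth.Agent.Lib.Helper17.CohKer.isQuasicoherent_cokernel φ
  rw [isFinitePresentation_iff]
  refine ⟨hq, fun U hU => ?_⟩
  haveI := fp_of_isAffineOpen A hU
  haveI := fp_of_isAffineOpen B hU
  refine Module.finitePresentation_of_surjective (appLin (cokernel.π φ) U)
    (cokernel_π_app_surjective φ hU) ?_
  have hk : LinearMap.ker (appLin (cokernel.π φ) U) = LinearMap.range (appLin φ U) := by
    apply le_antisymm
    · intro b hb
      obtain ⟨a, ha⟩ := exists_app_eq_of_cokernel_π_app_eq_zero φ hU b hb
      exact ⟨a, ha⟩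
    · rintro _ ⟨a, rfl⟩
      change (cokernel.π φ).app U (φ.app U a) = 0
      have : (φ ≫ cokernel.π φ).app U a = 0 := by
        rw [cokernel.condition]
        rfl
      exact this
  have hfg : (LinearMap.range (appLin φ U)).FG := by
    rw [LinearMap.range_eq_map]
    exact Submodule.FG.map _ Module.Finite.fg_top
  exact hk.symm ▸ hfg

/-- a finitely presented module whose stalks are flat is finite locally free. -/
theorem isFinLocFree_of_flat_stalks (M : X.Modules)
    [SheafOfModules.IsFinitePresentation.{u} (R := X.ringCatSheaf) M]
    (hflat : ∀ x : X, Module.Flat (X.presheaf.stalk x) (M.presheaf.stalk x)) :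
    FlatMod.IsFinLocFree M :=
  isFinLocFree_of_free_stalks M (fun x => free_stalk_of_isFlatAt M x (hflat x))

end Groth.Agent.Lib.Helper1.LocPerf
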