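import Mathlib
import Groth.Prelude.Def_CxOX
import Groth.Prelude.Def_DerSch
import Groth.Prelude.Def_DRing2
import Groth.Agent.Lib.Helper1.LocPC3
import Groth.Agent.Lib.Helper1.LocPerf1
import Groth.Agent.Lib.Helper1.LocPerf2
import Groth.Agent.Lib.Helper16.Stk4

/-!
# Helper1 — LocPerf3: `(a-1)`-pseudo-coherent + stalkwise tor amplitude `[a, b]` ⇒ strictly perfect

On a scheme `V`: if `K ∈ D(O_V)` receives a `Good (a-1)` map from a strictly perfect complex `P`
and all stalk complexes `K_y` have tor amplitude in `[a, b]` over `O_{V,y}`, then `τ_{≥ a} P` is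
strictly perfect and isomorphic to `K` in `D(O_V)`.
-/

set_option autoImplicit false
universe u
open CategoryTheory CategoryTheory.Limits AlgebraicGeometry CategoryTheory.Pretriangulated

attribute [local instance] HasDerivedCategory.standard

namespace Groth.Agent.Lib.Helper1.LocPerf

open Groth.Agent.Lib.Helper16.RS Groth.Agent.Lib.Helper16.PC DerivedCategory
  Groth.Agent.Lib.Helper1.LocPC Groth.Agent.Lib.Helper16.Stk Groth.Agent.Lib.Helper16.FlatKer

section generic

universe w₁ w₂ v₁ v₂ u₁ u₂

variable {A : Type u₁} {B : Type u₂} [Category.{v₁} A] [Category.{v₂} B] [Abelian A] [Abelian B]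
  [HasDerivedCategory.{w₁} A] [HasDerivedCategory.{w₂} B] (G : A ⥤ B) [G.Additive]
  [PreservesFiniteLimits G] [PreservesFiniteColimits G]

/-- exact functors commute with the cohomology of objects of the derived category. -/
theorem nonempty_map_homology_iso (K : DerivedCategory A) (i : ℤ) :
    Nonempty (G.obj ((homologyFunctor A i).obj K) ≅
      (homologyFunctor B i).obj (G.mapDerivedCategory.obj K)) := by
  let L := Q.objPreimage K
  let e : Q.obj L ≅ K := Q.objObjPreimageIso K
  exact ⟨G.mapIso ((homologyFunctor A i).mapIso e.symm ≪≫ (homologyFunctorFactors A i).app L) ≪≫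
    ((L.sc i).mapHomologyIso G).symm ≪≫
    ((homologyFunctorFactors B i).app ((G.mapHomologicalComplex (ComplexShape.up ℤ)).obj L)).symm ≪≫
    (homologyFunctor B i).mapIso ((G.mapDerivedCategoryFactors.app L).symm ≪≫
      G.mapDerivedCategory.mapIso e)⟩

end generic

variable {V : Scheme.{u}}

theorem isFinitePresentation_of_iso {M N : V.Modules} (e : M ≅ N)
    [SheafOfModules.IsFinitePresentation.{u} (R := V.ringCatSheaf) M] :
    SheafOfModules.IsFinitePresentation.{u} (R := V.ringCatSheaf) N := by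
  rw [Groth.Agent.Lib.Helper29.FPDict.isFinitePresentation_iff]
  haveI := Groth.Agent.Lib.Helper29.FPDict.isQuasicoherent_of_isFinitePresentation M
  refine ⟨(SheafOfModules.isQuasicoherent.{u} V.ringCatSheaf).prop_of_iso e inferInstance,
    fun U hU => ?_⟩
  haveI := Groth.Agent.Lib.Helper29.FPDict.fp_of_isAffineOpen M hU
  exact Module.FinitePresentation.of_equiv (Groth.Agent.Lib.Helper29.ThickVanish.appLinEquiv e U)

/-- the stalks of the cohomology sheaves of `K` vanish below `a` when the stalk complexes have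
tor amplitude in `[a, b]`. -/
theorem isGE_of_stalk_torAmp (K : DCoh.D V) (a b : ℤ)
    (h2 : ∀ y : V, DRing.HasTorAmplitudeIn (V.presheaf.stalk y) a b
      ((DerSch.stalkFunctor V y).mapDerivedCategory.obj K)) : K.IsGE a := by
  rw [DerivedCategory.isGE_iff]
  intro i hi
  refine isZero_of_forall_isZero_stalk _ (fun y => ?_)
  obtain ⟨E, hE, -, ⟨e⟩⟩ := h2 y
  obtain ⟨e'⟩ := nonempty_map_homology_iso (DerSch.stalkFunctor V y) K i
  refine IsZero.of_iso ?_ (e' ≪≫ (homologyFunctor _ i).mapIso e.symm ≪≫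
    (homologyFunctorFactors _ i).app E)
  exact (HomologicalComplex.exactAt_iff_isZero_homology _ _).1
    (ShortComplex.exact_of_isZero_X₂ _ (hE i (Or.inl hi)))

/-- the core statement. -/
theorem exists_strictlyPerfect_of_pc_of_stalk_torAmp (K : DCoh.D V) (a b : ℤ)
    (h1 : PCat (a - 1) K)
    (h2 : ∀ y : V, DRing.HasTorAmplitudeIn (V.presheaf.stalk y) a b
      ((DerSch.stalkFunctor V y).mapDerivedCategory.obj K)) :
    ∃ E : CochainComplex V.Modules ℤ, DCoh.IsStrictlyPerfect E ∧
      (∀ i : ℤ, i < a → IsZero (E.X i)) ∧ Nonempty (Q.obj E ≅ K) := by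
  obtain ⟨P, α, ⟨⟨a₁, b₁, hab₁⟩, hfree⟩, hα⟩ := h1
  have hKge : K.IsGE a := isGE_of_stalk_torAmp K a b h2
  -- the opcycles are finitely presented
  haveI hfp1 : SheafOfModules.IsFinitePresentation.{u} (R := V.ringCatSheaf) (P.X (a - 1)) :=
    Groth.Agent.Lib.Helper29.FPFree.isFinitePresentation_of_isFinLocFree _ (hfree _)
  haveI hfp2 : SheafOfModules.IsFinitePresentation.{u} (R := V.ringCatSheaf) (P.X a) :=
    Groth.Agent.Lib.Helper29.FPFree.isFinitePresentation_of_isFinLocFree _ (hfree _)
  haveI hfp3 := isFinitePresentation_cokernel (P.d (a - 1) a)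
  have eo : cokernel (P.d (a - 1) a) ≅ P.opcycles a :=
    IsColimit.coconePointUniqueUpToIso (colimit.isColimit _)
      (P.opcyclesIsCokernel (a - 1) a (by simp))
  haveI hfp : SheafOfModules.IsFinitePresentation.{u} (R := V.ringCatSheaf) (P.opcycles a) :=
    @isFinitePresentation_of_iso V _ _ eo hfp3
  -- flat stalks
  have hflat : ∀ y : V, Module.Flat (V.presheaf.stalk y) ((P.opcycles a).presheaf.stalk y) := by
    intro y
    obtain ⟨F, hF, hFflat, ⟨e⟩⟩ := h2 y
    let Sy := DerSch.stalkFunctor V y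
    let Py := (Sy.mapHomologicalComplex (ComplexShape.up ℤ)).obj P
    let αy : Q.obj Py ⟶ Q.obj F :=
      (Sy.mapDerivedCategoryFactors.app P).inv ≫ Sy.mapDerivedCategory.map α ≫ e.inv
    have hαy : Good (a - 1) αy :=
      (good_of_isIso _ _).comp ((map_good Sy α hα).comp (good_of_isIso _ _))
    have hproj : ∀ i : ℤ, Projective (Py.X i) := by
      intro i
      have hfr : Module.Free (V.presheaf.stalk y) ((P.X i).presheaf.stalk y) :=
        Groth.Agent.Lib.Helper29.FPFree.free_stalk_of_isFinLocFree _ (hfree i) y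
      have : Module.Projective (V.presheaf.stalk y) ((P.X i).presheaf.stalk y) :=
        Module.Projective.of_free
      exact (IsProjective.iff_projective (Sy.obj (P.X i))).1 this
    have h3 := flat_opcycles_of_good Py F a b b₁ hproj
      (fun i hi => Sy.map_isZero (hab₁ i (Or.inr hi))) hF hFflat αy hαy
    have e' : Py.opcycles a ≅ Sy.obj (P.opcycles a) := (P.sc a).mapOpcyclesIso Sy
    exact (flatProp _).prop_of_iso e' h3
  have hM : FlatMod.IsFinLocFree (P.opcycles a) := isFinLocFree_of_flat_stalks _ hflat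
  -- the truncated complex
  have hE : DCoh.IsStrictlyPerfect (P.truncGE a) := by
    refine ⟨⟨a, max a b₁, fun i hi => ?_⟩, fun i => ?_⟩
    · rcases hi with hi | hi
      · exact (P.truncGE a).isZero_of_isStrictlyGE a i hi
      · have h1 : a < i := lt_of_le_of_lt (le_max_left _ _) hi
        have h2 : b₁ < i := lt_of_le_of_lt (le_max_right _ _) hi
        exact (hab₁ i (Or.inr h2)).of_iso (P.truncGEXIso a i h1)
    · rcases lt_trichotomy i a with h | h | h
      · exact isFinLocFree_of_isZero _ ((P.truncGE a).isZero_of_isStrictlyGE a i h)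
      · subst h
        exact isFinLocFree_of_iso (P.truncGEXIsoOpcycles i).symm hM
      · exact isFinLocFree_of_iso (P.truncGEXIso a i h).symm (hfree i)
  refine ⟨P.truncGE a, hE, fun i hi => (P.truncGE a).isZero_of_isStrictlyGE a i hi, ?_⟩
  -- the isomorphism
  obtain ⟨G, ⟨e⟩⟩ := exists_rep K
  obtain ⟨G', f, s, hs, hfac⟩ := left_fac (α ≫ e.inv)
  let σ : K ≅ Q.obj G' := e.symm ≪≫ asIso (Q.map s)
  have hf : Q.map f = α ≫ σ.hom := by
    have : Q.map f = (α ≫ e.inv) ≫ Q.map s := by rw [hfac]; simp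
    rw [this]
    simp [σ]
  have hgood : Good (a - 1) (Q.map f) := by
    rw [hf]
    exact good_comp_iso σ hα
  have hqi : ∀ i : ℤ, a ≤ i → QuasiIsoAt f i := fun i hi => by
    have h3 := hgood.1 i (by omega)
    rw [quasiIsoAt_iff_isIso_homologyMap]
    exact (NatIso.isIso_map_iff (homologyFunctorFactors _ i) f).1 h3
  have hq1 : QuasiIso (CochainComplex.truncGEMap f a) :=
    (CochainComplex.quasiIso_truncGEMap_iff f a).2 hqi
  have hG'ge : G'.IsGE a := by
    rw [← isGE_Q_obj_iff]
    exact (TStructure.t).isGE_of_iso σ a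
  have hq2 : QuasiIso (G'.πTruncGE a) := inferInstance
  have i1 : IsIso (Q.map (CochainComplex.truncGEMap f a)) := by
    rw [isIso_Q_map_iff_quasiIso]; exact hq1
  have i2 : IsIso (Q.map (G'.πTruncGE a)) := by
    rw [isIso_Q_map_iff_quasiIso]; exact hq2
  exact ⟨asIso (Q.map (CochainComplex.truncGEMap f a)) ≪≫ (asIso (Q.map (G'.πTruncGE a))).symm ≪≫
    σ.symm⟩

end Groth.Agent.Lib.Helper1.LocPerf
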