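import Mathlib
import Groth.Prelude.Def_CxOX
import Groth.Prelude.Def_DerSch
import Groth.Prelude.Def_DRing2
import Groth.Agent.Lib.Helper1.LocPerf3
import Groth.Agent.Lib.Helper2.HZDepth5
import Groth.Agent.Lib.Helper16.RS7

/-!
# Helper1 — LocPerf4: flatness and restriction to opens; stalkwise tor amplitude from flat models
-/

set_option autoImplicit false
universe u
open CategoryTheory CategoryTheory.Limits AlgebraicGeometry CategoryTheory.Pretriangulated

attribute [local instance] HasDerivedCategory.standard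

namespace Groth.Agent.Lib.Helper1.LocPerf

open Groth.Agent.Lib.Helper16.RS Groth.Agent.Lib.Helper16.PC DerivedCategory
  Groth.Agent.Lib.Helper1.LocPC Groth.Agent.Lib.Helper16.Stk Groth.Agent.Lib.Helper2.HZDepth5

/-- flatness along a semilinear equivalence over a ring isomorphism. -/
theorem flat_of_semilinear {R S : Type*} [CommRing R] [CommRing S] (ψ : R ≃+* S)
    {M' M : Type*} [AddCommGroup M'] [AddCommGroup M] [Module R M'] [Module S M]
    (h : M' ≃+ M) (hsmul : ∀ (r : R) (m : M'), h (r • m) = ψ r • h m) [Module.Flat S M] :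
    Module.Flat R M' := by
  letI : Algebra R S := ψ.toRingHom.toAlgebra
  letI : Module R M := Module.compHom M ψ.toRingHom
  haveI : IsScalarTower R S M := IsScalarTower.of_compHom R S M
  haveI : Module.Flat R S := by
    let e : S ≃ₗ[R] R :=
      { ψ.symm.toAddEquiv with
        map_smul' := fun r s => by
          change ψ.symm (ψ r * s) = r * ψ.symm s
          rw [map_mul, RingEquiv.symm_apply_apply] }
    exact Module.Flat.of_linearEquiv e
  haveI : Module.Flat R M := Module.Flat.trans R S M
  let e' : M' ≃ₗ[R] M := { h with map_smul' := fun r m => hsmul r m }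
  exact Module.Flat.of_linearEquiv e'

variable {X U : Scheme.{u}}

theorem isFlat_restrict (j : U ⟶ X) [IsOpenImmersion j] (M : X.Modules) (hM : FlatMod.IsFlat M) :
    FlatMod.IsFlat (M.restrict j) := by
  intro y
  haveI : Module.Flat (X.presheaf.stalk (j y)) (M.presheaf.stalk (j y)) := hM (j y)
  exact flat_of_semilinear (psi j y) (hh j M y).addCommGroupIsoToAddEquiv
    (fun r m => hh_smul j M y r m)

/-- a flat model placed in `[a, b]` gives stalkwise tor amplitude in `[a, b]`. -/
theorem stalk_torAmp_of_flat_rep (K : DCoh.D X) (F : CochainComplex X.Modules ℤ)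
    (e : Q.obj F ≅ K) (a b : ℤ) (hF : DCoh.VanishesOutside F a b)
    (hflat : ∀ i : ℤ, FlatMod.IsFlat (F.X i)) (y : X) :
    DRing.HasTorAmplitudeIn (X.presheaf.stalk y) a b
      ((DerSch.stalkFunctor X y).mapDerivedCategory.obj K) :=
  ⟨((DerSch.stalkFunctor X y).mapHomologicalComplex (ComplexShape.up ℤ)).obj F,
    fun i hi => (DerSch.stalkFunctor X y).map_isZero (hF i hi), fun i => hflat i y,
    ⟨((DerSch.stalkFunctor X y).mapDerivedCategoryFactors.app F).symm ≪≫
      (DerSch.stalkFunctor X y).mapDerivedCategory.mapIso e⟩⟩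

/-- restriction of a flat model. -/
theorem stalk_torAmp_of_flat_rep_restrict (K : DCoh.D X) (F : CochainComplex X.Modules ℤ)
    (e : Q.obj F ≅ K) (a b : ℤ) (hF : DCoh.VanishesOutside F a b)
    (hflat : ∀ i : ℤ, FlatMod.IsFlat (F.X i)) (j : U ⟶ X) [IsOpenImmersion j] (y : U) :
    DRing.HasTorAmplitudeIn (U.presheaf.stalk y) a b
      ((DerSch.stalkFunctor U y).mapDerivedCategory.obj ((RD j).obj K)) :=
  stalk_torAmp_of_flat_rep ((RD j).obj K) ((RCx j).obj F)
    ((RDQIso j F).symm ≪≫ (RD j).mapIso e) a b
    (fun i hi => (Scheme.Modules.restrictFunctor j).map_isZero (hF i hi))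
    (fun i => isFlat_restrict j (F.X i) (hflat i)) y

end Groth.Agent.Lib.Helper1.LocPerf
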