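import Mathlib
import Groth.Prelude.Def_CxOX
import Groth.Prelude.Def_DerSch
import Groth.Prelude.Def_DRing2
import Groth.Agent.Lib.Helper1.LocPerf4

/-!
# Helper1 — LocPerf5: the core statement with tor amplitude known at a single stalk

`PCat (a-1) K`, `K ∈ D^{≥ a}` and tor amplitude `[a, b]` of the stalk complex at ONE point `x`
give an open neighbourhood `W` of `x` over which `K` is represented by a strictly perfect complex
(the finitely presented module `coker (P^{a-1} → P^a)` is free at `x`, hence near `x`).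
-/

set_option autoImplicit false
universe u
open CategoryTheory CategoryTheory.Limits AlgebraicGeometry CategoryTheory.Pretriangulated

attribute [local instance] HasDerivedCategory.standard

namespace Groth.Agent.Lib.Helper1.LocPerf

open Groth.Agent.Lib.Helper16.RS Groth.Agent.Lib.Helper16.PC DerivedCategory
  Groth.Agent.Lib.Helper1.LocPC Groth.Agent.Lib.Helper16.Stk Groth.Agent.Lib.Helper16.FlatKer

section generic

universe w₁ w₂ v₁ v₂ u₁ u₂

variable {A : Type u₁} {B : Type u₂} [Category.{v₁} A] [Category.{v₂} B] [Abelian A] [Abelian B]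
  [HasDerivedCategory.{w₁} A] [HasDerivedCategory.{w₂} B] (G : A ⥤ B) [G.Additive]
  [PreservesFiniteLimits G] [PreservesFiniteColimits G]

lemma map_isGE (K : DerivedCategory A) (b : ℤ) (hK : K.IsGE b) :
    (G.mapDerivedCategory.obj K).IsGE b := by
  obtain ⟨L, hL, ⟨e⟩⟩ := K.exists_iso_Q_obj_of_isGE b
  have e' := G.mapDerivedCategory.mapIso e ≪≫ G.mapDerivedCategoryFactors.app L
  have : CochainComplex.IsStrictlyGE
      ((G.mapHomologicalComplex (ComplexShape.up ℤ)).obj L) b := by
    rw [CochainComplex.isStrictlyGE_iff]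
    intro i hi
    exact Functor.map_isZero G (L.isZero_of_isStrictlyGE b i hi)
  have h2 : (Q.obj ((G.mapHomologicalComplex (ComplexShape.up ℤ)).obj L)).IsGE b := by
    rw [isGE_Q_obj_iff]
    infer_instance
  haveI : (TStructure.t).IsGE ((G.mapHomologicalComplex (ComplexShape.up ℤ) ⋙ Q).obj L) b := h2
  exact (TStructure.t).isGE_of_iso e'.symm b

end generic

variable {V : Scheme.{u}}

/-- `coker (P^{a-1} → P^a)` is finitely presented for a strictly perfect complex. -/
theorem isFinitePresentation_opcycles (P : CochainComplex V.Modules ℤ)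
    (hfree : ∀ i : ℤ, FlatMod.IsFinLocFree (P.X i)) (a : ℤ) :
    SheafOfModules.IsFinitePresentation.{u} (R := V.ringCatSheaf) (P.opcycles a) := by
  haveI hfp1 : SheafOfModules.IsFinitePresentation.{u} (R := V.ringCatSheaf) (P.X (a - 1)) :=
    Groth.Agent.Lib.Helper29.FPFree.isFinitePresentation_of_isFinLocFree _ (hfree _)
  haveI hfp2 : SheafOfModules.IsFinitePresentation.{u} (R := V.ringCatSheaf) (P.X a) :=
    Groth.Agent.Lib.Helper29.FPFree.isFinitePresentation_of_isFinLocFree _ (hfree _)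
  have hfp3 := isFinitePresentation_cokernel (P.d (a - 1) a)
  have eo : cokernel (P.d (a - 1) a) ≅ P.opcycles a :=
    IsColimit.coconePointUniqueUpToIso (colimit.isColimit _)
      (P.opcyclesIsCokernel (a - 1) a (by simp))
  exact @isFinitePresentation_of_iso V _ _ eo hfp3

/-- flatness of the stalk of `coker (P^{a-1} → P^a)` at a point where the target has tor amplitude
in `[a, b]`. -/
theorem flat_stalk_opcycles (K : DCoh.D V) (a b : ℤ) (P : CochainComplex V.Modules ℤ)
    (α : Q.obj P ⟶ K) (hP : DCoh.IsStrictlyPerfect P) (hα : Good (a - 1) α) (y : V)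
    (h2 : DRing.HasTorAmplitudeIn (V.presheaf.stalk y) a b
      ((DerSch.stalkFunctor V y).mapDerivedCategory.obj K)) :
    Module.Flat (V.presheaf.stalk y) ((P.opcycles a).presheaf.stalk y) := by
  obtain ⟨⟨a₁, b₁, hab₁⟩, hfree⟩ := hP
  obtain ⟨F, hF, hFflat, ⟨e⟩⟩ := h2
  let Sy := DerSch.stalkFunctor V y
  let Py := (Sy.mapHomologicalComplex (ComplexShape.up ℤ)).obj P
  let αy : Q.obj Py ⟶ Q.obj F :=
    (Sy.mapDerivedCategoryFactors.app P).inv ≫ Sy.mapDerivedCategory.map α ≫ e.inv
  have hαy : Good (a - 1) αy :=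
    (good_of_isIso _ _).comp ((map_good Sy α hα).comp (good_of_isIso _ _))
  have hproj : ∀ i : ℤ, Projective (Py.X i) := by
    intro i
    have hfr : Module.Free (V.presheaf.stalk y) ((P.X i).presheaf.stalk y) :=
      Groth.Agent.Lib.Helper29.FPFree.free_stalk_of_isFinLocFree _ (hfree i) y
    have : Module.Projective (V.presheaf.stalk y) ((P.X i).presheaf.stalk y) :=
      Module.Projective.of_free
    exact (IsProjective.iff_projective (Sy.obj (P.X i))).1 this
  have h3 := flat_opcycles_of_good Py F a b b₁ hproj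
    (fun i hi => Sy.map_isZero (hab₁ i (Or.inr hi))) hF hFflat αy hαy
  have e' : Py.opcycles a ≅ Sy.obj (P.opcycles a) := (P.sc a).mapOpcyclesIso Sy
  exact (flatProp _).prop_of_iso e' h3

/-- if `coker (P^{a-1} → P^a)` is finite locally free, the truncation `τ_{≥ a} P` is strictly
perfect and represents `K`. -/
theorem exists_strictlyPerfect_of_opcycles (K : DCoh.D V) (a : ℤ) (P : CochainComplex V.Modules ℤ)
    (α : Q.obj P ⟶ K) (hP : DCoh.IsStrictlyPerfect P) (hα : Good (a - 1) α) (hKge : K.IsGE a)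
    (hM : FlatMod.IsFinLocFree (P.opcycles a)) :
    ∃ E : CochainComplex V.Modules ℤ, DCoh.IsStrictlyPerfect E ∧ Nonempty (Q.obj E ≅ K) := by
  obtain ⟨⟨a₁, b₁, hab₁⟩, hfree⟩ := hP
  have hE : DCoh.IsStrictlyPerfect (P.truncGE a) := by
    refine ⟨⟨a, max a b₁, fun i hi => ?_⟩, fun i => ?_⟩
    · rcases hi with hi | hi
      · exact (P.truncGE a).isZero_of_isStrictlyGE a i hi
      · have h1 : a < i := lt_of_le_of_lt (le_max_left _ _) hi
        have h2 : b₁ < i := lt_of_le_of_lt (le_max_right _ _) hi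
        exact (hab₁ i (Or.inr h2)).of_iso (P.truncGEXIso a i h1)
    · rcases lt_trichotomy i a with h | h | h
      · exact isFinLocFree_of_isZero _ ((P.truncGE a).isZero_of_isStrictlyGE a i h)
      · subst h
        exact isFinLocFree_of_iso (P.truncGEXIsoOpcycles i).symm hM
      · exact isFinLocFree_of_iso (P.truncGEXIso a i h).symm (hfree i)
  refine ⟨P.truncGE a, hE, ?_⟩
  obtain ⟨G, ⟨e⟩⟩ := exists_rep K
  obtain ⟨G', f, s, hs, hfac⟩ := left_fac (α ≫ e.inv)
  let σ : K ≅ Q.obj G' := e.symm ≪≫ asIso (Q.map s)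
  have hf : Q.map f = α ≫ σ.hom := by
    have : Q.map f = (α ≫ e.inv) ≫ Q.map s := by rw [hfac]; simp
    rw [this]
    simp [σ]
  have hgood : Good (a - 1) (Q.map f) := by
    rw [hf]
    exact good_comp_iso σ hα
  have hqi : ∀ i : ℤ, a ≤ i → QuasiIsoAt f i := fun i hi => by
    have h3 := hgood.1 i (by omega)
    rw [quasiIsoAt_iff_isIso_homologyMap]
    exact (NatIso.isIso_map_iff (homologyFunctorFactors _ i) f).1 h3
  have hq1 : QuasiIso (CochainComplex.truncGEMap f a) :=
    (CochainComplex.quasiIso_truncGEMap_iff f a).2 hqi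
  have hG'ge : G'.IsGE a := by
    rw [← isGE_Q_obj_iff]
    exact (TStructure.t).isGE_of_iso σ a
  have hq2 : QuasiIso (G'.πTruncGE a) := inferInstance
  have i1 : IsIso (Q.map (CochainComplex.truncGEMap f a)) := by
    rw [isIso_Q_map_iff_quasiIso]; exact hq1
  have i2 : IsIso (Q.map (G'.πTruncGE a)) := by
    rw [isIso_Q_map_iff_quasiIso]; exact hq2
  exact ⟨asIso (Q.map (CochainComplex.truncGEMap f a)) ≪≫ (asIso (Q.map (G'.πTruncGE a))).symm ≪≫
    σ.symm⟩

/-- a finitely presented module with a flat stalk at `x` is free over an open neighbourhood of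
`x`. -/
theorem exists_nhd_isFinLocFree_of_flat_stalk (M : V.Modules)
    [SheafOfModules.IsFinitePresentation.{u} (R := V.ringCatSheaf) M] (x : V)
    (hflat : Module.Flat (V.presheaf.stalk x) (M.presheaf.stalk x)) :
    ∃ W : V.Opens, x ∈ W ∧ FlatMod.IsFinLocFree (M.restrict W.ι) := by
  obtain ⟨U, hU, hxU, -⟩ := (TopologicalSpace.Opens.isBasis_iff_nbhd.1 V.isBasis_affineOpens)
    (show x ∈ (⊤ : V.Opens) from trivial)
  obtain ⟨g, n, τ, hxg, hτ⟩ := Groth.Agent.Lib.Helper29.FPFree.exists_isBasisOn_of_free_stalk M hU x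
    hxU (Groth.Agent.Lib.Helper29.FPFree.free_stalk_of_isFlatAt M x hflat)
  obtain ⟨e⟩ := hτ.nonempty_iso
  exact ⟨V.basicOpen g, hxg, isFinLocFree_of_iso e.symm (isFinLocFree_freeMod n)⟩

/-- the core statement with tor amplitude at one stalk. -/
theorem exists_nhd_strictlyPerfect_of_pc_of_stalk_torAmp (K : DCoh.D V) (a b : ℤ) (x : V)
    (h1 : PCat (a - 1) K) (hKge : K.IsGE a)
    (h2 : DRing.HasTorAmplitudeIn (V.presheaf.stalk x) a b
      ((DerSch.stalkFunctor V x).mapDerivedCategory.obj K)) :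
    ∃ (W : V.Opens) (E : CochainComplex (W : Scheme.{u}).Modules ℤ), x ∈ W ∧
      DCoh.IsStrictlyPerfect E ∧ Nonempty (Q.obj E ≅ (RD W.ι).obj K) := by
  obtain ⟨P, α, hP, hα⟩ := h1
  haveI := isFinitePresentation_opcycles P hP.2 a
  obtain ⟨W, hxW, hW⟩ := exists_nhd_isFinLocFree_of_flat_stalk (P.opcycles a) x
    (flat_stalk_opcycles K a b P α hP hα x h2)
  have e' : ((RCx W.ι).obj P).opcycles a ≅ (P.opcycles a).restrict W.ι :=
    (P.sc a).mapOpcyclesIso (Scheme.Modules.restrictFunctor W.ι)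
  obtain ⟨E, hE, hiso⟩ := exists_strictlyPerfect_of_opcycles ((RD W.ι).obj K) a ((RCx W.ι).obj P)
    ((RDQIso W.ι P).inv ≫ (RD W.ι).map α) (isStrictlyPerfect_RCx W.ι P hP)
    (good_iso_comp (RDQIso W.ι P).symm (good_RD W.ι α hα))
    (map_isGE (Scheme.Modules.restrictFunctor W.ι) K a hKge)
    (isFinLocFree_of_iso e'.symm hW)
  exact ⟨W, E, hxW, hE, hiso⟩

end Groth.Agent.Lib.Helper1.LocPerf
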