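import Mathlib
import Groth.Agent.Lib.Helper1.LocPerf5
import Groth.Agent.S0934

/-!
# Helper1 — LocFree1: finite locally free modules: locality, retracts, kernels of epimorphisms
-/

set_option autoImplicit false
universe u
open CategoryTheory CategoryTheory.Limits AlgebraicGeometry

namespace Groth.Agent.Lib.Helper1.LocFree

open Groth.Agent.Lib.Helper16.RS Groth.Agent.Lib.Helper1.LocPerf
  Groth.Agent.Lib.Helper29.FPDict Groth.Agent.Lib.Helper29.FPFree

variable {X U U' : Scheme.{u}}

/-- restriction along a factorization. -/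
noncomputable def restrictFacIso (j : U ⟶ X) [IsOpenImmersion j] (k : U' ⟶ U) [IsOpenImmersion k]
    (j' : U' ⟶ X) [IsOpenImmersion j'] (h : k ≫ j = j') (M : X.Modules) :
    (M.restrict j).restrict k ≅ M.restrict j' :=
  ((Scheme.Modules.restrictFunctorComp k j).app M).symm ≪≫
    (Scheme.Modules.restrictFunctorCongr h).app M

/-- being finite locally free is a local property. -/
theorem isFinLocFree_of_locally (M : X.Modules)
    (h : ∀ x : X, ∃ V : X.Opens, x ∈ V ∧ FlatMod.IsFinLocFree (M.restrict V.ι)) :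
    FlatMod.IsFinLocFree M := by
  intro x
  obtain ⟨V, hxV, hV⟩ := h x
  obtain ⟨W, n, hxW, ⟨e⟩⟩ := hV ⟨x, hxV⟩
  refine ⟨V.ι ''ᵁ W, n, ⟨⟨x, hxV⟩, hxW, rfl⟩, ⟨?_⟩⟩
  have hk : (V.ι.isoImage W).inv ≫ W.ι ≫ V.ι = (V.ι ''ᵁ W).ι := by simp
  exact (restrictFacIso (W.ι ≫ V.ι) (V.ι.isoImage W).inv (V.ι ''ᵁ W).ι hk M).symm ≪≫
    (Scheme.Modules.restrictFunctor (V.ι.isoImage W).inv).mapIso
      ((restrictFacIso V.ι W.ι (W.ι ≫ V.ι) rfl M).symm ≪≫ e) ≪≫
    restrictFreeModIso (V.ι.isoImage W).inv n

/-- a retract of a finitely presented module is finitely presented. -/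
theorem isFinitePresentation_of_retract {M N : X.Modules}
    [SheafOfModules.IsFinitePresentation.{u} (R := X.ringCatSheaf) N]
    (i : M ⟶ N) (r : N ⟶ M) (h : i ≫ r = 𝟙 M) :
    SheafOfModules.IsFinitePresentation.{u} (R := X.ringCatSheaf) M := by
  have w : (𝟙 N - r ≫ i) ≫ r = 0 := by
    rw [Preadditive.sub_comp, Category.id_comp, Category.assoc, h, Category.comp_id, sub_self]
  have hc : IsColimit (CokernelCofork.ofπ r w) :=
    CokernelCofork.IsColimit.ofπ _ _ (fun t ht => i ≫ t)
      (fun t ht => by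
        rw [Preadditive.sub_comp, Category.id_comp, sub_eq_zero] at ht
        rw [← Category.assoc, ← ht])
      (fun t ht m hm => by
        rw [← hm, ← Category.assoc, h, Category.id_comp])
  have e : cokernel (𝟙 N - r ≫ i) ≅ M :=
    (colimit.isColimit _).coconePointUniqueUpToIso hc
  have h1 : SheafOfModules.IsFinitePresentation.{u} (R := X.ringCatSheaf)
      (cokernel (𝟙 N - r ≫ i)) := isFinitePresentation_cokernel (𝟙 N - r ≫ i)
  exact @isFinitePresentation_of_iso _ _ _ e h1


/-- a retract of a finite locally free module is finite locally free. -/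
theorem isFinLocFree_of_retract {M N : X.Modules} (hN : FlatMod.IsFinLocFree N)
    (i : M ⟶ N) (r : N ⟶ M) (h : i ≫ r = 𝟙 M) : FlatMod.IsFinLocFree M := by
  haveI := isFinitePresentation_of_isFinLocFree N hN
  have h1 := isFinitePresentation_of_retract i r h
  refine @isFinLocFree_of_flat_stalks _ M h1 (fun x => ?_)
  haveI hflat : Module.Flat (X.presheaf.stalk x) ((DerSch.stalkFunctor X x).obj N) :=
    isFlat_of_isFinLocFree N hN x
  have hh : (DerSch.stalkFunctor X x).map i ≫ (DerSch.stalkFunctor X x).map r = 𝟙 _ := by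
    rw [← CategoryTheory.Functor.map_comp, h, CategoryTheory.Functor.map_id]
  exact Module.Flat.of_retract ((DerSch.stalkFunctor X x).map i).hom
    ((DerSch.stalkFunctor X x).map r).hom (by
      ext m
      exact ConcreteCategory.congr_hom hh m)

/-- the kernel of an epimorphism of finite locally free modules is finite locally free. -/
theorem isFinLocFree_kernel {E E'' : X.Modules} (p : E ⟶ E'') [Epi p]
    (hE : FlatMod.IsFinLocFree E) (hE'' : FlatMod.IsFinLocFree E'') :
    FlatMod.IsFinLocFree (kernel p) := by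
  apply isFinLocFree_of_locally
  intro x
  obtain ⟨V, s, hxV, hs⟩ := Groth.Agent.S0934.result p (𝟙 E'') hE'' x
  refine ⟨V, hxV, ?_⟩
  rw [CategoryTheory.Functor.map_id] at hs
  have e : (Scheme.Modules.restrictFunctor V.ι).obj (kernel p) ≅
      kernel ((Scheme.Modules.restrictFunctor V.ι).map p) :=
    PreservesKernel.iso (Scheme.Modules.restrictFunctor V.ι) p
  refine isFinLocFree_of_iso e.symm ?_
  refine isFinLocFree_of_retract (isFinLocFree_restrict V.ι E hE)
    (kernel.ι ((Scheme.Modules.restrictFunctor V.ι).map p))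
    (kernel.lift ((Scheme.Modules.restrictFunctor V.ι).map p)
      (𝟙 _ - (Scheme.Modules.restrictFunctor V.ι).map p ≫ s) ?_) ?_
  · rw [Preadditive.sub_comp, Category.id_comp, Category.assoc, hs, Category.comp_id, sub_self]
  · apply (cancel_mono (kernel.ι ((Scheme.Modules.restrictFunctor V.ι).map p))).1
    rw [Category.assoc, kernel.lift_ι, Preadditive.comp_sub, Category.comp_id, Category.id_comp,
      ← Category.assoc, kernel.condition, zero_comp, sub_zero]

end Groth.Agent.Lib.Helper1.LocFree
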