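import Groth.Agent.Lib.Helper1.RefHull6
import Groth.Agent.Lib.Helper12.SerreNormalC
import Groth.Agent.Lib.Helper21.DepthKit1
import Groth.Prelude.Def_Pi1

/-!
# The structure sheaf of a normal locally Noetherian scheme has the Hartogs property (helper1)

Generalises `RefHull6` from regular to normal schemes (via helper12's `min_two_le_depth`).
-/

set_option autoImplicit false
universe u
open CategoryTheory CategoryTheory.Limits AlgebraicGeometry Opposite TopologicalSpace
open RefHull

namespace Groth.Agent.Lib.Helper1.RefHullLib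

open Groth.Agent.Lib.Helper28.QCohLoc Groth.Agent.Lib.Helper29.QCohStalk

/-- a normal Noetherian local domain of dimension `≥ 2` has a regular sequence of length two in its
maximal ideal. -/
theorem exists_weaklyRegular_pair_of_normal (A : Type u) [CommRing A] [IsDomain A] [IsLocalRing A]
    [IsNoetherianRing A] [IsIntegrallyClosed A] (h2 : (2 : WithBot ℕ∞) ≤ ringKrullDim A) :
    ∃ a b : A, a ∈ IsLocalRing.maximalIdeal A ∧ b ∈ IsLocalRing.maximalIdeal A ∧
      RingTheory.Sequence.IsWeaklyRegular A [a, b] := by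
  have h1 := Groth.Agent.Lib.Helper12.SerreNormal.min_two_le_depth A
  have h3 : ((2 : ℕ) : WithBot ℕ∞) ≤ ((LocCoh.depth A A : ℕ∞) : WithBot ℕ∞) := by
    refine le_trans (le_min le_rfl ?_) h1
    exact_mod_cast h2
  have h4 : ((2 : ℕ) : ℕ∞) ≤ LocCoh.depth A A := WithBot.coe_le_coe.1 h3
  obtain ⟨rs, hlen, hmem, hreg⟩ :=
    (Groth.Agent.Lib.Helper21.DepthKit.natCast_le_depth_iff (A := A) (M := A) 2).1 h4
  match rs, hlen, hmem, hreg with
  | [a, b], _, hmem, hreg => exact ⟨a, b, hmem a (by simp), hmem b (by simp), hreg⟩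

variable {X : Scheme.{u}}

/-- Hartogs for the structure sheaf on an affine open of a normal locally Noetherian scheme. -/
theorem bijective_resO_of_codimTwo_of_normal [IsLocallyNoetherian X]
    (hX : Pi1.IsNormalScheme X) (U V : X.Opens) (hVU : V ≤ U)
    (hU : IsAffineOpen U) (hc : CodimTwo U V) : Function.Bijective (resO hVU) := by
  let X' : Scheme.{u} := U
  let U₀ : X'.Opens := U.ι ⁻¹ᵁ V
  have hZ : ∀ z : X', z ∉ U₀ → ∃ a b : X'.presheaf.stalk z,
      a ∈ IsLocalRing.maximalIdeal (X'.presheaf.stalk z) ∧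
      b ∈ IsLocalRing.maximalIdeal (X'.presheaf.stalk z) ∧
      RingTheory.Sequence.IsWeaklyRegular (X'.presheaf.stalk z) [a, b] := by
    intro z hz
    let e : X'.presheaf.stalk z ≃+* X.presheaf.stalk z.1 := (U.stalkIso z).commRingCatIsoToRingEquiv
    haveI := (hX z.1).1
    haveI := (hX z.1).2
    haveI : IsDomain (X'.presheaf.stalk z) := e.toMulEquiv.isDomain (X.presheaf.stalk z.1)
    haveI : IsIntegrallyClosed (X'.presheaf.stalk z) := IsIntegrallyClosed.of_equiv e.symm
    apply exists_weaklyRegular_pair_of_normal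
    rw [ringKrullDim_eq_of_ringEquiv e]
    exact hc z.1 z.2 hz
  haveI : IsAffine X' := hU
  have htop : IsAffineOpen (⊤ : X'.Opens) := isAffineOpen_top X'
  haveI : IsNoetherianRing Γ(X, U) := IsLocallyNoetherian.component_noetherian ⟨U, hU⟩
  haveI : NoetherianSpace X' := noetherianSpace_of_isAffineOpen U hU
  have hW : IsCompact (U₀ : Set X') := NoetherianSpace.isCompact _
  have hinj := Groth.Agent.Lib.Helper24.Hartogs.hartogs_injective X' U₀
    (fun z hz => by
      obtain ⟨a, b, ha, -, hab⟩ := hZ z hz
      rw [RingTheory.Sequence.isWeaklyRegular_cons_iff] at hab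
      exact ⟨a, ha, hab.1⟩) htop (le_top : U₀ ≤ ⊤) inf_le_right
  have hsurj := Groth.Agent.Lib.Helper24.Hartogs.hartogs_surjective X' U₀ hZ htop (le_top : U₀ ≤ ⊤)
    inf_le_right hW
  have hA : U.ι ''ᵁ (⊤ : X'.Opens) = U := U.ι_image_top
  have hB : U.ι ''ᵁ U₀ = V := by
    rw [Scheme.Hom.image_preimage_eq_opensRange_inf, Scheme.Opens.opensRange_ι]
    exact inf_eq_right.2 hVU
  have hAB : U.ι ''ᵁ U₀ ≤ U.ι ''ᵁ (⊤ : X'.Opens) := U.ι.image_mono le_top
  have hmid : Function.Bijective (resO hAB) := ⟨hinj, hsurj⟩
  have hfac : (resO hVU : Γ(X, U) → Γ(X, V)) = resO hB.ge ∘ resO hAB ∘ resO hA.le := by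
    funext r
    simp only [Function.comp_apply]
    rw [resO_resO, resO_resO]
  rw [hfac]
  exact (bijective_resO_of_eq hB.symm).comp (hmid.comp (bijective_resO_of_eq hA))

/-- the structure module of a normal locally Noetherian scheme is normal. -/
theorem isNormalMod_structureModule_of_normal [IsLocallyNoetherian X]
    (hX : Pi1.IsNormalScheme X) : IsNormalMod (Coh.structureModule X) :=
  isNormalMod_of_affine _ fun U V hVU hU hc => bijective_resO_of_codimTwo_of_normal hX U V hVU hU hc

/-- the reflexive hull of a coherent module on a normal locally Noetherian scheme is normal. -/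
theorem isNormalMod_ddual_of_normal [IsLocallyNoetherian X]
    (hX : Pi1.IsNormalScheme X) (F : X.Modules) (hF : Coh.IsCoh F) :
    IsNormalMod (ddual F) := by
  haveI : SheafOfModules.IsFinitePresentation.{u} (R := X.ringCatSheaf) (dual F) :=
    Groth.Agent.S16240.isFinitePresentation_of_isCoh _
      (isCoh_homSh F (Coh.structureModule X) hF (isCoh_structureModule X))
  exact isNormalMod_homSh (dual F) (Coh.structureModule X) (isNormalMod_structureModule_of_normal hX)

/-- a reflexive coherent module on a normal locally Noetherian scheme is normal. -/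
theorem isNormalMod_of_isReflexive_of_normal [IsLocallyNoetherian X]
    (hX : Pi1.IsNormalScheme X) (F : X.Modules) (hF : Coh.IsCoh F)
    (hr : IsReflexive F) : IsNormalMod F := by
  haveI : IsIso (bidualMap F) := hr
  exact (isNormalMod_ddual_of_normal hX F hF).of_iso (asIso (bidualMap F)).symm

end Groth.Agent.Lib.Helper1.RefHullLib
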