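import Mathlib
import Groth.Agent.Lib.Helper8.DSingleHom
import Groth.Agent.Lib.Helper8.DCoprod3
import Groth.Agent.Lib.Helper8.Compact2

/-!
# Helper1 — DCompactSingle: a projective object whose `Hom` commutes with coproducts is compact
in the derived category (placed in degree `0`)
-/

set_option autoImplicit false
set_option linter.unusedSectionVars false
universe w w' v u
open CategoryTheory CategoryTheory.Limits HomologicalComplex

namespace Groth.Agent.Lib.Helper1.DCompactSingle

open Groth.Agent.Lib.Helper8.DSingleHom Groth.Agent.Lib.Helper8 DerivedCategory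

variable {A : Type u} [Category.{v} A] [Abelian A] [HasDerivedCategory.{w} A]

section Theta

variable (P : A) [Projective P]

lemma θ_zero {L : DerivedCategory A} : θ (0 : Q.obj (sg P) ⟶ L) = 0 := by
  rw [θ, Functor.map_zero, comp_zero]

lemma θ_sub {L : DerivedCategory A} (φ ψ : Q.obj (sg P) ⟶ L) : θ (φ - ψ) = θ φ - θ ψ := by
  simp only [θ, Functor.map_sub, Preadditive.comp_sub]

lemma sgMap_id : sgMap (𝟙 P) = 𝟙 (sg P) := (HomologicalComplex.single A _ 0).map_id P

lemma sgMap_comp {P P' P'' : A} (p : P ⟶ P') (q : P' ⟶ P'') :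
    sgMap (p ≫ q) = sgMap p ≫ sgMap q := (HomologicalComplex.single A _ 0).map_comp p q

/-- for `P` projective, `Hom_D(P[0], L) → Hom(P, H⁰ L)` is injective -/
lemma θ_injective (L : DerivedCategory A) :
    Function.Injective (θ : (Q.obj (sg P) ⟶ L) → (P ⟶ (homologyFunctor A 0).obj L)) := by
  intro φ ψ h
  have h0 : θ (φ - ψ) = 0 := by rw [θ_sub, h, sub_self]
  obtain ⟨P', π, hπ, hz⟩ := exists_epi_comp_eq_zero (φ - ψ) h0
  let s : P ⟶ P' := Projective.factorThru (𝟙 P) π
  have hs : s ≫ π = 𝟙 P := Projective.factorThru_comp _ _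
  have : φ - ψ = 0 := by
    have e : Q.map (sgMap s) ≫ Q.map (sgMap π) = 𝟙 _ := by
      rw [← Functor.map_comp, ← sgMap_comp, hs, sgMap_id, CategoryTheory.Functor.map_id]
    calc φ - ψ = (Q.map (sgMap s) ≫ Q.map (sgMap π)) ≫ (φ - ψ) := by rw [e, Category.id_comp]
      _ = 0 := by rw [Category.assoc, hz, comp_zero]
  exact sub_eq_zero.1 this

/-- for `P` projective, `Hom_D(P[0], L) → Hom(P, H⁰ L)` is surjective -/
lemma θ_surjective (L : DerivedCategory A) :
    Function.Surjective (θ : (Q.obj (sg P) ⟶ L) → (P ⟶ (homologyFunctor A 0).obj L)) := by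
  intro t
  obtain ⟨P', π, hπ, φ, hφ⟩ := exists_epi_lift t
  let s : P ⟶ P' := Projective.factorThru (𝟙 P) π
  have hs : s ≫ π = 𝟙 P := Projective.factorThru_comp _ _
  refine ⟨Q.map (sgMap s) ≫ φ, ?_⟩
  rw [θ_precomp, hφ, ← Category.assoc, hs, Category.id_comp]

end Theta

section Coprod

variable {J : Type w'} [HasColimitsOfShape (Discrete J) A]
  [HasExactColimitsOfShape (Discrete J) A]

/-- the homology functors on `D(A)` preserve coproducts (AB4). -/
lemma preservesCoprod_homologyFunctor (m : ℤ) :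
    PreservesColimitsOfShape (Discrete J) (homologyFunctor A m) := by
  constructor
  intro F
  let R : J → CochainComplex A ℤ := fun n => Q.objPreimage (F.obj ⟨n⟩)
  let e : Discrete.functor (fun n => Q.obj (R n)) ≅ F :=
    Discrete.natIso (fun ⟨n⟩ => Q.objObjPreimageIso _)
  suffices PreservesColimit (Discrete.functor (fun n => Q.obj (R n))) (homologyFunctor A m) from
    preservesColimit_of_iso_diagram _ e
  apply preservesColimit_of_preserves_colimit_cocone (DCoprod3.isColimitCofanQ R)
  let Hcx := HomologicalComplex.homologyFunctor A (ComplexShape.up ℤ) m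
  let ν : Q ⋙ homologyFunctor A m ≅ Hcx := homologyFunctorFactors A m
  haveI : PreservesColimitsOfShape (Discrete J) Hcx := inferInstance
  let c₁ := Hcx.mapCocone (colimit.cocone (Discrete.functor R))
  have hc₁ : IsColimit c₁ := isColimitOfPreserves Hcx (colimit.isColimit _)
  let α : (Discrete.functor (fun n => Q.obj (R n)) ⋙ homologyFunctor A m) ≅
      (Discrete.functor R ⋙ Hcx) := Discrete.natIso (fun ⟨n⟩ => ν.app (R n))
  refine IsColimit.ofIsoColimit ((IsColimit.precomposeHomEquiv α c₁).symm hc₁)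
    (Cocone.ext (ν.app (∐ R)).symm ?_)
  rintro ⟨n⟩
  change (ν.hom.app (R n) ≫ Hcx.map (Sigma.ι R n)) ≫ ν.inv.app (∐ R) =
    (homologyFunctor A m).map (Q.map (Sigma.ι R n))
  rw [← ν.hom.naturality (Sigma.ι R n), Category.assoc, Iso.hom_inv_id_app, Category.comp_id]
  rfl

end Coprod

section Compact

open Groth.Agent.Lib.Helper8.Compact

variable (P : A) [Projective P] [HasCoproducts.{w} (DerivedCategory A)]
  [∀ κ : Type w, HasColimitsOfShape (Discrete κ) A]
  [∀ κ : Type w, HasExactColimitsOfShape (Discrete κ) A]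

/-- a projective object `P` whose maps into coproducts are finite sums of maps into summands is
compact in the derived category. -/
theorem isCompactObject_of_projective
    (hP : ∀ (κ : Type w) (Y : κ → A) (c : Cofan Y) (_ : IsColimit c) (g : P ⟶ c.pt),
      ∃ (T : Finset κ) (a : ∀ i, P ⟶ Y i), g = ∑ i ∈ T, a i ≫ c.inj i) :
    CohDer.IsCompactObject (Q.obj (sg P)) := by
  classical
  intro κ X
  refine ⟨homSumToHomCoprod_injective _ X, fun φ => ?_⟩
  suffices h : ∃ S : Finset κ, φ ≫ cS X S = 0 by
    obtain ⟨S, hS⟩ := h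
    exact ⟨_, (homSumToHomCoprod_sum _ X φ S).trans (eq_comp_eS_of_comp_cS_eq_zero X φ S hS)⟩
  let H := homologyFunctor A 0
  haveI : PreservesColimitsOfShape (Discrete κ) H := preservesCoprod_homologyFunctor 0
  let c : Cofan (fun j => H.obj (X j)) := Cofan.mk (H.obj (∐ X)) (fun j => H.map (Sigma.ι X j))
  have hc : IsColimit c :=
    (isColimitMapCoconeCofanMkEquiv H X (Sigma.ι X)) (isColimitOfPreserves H (coproductIsCoproduct X))
  obtain ⟨T, a, ha⟩ := hP κ _ c hc (θ φ)
  refine ⟨T, ?_⟩
  apply θ_injective P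
  rw [θ_zero, θ_comp, ha, Preadditive.sum_comp]
  refine Finset.sum_eq_zero (fun i hi => ?_)
  have : c.inj i = H.map (Sigma.ι X i) := rfl
  rw [Category.assoc, this, ← H.map_comp, ι_cS, if_pos hi, H.map_zero, comp_zero]

end Compact

end Groth.Agent.Lib.Helper1.DCompactSingle
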