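import Groth.Agent.Lib.Helper1.ClosedAlong2
import Groth.Agent.Lib.Helper16.DualSchGor3

/-!
# Transfer of reflexivity of stalks along restriction to an open subscheme (helper1)
-/

set_option autoImplicit false
universe u
open CategoryTheory CategoryTheory.Limits AlgebraicGeometry Opposite TopologicalSpace TensorProduct
open RefHull

namespace Groth.Agent.Lib.Helper1.ClosedAlong

open Groth.Agent.Lib.Helper28.QCohLoc Groth.Agent.Lib.Helper29.QCohStalk
open Groth.Agent.S16485 Groth.Agent.Lib.Helper1.RefHullLib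

section Alg

variable {R S M Y : Type*} [CommRing R] [CommRing S] [AddCommGroup M] [Module R M]
  [AddCommGroup Y] [Module S Y]

/-- reflexivity is transported along a semilinear isomorphism over a ring isomorphism -/
theorem isReflexive_of_semilinear (φ : R ≃+* S) (e : M ≃+ Y)
    (he : ∀ (a : R) (x : M), e (a • x) = φ a • e x) (h : Module.IsReflexive R M) :
    Module.IsReflexive S Y := by
  have he' : ∀ (s : S) (y : Y), e.symm (s • y) = φ.symm s • e.symm y := by
    intro s y
    apply e.injective
    rw [he, e.apply_symm_apply, φ.apply_symm_apply, e.apply_symm_apply]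
  -- transport of duals
  let Φ : Module.Dual R M → Module.Dual S Y := fun f =>
    { toFun := fun y => φ (f (e.symm y))
      map_add' := fun y₁ y₂ => by simp
      map_smul' := fun s y => by
        simp only [he', map_smul, smul_eq_mul, map_mul, RingEquiv.apply_symm_apply,
          RingHom.id_apply] }
  let Ψ : Module.Dual S Y → Module.Dual R M := fun g =>
    { toFun := fun m => φ.symm (g (e m))
      map_add' := fun y₁ y₂ => by simp
      map_smul' := fun s y => by
        simp only [he, map_smul, smul_eq_mul, map_mul, RingEquiv.symm_apply_apply,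
          RingHom.id_apply] }
  have hΦΨ : ∀ g, Φ (Ψ g) = g := by
    intro g
    ext y
    simp [Φ, Ψ]
  have hΨΦ : ∀ f, Ψ (Φ f) = f := by
    intro f
    ext y
    simp [Φ, Ψ]
  have hΨadd : ∀ g₁ g₂, Ψ (g₁ + g₂) = Ψ g₁ + Ψ g₂ := by
    intro g₁ g₂
    ext m
    simp [Ψ]
  have hΨsmul : ∀ (s : S) g, Ψ (s • g) = φ.symm s • Ψ g := by
    intro s g
    ext m
    simp [Ψ]
  have hΦadd : ∀ f₁ f₂, Φ (f₁ + f₂) = Φ f₁ + Φ f₂ := by
    intro f₁ f₂
    ext m
    simp [Φ]
  have hΦsmul : ∀ (r : R) f, Φ (r • f) = φ r • Φ f := by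
    intro r f
    ext m
    simp [Φ]
  have hb := h.bijective_dual_eval'
  constructor
  constructor
  · intro y₁ y₂ hy
    apply e.symm.injective
    apply hb.1
    ext f
    have := LinearMap.congr_fun hy (Φ f)
    simp only [Module.Dual.eval_apply] at this ⊢
    exact φ.injective this
  · intro G
    -- `G : Dual S (Dual S Y)`; pull back to `Dual R (Dual R M)`
    let F : Module.Dual R (Module.Dual R M) :=
      { toFun := fun f => φ.symm (G (Φ f))
        map_add' := fun f₁ f₂ => by rw [hΦadd, map_add, map_add]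
        map_smul' := fun r f => by
          rw [hΦsmul, map_smul, smul_eq_mul, map_mul, RingEquiv.symm_apply_apply]
          rfl }
    obtain ⟨m, hm⟩ := hb.2 F
    refine ⟨e m, ?_⟩
    ext g
    have h1 := LinearMap.congr_fun hm (Ψ g)
    simp only [Module.Dual.eval_apply] at h1 ⊢
    have h2 : (Ψ g) m = φ.symm (g (e m)) := rfl
    have h3 : F (Ψ g) = φ.symm (G (Φ (Ψ g))) := rfl
    rw [h2, h3, hΦΨ] at h1
    exact φ.symm.injective h1

theorem isReflexive_semilinear_iff (φ : R ≃+* S) (e : M ≃+ Y)
    (he : ∀ (a : R) (x : M), e (a • x) = φ a • e x) :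
    Module.IsReflexive R M ↔ Module.IsReflexive S Y := by
  refine ⟨isReflexive_of_semilinear φ e he, isReflexive_of_semilinear φ.symm e.symm ?_⟩
  intro s y
  apply e.injective
  rw [he, e.apply_symm_apply, φ.apply_symm_apply, e.apply_symm_apply]

/-- transfer of reflexivity along a bijective base change -/
theorem isReflexive_tensor_iff {B C : Type u} [CommRing B] [CommRing C] [Algebra B C]
    (hb : Function.Bijective (algebraMap B C)) (N : Type u) [AddCommGroup N] [Module B N] :
    Module.IsReflexive C (C ⊗[B] N) ↔ Module.IsReflexive B N := by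
  obtain ⟨e0, he0⟩ := Groth.Agent.Lib.Helper16.DualS2.exists_semilinear_tensor hb N
  exact isReflexive_semilinear_iff (RingEquiv.ofBijective _ hb).symm e0 he0

end Alg

section Restrict

open Groth.Agent.Lib.Helper16 Groth.Agent.Lib.Helper16.Stk

variable {X U : Scheme.{u}} (j : U ⟶ X) [IsOpenImmersion j]

/-- stalks of a restriction to an open subscheme: reflexivity -/
theorem isReflexive_stalk_restrict_iff (M : X.Modules) (z : U) :
    Module.IsReflexive (U.presheaf.stalk z)
        (((Scheme.Modules.restrictFunctor j).obj M).presheaf.stalk z) ↔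
      Module.IsReflexive (X.presheaf.stalk (j z)) (M.presheaf.stalk (j z)) := by
  let e : (stk z).obj ((Scheme.Modules.restrictFunctor j).obj M) ≅
      (ModuleCat.extendScalars.{u, u, u} (φs j z)).obj ((stk (j z)).obj M) :=
    (stk z).mapIso ((Scheme.Modules.restrictFunctorIsoPullback j).app M) ≪≫
      (pullbackStkIso j z).app M
  letI : Algebra (X.presheaf.stalk (j z)) (U.presheaf.stalk z) := (φs j z).toAlgebra
  have hb : Function.Bijective (algebraMap (X.presheaf.stalk (j z)) (U.presheaf.stalk z)) :=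
    PerfFib.bijective_φs j z
  have h2 := isReflexive_tensor_iff hb (M.presheaf.stalk (j z))
  let l : ((Scheme.Modules.restrictFunctor j).obj M).presheaf.stalk z ≃ₗ[U.presheaf.stalk z]
      (U.presheaf.stalk z) ⊗[X.presheaf.stalk (j z)] (M.presheaf.stalk (j z)) := e.toLinearEquiv
  refine Iff.trans ⟨?_, ?_⟩ h2
  · intro h
    exact Module.equiv l
  · intro h
    exact Module.equiv l.symm

end Restrict

variable {X : Scheme.{u}}

/-- a morphism which is bijective on sections over all opens inside `U` is bijective on stalks at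
points of `U`. -/
theorem bijective_stalkMapₗ_of_bijective_app {F G : X.Modules} (φ : F ⟶ G) (U : X.Opens)
    (h : ∀ T : X.Opens, T ≤ U → Function.Bijective (φ.app T)) (z : X) (hz : z ∈ U) :
    Function.Bijective (stalkMapₗ φ z) := by
  constructor
  · rw [injective_iff_map_eq_zero]
    intro v hv
    obtain ⟨T₀, hzT₀, s₀, rfl⟩ := TopCat.Presheaf.exists_germ_eq F.presheaf v
    -- shrink to `T ≤ U`
    let T : X.Opens := T₀ ⊓ U
    have hzT : z ∈ T := ⟨hzT₀, hz⟩
    have hTU : T ≤ U := inf_le_right
    let s : Γ(F, T) := res F (inf_le_left : T ≤ T₀) s₀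
    have hs : gm F T z hzT s = gm F T₀ z hzT₀ s₀ := gm_res F inf_le_left z hzT s₀
    change stalkMapₗ φ z (gm F T₀ z hzT₀ s₀) = 0 at hv
    change gm F T₀ z hzT₀ s₀ = 0
    rw [← hs] at hv ⊢
    rw [stalkMapₗ_germ] at hv
    obtain ⟨T', hzT', hT'T, h0⟩ : ∃ (T' : X.Opens) (_ : z ∈ T') (hT'T : T' ≤ T),
        res G hT'T (φ.app T s) = 0 := by
      have h00 : gm G T z hzT (φ.app T s) = gm G T z hzT 0 := by rw [gm_zero]; exact hv
      obtain ⟨T', hzT', i1, i2, hi⟩ := TopCat.Presheaf.germ_eq G.presheaf z hzT hzT _ _ h00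
      refine ⟨T', hzT', i1.le, ?_⟩
      have : res G i1.le (φ.app T s) = res G i2.le 0 := hi
      rw [this, res_zero]
    have h1 : φ.app T' (res F hT'T s) = 0 := by
      rw [Groth.Agent.Lib.Helper28.QCohLoc.app_res φ hT'T s]
      exact h0
    have h2 : res F hT'T s = 0 := by
      apply (h T' (hT'T.trans hTU)).1
      rw [h1, map_zero]
    rw [← gm_res F hT'T z hzT' s, h2, gm_zero]
  · intro w
    obtain ⟨T₀, hzT₀, t₀, rfl⟩ := TopCat.Presheaf.exists_germ_eq G.presheaf w
    let T : X.Opens := T₀ ⊓ U
    have hzT : z ∈ T := ⟨hzT₀, hz⟩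
    have hTU : T ≤ U := inf_le_right
    obtain ⟨s, hs⟩ := (h T hTU).2 (res G (inf_le_left : T ≤ T₀) t₀)
    refine ⟨gm F T z hzT s, ?_⟩
    rw [stalkMapₗ_germ, hs]
    exact gm_res G inf_le_left z hzT t₀

end Groth.Agent.Lib.Helper1.ClosedAlong
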