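import Groth.Agent.Lib.Helper1.ClosedAlong3
import Groth.Agent.Lib.Helper17.FTExt2
import Groth.Agent.Lib.Helper29.QCohExact

/-!
# Finiteness of a quasi-coherent module closed along `U` and coherent reflexive on `U` (helper1)
-/

set_option autoImplicit false
universe u
open CategoryTheory CategoryTheory.Limits AlgebraicGeometry Opposite TopologicalSpace TensorProduct
open RefHull

namespace Groth.Agent.Lib.Helper1.ClosedAlong

open Groth.Agent.Lib.Helper28.QCohLoc Groth.Agent.Lib.Helper29.QCohStalk
open Groth.Agent.S16485 Groth.Agent.Lib.Helper1.RefHullLib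

variable {Y : Scheme.{u}}

theorem app_smul' {F G : Y.Modules} (φ : F ⟶ G) (T : Y.Opens) (r : Γ(Y, T)) (m : Γ(F, T)) :
    φ.app T (r • m) = r • φ.app T m :=
  Scheme.Modules.Hom.app_smul φ r m

theorem app_add' {F G : Y.Modules} (φ : F ⟶ G) (T : Y.Opens) (m m' : Γ(F, T)) :
    φ.app T (m + m') = φ.app T m + φ.app T m' :=
  map_add _ _ _

theorem res_add' (M : Y.Modules) {U V : Y.Opens} (h : V ≤ U) (x y : Γ(M, U)) :
    res M h (x + y) = res M h x + res M h y :=
  map_add _ _ _

/-- **Theorem B**: on an integral Noetherian scheme whose structure sheaf is closed along `U`, a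
quasi-coherent module which is closed along `U`, has finitely generated sections over the affine
opens of `U` and reflexive stalks at the points of `U` has finitely generated sections over every
affine open. -/
theorem finite_sections_of_isClosedAlong [IsIntegral Y] [IsNoetherian Y] (U : Y.Opens)
    (hO : IsClosedAlong U (Coh.structureModule Y)) (P : Y.Modules) [P.IsQuasicoherent]
    (hP : IsClosedAlong U P)
    (hfin : ∀ T : Y.Opens, IsAffineOpen T → T ≤ U → Module.Finite Γ(Y, T) Γ(P, T))
    (hrefl : ∀ z : Y, z ∈ U → Module.IsReflexive (Y.presheaf.stalk z) (P.presheaf.stalk z))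
    (V : Y.Opens) (hV : IsAffineOpen V) : Module.Finite Γ(Y, V) Γ(P, V) := by
  have hUc : IsCompact (U : Set Y) := NoetherianSpace.isCompact _
  obtain ⟨s, hs, e⟩ := (isCompact_iff_finite_and_eq_biUnion_affineOpens (U := (⊤ : Y.Opens))).1
    isCompact_univ
  obtain ⟨H', κ, hmono, hq, hsurj, hfin'⟩ :=
    Groth.Agent.Lib.Helper17.FTExt.exists_ft_sub P U hUc hfin hs.toFinset
  haveI := hq
  haveI := hmono
  have htop : U ⊔ ⨆ a ∈ hs.toFinset, (a : Y.Opens) = ⊤ := by
    rw [eq_top_iff, e]
    refine le_sup_of_le_right ?_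
    exact iSup₂_le fun a ha => le_iSup₂_of_le a (hs.mem_toFinset.2 ha) le_rfl
  have hft : SheafOfModules.IsFiniteType.{u} (R := Y.ringCatSheaf) H' :=
    Groth.Agent.Lib.Helper17.FinTypeConv.isFiniteType_of_forall_finite_sections H'
      fun T => hfin' T.1 T.2 (by rw [htop]; exact le_top)
  have hH' : Coh.IsCoh H' := ⟨hq, hft⟩
  have hD : Coh.IsCoh (ddual H') :=
    isCoh_homSh _ _ (isCoh_homSh H' (Coh.structureModule Y) hH' (isCoh_structureModule Y))
      (isCoh_structureModule Y)
  have hDcl : IsClosedAlong U (ddual H') := isClosedAlong_ddual U hO H' hH'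
  have hκ : ∀ T : Y.Opens, T ≤ U → Function.Bijective (κ.app T) := fun T hT =>
    ⟨Groth.Agent.Lib.Helper29.QCohStalk.injective_app_of_mono κ hmono T, hsurj T hT⟩
  have hbd : ∀ T : Y.Opens, T ≤ U → Function.Bijective ((bidualMap H').app T) := by
    intro T hT
    apply bijective_app_of_stalkMapₗ
    intro z hz
    rw [bijective_stalkMapₗ_bidualMap_iff H' hH' z]
    have hk := bijective_stalkMapₗ_of_bijective_app κ U hκ z (hT hz)
    haveI := hrefl z (hT hz)
    show Module.IsReflexive (Y.presheaf.stalk z) (H'.presheaf.stalk z)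
    exact Module.equiv (LinearEquiv.ofBijective (stalkMapₗ κ z) hk).symm
  -- the chain of bijections
  haveI : (ddual H').IsQuasicoherent := hD.1
  haveI : SheafOfModules.IsFiniteType.{u} (R := Y.ringCatSheaf) (ddual H') := hD.2
  haveI hDfin : Module.Finite Γ(Y, V) Γ(ddual H', V) :=
    Groth.Agent.Lib.Helper28.FinType.finite_of_isAffineOpen (ddual H') hV
  have hT : V ⊓ U ≤ U := inf_le_right
  let eD := Equiv.ofBijective _ (hDcl V)
  let eP := Equiv.ofBijective _ (hP V)
  let eb := Equiv.ofBijective _ (hbd (V ⊓ U) hT)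
  let ek := Equiv.ofBijective _ (hκ (V ⊓ U) hT)
  have eD_apply : ∀ d, eD d = res (ddual H') inf_le_left d := fun d => rfl
  have eP_apply : ∀ p, eP p = res P inf_le_left p := fun p => rfl
  have eb_apply : ∀ h, eb h = (bidualMap H').app (V ⊓ U) h := fun h => rfl
  have ek_apply : ∀ h, ek h = κ.app (V ⊓ U) h := fun h => rfl
  have eb_symm_add : ∀ x y, eb.symm (x + y) = eb.symm x + eb.symm y := by
    intro x y
    apply eb.injective
    rw [eb.apply_symm_apply, eb_apply, app_add', ← eb_apply, ← eb_apply, eb.apply_symm_apply,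
      eb.apply_symm_apply]
  have eb_symm_smul : ∀ (r : Γ(Y, V ⊓ U)) x, eb.symm (r • x) = r • eb.symm x := by
    intro r x
    apply eb.injective
    rw [eb.apply_symm_apply, eb_apply, app_smul', ← eb_apply, eb.apply_symm_apply]
  have eP_symm_add : ∀ x y, eP.symm (x + y) = eP.symm x + eP.symm y := by
    intro x y
    apply eP.injective
    rw [eP.apply_symm_apply, eP_apply, res_add', ← eP_apply, ← eP_apply, eP.apply_symm_apply,
      eP.apply_symm_apply]
  let g : Γ(ddual H', V) →ₗ[Γ(Y, V)] Γ(P, V) :=
    { toFun := fun d => eP.symm (ek (eb.symm (eD d)))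
      map_add' := fun d₁ d₂ => by
        rw [eD_apply, res_add', ← eD_apply, ← eD_apply, eb_symm_add, ek_apply, app_add', ← ek_apply,
          ← ek_apply, eP_symm_add]
      map_smul' := fun a d => by
        apply eP.injective
        rw [eP.apply_symm_apply, RingHom.id_apply, eP_apply, res_smul, ← eP_apply,
          eP.apply_symm_apply, eD_apply, res_smul, ← eD_apply, eb_symm_smul, ek_apply, app_smul',
          ← ek_apply] }
  have hg : Function.Surjective g := by
    intro p
    refine ⟨eD.symm (eb (ek.symm (eP p))), ?_⟩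
    show eP.symm (ek (eb.symm (eD (eD.symm (eb (ek.symm (eP p))))))) = p
    rw [eD.apply_symm_apply, eb.symm_apply_apply, ek.apply_symm_apply, eP.symm_apply_apply]
  exact Module.Finite.of_surjective g hg

end Groth.Agent.Lib.Helper1.ClosedAlong
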