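import Groth.Agent.Lib.Helper1.ClosedAlong4
import Groth.Agent.Lib.Helper28.QCohPush

/-!
# The direct image of a coherent reflexive module from an open subscheme (helper1)
-/

set_option autoImplicit false
universe u
open CategoryTheory CategoryTheory.Limits AlgebraicGeometry Opposite TopologicalSpace TensorProduct
open RefHull

namespace Groth.Agent.Lib.Helper1.ClosedAlong

open Groth.Agent.Lib.Helper28.QCohLoc Groth.Agent.Lib.Helper29.QCohStalk
open Groth.Agent.S16485 Groth.Agent.Lib.Helper1.RefHullLib

section Alg

variable {R S M Y : Type*} [CommRing R] [CommRing S] [AddCommGroup M] [Module R M]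
  [AddCommGroup Y] [Module S Y]

/-- finiteness is transported along a semilinear isomorphism over a surjective ring map -/
theorem finite_of_semilinear (φ : R →+* S) (hφ : Function.Surjective φ) (e : M ≃+ Y)
    (he : ∀ (a : R) (x : M), e (a • x) = φ a • e x) (h : Module.Finite S Y) :
    Module.Finite R M := by
  letI : Algebra R S := φ.toAlgebra
  letI : Module R Y := Module.compHom Y φ
  haveI : IsScalarTower R S Y := IsScalarTower.of_algebraMap_smul (fun _ _ => rfl)
  haveI : Module.Finite R S := Module.Finite.of_surjective (Algebra.linearMap R S) hφ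
  haveI : Module.Finite R Y := Module.Finite.trans S Y
  let e' : M ≃ₗ[R] Y := { e with map_smul' := he }
  exact Module.Finite.equiv e'.symm

end Alg

variable {X : Scheme.{u}}

theorem bijective_res_of_eq (M : X.Modules) {A B : X.Opens} (h : A = B) :
    Function.Bijective (res M h.le) := by
  subst h
  have : (res M (le_refl A) : Γ(M, A) → Γ(M, A)) = id := by
    funext x
    exact res_self M x
  rw [this]
  exact Function.bijective_id

variable (U : X.Opens) (G : (U : Scheme.{u}).Modules)

/-- the direct image from an open subscheme is closed along it. -/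
theorem isClosedAlong_pushforward : IsClosedAlong U ((Scheme.Modules.pushforward U.ι).obj G) := by
  intro V
  have h : U.ι ⁻¹ᵁ (V ⊓ U) = U.ι ⁻¹ᵁ V := by
    ext x
    constructor
    · intro hx; exact hx.1
    · intro hx; exact ⟨hx, x.2⟩
  exact bijective_res_of_eq G h

/-- sections of the direct image over affine opens inside `U` are finitely generated. -/
theorem finite_pushforward_of_le (hG : Coh.IsCoh G) (T : X.Opens) (hT : IsAffineOpen T)
    (hTU : T ≤ U) : Module.Finite Γ(X, T) Γ((Scheme.Modules.pushforward U.ι).obj G, T) := by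
  haveI : G.IsQuasicoherent := hG.1
  haveI : SheafOfModules.IsFiniteType.{u} (R := (U : Scheme.{u}).ringCatSheaf) G := hG.2
  have e0 : U.ι ''ᵁ (U.ι ⁻¹ᵁ T) = T := by
    rw [Scheme.Hom.image_preimage_eq_opensRange_inf, Scheme.Opens.opensRange_ι]
    exact inf_eq_right.2 hTU
  have hT' : IsAffineOpen (U.ι ⁻¹ᵁ T) := by
    rw [← U.ι.isAffineOpen_iff_of_isOpenImmersion, e0]
    exact hT
  have hfin : Module.Finite Γ((U : Scheme.{u}), U.ι ⁻¹ᵁ T) Γ(G, U.ι ⁻¹ᵁ T) :=
    Groth.Agent.Lib.Helper28.FinType.finite_of_isAffineOpen G hT'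
  have hsurj : Function.Surjective (U.ι.app T).hom := by
    have h1 : (U.ι.app T).hom = (X.presheaf.map (homOfLE e0.le).op).hom := by
      rw [Scheme.Opens.ι_app]
      rfl
    rw [h1]
    exact (bijective_resO_of_eq e0).2
  exact finite_of_semilinear (M := Γ((Scheme.Modules.pushforward U.ι).obj G, T))
    (Y := Γ(G, U.ι ⁻¹ᵁ T)) (U.ι.app T).hom hsurj
    (show Γ((Scheme.Modules.pushforward U.ι).obj G, T) ≃+ Γ(G, U.ι ⁻¹ᵁ T) from AddEquiv.refl _)
    (fun a x => pushforward_smul U.ι G T a x) hfin

end Groth.Agent.Lib.Helper1.ClosedAlong
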