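import Groth.Agent.Lib.Helper1.ClosedAlong5

/-!
# The direct image of a coherent reflexive module from an open subscheme, II (helper1)
-/

set_option autoImplicit false
universe u
open CategoryTheory CategoryTheory.Limits AlgebraicGeometry Opposite TopologicalSpace TensorProduct
open RefHull

namespace Groth.Agent.Lib.Helper1.ClosedAlong

open Groth.Agent.Lib.Helper28.QCohLoc Groth.Agent.Lib.Helper29.QCohStalk
open Groth.Agent.S16485 Groth.Agent.Lib.Helper1.RefHullLib
open Groth.Agent.Lib.Helper16 Groth.Agent.Lib.Helper16.Stk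

variable {X : Scheme.{u}}

/-- the depth of the local ring of an open subscheme is that of the ambient scheme. -/
theorem depth_stalk_opens [IsLocallyNoetherian X] (W : X.Opens) (z : (W : Scheme.{u})) :
    LocCoh.depth ((W : Scheme.{u}).presheaf.stalk z) ((W : Scheme.{u}).presheaf.stalk z) =
      LocCoh.depth (X.presheaf.stalk z.1) (X.presheaf.stalk z.1) := by
  let e : (W : Scheme.{u}).presheaf.stalk z ≃+* X.presheaf.stalk z.1 :=
    (W.stalkIso z).commRingCatIsoToRingEquiv
  exact Groth.Agent.Lib.Helper21.DepthKit.depth_eq_of_semilinear e.toRingHom e.surjective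
    e.toAddEquiv (fun a x => map_mul e a x)

variable (U : X.Opens) (G : (U : Scheme.{u}).Modules)

/-- stalks of the direct image at points of `U` are reflexive when those of `G` are. -/
theorem isReflexive_stalk_pushforward
    (hGr : ∀ x : (U : Scheme.{u}), Module.IsReflexive ((U : Scheme.{u}).presheaf.stalk x)
      (G.presheaf.stalk x)) (z : X) (hz : z ∈ U) :
    Module.IsReflexive (X.presheaf.stalk z)
      (((Scheme.Modules.pushforward U.ι).obj G).presheaf.stalk z) := by
  obtain ⟨z', rfl⟩ : ∃ z' : (U : Scheme.{u}), U.ι z' = z := ⟨⟨z, hz⟩, rfl⟩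
  rw [← isReflexive_stalk_restrict_iff U.ι ((Scheme.Modules.pushforward U.ι).obj G) z']
  let ε : (Scheme.Modules.restrictFunctor U.ι).obj ((Scheme.Modules.pushforward U.ι).obj G) ≅ G :=
    (Scheme.Modules.restrictFunctorAdjCounitIso U.ι).app G
  let l : ((Scheme.Modules.restrictFunctor U.ι).obj
      ((Scheme.Modules.pushforward U.ι).obj G)).presheaf.stalk z' ≃ₗ[(U : Scheme.{u}).presheaf.stalk z']
      G.presheaf.stalk z' := ((stk z').mapIso ε).toLinearEquiv
  haveI := hGr z'
  exact Module.equiv l.symm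

theorem image_inf_preimage (W : X.Opens) (V' : (W : Scheme.{u}).Opens) :
    W.ι ''ᵁ (V' ⊓ W.ι ⁻¹ᵁ U) = W.ι ''ᵁ V' ⊓ U := by
  ext x
  constructor
  · rintro ⟨y, ⟨hy1, hy2⟩, rfl⟩
    exact ⟨⟨y, hy1, rfl⟩, hy2⟩
  · rintro ⟨⟨y, hy, rfl⟩, hU⟩
    exact ⟨y, ⟨hy, hU⟩, rfl⟩

/-- the restriction to an open subscheme `W` of a module closed along `U` is closed along `U ∩ W`. -/
theorem isClosedAlong_restrict (P : X.Modules) (hP : IsClosedAlong U P) (W : X.Opens) :
    IsClosedAlong (W.ι ⁻¹ᵁ U) (P.restrict W.ι) := by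
  intro V'
  have hEq := image_inf_preimage U W V'
  have h1 : Function.Bijective (res P (inf_le_left : W.ι ''ᵁ V' ⊓ U ≤ W.ι ''ᵁ V')) := hP _
  have h2 : Function.Bijective (res P hEq.le) := bijective_res_of_eq P hEq
  have hfac : (res (P.restrict W.ι) (inf_le_left : V' ⊓ W.ι ⁻¹ᵁ U ≤ V') :
      Γ(P.restrict W.ι, V') → Γ(P.restrict W.ι, V' ⊓ W.ι ⁻¹ᵁ U)) =
      res P hEq.le ∘ res P (inf_le_left : W.ι ''ᵁ V' ⊓ U ≤ W.ι ''ᵁ V') := by
    funext x
    simp only [Function.comp_apply]
    rw [res_res]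
    rfl
  rw [hfac]
  exact h2.comp h1

end Groth.Agent.Lib.Helper1.ClosedAlong
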