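import Groth.Agent.Lib.Helper1.ClosedAlong6

/-!
# The direct image of a coherent reflexive module from an open subscheme, III (helper1)
-/

set_option autoImplicit false
universe u
open CategoryTheory CategoryTheory.Limits AlgebraicGeometry Opposite TopologicalSpace TensorProduct
open RefHull

namespace Groth.Agent.Lib.Helper1.ClosedAlong

open Groth.Agent.Lib.Helper28.QCohLoc Groth.Agent.Lib.Helper29.QCohStalk
open Groth.Agent.S16485 Groth.Agent.Lib.Helper1.RefHullLib

variable {X : Scheme.{u}} (U : X.Opens) (G : (U : Scheme.{u}).Modules)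

theorem finite_of_eq_bot (P : X.Modules) : Module.Finite Γ(X, (⊥ : X.Opens)) Γ(P, (⊥ : X.Opens)) := by
  haveI : Subsingleton Γ(P, (⊥ : X.Opens)) := by
    constructor
    intro a b
    exact eq_of_locally_eq P (fun _ : Empty => (⊥ : X.Opens)) ⊥ (fun _ => le_rfl) (by simp) a b
      (fun i => i.elim)
  infer_instance

/-- finiteness of sections of a restriction to an open subscheme -/
theorem finite_restrict_of_finite (W : X.Opens) (M : X.Modules) (T' : (W : Scheme.{u}).Opens)
    (h : Module.Finite Γ(X, W.ι ''ᵁ T') Γ(M, W.ι ''ᵁ T')) :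
    Module.Finite Γ((W : Scheme.{u}), T') Γ(M.restrict W.ι, T') :=
  finite_of_semilinear (R := Γ((W : Scheme.{u}), T')) (S := Γ(X, W.ι ''ᵁ T'))
    (M := Γ(M.restrict W.ι, T')) (Y := Γ(M, W.ι ''ᵁ T'))
    (show Γ((W : Scheme.{u}), T') →+* Γ(X, W.ι ''ᵁ T') from RingHom.id _)
    (fun x => ⟨x, rfl⟩)
    (show Γ(M.restrict W.ι, T') ≃+ Γ(M, W.ι ''ᵁ T') from AddEquiv.refl _)
    (fun r a => Groth.Agent.Lib.Helper17.FTExt.restrict_smul_eq W M T' r a) h

theorem finite_of_finite_restrict (W : X.Opens) (M : X.Modules) (T' : (W : Scheme.{u}).Opens)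
    (h : Module.Finite Γ((W : Scheme.{u}), T') Γ(M.restrict W.ι, T')) :
    Module.Finite Γ(X, W.ι ''ᵁ T') Γ(M, W.ι ''ᵁ T') :=
  finite_of_semilinear (S := Γ((W : Scheme.{u}), T')) (R := Γ(X, W.ι ''ᵁ T'))
    (Y := Γ(M.restrict W.ι, T')) (M := Γ(M, W.ι ''ᵁ T'))
    (show Γ(X, W.ι ''ᵁ T') →+* Γ((W : Scheme.{u}), T') from RingHom.id _)
    (fun x => ⟨x, rfl⟩)
    (show Γ(M, W.ι ''ᵁ T') ≃+ Γ(M.restrict W.ι, T') from AddEquiv.refl _)
    (fun r a => (Groth.Agent.Lib.Helper17.FTExt.restrict_smul_eq W M T' r a).symm) h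

/-- sections of the direct image over an affine open are finitely generated. -/
theorem finite_pushforward_affine [IsIntegral X] [IsLocallyNoetherian X]
    (hdepth : ∀ x : X, x ∉ U → (2 : ℕ∞) ≤ LocCoh.depth (X.presheaf.stalk x) (X.presheaf.stalk x))
    (hG : Coh.IsCoh G)
    (hGr : ∀ x : (U : Scheme.{u}), Module.IsReflexive ((U : Scheme.{u}).presheaf.stalk x)
      (G.presheaf.stalk x)) (W : X.Opens) (hW : IsAffineOpen W) :
    Module.Finite Γ(X, W) Γ((Scheme.Modules.pushforward U.ι).obj G, W) := by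
  haveI : G.IsQuasicoherent := hG.1
  by_cases hW0 : W = ⊥
  · subst hW0
    exact finite_of_eq_bot _
  have hne : (W : Set X).Nonempty := by
    by_contra h
    apply hW0
    ext x
    simp only [Opens.coe_bot, Set.mem_empty_iff_false, iff_false]
    intro hx
    exact h ⟨x, hx⟩
  haveI : Nonempty (W : Scheme.{u}) := ⟨⟨hne.some, hne.some_mem⟩⟩
  let Y : Scheme.{u} := W
  haveI : IsAffine Y := hW
  haveI : IsIntegral Y := inferInstanceAs (IsIntegral (W : Scheme.{u}))
  haveI : IsLocallyNoetherian Y := inferInstanceAs (IsLocallyNoetherian (W : Scheme.{u}))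
  haveI : IsNoetherian Y := {}
  let P : X.Modules := (Scheme.Modules.pushforward U.ι).obj G
  haveI : P.IsQuasicoherent := isQuasicoherent_pushforward U.ι G
  let UY : Y.Opens := W.ι ⁻¹ᵁ U
  have hOY : IsClosedAlong UY (Coh.structureModule Y) := by
    apply isClosedAlong_structureModule_of_depth
    intro y hy
    rw [depth_stalk_opens W y]
    exact hdepth y.1 (fun h => hy h)
  have hfinY := finite_sections_of_isClosedAlong UY hOY (P.restrict W.ι)
    (isClosedAlong_restrict U P (isClosedAlong_pushforward U G) W)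
    (fun T' hT' hT'U => finite_restrict_of_finite W P T'
      (finite_pushforward_of_le U G hG (W.ι ''ᵁ T')
      (hT'.image_of_isOpenImmersion W.ι) (by
        rintro _ ⟨y, hy, rfl⟩
        exact hT'U hy)))
    (fun y hy => by
      rw [isReflexive_stalk_restrict_iff W.ι P y]
      exact isReflexive_stalk_pushforward U G hGr (W.ι y) hy)
    ⊤ (isAffineOpen_top Y)
  exact Groth.Agent.Lib.Helper28.FinType.finite_congr W.ι_image_top
    (finite_of_finite_restrict W P ⊤ hfinY)

end Groth.Agent.Lib.Helper1.ClosedAlong
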