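import Groth.Agent.Lib.Helper1.ClosedAlong7

/-!
# The direct image of a coherent reflexive module from an open subscheme is coherent reflexive
(helper1)
-/

set_option autoImplicit false
universe u
open CategoryTheory CategoryTheory.Limits AlgebraicGeometry Opposite TopologicalSpace TensorProduct
open RefHull

namespace Groth.Agent.Lib.Helper1.ClosedAlong

open Groth.Agent.Lib.Helper28.QCohLoc Groth.Agent.Lib.Helper29.QCohStalk
open Groth.Agent.S16485 Groth.Agent.Lib.Helper1.RefHullLib

variable {X : Scheme.{u}} (U : X.Opens) (G : (U : Scheme.{u}).Modules)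

/-- **part (b), coherence** -/
theorem isCoh_pushforward [IsIntegral X] [IsLocallyNoetherian X]
    (hdepth : ∀ x : X, x ∉ U → (2 : ℕ∞) ≤ LocCoh.depth (X.presheaf.stalk x) (X.presheaf.stalk x))
    (hG : Coh.IsCoh G)
    (hGr : ∀ x : (U : Scheme.{u}), Module.IsReflexive ((U : Scheme.{u}).presheaf.stalk x)
      (G.presheaf.stalk x)) :
    Coh.IsCoh ((Scheme.Modules.pushforward U.ι).obj G) := by
  haveI : G.IsQuasicoherent := hG.1
  haveI : ((Scheme.Modules.pushforward U.ι).obj G).IsQuasicoherent :=
    isQuasicoherent_pushforward U.ι G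
  refine ⟨inferInstance, ?_⟩
  exact Groth.Agent.Lib.Helper17.FinTypeConv.isFiniteType_of_forall_finite_sections _
    fun T => finite_pushforward_affine U G hdepth hG hGr T.1 T.2

/-- a coherent module closed along `U` with reflexive stalks on `U` is reflexive, when the structure
sheaf is closed along `U`. -/
theorem isReflexive_of_isClosedAlong [IsLocallyNoetherian X]
    (hO : IsClosedAlong U (Coh.structureModule X)) (P : X.Modules) (hP : Coh.IsCoh P)
    (hcl : IsClosedAlong U P)
    (hrefl : ∀ z : X, z ∈ U → Module.IsReflexive (X.presheaf.stalk z) (P.presheaf.stalk z)) :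
    IsReflexive P := by
  unfold IsReflexive
  rw [Scheme.Modules.Hom.isIso_iff_isIso_app]
  intro V
  rw [ConcreteCategory.isIso_iff_bijective]
  have hres := hcl V
  have hresDD := isClosedAlong_ddual U hO P hP V
  have hloc : Function.Bijective ((bidualMap P).app (V ⊓ U)) := by
    apply bijective_app_of_stalkMapₗ
    intro z hz
    rw [bijective_stalkMapₗ_bidualMap_iff P hP z]
    exact hrefl z hz.2
  have hcomp : (res (ddual P) (inf_le_left : V ⊓ U ≤ V)) ∘ ⇑((bidualMap P).app V) =
      ⇑((bidualMap P).app (V ⊓ U)) ∘ (res P (inf_le_left : V ⊓ U ≤ V)) := by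
    funext s
    exact (Groth.Agent.Lib.Helper28.QCohLoc.app_res (bidualMap P) inf_le_left s).symm
  have hb : Function.Bijective ((res (ddual P) (inf_le_left : V ⊓ U ≤ V)) ∘
      ⇑((bidualMap P).app V)) := by
    rw [hcomp]
    exact hloc.comp hres
  exact (Function.Bijective.of_comp_iff' hresDD _).1 hb

/-- **part (b), reflexivity of the stalks** -/
theorem isReflexive_stalk_pushforward_of_depth [IsIntegral X] [IsLocallyNoetherian X]
    (hdepth : ∀ x : X, x ∉ U → (2 : ℕ∞) ≤ LocCoh.depth (X.presheaf.stalk x) (X.presheaf.stalk x))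
    (hG : Coh.IsCoh G)
    (hGr : ∀ x : (U : Scheme.{u}), Module.IsReflexive ((U : Scheme.{u}).presheaf.stalk x)
      (G.presheaf.stalk x)) (x : X) :
    Module.IsReflexive (X.presheaf.stalk x)
      (((Scheme.Modules.pushforward U.ι).obj G).presheaf.stalk x) := by
  have hP := isCoh_pushforward U G hdepth hG hGr
  have hr := isReflexive_of_isClosedAlong U (isClosedAlong_structureModule_of_depth U hdepth) _ hP
    (isClosedAlong_pushforward U G) (fun z hz => isReflexive_stalk_pushforward U G hGr z hz)
  exact (isReflexive_iff_forall_isReflexiveAt _ hP).1 hr x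

end Groth.Agent.Lib.Helper1.ClosedAlong
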