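import Mathlib

/-!
# Algebra for closed points of locally Noetherian schemes (helper1)

`isMaximal_of_forall_mem`: in a Noetherian ring, if `f ∉ p₀` lies in every prime strictly containing the
prime `p₀`, then every prime strictly containing `p₀` is maximal.  (A Noetherian domain in which the generic
point is open in the spectrum has dimension `≤ 1`.)
-/

set_option autoImplicit false
universe u

namespace Groth.Agent.Lib.Helper1.ClosedPt

/-- domain version: if a nonzero `f` lies in all nonzero primes of a Noetherian domain, there is no chain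
`⊥ < p < q` of primes. -/
theorem not_lt_of_forall_mem {B : Type*} [CommRing B] [IsDomain B] [IsNoetherianRing B] (f : B) (hf : f ≠ 0)
    (h : ∀ q : Ideal B, q.IsPrime → q ≠ ⊥ → f ∈ q) (p q : Ideal B) [hp : p.IsPrime] [hq : q.IsPrime]
    (hp0 : p ≠ ⊥) (hpq : p < q) : False := by
  classical
  have hfin : (Ideal.span {f}).minimalPrimes.Finite :=
    Ideal.finite_minimalPrimes_of_isNoetherianRing B _
  have hht : ∀ s ∈ (Ideal.span {f}).minimalPrimes, s.height ≤ 1 := fun s hs =>
    Ideal.height_le_one_of_isPrincipal_of_mem_minimalPrimes _ s hs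
  have hbot : (⊥ : Ideal B) < p := bot_lt_iff_ne_bot.2 hp0
  have hq0 : q ≠ ⊥ := (hbot.trans hpq).ne'
  -- a prime of height `≤ 1` containing a nonzero prime equals it
  have hchain : ∀ a b : Ideal B, a.IsPrime → b.IsPrime → a ≠ ⊥ → a < b → ¬ b.height ≤ 1 := by
    intro a b ha hb ha0 hab hb1
    haveI := ha
    haveI := hb
    have h1 := Ideal.height_add_one_le_of_lt_of_isPrime (bot_lt_iff_ne_bot.2 ha0)
    have h2 := Ideal.height_add_one_le_of_lt_of_isPrime hab
    have h3 : (2 : ℕ∞) ≤ b.height := by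
      calc (2 : ℕ∞) = 0 + 1 + 1 := by norm_num
        _ ≤ (⊥ : Ideal B).height + 1 + 1 := by gcongr; exact bot_le
        _ ≤ a.height + 1 := by gcongr
        _ ≤ b.height := h2
    have : (2 : ℕ∞) ≤ 1 := h3.trans hb1
    exact absurd this (by norm_num)
  -- `q` is not contained in the union of the minimal primes over `(f)`
  have hnot : ¬ ((q : Set B) ⊆ ⋃ s ∈ (hfin.toFinset : Set (Ideal B)), (s : Set B)) := by
    intro hsub
    obtain ⟨s, hs, hqs⟩ := (Ideal.subset_union_prime (f := fun s : Ideal B => s) ⊥ ⊥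
      (fun s hs _ _ => (hfin.mem_toFinset.1 hs).1.1)).1 hsub
    have hsm := hfin.mem_toFinset.1 hs
    exact hchain p s hp hsm.1.1 hp0 (lt_of_lt_of_le hpq hqs) (hht s hsm)
  rw [Set.not_subset] at hnot
  obtain ⟨g, hgq, hgn⟩ := hnot
  have hgn' : ∀ s ∈ (Ideal.span {f}).minimalPrimes, g ∉ s := by
    intro s hs hgs
    apply hgn
    simp only [Set.mem_iUnion]
    exact ⟨s, by simpa using hs, hgs⟩
  -- `g ≠ 0`
  have hfq : Ideal.span {f} ≤ q := by
    rw [Ideal.span_singleton_le_iff_mem]
    exact h q hq hq0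
  obtain ⟨s1, hs1, -⟩ := Ideal.exists_minimalPrimes_le hfq
  have hg0 : g ≠ 0 := fun h0 => hgn' s1 hs1 (h0 ▸ s1.zero_mem)
  -- a minimal prime over `(g)` inside `q`
  have hgq' : Ideal.span {g} ≤ q := by
    rw [Ideal.span_singleton_le_iff_mem]
    exact hgq
  obtain ⟨q', hq', hq'q⟩ := Ideal.exists_minimalPrimes_le hgq'
  haveI := hq'.1.1
  have hgq'' : g ∈ q' := hq'.1.2 (Ideal.mem_span_singleton_self g)
  have hq'0 : q' ≠ ⊥ := fun h0 => hg0 (by rw [h0] at hgq''; exact hgq'')
  have hq'ht : q'.height ≤ 1 := Ideal.height_le_one_of_isPrincipal_of_mem_minimalPrimes _ q' hq'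
  have hfq' : Ideal.span {f} ≤ q' := by
    rw [Ideal.span_singleton_le_iff_mem]
    exact h q' hq'.1.1 hq'0
  obtain ⟨s, hs, hsq'⟩ := Ideal.exists_minimalPrimes_le hfq'
  have hs0 : s ≠ ⊥ := by
    intro h0
    have hfs : f ∈ s := hs.1.2 (Ideal.mem_span_singleton_self f)
    rw [h0] at hfs
    exact hf hfs
  rcases eq_or_lt_of_le hsq' with heq | hlt
  · exact hgn' s hs (heq ▸ hgq'')
  · exact hchain s q' hs.1.1 hq'.1.1 hs0 hlt hq'ht

/-- in a Noetherian ring, if `f ∉ p₀` lies in every prime strictly containing the prime `p₀`, then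
every prime strictly containing `p₀` is maximal. -/
theorem isMaximal_of_forall_mem {B : Type*} [CommRing B] [IsNoetherianRing B] (p₀ : Ideal B)
    [hp₀ : p₀.IsPrime] (f : B) (hf : f ∉ p₀)
    (h : ∀ p : Ideal B, p.IsPrime → p₀ < p → f ∈ p) (p : Ideal B) [hp : p.IsPrime] (hpp : p₀ < p) :
    p.IsMaximal := by
  obtain ⟨M, hM, hpM⟩ := Ideal.exists_le_maximal p hp.ne_top
  rcases eq_or_lt_of_le hpM with heq | hlt
  · rw [heq]; exact hM
  exfalso
  let π := Ideal.Quotient.mk p₀
  have hπ : Function.Surjective π := Ideal.Quotient.mk_surjective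
  have hker : RingHom.ker π = p₀ := Ideal.mk_ker
  have hcm : ∀ I : Ideal B, p₀ ≤ I → Ideal.comap π (Ideal.map π I) = I := by
    intro I hI
    rw [Ideal.comap_map_of_surjective π hπ]
    have : Ideal.comap π ⊥ = p₀ := hker
    rw [this, sup_eq_left.2 hI]
  haveI : (Ideal.map π p).IsPrime := Ideal.map_isPrime_of_surjective hπ (hker.le.trans hpp.le)
  haveI : (Ideal.map π M).IsPrime :=
    Ideal.map_isPrime_of_surjective hπ (hker.le.trans (hpp.le.trans hpM))
  refine not_lt_of_forall_mem (π f) ?_ ?_ (Ideal.map π p) (Ideal.map π M) ?_ ?_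
  · intro h0
    exact hf (Ideal.Quotient.eq_zero_iff_mem.1 h0)
  · intro q' hq' hq'0
    have h1 : p₀ ≤ Ideal.comap π q' :=
      hker.ge.trans (Ideal.comap_mono (bot_le : (⊥ : Ideal (B ⧸ p₀)) ≤ q'))
    have h2 : p₀ ≠ Ideal.comap π q' := by
      intro heq
      apply hq'0
      rw [← Ideal.map_comap_of_surjective π hπ q', ← heq]
      exact (Ideal.map_eq_bot_iff_le_ker π).2 hker.ge
    exact h (Ideal.comap π q') (Ideal.comap_isPrime π q') (lt_of_le_of_ne h1 h2)
  · intro h0
    have := (Ideal.map_eq_bot_iff_le_ker π).1 h0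
    rw [hker] at this
    exact absurd hpp (not_lt_of_ge this)
  · refine lt_of_le_of_ne (Ideal.map_mono hpM) fun heq => ?_
    have := congrArg (Ideal.comap π) heq
    rw [hcm p hpp.le, hcm M (hpp.le.trans hpM)] at this
    exact hlt.ne this

end Groth.Agent.Lib.Helper1.ClosedPt
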