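import Groth.Agent.Lib.Helper1.ClosedPt1
import Groth.Agent.Lib.Helper29.QCohStalk2

/-!
# Every point of a locally Noetherian scheme specializes to a closed point (helper1)
-/

set_option autoImplicit false
universe u
open CategoryTheory AlgebraicGeometry TopologicalSpace

namespace Groth.Agent.Lib.Helper1.ClosedPt

open Groth.Agent.Lib.Helper29.QCohStalk

variable {X : Scheme.{u}}

/-- a point of an affine open `U` specializes to a point of `U` which is closed in `U`. -/
theorem exists_specializes_closed_in_affine {U : X.Opens} (hU : IsAffineOpen U) (x : X) (hx : x ∈ U) :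
    ∃ x' : X, x' ∈ U ∧ x ⤳ x' ∧ ∀ z ∈ U, x' ⤳ z → z = x' := by
  haveI : CompactSpace U := isCompact_iff_compactSpace.1 hU.isCompact
  obtain ⟨z, hz, hzc⟩ := (isClosed_closure (s := ({⟨x, hx⟩} : Set U))).exists_closed_singleton
    ⟨⟨x, hx⟩, subset_closure rfl⟩
  refine ⟨z.1, z.2, ?_, fun w hw hzw => ?_⟩
  · have h1 : (⟨x, hx⟩ : U) ⤳ z := specializes_iff_mem_closure.2 hz
    exact (subtype_specializes_iff _ _).1 h1
  · have h1 : z ⤳ (⟨w, hw⟩ : U) := (subtype_specializes_iff _ _).2 hzw
    have h2 : (⟨w, hw⟩ : U) ∈ closure ({z} : Set U) := specializes_iff_mem_closure.1 h1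
    rw [hzc.closure_eq] at h2
    exact congrArg Subtype.val (Set.mem_singleton_iff.1 h2)

/-- **every point of a locally Noetherian scheme specializes to a closed point.** -/
theorem exists_isClosed_specializes (X : Scheme.{u}) [IsLocallyNoetherian X] (x : X) :
    ∃ y : X, IsClosed ({y} : Set X) ∧ x ⤳ y := by
  obtain ⟨U, hU, hxU, -⟩ := (Opens.isBasis_iff_nbhd.1 X.isBasis_affineOpens)
    (show x ∈ (⊤ : X.Opens) from trivial)
  have hU : IsAffineOpen U := hU
  obtain ⟨x', hx'U, hxx', hcl⟩ := exists_specializes_closed_in_affine hU x hxU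
  by_cases hc : IsClosed ({x'} : Set X)
  · exact ⟨x', hc, hxx'⟩
  -- a point `t ≠ x'` in the closure of `x'`
  have hne : ∃ t ∈ closure ({x'} : Set X), t ≠ x' := by
    by_contra hall
    push Not at hall
    apply hc
    have : closure ({x'} : Set X) = {x'} :=
      Set.Subset.antisymm (fun t ht => hall t ht) subset_closure
    rw [← this]
    exact isClosed_closure
  obtain ⟨t, ht, htx'⟩ := hne
  have hx't : x' ⤳ t := specializes_iff_mem_closure.2 ht
  refine ⟨t, ?_, hxx'.trans hx't⟩
  -- `t` is closed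
  rw [← closure_eq_iff_isClosed]
  refine Set.Subset.antisymm (fun t' ht' => ?_) subset_closure
  have htt' : t ⤳ t' := specializes_iff_mem_closure.2 ht'
  obtain ⟨V, hV, ht'V, -⟩ := (Opens.isBasis_iff_nbhd.1 X.isBasis_affineOpens)
    (show t' ∈ (⊤ : X.Opens) from trivial)
  have hV : IsAffineOpen V := hV
  have htV : t ∈ V := htt'.mem_open V.2 ht'V
  have hx'V : x' ∈ V := hx't.mem_open V.2 htV
  haveI : IsNoetherianRing Γ(X, V) := IsLocallyNoetherian.component_noetherian ⟨V, hV⟩
  obtain ⟨f, hfU, hx'f⟩ := hV.exists_basicOpen_le (V := U) ⟨x', hx'U⟩ hx'V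
  have hf0 : f ∉ germPrime V x' hx'V := by
    rw [mem_germPrime_iff_notMem_basicOpen, not_not]
    exact hx'f
  have hall : ∀ p : Ideal Γ(X, V), p.IsPrime → germPrime V x' hx'V < p → f ∈ p := by
    intro p hp hlt
    by_contra hfp
    let z := hV.fromSpec ⟨p, hp⟩
    have hzV : z ∈ V := fromSpec_mem hV ⟨p, hp⟩
    have hpz : germPrime V z hzV = p := germPrime_fromSpec hV ⟨p, hp⟩
    have hx'z : x' ⤳ z := specializes_of_germPrime_le hV x' z hx'V hzV (hpz ▸ hlt.le)
    have hzf : z ∈ X.basicOpen f := (fromSpec_mem_basicOpen_iff hV ⟨p, hp⟩ f).2 hfp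
    have hzx' : z = x' := hcl z (hfU hzf) hx'z
    have : germPrime V x' hx'V = p := by
      rw [← hpz]
      congr 1
      exact hzx'.symm
    exact hlt.ne this
  have h01 : germPrime V x' hx'V < germPrime V t htV := by
    refine lt_of_le_of_ne (germPrime_le_of_specializes x' t hx'V htV hx't) fun heq => ?_
    have : t ⤳ x' := specializes_of_germPrime_le hV t x' htV hx'V heq.ge
    exact htx' (this.antisymm hx't).eq
  have hmax := isMaximal_of_forall_mem (germPrime V x' hx'V) f hf0 hall (germPrime V t htV) h01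
  have h12 : germPrime V t htV ≤ germPrime V t' ht'V := germPrime_le_of_specializes t t' htV ht'V htt'
  have heq : germPrime V t htV = germPrime V t' ht'V :=
    hmax.eq_of_le (Ideal.IsPrime.ne_top inferInstance) h12
  have : t' ⤳ t := specializes_of_germPrime_le hV t' t ht'V htV heq.ge
  exact Set.mem_singleton_iff.2 (this.antisymm htt').eq

end Groth.Agent.Lib.Helper1.ClosedPt
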