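import Mathlib.CategoryTheory.Abelian.Basic
import Mathlib.CategoryTheory.Limits.Shapes.Kernels

/-!
# A cokernel computation
-/

set_option autoImplicit false
open CategoryTheory CategoryTheory.Limits

namespace Groth.Agent.Lib.Helper1.CokerLemma

variable {𝒜 : Type*} [Category 𝒜] [Abelian 𝒜]

/-- the cokernel of `α : F ⟶ coker ψ`, computed from a lift `β` of `α` along a cover `ε` of `F` -/
noncomputable def cokernelIso {F Q₀ Q₁ P R : 𝒜} (ψ : Q₁ ⟶ Q₀) (α : F ⟶ cokernel ψ)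
    (ε : P ⟶ F) [Epi ε] (β : P ⟶ Q₀) (hβ : β ≫ cokernel.π ψ = ε ≫ α)
    (γ : R ⟶ Q₀)
    (hγ : ∀ {T : 𝒜} (x : Q₀ ⟶ T), γ ≫ x = 0 ↔ (β ≫ x = 0 ∧ ψ ≫ x = 0)) :
    cokernel α ≅ cokernel γ where
  hom := cokernel.desc α
    (cokernel.desc ψ (cokernel.π γ) (((hγ (cokernel.π γ)).1 (cokernel.condition γ)).2))
    (by
      rw [← cancel_epi ε, ← Category.assoc, ← hβ, Category.assoc, cokernel.π_desc, comp_zero]
      exact ((hγ (cokernel.π γ)).1 (cokernel.condition γ)).1)
  inv := cokernel.desc γ (cokernel.π ψ ≫ cokernel.π α)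
    ((hγ _).2 ⟨by rw [← Category.assoc, hβ, Category.assoc, cokernel.condition, comp_zero],
      by rw [← Category.assoc, cokernel.condition, zero_comp]⟩)
  hom_inv_id := by
    rw [← cancel_epi (cokernel.π α), ← cancel_epi (cokernel.π ψ)]
    simp
  inv_hom_id := by
    rw [← cancel_epi (cokernel.π γ)]
    simp

end Groth.Agent.Lib.Helper1.CokerLemma
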