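import Mathlib
import Groth.Agent.Lib.Helper8.DCoprod3
import Groth.Agent.Lib.Helper8.SeqColim2
import Groth.Prelude.Def_DerLim

/-!
# Helper1 — HoColimGen: a termwise sequential colimit of complexes is a homotopy colimit in `D(A)`
(general abelian version of helper8's `HoColimMod`)
-/

set_option autoImplicit false
set_option linter.unusedSectionVars false

open CategoryTheory CategoryTheory.Limits CategoryTheory.Pretriangulated DerivedCategory

namespace Groth.Agent.Lib.Helper1.HoColimGen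

open Groth.Agent.Lib.Helper8.SeqColim Groth.Agent.Lib.Helper8.DCoprod3

universe w v u

variable {A : Type u} [Category.{v} A] [Abelian A]
  [HasColimitsOfShape (Discrete ℕ) A] [HasExactColimitsOfShape (Discrete ℕ) A]
  [HasColimitsOfShape ℕ A] [HasExactColimitsOfShape ℕ A]

section SES

variable (L : ℕ ⥤ CochainComplex A ℤ) (c : Cocone L) (hc : IsColimit c)

/-- `1 - shift` on the coproduct of the complexes -/
noncomputable abbrev σ : ∐ L.obj ⟶ ∐ L.obj := 𝟙 (∐ L.obj) - DerLim.shiftMap L.obj (fs L)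

/-- the canonical map from the coproduct to the colimit -/
noncomputable abbrev π : ∐ L.obj ⟶ c.pt := Sigma.desc (fun n => c.ι.app n)

instance mono_σ : Mono (σ L) := by
  apply HomologicalComplex.mono_of_mono_f
  intro i
  let ev := HomologicalComplex.eval A (ComplexShape.up ℤ) i
  have hci : IsColimit (Cofan.mk (ev.obj (∐ L.obj)) (fun n => ev.map (Sigma.ι L.obj n)) :
      Cofan (fun n => ev.obj (L.obj n))) :=
    isColimitCofanMkObjOfIsColimit ev _ _ (coproductIsCoproduct L.obj)
  refine mono_of_isColimit_cofan (K := fun n => ev.obj (L.obj n)) (fun n => ev.map (fs L n)) _ hci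
    ((σ L).f i) (fun n => ?_)
  change (Sigma.ι L.obj n).f i ≫ (σ L).f i = (Sigma.ι L.obj n).f i -
    (fs L n).f i ≫ (Sigma.ι L.obj (n + 1)).f i
  rw [← HomologicalComplex.comp_f, ← HomologicalComplex.comp_f, ← HomologicalComplex.sub_f_apply,
    Preadditive.comp_sub, Category.comp_id, ι_shiftMap]

/-- the short exact sequence `0 → ⊕ Lₙ → ⊕ Lₙ → colim Lₙ → 0` -/
noncomputable def ses : ShortComplex (CochainComplex A ℤ) :=
  ShortComplex.mk (σ L) (π L c) (w_cocone L c)

include hc in
lemma ses_shortExact : (ses L c).ShortExact where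
  exact := ShortComplex.exact_of_g_is_cokernel _ (isColimitCokernelCofork L c hc)
  mono_f := mono_σ L
  epi_g := epi_of_isColimit_cofork (isColimitCokernelCofork L c hc)

end SES

section Derived

variable [HasDerivedCategory.{w} A]
variable (L : ℕ ⥤ CochainComplex A ℤ) (c : Cocone L) (hc : IsColimit c)

/-- the sequence in `D(A)` -/
noncomputable abbrev FQ : ℕ ⥤ DerivedCategory A := L ⋙ DerivedCategory.Q

instance hasCoproduct_FQ : HasCoproduct (FQ L).obj :=
  ⟨⟨⟨cofanQ L.obj, isColimitCofanQ L.obj⟩⟩⟩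

/-- comparison of the coproduct in `D(A)` with the image of the coproduct of complexes -/
noncomputable def eQ : ∐ (FQ L).obj ≅ DerivedCategory.Q.obj (∐ L.obj) :=
  IsColimit.coconePointUniqueUpToIso (coproductIsCoproduct (FQ L).obj) (isColimitCofanQ L.obj)

@[reassoc]
lemma ι_eQ_hom (n : ℕ) :
    Sigma.ι (FQ L).obj n ≫ (eQ L).hom = DerivedCategory.Q.map (Sigma.ι L.obj n) :=
  IsColimit.comp_coconePointUniqueUpToIso_hom (coproductIsCoproduct (FQ L).obj)
    (isColimitCofanQ L.obj) ⟨n⟩

lemma eQ_hom_σ :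
    (eQ L).hom ≫ DerivedCategory.Q.map (σ L) =
      (𝟙 (∐ (FQ L).obj) - DerLim.shiftMap (FQ L).obj (fs (FQ L))) ≫ (eQ L).hom := by
  apply Sigma.hom_ext
  intro n
  rw [ι_eQ_hom_assoc, ← Functor.map_comp, Preadditive.comp_sub, Category.comp_id, ι_shiftMap,
    Preadditive.sub_comp, Preadditive.comp_sub, Category.id_comp,
    reassoc_of% (ι_shiftMap (FQ L).obj (fs (FQ L)) n), ι_eQ_hom, ι_eQ_hom,
    Functor.map_sub, Functor.map_comp]

/-- the projection to the colimit, in `D(A)` -/
noncomputable def pQ : ∐ (FQ L).obj ⟶ DerivedCategory.Q.obj c.pt :=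
  (eQ L).hom ≫ DerivedCategory.Q.map (π L c)

lemma ι_pQ (n : ℕ) : Sigma.ι (FQ L).obj n ≫ pQ L c = DerivedCategory.Q.map (c.ι.app n) := by
  rw [pQ, ι_eQ_hom_assoc, ← Functor.map_comp, Sigma.ι_desc]

lemma pQ_eq : pQ L c = Limits.Sigma.desc (f := (FQ L).obj) (fun n => DerivedCategory.Q.map (c.ι.app n)) := by
  apply Sigma.hom_ext
  intro n
  rw [ι_pQ, Sigma.ι_desc]

/-- the connecting map -/
noncomputable def δQ : DerivedCategory.Q.obj c.pt ⟶ (∐ (FQ L).obj)⟦(1 : ℤ)⟧ :=
  DerivedCategory.triangleOfSESδ (ses_shortExact L c hc) ≫ (eQ L).inv⟦(1 : ℤ)⟧'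

lemma distinguished :
    Triangle.mk (𝟙 (∐ (FQ L).obj) - DerLim.shiftMap (FQ L).obj (fs (FQ L))) (pQ L c) (δQ L c hc) ∈
      distTriang (DerivedCategory A) := by
  refine isomorphic_distinguished _
    (DerivedCategory.triangleOfSES_distinguished (ses_shortExact L c hc)) _ ?_
  refine Triangle.isoMk _ _ (eQ L) (eQ L) (Iso.refl _) ?_ ?_ ?_
  · exact (eQ_hom_σ L).symm
  · exact Category.comp_id _
  · have e1 : (eQ L).inv⟦(1 : ℤ)⟧' ≫ (eQ L).hom⟦(1 : ℤ)⟧' = 𝟙 _ := by
      rw [← Functor.map_comp, Iso.inv_hom_id, CategoryTheory.Functor.map_id]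
    have h : δQ L c hc ≫ (eQ L).hom⟦(1 : ℤ)⟧' =
        DerivedCategory.triangleOfSESδ (ses_shortExact L c hc) :=
      (Category.assoc _ _ _).trans
        ((congrArg (fun t => DerivedCategory.triangleOfSESδ (ses_shortExact L c hc) ≫ t) e1).trans
          (Category.comp_id _))
    exact h.trans (Category.id_comp _).symm

include hc in
/-- **a termwise sequential colimit of complexes is a homotopy colimit in `D(A)`** -/
theorem isHocolim :
    DerLim.IsHocolim (FQ L).obj (fs (FQ L)) (DerivedCategory.Q.obj c.pt)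
      (fun n => DerivedCategory.Q.map (c.ι.app n)) := by
  refine ⟨δQ L c hc, ?_⟩
  rw [← pQ_eq]
  exact distinguished L c hc

end Derived

end Groth.Agent.Lib.Helper1.HoColimGen
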