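import Groth.Agent.Lib.Helper1.RelCell

/-!
# Helper1 — RelCellSys: systems of relative cellular resolutions over the canonical truncations
-/

set_option autoImplicit false
open CategoryTheory CategoryTheory.Limits HomologicalComplex CochainComplex HomComplex ZeroObject

namespace Groth.Agent.Lib.Helper1.RelCellSys

open Groth.Agent.Lib.Helper16.BiCx Groth.Agent.Lib.Helper1.CellRes
  Groth.Agent.Lib.Helper1.SplitSeq Groth.Agent.Lib.Helper1.RelCell

variable {A : Type*} [Category A] [Abelian A]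

section Trunc

variable (G : CochainComplex A ℤ)

/-- the transition maps between canonical truncations -/
noncomputable def trLE (m m' : ℤ) (h : m ≤ m') : G.truncLE m ⟶ G.truncLE m' :=
  haveI := (G.truncLE m).isStrictlyLE_of_le m m' h
  inv ((G.truncLE m).ιTruncLE m') ≫ truncLEMap (G.ιTruncLE m) m'

@[reassoc (attr := simp)]
lemma trLE_ι (m m' : ℤ) (h : m ≤ m') : trLE G m m' h ≫ G.ιTruncLE m' = G.ιTruncLE m := by
  haveI := (G.truncLE m).isStrictlyLE_of_le m m' h
  rw [trLE, Category.assoc, CochainComplex.ιTruncLE_naturality, IsIso.inv_hom_id_assoc]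

end Trunc

section Sys

variable (cv : Cov A) (G : CochainComplex A ℤ) [HasColimitsOfShape ℕ A]

/-- a complex over a truncation of `G` -/
structure St (n : ℕ) where
  K : CochainComplex A ℤ
  π : K ⟶ G.truncLE ((n : ℤ) + 1)

variable {G} in
/-- the map to the next truncation -/
noncomputable def St.next {n : ℕ} (s : St G n) : s.K ⟶ G.truncLE (((n + 1 : ℕ) : ℤ) + 1) :=
  s.π ≫ trLE G _ _ (by push_cast; omega)

/-- the system of resolutions -/
noncomputable def stage : (n : ℕ) → St G n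
  | 0 => ⟨relP cv (0 : (0 : CochainComplex A ℤ) ⟶ G.truncLE (((0 : ℕ) : ℤ) + 1)), relq cv _⟩
  | n + 1 => ⟨relP cv (stage n).next, relq cv _⟩

/-- the transition maps -/
noncomputable def sysι (n : ℕ) : (stage cv G n).K ⟶ (stage cv G (n + 1)).K :=
  relι cv (stage cv G n).next

lemma sysι_π (n : ℕ) : sysι cv G n ≫ (stage cv G (n + 1)).π = (stage cv G n).next :=
  relι_q cv _

/-- the system as a functor -/
noncomputable def Kc : ℕ ⥤ CochainComplex A ℤ := Functor.ofSequence (sysι cv G)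

lemma Kc_map_succ (n : ℕ) : (Kc cv G).map (homOfLE (Nat.le_succ n)) = sysι cv G n :=
  Functor.ofSequence_map_homOfLE_succ _ n

lemma compat (n : ℕ) :
    (Kc cv G).map (homOfLE (Nat.le_succ n)) ≫ (stage cv G (n + 1)).π ≫
      G.ιTruncLE (((n + 1 : ℕ) : ℤ) + 1) = (stage cv G n).π ≫ G.ιTruncLE ((n : ℤ) + 1) := by
  have h2 : sysι cv G n ≫ (stage cv G (n + 1)).π ≫ G.ιTruncLE (((n + 1 : ℕ) : ℤ) + 1) =
      (stage cv G n).π ≫ G.ιTruncLE ((n : ℤ) + 1) := by
    rw [← Category.assoc, sysι_π, St.next, Category.assoc, trLE_ι]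
  rw [Kc_map_succ]
  exact h2

lemma epi_π_f (n : ℕ) (i : ℤ) : Epi ((stage cv G n).π.f i) := by
  cases n with
  | zero => exact epi_relq_f cv _ i
  | succ n => exact epi_relq_f cv _ i

lemma quasiIso_π [HasExactColimitsOfShape ℕ A] (n : ℕ) : QuasiIso (stage cv G n).π := by
  cases n with
  | zero => exact quasiIso_relq cv _
  | succ n => exact quasiIso_relq cv _

variable [HasColimitsOfShape (Discrete ℕ) A]

lemma exists_bound (hcv : ∀ X, IsZero X → IsZero (cv.obj X)) (n : ℕ) :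
    ∃ b : ℤ, ∀ i, b < i → IsZero ((stage cv G n).K.X i) := by
  induction n with
  | zero =>
    refine ⟨((0 : ℕ) : ℤ) + 1 + 1, fun i hi => ?_⟩
    refine isZero_relP_X cv _ hcv _ (fun j _ => ?_) (fun j hj => ?_) i hi
    · exact (HomologicalComplex.eval A (ComplexShape.up ℤ) j).map_isZero (isZero_zero _)
    · exact (G.truncLE (((0 : ℕ) : ℤ) + 1)).isZero_of_isStrictlyLE (((0 : ℕ) : ℤ) + 1) j (by omega)
  | succ n ih =>
    obtain ⟨b, hb⟩ := ih
    refine ⟨max b (((n + 1 : ℕ) : ℤ) + 1 + 1), fun i hi => ?_⟩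
    refine isZero_relP_X cv _ hcv _ (fun j hj => hb j (lt_of_le_of_lt (le_max_left _ _) hj))
      (fun j hj => ?_) i hi
    exact (G.truncLE (((n + 1 : ℕ) : ℤ) + 1)).isZero_of_isStrictlyLE (((n + 1 : ℕ) : ℤ) + 1) j
      (lt_of_lt_of_le (by omega) (le_trans (le_max_right b _) hj))

section W

variable (W : A → Prop) (hWiso : ∀ {X Y : A}, (X ≅ Y) → W X → W Y)
  (hWcv : ∀ X, W (cv.obj X)) (hWbiprod : ∀ {X Y : A}, W X → W Y → W (X ⊞ Y))
  (hWsigma : ∀ (X : ℕ → A), (∀ k, W (X k)) → W (∐ X)) (hW0 : ∀ X, IsZero X → W X)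

include hWiso hWcv hWbiprod hWsigma

lemma W_relP_X {P G' : CochainComplex A ℤ} (q : P ⟶ G') (hP : ∀ i, W (P.X i)) (i : ℤ) :
    W ((relP cv q).X i) := by
  obtain ⟨e, -⟩ := exists_iso_relP_X cv q i
  exact hWiso e.symm (hWbiprod (hP i) (W_relT cv q W hWiso hWcv hWbiprod hWsigma i))

lemma split_relι {P G' : CochainComplex A ℤ} (q : P ⟶ G') (i : ℤ) :
    ∃ r : (relP cv q).X i ⟶ P.X i, (relι cv q).f i ≫ r = 𝟙 _ ∧
      W (cokernel ((relι cv q).f i)) := by
  obtain ⟨e, he⟩ := exists_iso_relP_X cv q i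
  refine ⟨e.hom ≫ biprod.fst, by rw [reassoc_of% he, biprod.inl_fst], ?_⟩
  have e' : cokernel ((relι cv q).f i) ≅ relT cv q i :=
    cokernel.mapIso _ (biprod.inl : P.X i ⟶ P.X i ⊞ relT cv q i) (Iso.refl _) e
      (by rw [he, Iso.refl_hom, Category.id_comp]) ≪≫ cokernelBiprodInlIso
  exact hWiso e'.symm (W_relT cv q W hWiso hWcv hWbiprod hWsigma i)

include hW0

lemma W_stage_X (n : ℕ) (i : ℤ) : W ((stage cv G n).K.X i) := by
  induction n generalizing i with
  | zero =>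
    refine W_relP_X cv W hWiso hWcv hWbiprod hWsigma _ (fun j => hW0 _ ?_) i
    exact (HomologicalComplex.eval A (ComplexShape.up ℤ) j).map_isZero (isZero_zero _)
  | succ n ih => exact W_relP_X cv W hWiso hWcv hWbiprod hWsigma _ ih i

end W

section Main

/-- the cocone to `G` -/
noncomputable def sysCocone : Cocone (Kc cv G) where
  pt := G
  ι := NatTrans.ofSequence (F := Kc cv G) (G := (Functor.const ℕ).obj G)
    (fun n => (stage cv G n).π ≫ G.ιTruncLE ((n : ℤ) + 1))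
    (fun n => by
      simp only [Functor.const_obj_obj, Functor.const_obj_map, Category.comp_id]
      exact compat cv G n)

/-- the map from the colimit of the system -/
noncomputable def sysc : colimit (Kc cv G) ⟶ G := colimit.desc _ (sysCocone cv G)

omit [HasColimitsOfShape (Discrete ℕ) A] in
lemma ι_sysc (n : ℕ) :
    colimit.ι (Kc cv G) n ≫ sysc cv G = (stage cv G n).π ≫ G.ιTruncLE ((n : ℤ) + 1) :=
  colimit.ι_desc _ _

variable [HasExactColimitsOfShape ℕ A]

omit [HasColimitsOfShape (Discrete ℕ) A] in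
theorem quasiIso_sysc : QuasiIso (sysc cv G) := by
  rw [quasiIso_iff]
  intro i
  rw [quasiIsoAt_iff_isIso_homologyMap]
  let H := HomologicalComplex.homologyFunctor A (ComplexShape.up ℤ) i
  have hc1 : IsColimit (H.mapCocone (colimit.cocone (Kc cv G))) :=
    isColimitOfPreserves H (colimit.isColimit _)
  have hs : IsColimit (H.mapCocone (sysCocone cv G)) := by
    refine isColimitOfEventuallyIso _ (i - 1).toNat (fun n hn => ?_)
    change IsIso (homologyMap ((stage cv G n).π ≫ G.ιTruncLE ((n : ℤ) + 1)) i)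
    rw [homologyMap_comp]
    haveI := quasiIso_π cv G n
    haveI : QuasiIsoAt (G.ιTruncLE ((n : ℤ) + 1)) i :=
      G.quasiIsoAt_ιTruncLE _ _ (by omega)
    infer_instance
  have h : H.map (sysc cv G) = (hc1.coconePointUniqueUpToIso hs).hom := by
    apply hc1.hom_ext
    intro n
    refine Eq.trans ?_ (hc1.comp_coconePointUniqueUpToIso_hom hs n).symm
    change H.map (colimit.ι _ n) ≫ H.map (sysc cv G) = H.map _
    rw [← H.map_comp, ι_sysc]
    rfl
  change IsIso (H.map (sysc cv G))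
  rw [h]
  infer_instance

/-- **Systems of resolutions over the canonical truncations.** -/
theorem exists_system (hcv : ∀ X, IsZero X → IsZero (cv.obj X))
    (W : A → Prop) (hWiso : ∀ {X Y : A}, (X ≅ Y) → W X → W Y)
    (hWcv : ∀ X, W (cv.obj X)) (hWbiprod : ∀ {X Y : A}, W X → W Y → W (X ⊞ Y))
    (hWsigma : ∀ (X : ℕ → A), (∀ k, W (X k)) → W (∐ X)) (hW0 : ∀ X, IsZero X → W X) :
    ∃ (Kc : ℕ ⥤ CochainComplex A ℤ) (π : ∀ n : ℕ, Kc.obj n ⟶ G.truncLE ((n : ℤ) + 1)),
      (∀ n : ℕ, Kc.map (homOfLE (Nat.le_succ n)) ≫ π (n + 1) ≫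
          G.ιTruncLE (((n + 1 : ℕ) : ℤ) + 1) = π n ≫ G.ιTruncLE ((n : ℤ) + 1)) ∧
      (∀ n : ℕ, QuasiIso (π n) ∧ ∀ i : ℤ, Epi ((π n).f i)) ∧
      (∀ n : ℕ, ∃ b : ℤ, (Kc.obj n).IsStrictlyLE b) ∧
      (∀ (n : ℕ) (i : ℤ), W ((Kc.obj n).X i)) ∧
      (∀ (n : ℕ) (i : ℤ), ∃ r : (Kc.obj (n + 1)).X i ⟶ (Kc.obj n).X i,
        (Kc.map (homOfLE (Nat.le_succ n))).f i ≫ r = 𝟙 _ ∧
        W (cokernel ((Kc.map (homOfLE (Nat.le_succ n))).f i))) ∧
      ∃ c : colimit Kc ⟶ G, (∀ n : ℕ, colimit.ι Kc n ≫ c = π n ≫ G.ιTruncLE ((n : ℤ) + 1)) ∧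
        QuasiIso c := by
  refine ⟨Kc cv G, fun n => (stage cv G n).π, compat cv G,
    fun n => ⟨quasiIso_π cv G n, epi_π_f cv G n⟩, fun n => ?_,
    W_stage_X cv G W hWiso hWcv hWbiprod hWsigma hW0, fun n i => ?_,
    sysc cv G, ι_sysc cv G, quasiIso_sysc cv G⟩
  · obtain ⟨b, hb⟩ := exists_bound cv G hcv n
    exact ⟨b, (isStrictlyLE_iff _ _).2 (fun i hi => hb i hi)⟩
  · rw [Kc_map_succ]
    exact split_relι cv W hWiso hWcv hWbiprod hWsigma _ i

end Main

end Sys

end Groth.Agent.Lib.Helper1.RelCellSys
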