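import Mathlib
import Groth.Agent.Lib.Helper16.BiCx1

/-!
# Helper1 — StupidGE: the stupid truncations `σ_{≥ p} K` of a cochain complex as subcomplexes,
and `K = colim_n σ_{≥ -n} K`.
-/

set_option autoImplicit false
open CategoryTheory CategoryTheory.Limits HomologicalComplex ZeroObject

namespace Groth.Agent.Lib.Helper1.StupidGE

open Groth.Agent.Lib.Helper16.BiCx

section EventuallyIso

variable {C : Type*} [Category C]

/-- a cocone over a sequence all of whose legs of index `≥ N` are isomorphisms is a colimit. -/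
noncomputable def isColimitOfEventuallyIso (F : ℕ ⥤ C) (c : Cocone F) (N : ℕ)
    (h : ∀ n, N ≤ n → IsIso (c.ι.app n)) : IsColimit c := by
  haveI := h N le_rfl
  have key : ∀ (s : Cocone F) (n : ℕ), c.ι.app n ≫ inv (c.ι.app N) ≫ s.ι.app N = s.ι.app n := by
    intro s n
    by_cases hn : n ≤ N
    · rw [← c.w (homOfLE hn), Category.assoc, IsIso.hom_inv_id_assoc, s.w]
    · have hn' : N ≤ n := by omega
      haveI := h n hn'
      have h1 : inv (c.ι.app N) ≫ F.map (homOfLE hn') = inv (c.ι.app n) := by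
        rw [IsIso.inv_comp_eq, ← cancel_mono (c.ι.app n), Category.assoc, IsIso.inv_hom_id,
          Category.comp_id, c.w]
      rw [← s.w (homOfLE hn'), ← Category.assoc (inv _), h1, IsIso.hom_inv_id_assoc]
  exact
    { desc := fun s => inv (c.ι.app N) ≫ s.ι.app N
      fac := fun s n => key s n
      uniq := fun s m hm => by
        rw [← hm N, IsIso.inv_hom_id_assoc] }

end EventuallyIso

variable {A : Type*} [Category A] [Abelian A] (K : CochainComplex A ℤ) (p : ℤ)

open Classical in
/-- the terms of `σ_{≥ p} K`. -/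
noncomputable def geX (i : ℤ) : A := if p ≤ i then K.X i else 0

variable {p} in
lemma geX_of_le {i : ℤ} (h : p ≤ i) : geX K p i = K.X i := if_pos h

variable {p} in
lemma isZero_geX {i : ℤ} (h : i < p) : IsZero (geX K p i) := by
  rw [geX, if_neg (by omega)]
  exact isZero_zero _

/-- the inclusion `(σ_{≥ p} K)^i → K^i`. -/
noncomputable def geι (i : ℤ) : geX K p i ⟶ K.X i :=
  if h : p ≤ i then eqToHom (geX_of_le K h) else 0

/-- the retraction `K^i → (σ_{≥ p} K)^i`. -/
noncomputable def geρ (i : ℤ) : K.X i ⟶ geX K p i :=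
  if h : p ≤ i then eqToHom (geX_of_le K h).symm else 0

@[reassoc (attr := simp)]
lemma geι_ρ (i : ℤ) : geι K p i ≫ geρ K p i = 𝟙 _ := by
  by_cases h : p ≤ i
  · simp [geι, geρ, h]
  · exact (isZero_geX K (by omega)).eq_of_src _ _

variable {p} in
@[reassoc]
lemma geρ_ι {i : ℤ} (h : p ≤ i) : geρ K p i ≫ geι K p i = 𝟙 _ := by
  simp [geι, geρ, h]

variable {p} in
lemma geι_eq_zero {i : ℤ} (h : i < p) : geι K p i = 0 := (isZero_geX K h).eq_of_src _ _

variable {p} in
lemma geρ_eq_zero {i : ℤ} (h : i < p) : geρ K p i = 0 := (isZero_geX K h).eq_of_tgt _ _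

variable {p} in
lemma isIso_geι {i : ℤ} (h : p ≤ i) : IsIso (geι K p i) :=
  ⟨geρ K p i, geι_ρ K p i, geρ_ι K h⟩

/-- `d ≫ ρ ≫ ι = d` on the truncation. -/
@[reassoc]
lemma geι_d_ρ_ι (i j : ℤ) : geι K p i ≫ K.d i j ≫ geρ K p j ≫ geι K p j = geι K p i ≫ K.d i j := by
  by_cases hij : i + 1 = j
  · by_cases h : p ≤ j
    · rw [geρ_ι K h, Category.comp_id]
    · rw [geι_eq_zero K (show i < p by omega), zero_comp, zero_comp]
  · simp [K.shape i j hij]

/-- the stupid truncation `σ_{≥ p} K`. -/
noncomputable def ge : CochainComplex A ℤ where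
  X := geX K p
  d i j := geι K p i ≫ K.d i j ≫ geρ K p j
  shape i j h := by rw [K.shape i j h, zero_comp, comp_zero]
  d_comp_d' i j k _ _ := by
    rw [Category.assoc, Category.assoc, geι_d_ρ_ι_assoc, K.d_comp_d_assoc, zero_comp, comp_zero]

/-- the inclusion `σ_{≥ p} K → K`. -/
noncomputable def geInc : ge K p ⟶ K where
  f := geι K p
  comm' i j _ := by
    change geι K p i ≫ K.d i j = (geι K p i ≫ K.d i j ≫ geρ K p j) ≫ geι K p j
    rw [Category.assoc, Category.assoc, geι_d_ρ_ι]

variable {p} in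
/-- the inclusion `σ_{≥ p} K → σ_{≥ p'} K` for `p' ≤ p`. -/
noncomputable def geMap {p' : ℤ} (h : p' ≤ p) : ge K p ⟶ ge K p' where
  f i := geι K p i ≫ geρ K p' i
  comm' i j _ := by
    change (geι K p i ≫ geρ K p' i) ≫ (geι K p' i ≫ K.d i j ≫ geρ K p' j) =
      (geι K p i ≫ K.d i j ≫ geρ K p j) ≫ geι K p j ≫ geρ K p' j
    by_cases hi : p ≤ i
    · rw [Category.assoc, geρ_ι_assoc K (show p' ≤ i by omega), Category.assoc, Category.assoc,
        geι_d_ρ_ι_assoc]
    · simp [geι_eq_zero K (show i < p by omega)]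

variable {p} in
@[reassoc (attr := simp)]
lemma geMap_geInc {p' : ℤ} (h : p' ≤ p) : geMap K h ≫ geInc K p' = geInc K p := by
  ext i
  change (geι K p i ≫ geρ K p' i) ≫ geι K p' i = geι K p i
  by_cases hi : p ≤ i
  · rw [Category.assoc, geρ_ι K (show p' ≤ i by omega), Category.comp_id]
  · rw [geι_eq_zero K (show i < p by omega), zero_comp, zero_comp]

instance mono_geInc_f (i : ℤ) : Mono ((geInc K p).f i) :=
  show Mono (geι K p i) from mono_of_mono_fac (geι_ρ K p i)

instance mono_geInc : Mono (geInc K p) := HomologicalComplex.mono_of_mono_f _ inferInstance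

variable {p} in
lemma geMap_comp {p' p'' : ℤ} (h : p' ≤ p) (h' : p'' ≤ p') :
    geMap K h ≫ geMap K h' = geMap K (h'.trans h) := by
  rw [← cancel_mono (geInc K p''), Category.assoc, geMap_geInc, geMap_geInc, geMap_geInc]

lemma geMap_refl : geMap K (le_refl p) = 𝟙 _ := by
  rw [← cancel_mono (geInc K p), geMap_geInc, Category.id_comp]

variable {p} in
lemma isZero_ge_X_of_lt {i : ℤ} (h : i < p) : IsZero ((ge K p).X i) := isZero_geX K h

variable {p} in
lemma isZero_ge_X_of_isZero {i : ℤ} (h : IsZero (K.X i)) : IsZero ((ge K p).X i) :=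
  IsZero.of_mono_eq_zero ((geInc K p).f i) (h.eq_of_tgt _ _)

variable {p} in
/-- `(σ_{≥ p} K)^i ≅ K^i` for `p ≤ i`. -/
noncomputable def geXIso {i : ℤ} (h : p ≤ i) : (ge K p).X i ≅ K.X i where
  hom := geι K p i
  inv := geρ K p i
  hom_inv_id := geι_ρ K p i
  inv_hom_id := geρ_ι K h

lemma neg_le_neg_of_hom {n m : ℕ} (f : n ⟶ m) : -(m : ℤ) ≤ -(n : ℤ) := by
  have := leOfHom f
  omega

/-- the sequence `n ↦ σ_{≥ -n} K`. -/
noncomputable def geSeq : ℕ ⥤ CochainComplex A ℤ where
  obj n := ge K (-(n : ℤ))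
  map {n m} f := geMap K (neg_le_neg_of_hom f)
  map_id n := geMap_refl K _
  map_comp f g := (geMap_comp K _ _).symm

/-- the cocone `σ_{≥ -n} K → K`. -/
noncomputable def geCocone : Cocone (geSeq K) where
  pt := K
  ι := { app := fun n => geInc K (-(n : ℤ))
         naturality := fun n m f => by
           change geMap K (neg_le_neg_of_hom f) ≫ geInc K _ = geInc K _ ≫ 𝟙 _
           rw [geMap_geInc, Category.comp_id] }

/-- `K = colim_n σ_{≥ -n} K`. -/
noncomputable def isColimitGeCocone : IsColimit (geCocone K) :=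
  HomologicalComplex.isColimitOfEval _ _ (fun i =>
    isColimitOfEventuallyIso _ _ (-i).toNat (fun n hn => by
      change IsIso (geι K (-(n : ℤ)) i)
      refine isIso_geι K ?_
      have : (-i).toNat ≤ n := hn
      omega))

/-! ### the graded pieces -/

/-- the quotient `σ_{≥ p} K / σ_{≥ p+1} K`. -/
noncomputable abbrev gr : CochainComplex A ℤ := cokernel (geMap K (show p ≤ p + 1 by omega))

/-- the degreewise split short exact sequence `σ_{≥ p+1} K → σ_{≥ p} K → gr`. -/
noncomputable abbrev grSC : ShortComplex (CochainComplex A ℤ) :=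
  ShortComplex.mk (geMap K (show p ≤ p + 1 by omega)) (cokernel.π _) (cokernel.condition _)

lemma dSplit_grSC : DSplit (grSC K p) :=
  dSplit_of_retractions _ (fun i => geι K p i ≫ geρ K (p + 1) i) (fun i => by
    change (geι K (p + 1) i ≫ geρ K p i) ≫ geι K p i ≫ geρ K (p + 1) i = 𝟙 _
    by_cases hi : p + 1 ≤ i
    · rw [Category.assoc, geρ_ι_assoc K (show p ≤ i by omega), geι_ρ]
    · exact (isZero_geX K (by omega)).eq_of_src _ _)

lemma isZero_gr_X {i : ℤ} (h : i ≠ p) : IsZero ((gr K p).X i) := by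
  have hS := (dSplit_grSC K p).shortExact
  rw [HomologicalComplex.shortExact_iff_degreewise_shortExact] at hS
  have hi := hS i
  by_cases h' : i < p
  · haveI := (hi).epi_g
    exact IsZero.of_epi_eq_zero ((grSC K p).g.f i) ((isZero_ge_X_of_lt K h').eq_of_src _ _)
  · have h'' : p + 1 ≤ i := by omega
    -- the first map is an isomorphism in degree `i`
    haveI : IsIso ((grSC K p).f.f i) := by
      change IsIso (geι K (p + 1) i ≫ geρ K p i)
      haveI := isIso_geι K h''
      haveI : IsIso (geρ K p i) :=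
        ⟨geι K p i, geρ_ι K (show p ≤ i by omega), geι_ρ K p i⟩
      infer_instance
    haveI := hi.epi_g
    refine IsZero.of_epi_eq_zero ((grSC K p).g.f i) ?_
    rw [← cancel_epi ((grSC K p).f.f i), comp_zero, ← HomologicalComplex.comp_f, (grSC K p).zero,
      HomologicalComplex.zero_f]

/-- `gr^p ≅ K^p`. -/
noncomputable def grXIso : (gr K p).X p ≅ K.X p := by
  have hS := (dSplit_grSC K p).shortExact
  rw [HomologicalComplex.shortExact_iff_degreewise_shortExact] at hS
  have hi := hS p
  haveI := hi.epi_g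
  haveI : Mono ((grSC K p).g.f p) := by
    refine hi.exact.mono_g ?_
    exact (isZero_ge_X_of_lt K (show p < p + 1 by omega)).eq_of_src _ _
  haveI : IsIso ((grSC K p).g.f p) := isIso_of_mono_of_epi _
  exact (asIso ((grSC K p).g.f p)).symm ≪≫ geXIso K (le_refl p)

lemma gr_d_eq_zero (i j : ℤ) : (gr K p).d i j = 0 := by
  by_cases hi : i = p
  · by_cases hj : j = p
    · rw [(gr K p).shape i j (by simp; omega)]
    · exact (isZero_gr_X K p hj).eq_of_tgt _ _
  · exact (isZero_gr_X K p hi).eq_of_src _ _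

end Groth.Agent.Lib.Helper1.StupidGE
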