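import Mathlib
import Groth.Prelude.Def_CohDer
import Groth.Agent.Lib.Helper1.HoColimGen
import Groth.Agent.Lib.Helper1.RelCellSys
import Groth.Agent.Lib.Helper1.StupidGE
import Groth.Agent.Lib.Helper8.Compact4

/-!
# Helper1 — CompactRetract: compact objects of `D(A)` are retracts of bounded complexes of
"generators" (first part: bounded complexes with terms in a class `W` stable under sums)
-/

set_option autoImplicit false
set_option linter.unusedSectionVars false

open CategoryTheory CategoryTheory.Limits DerivedCategory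

namespace Groth.Agent.Lib.Helper1.CompactRetract

open Groth.Agent.Lib.Helper1.CellRes Groth.Agent.Lib.Helper1.StupidGE
  Groth.Agent.Lib.Helper8.Compact

universe v u

variable {A : Type u} [Category.{v} A] [Abelian A]
  [HasDerivedCategory.{v} A] [HasCoproducts.{v} (DerivedCategory A)]
  [HasColimitsOfShape (Discrete ℕ) A] [HasExactColimitsOfShape (Discrete ℕ) A]
  [HasColimitsOfShape ℕ A] [HasExactColimitsOfShape ℕ A]

/-- maps from a compact object to a termwise sequential colimit factor through a stage -/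
lemma factors_through_stage {K : DerivedCategory A} (hK : CohDer.IsCompactObject K)
    (L : ℕ ⥤ CochainComplex A ℤ) (c : Cocone L) (hc : IsColimit c) (φ : K ⟶ Q.obj c.pt) :
    ∃ (n : ℕ) (ψ : K ⟶ Q.obj (L.obj n)), ψ ≫ Q.map (c.ι.app n) = φ := by
  haveI : HasColimitsOfShape (Discrete ℕ) (DerivedCategory A) :=
    hasColimitsOfShape_of_equivalence
      (Discrete.equivalence (Equiv.ulift.{v} : ULift.{v} ℕ ≃ ℕ))
  exact (FF_of_isCompactObject hK).factors_through_stage (HoColimGen.isHocolim L c hc) φ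

/-- **a compact object is a retract of a bounded complex with terms in `W`** -/
theorem exists_bounded_retract (cv : Cov A) (hcv : ∀ X, IsZero X → IsZero (cv.obj X))
    (W : A → Prop) (hWiso : ∀ {X Y : A}, (X ≅ Y) → W X → W Y)
    (hWcv : ∀ X, W (cv.obj X)) (hWbiprod : ∀ {X Y : A}, W X → W Y → W (X ⊞ Y))
    (hWsigma : ∀ (X : ℕ → A), (∀ k, W (X k)) → W (∐ X)) (hW0 : ∀ X, IsZero X → W X)
    (K : DerivedCategory A) (hK : CohDer.IsCompactObject K) :
    ∃ (L : CochainComplex A ℤ) (a b : ℤ) (φ : K ⟶ Q.obj L) (ψ : Q.obj L ⟶ K),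
      φ ≫ ψ = 𝟙 K ∧ (∀ i : ℤ, i < a ∨ b < i → IsZero (L.X i)) ∧ ∀ i, W (L.X i) := by
  let G := Q.objPreimage K
  let eG : Q.obj G ≅ K := Q.objObjPreimageIso K
  obtain ⟨Kc, π, -, -, hb, hWK, -, c, -, hc⟩ :=
    RelCellSys.exists_system cv G hcv W hWiso hWcv hWbiprod hWsigma hW0
  haveI : IsIso (Q.map c) := (isIso_Q_map_iff_quasiIso A c).2 hc
  -- first retraction: a stage of the system
  obtain ⟨n, ψ₁, hψ₁⟩ := factors_through_stage hK Kc (colimit.cocone Kc) (colimit.isColimit Kc)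
    (eG.inv ≫ inv (Q.map c))
  obtain ⟨b, hbn⟩ := hb n
  let P := Kc.obj n
  let r₁ : Q.obj P ⟶ K := Q.map (colimit.ι Kc n) ≫ Q.map c ≫ eG.hom
  have h₁ : ψ₁ ≫ r₁ = 𝟙 K := by
    have := hψ₁
    change ψ₁ ≫ Q.map (colimit.ι Kc n) = _ at this
    change ψ₁ ≫ Q.map (colimit.ι Kc n) ≫ Q.map c ≫ eG.hom = _
    rw [reassoc_of% this, IsIso.inv_hom_id_assoc, Iso.inv_hom_id]
  -- second retraction: a stupid truncation
  obtain ⟨m, ψ₂, hψ₂⟩ : ∃ (m : ℕ) (ψ₂ : K ⟶ Q.obj (ge P (-(m : ℤ)))),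
      ψ₂ ≫ Q.map (geInc P (-(m : ℤ))) = ψ₁ :=
    factors_through_stage hK (geSeq P) (geCocone P) (isColimitGeCocone P) ψ₁
  refine ⟨ge P (-(m : ℤ)), -(m : ℤ), b, ψ₂, Q.map (geInc P (-(m : ℤ))) ≫ r₁, ?_, ?_, ?_⟩
  · rw [reassoc_of% hψ₂, h₁]
  · rintro i (hi | hi)
    · exact isZero_ge_X_of_lt P hi
    · exact isZero_ge_X_of_isZero P (P.isZero_of_isStrictlyLE b i hi)
  · intro i
    by_cases hi : -(m : ℤ) ≤ i
    · exact hWiso (geXIso P hi).symm (hWK n i)
    · exact hW0 _ (isZero_ge_X_of_lt P (by omega))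

end Groth.Agent.Lib.Helper1.CompactRetract
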