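import Mathlib

/-!
# Helper1 — SumClosure: objects isomorphic to a coproduct of objects satisfying a predicate
-/

set_option autoImplicit false
open CategoryTheory CategoryTheory.Limits

namespace Groth.Agent.Lib.Helper1.SumClosure

universe w v u

variable {A : Type u} [Category.{v} A] [Preadditive A] [HasCoproducts.{w} A]

/-- `X` is a coproduct (indexed by a type in `Type w`) of objects satisfying `P` -/
def IsSumOf (P : A → Prop) (X : A) : Prop :=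
  ∃ (ι : Type w) (E : ι → A), (∀ i, P (E i)) ∧ Nonempty (X ≅ ∐ E)

variable {P : A → Prop}

lemma IsSumOf.of_iso {X Y : A} (e : X ≅ Y) (h : IsSumOf.{w} P X) : IsSumOf.{w} P Y := by
  obtain ⟨ι, E, hE, ⟨e'⟩⟩ := h
  exact ⟨ι, E, hE, ⟨e.symm ≪≫ e'⟩⟩

lemma isZero_sigma' {ι : Type*} (X : ι → A) [HasCoproduct X] (h : ∀ i, IsZero (X i)) :
    IsZero (∐ X) := by
  rw [IsZero.iff_id_eq_zero]
  exact Sigma.hom_ext _ _ (fun i => (h i).eq_of_src _ _)

lemma IsSumOf.of_isZero (X : A) (h : IsZero X) : IsSumOf.{w} P X :=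
  ⟨PEmpty, PEmpty.elim, fun i => i.elim, ⟨h.iso (isZero_sigma' _ (fun i => i.elim))⟩⟩

lemma IsSumOf.biprod [HasBinaryBiproducts A] {M N : A} (hM : IsSumOf.{w} P M)
    (hN : IsSumOf.{w} P N) : IsSumOf.{w} P (M ⊞ N) := by
  obtain ⟨ι₁, U₁, hU₁, ⟨e₁⟩⟩ := hM
  obtain ⟨ι₂, U₂, hU₂, ⟨e₂⟩⟩ := hN
  refine ⟨ι₁ ⊕ ι₂, Sum.elim U₁ U₂, fun j => by rcases j with i | i <;> simp [hU₁, hU₂], ⟨?_⟩⟩
  let c : Cofan (Sum.elim U₁ U₂) :=
    Cofan.mk (M ⊞ N) (fun j => match j with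
      | Sum.inl i => Sigma.ι U₁ i ≫ e₁.inv ≫ biprod.inl
      | Sum.inr i => Sigma.ι U₂ i ≫ e₂.inv ≫ biprod.inr)
  have hc : IsColimit c := Cofan.IsColimit.mk c
    (fun s => biprod.desc (e₁.hom ≫ Sigma.desc (fun i => s.inj (Sum.inl i)))
      (e₂.hom ≫ Sigma.desc (fun i => s.inj (Sum.inr i))))
    (fun s j => by
      rcases j with i | i
      · change (Sigma.ι _ i ≫ e₁.inv ≫ biprod.inl) ≫ _ = _
        simp
      · change (Sigma.ι _ i ≫ e₂.inv ≫ biprod.inr) ≫ _ = _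
        simp)
    (fun s m hm => by
      apply biprod.hom_ext'
      · rw [biprod.inl_desc, ← cancel_epi e₁.inv, Iso.inv_hom_id_assoc]
        apply Sigma.hom_ext
        intro i
        rw [Sigma.ι_desc, ← hm (Sum.inl i)]
        change _ = (Sigma.ι _ i ≫ e₁.inv ≫ biprod.inl) ≫ m
        simp
      · rw [biprod.inr_desc, ← cancel_epi e₂.inv, Iso.inv_hom_id_assoc]
        apply Sigma.hom_ext
        intro i
        rw [Sigma.ι_desc, ← hm (Sum.inr i)]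
        change _ = (Sigma.ι _ i ≫ e₂.inv ≫ biprod.inr) ≫ m
        simp)
  exact hc.coconePointUniqueUpToIso (coproductIsCoproduct _)

lemma IsSumOf.sigma_nat [HasColimitsOfShape (Discrete ℕ) A] (X : ℕ → A)
    (h : ∀ k, IsSumOf.{w} P (X k)) : IsSumOf.{w} P (∐ X) := by
  choose ι U hU e using h
  refine ⟨Σ k : ℕ, ι k, fun p => U p.1 p.2, fun p => hU p.1 p.2, ⟨?_⟩⟩
  exact Sigma.mapIso (fun k => (e k).some) ≪≫ sigmaSigmaIso ι (fun k j => U k j)

end Groth.Agent.Lib.Helper1.SumClosure
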