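import Mathlib
import Groth.Prelude.Def_CohDer
import Groth.Agent.Lib.Helper8.Compact
import Groth.Agent.Lib.Helper8.DCoprod3
import Groth.Agent.Lib.Helper1.SumClosure

/-!
# Helper1 — CompactRetract2: cutting a bounded complex of (infinite) sums down to a bounded complex
of finite sums, keeping a given compact object as a retract
-/

set_option autoImplicit false
set_option linter.unusedSectionVars false

open CategoryTheory CategoryTheory.Limits Opposite DerivedCategory

namespace Groth.Agent.Lib.Helper1.CompactRetract2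

open Groth.Agent.Lib.Helper8.Compact Groth.Agent.Lib.Helper8 Groth.Agent.Lib.Helper1.SumClosure

universe w v u

section Preadditive

variable {A : Type u} [Category.{v} A] [Preadditive A]

lemma comp_cS_of_subset {ι : Type v} (E : ι → A) [HasCoproduct E] {Y : A} (g : Y ⟶ ∐ E)
    {T T' : Finset ι} (hT : T ⊆ T') (h : g ≫ cS E T = 0) : g ≫ cS E T' = 0 := by
  classical
  have : cS E T' = cS E T ≫ cS E T' := by
    rw [cS_comp_cS, Finset.union_eq_right.2 hT]
  rw [this, reassoc_of% h, zero_comp]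

/-- a map from an object whose additive `Hom` functor preserves coproducts to a coproduct has
finite support -/
lemma exists_cS_of_preserves {ι : Type v} (E : ι → A) [HasCoproduct E] (E' : A)
    [PreservesColimitsOfShape (Discrete ι) (preadditiveCoyoneda.obj (op E'))]
    (g : E' ⟶ ∐ E) : ∃ T : Finset ι, g ≫ cS E T = 0 := by
  classical
  let F := preadditiveCoyoneda.obj (op E')
  let H : AddSubgroup (E' ⟶ ∐ E) :=
    { carrier := {g | ∃ T : Finset ι, g ≫ cS E T = 0}
      zero_mem' := ⟨∅, zero_comp⟩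
      add_mem' := by
        rintro g₁ g₂ ⟨T₁, h₁⟩ ⟨T₂, h₂⟩
        refine ⟨T₁ ∪ T₂, ?_⟩
        rw [Preadditive.add_comp, comp_cS_of_subset E g₁ Finset.subset_union_left h₁,
          comp_cS_of_subset E g₂ Finset.subset_union_right h₂, add_zero]
      neg_mem' := by
        rintro g₁ ⟨T₁, h₁⟩
        exact ⟨T₁, by rw [Preadditive.neg_comp, h₁, neg_zero]⟩ }
  let q : F.obj (∐ E) ⟶ AddCommGrpCat.of ((E' ⟶ ∐ E) ⧸ H) :=
    AddCommGrpCat.ofHom (QuotientAddGroup.mk' H)
  have hc : IsColimit (F.mapCocone (colimit.cocone (Discrete.functor E))) :=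
    isColimitOfPreserves F (colimit.isColimit _)
  have hq : q = 0 := by
    refine hc.hom_ext (fun j => ?_)
    rw [comp_zero]
    ext (f : E' ⟶ E j.as)
    change QuotientAddGroup.mk' H (f ≫ Sigma.ι E j.as) = 0
    rw [QuotientAddGroup.mk'_apply, QuotientAddGroup.eq_zero_iff]
    exact ⟨{j.as}, by rw [Category.assoc, ι_cS, if_pos (Finset.mem_singleton_self _), comp_zero]⟩
  have : QuotientAddGroup.mk' H g = 0 := by
    change q.hom g = 0
    rw [hq]; rfl
  rw [QuotientAddGroup.mk'_apply, QuotientAddGroup.eq_zero_iff] at this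
  exact this

variable [HasFiniteBiproducts A]

/-- `X` is a finite direct sum of objects satisfying `P` -/
def IsFinSumOf (P : A → Prop) (X : A) : Prop :=
  ∃ (n : ℕ) (E : Fin n → A), (∀ j, P (E j)) ∧ Nonempty (X ≅ ⨁ E)

variable {P : A → Prop}

lemma IsFinSumOf.of_iso {X Y : A} (e : X ≅ Y) (h : IsFinSumOf P X) : IsFinSumOf P Y := by
  obtain ⟨n, E, hE, ⟨e'⟩⟩ := h
  exact ⟨n, E, hE, ⟨e.symm ≪≫ e'⟩⟩

lemma IsFinSumOf.of_isZero {X : A} (h : IsZero X) : IsFinSumOf P X := by
  refine ⟨0, Fin.elim0, fun j => j.elim0, ⟨h.iso ?_⟩⟩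
  rw [IsZero.iff_id_eq_zero]
  exact biproduct.hom_ext _ _ (fun j => j.elim0)

lemma IsFinSumOf.of_finite {J : Type w} [Finite J] (E : J → A) (hE : ∀ j, P (E j)) {X : A}
    (e : X ≅ ⨁ E) : IsFinSumOf P X := by
  obtain ⟨n, ⟨ε⟩⟩ := Finite.exists_equiv_fin J
  exact ⟨n, E ∘ ε.symm, fun j => hE _,
    ⟨e ≪≫ biproduct.whiskerEquiv (f := E) (g := E ∘ ε.symm) ε (fun j => eqToIso (by simp))⟩⟩

/-- a map from a finite sum of objects with coproduct-preserving `Hom` to a coproduct has finite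
support -/
lemma exists_cS_of_isFinSumOf {ι : Type v} (E : ι → A) [HasCoproduct E] {Y : A}
    (hY : IsFinSumOf (fun E' => ∀ (g : E' ⟶ ∐ E), ∃ T : Finset ι, g ≫ cS E T = 0) Y)
    (g : Y ⟶ ∐ E) : ∃ T : Finset ι, g ≫ cS E T = 0 := by
  classical
  obtain ⟨n, E', hE', ⟨e⟩⟩ := hY
  choose T hT using fun k => hE' k (biproduct.ι E' k ≫ e.inv ≫ g)
  refine ⟨Finset.univ.biUnion T, ?_⟩
  rw [← cancel_epi e.inv, comp_zero]
  apply biproduct.hom_ext'
  intro k
  rw [comp_zero]
  have := comp_cS_of_subset E _ (Finset.subset_biUnion_of_mem T (Finset.mem_univ k)) (hT k)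
  simpa using this

/-- the kernel of the projector killing a finite set of summands is the finite sum of those
summands -/
lemma isFinSumOf_kernel_cS {ι : Type v} (E : ι → A) [HasCoproduct E] (hE : ∀ i, P (E i))
    (T : Finset ι) [HasKernel (cS E T)] : IsFinSumOf P (kernel (cS E T)) := by
  classical
  let F : T → A := fun t => E t.1
  let b : Bicone F :=
    { pt := kernel (cS E T)
      π := fun t => kernel.ι _ ≫ Sigma.π E t.1
      ι := fun t => kernel.lift (cS E T) (Sigma.ι E t.1) (by rw [ι_cS, if_pos t.2])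
      ι_π := fun t t' => by
        rw [kernel.lift_ι_assoc, Sigma.ι_π]
        by_cases h : t = t'
        · subst h; simp; rfl
        · have h' : t.1 ≠ t'.1 := fun h'' => h (Subtype.ext h'')
          rw [dif_neg h, dif_neg h'] }
  have total : ∑ t : T, b.π t ≫ b.ι t = 𝟙 b.pt := by
    change ∑ t : T, (kernel.ι (cS E T) ≫ Sigma.π E t.1) ≫
      kernel.lift (cS E T) (Sigma.ι E t.1) _ = 𝟙 (kernel (cS E T))
    rw [← cancel_mono (kernel.ι (cS E T)), Preadditive.sum_comp, Category.id_comp]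
    have h1 : ∀ t : T, ((kernel.ι (cS E T) ≫ Sigma.π E t.1) ≫
        kernel.lift (cS E T) (Sigma.ι E t.1) (by rw [ι_cS, if_pos t.2])) ≫ kernel.ι (cS E T) =
        kernel.ι (cS E T) ≫ (Sigma.π E t.1 ≫ Sigma.ι E t.1) := fun t => by
      rw [Category.assoc, Category.assoc, kernel.lift_ι]
    rw [Finset.sum_congr rfl (fun t _ => h1 t), ← Preadditive.comp_sum,
      Finset.sum_coe_sort T (fun i => Sigma.π E i ≫ Sigma.ι E i)]
    change kernel.ι (cS E T) ≫ eS E T = _
    have h2 : eS E T = 𝟙 _ - cS E T := by rw [← eS_add_cS E T, add_sub_cancel_right]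
    rw [h2, Preadditive.comp_sub, kernel.condition, sub_zero, Category.comp_id]
  exact IsFinSumOf.of_finite F (fun t => hE t.1)
    (biproduct.uniqueUpToIso F (isBilimitOfTotal b total))

end Preadditive

section Abelian

variable {A : Type u} [Category.{v} A] [Abelian A]

open HomologicalComplex in
lemma mkHomToSingle_comp_map {L : CochainComplex A ℤ} {c : ℤ} {M N : A} (p : L.X c ⟶ M)
    (hp : ∀ i, (ComplexShape.up ℤ).Rel i c → L.d i c ≫ p = 0) (s : M ⟶ N) :
    mkHomToSingle p hp ≫ (single A (ComplexShape.up ℤ) c).map s =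
      mkHomToSingle (p ≫ s) (fun i hi => by rw [reassoc_of% hp i hi, zero_comp]) := by
  apply to_single_hom_ext
  rw [comp_f, mkHomToSingle_f, mkHomToSingle_f, single_map_f_self]
  simp

variable [HasDerivedCategory.{v} A]

open HomologicalComplex in
/-- **the truncation step**: cutting the term in degree `c` down to the kernel of an idempotent
through which the differential and the map from `K` vanish -/
lemma step (L : CochainComplex A ℤ) (c : ℤ) {N : A} (e : L.X c ≅ N) (ε : N ⟶ N)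
    (hε : ε ≫ ε = ε) (hq : ∀ i, (ComplexShape.up ℤ).Rel i c → L.d i c ≫ e.hom ≫ ε = 0)
    {K : DerivedCategory A} (φ : K ⟶ Q.obj L)
    (hφ : φ ≫ Q.map (mkHomToSingle (e.hom ≫ ε) hq) = 0) :
    ∃ (L' : CochainComplex A ℤ) (ι : L' ⟶ L) (φ' : K ⟶ Q.obj L'), φ' ≫ Q.map ι = φ ∧
      (∀ i, i ≠ c → Nonempty (L'.X i ≅ L.X i)) ∧ Nonempty (L'.X c ≅ kernel ε) := by
  let sg := single A (ComplexShape.up ℤ) c
  let p' := Abelian.factorThruImage ε
  let s := Abelian.image.ι ε
  have fac : p' ≫ s = ε := Abelian.image.fac ε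
  have hsp : s ≫ p' = 𝟙 _ := by
    rw [← cancel_epi p', ← cancel_mono s]
    simp only [Category.assoc, Category.comp_id]
    rw [fac, reassoc_of% fac, hε]
  let p : L.X c ⟶ Abelian.image ε := e.hom ≫ p'
  have hp : ∀ i, (ComplexShape.up ℤ).Rel i c → L.d i c ≫ p = 0 := fun i hi => by
    rw [← cancel_mono s, zero_comp]
    change (L.d i c ≫ (e.hom ≫ p')) ≫ s = 0
    rw [Category.assoc, Category.assoc, fac]
    exact hq i hi
  let π' : L ⟶ sg.obj (Abelian.image ε) := mkHomToSingle p hp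
  have hπ's : π' ≫ sg.map s = mkHomToSingle (e.hom ≫ ε) hq := by
    rw [mkHomToSingle_comp_map]
    congr 1
    change (e.hom ≫ p') ≫ s = _
    rw [Category.assoc, fac]
  have hφ' : φ ≫ Q.map π' = 0 := by
    have h1 : sg.map s ≫ sg.map p' = 𝟙 _ := by
      rw [← sg.map_comp, hsp, sg.map_id]
    have h2 : Q.map π' = Q.map (π' ≫ sg.map s) ≫ Q.map (sg.map p') := by
      rw [← Q.map_comp, Category.assoc, h1, Category.comp_id]
    rw [h2, hπ's, reassoc_of% hφ, zero_comp]
  haveI : Epi π' := by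
    apply epi_of_epi_f
    intro i
    by_cases hi : i = c
    · subst hi
      rw [mkHomToSingle_f]
      infer_instance
    · exact (isZero_single_obj_X (ComplexShape.up ℤ) c _ i hi).epi _
  let S : ShortComplex (CochainComplex A ℤ) := ShortComplex.mk (kernel.ι π') π' (kernel.condition π')
  have hS : S.ShortExact :=
    { exact := ShortComplex.exact_of_f_is_kernel _ (kernelIsKernel π')
      mono_f := inferInstanceAs (Mono (kernel.ι π'))
      epi_g := inferInstanceAs (Epi π') }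
  obtain ⟨φ', hφ''⟩ := Pretriangulated.Triangle.coyoneda_exact₂ _
    (DerivedCategory.triangleOfSES_distinguished hS) φ hφ'
  refine ⟨kernel π', kernel.ι π', φ', hφ''.symm, ?_, ?_⟩
  · intro i hi
    have h0 : π'.f i = 0 := (isZero_single_obj_X (ComplexShape.up ℤ) c _ i hi).eq_of_tgt _ _
    exact ⟨PreservesKernel.iso (eval A (ComplexShape.up ℤ) i) π' ≪≫ kernelIsoOfEq h0 ≪≫
      kernelZeroIsoSource⟩
  · have h0 : π'.f c = (e.hom ≫ p') ≫ (singleObjXSelf (ComplexShape.up ℤ) c _).inv :=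
      mkHomToSingle_f p hp
    exact ⟨PreservesKernel.iso (eval A (ComplexShape.up ℤ) c) π' ≪≫ kernelIsoOfEq h0 ≪≫
      kernelCompMono _ _ ≪≫ kernelIsIsoComp _ _ ≪≫ (kernelCompMono p' s).symm ≪≫
      kernelIsoOfEq fac⟩

variable [HasCoproducts.{v} (DerivedCategory A)]

/-- a map from a compact object of `D(A)` to a coproduct placed in a single degree has finite
support -/
lemma exists_cS_of_isCompactObject {K : DerivedCategory A} (hK : CohDer.IsCompactObject K)
    {ι : Type v} [HasColimitsOfShape (Discrete ι) A] [HasExactColimitsOfShape (Discrete ι) A]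
    (E : ι → A) (c : ℤ)
    (θ : K ⟶ Q.obj ((HomologicalComplex.single A (ComplexShape.up ℤ) c).obj (∐ E))) :
    ∃ T : Finset ι,
      θ ≫ Q.map ((HomologicalComplex.single A (ComplexShape.up ℤ) c).map (cS E T)) = 0 := by
  classical
  let sg := HomologicalComplex.single A (ComplexShape.up ℤ) c
  let Kc : ι → CochainComplex A ℤ := fun i => sg.obj (E i)
  let c₁ : Cofan Kc := Cofan.mk (sg.obj (∐ E)) (fun i => sg.map (Sigma.ι E i))
  have hc₁ : IsColimit c₁ :=
    (isColimitMapCoconeCofanMkEquiv sg E (Sigma.ι E)) (isColimitOfPreserves sg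
      (coproductIsCoproduct E))
  let e₁ : ∐ Kc ≅ sg.obj (∐ E) :=
    IsColimit.coconePointUniqueUpToIso (coproductIsCoproduct Kc) hc₁
  have he₁ : ∀ i, Sigma.ι Kc i ≫ e₁.hom = sg.map (Sigma.ι E i) := fun i =>
    IsColimit.comp_coconePointUniqueUpToIso_hom (coproductIsCoproduct Kc) hc₁ ⟨i⟩
  let e₂ : ∐ (fun i => Q.obj (Kc i)) ≅ Q.obj (∐ Kc) :=
    IsColimit.coconePointUniqueUpToIso (coproductIsCoproduct _) (DCoprod3.isColimitCofanQ Kc)
  have he₂ : ∀ i, Sigma.ι (fun i => Q.obj (Kc i)) i ≫ e₂.hom = Q.map (Sigma.ι Kc i) := fun i =>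
    IsColimit.comp_coconePointUniqueUpToIso_hom (coproductIsCoproduct _)
      (DCoprod3.isColimitCofanQ Kc) ⟨i⟩
  let σ : ∐ (fun i => Q.obj (Kc i)) ≅ Q.obj (sg.obj (∐ E)) := e₂ ≪≫ Q.mapIso e₁
  have hσ : ∀ i, Sigma.ι (fun i => Q.obj (Kc i)) i ≫ σ.hom = Q.map (sg.map (Sigma.ι E i)) := by
    intro i
    change _ ≫ e₂.hom ≫ Q.map e₁.hom = _
    rw [reassoc_of% he₂ i, ← Q.map_comp, he₁]
  obtain ⟨T, hT⟩ : ∃ T : Finset ι, (θ ≫ σ.inv) ≫ cS (fun i => Q.obj (Kc i)) T = 0 := by
    obtain ⟨x, hx⟩ := (hK ι (fun i => Q.obj (Kc i))).2 (θ ≫ σ.inv)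
    rw [← hx]
    exact exists_cS_of_directSum K _ x
  refine ⟨T, ?_⟩
  have key : σ.hom ≫ Q.map (sg.map (cS E T)) = cS (fun i => Q.obj (Kc i)) T ≫ σ.hom := by
    apply Sigma.hom_ext
    intro i
    rw [reassoc_of% hσ i, ← Q.map_comp, ← sg.map_comp, ι_cS, ι_cS_assoc]
    split_ifs
    · rw [Functor.map_zero, Functor.map_zero, zero_comp]
    · rw [hσ]
  have : θ = (θ ≫ σ.inv) ≫ σ.hom := by rw [Category.assoc, Iso.inv_hom_id, Category.comp_id]
  rw [this, Category.assoc, key, ← Category.assoc, hT, zero_comp]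


variable [HasCoproducts.{v} A] [HasFiniteBiproducts A]
  [∀ ι : Type v, HasExactColimitsOfShape (Discrete ι) A]

/-- **cutting down to finite sums**: if a compact `K` is a retract of a bounded complex whose terms
are sums of objects in a class `P` of objects all of whose maps to coproducts have finite support,
then `K` is a retract of a bounded complex of finite sums of objects of `P` -/
theorem exists_finite_retract (P : A → Prop)
    (hP : ∀ E', P E' → ∀ (ι : Type v) (E : ι → A) (g : E' ⟶ ∐ E),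
      ∃ T : Finset ι, g ≫ cS E T = 0)
    {K : DerivedCategory A} (hK : CohDer.IsCompactObject K)
    (L : CochainComplex A ℤ) (a b : ℤ) (φ : K ⟶ Q.obj L) (ψ : Q.obj L ⟶ K)
    (hφψ : φ ≫ ψ = 𝟙 K) (hz : ∀ i : ℤ, i < a ∨ b < i → IsZero (L.X i))
    (hL : ∀ i, IsSumOf.{v} P (L.X i)) :
    ∃ (L' : CochainComplex A ℤ) (φ' : K ⟶ Q.obj L') (ψ' : Q.obj L' ⟶ K), φ' ≫ ψ' = 𝟙 K ∧
      (∀ i : ℤ, i < a ∨ b < i → IsZero (L'.X i)) ∧ ∀ i, IsFinSumOf P (L'.X i) := by
  classical
  have claim : ∀ k : ℕ, ∃ (L' : CochainComplex A ℤ) (φ' : K ⟶ Q.obj L') (ψ' : Q.obj L' ⟶ K),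
      φ' ≫ ψ' = 𝟙 K ∧ (∀ i : ℤ, i < a ∨ b < i → IsZero (L'.X i)) ∧
      (∀ i : ℤ, a + k ≤ i → IsSumOf.{v} P (L'.X i)) ∧
      (∀ i : ℤ, i < a + k → IsFinSumOf P (L'.X i)) := by
    intro k
    induction k with
    | zero =>
      exact ⟨L, φ, ψ, hφψ, hz, fun i _ => hL i, fun i hi =>
        IsFinSumOf.of_isZero (hz i (Or.inl (by simpa using hi)))⟩
    | succ k ih =>
      obtain ⟨L₁, φ₁, ψ₁, h₁, hz₁, hS₁, hF₁⟩ := ih
      set c : ℤ := a + k with hc
      by_cases hcb : b < c
      · refine ⟨L₁, φ₁, ψ₁, h₁, hz₁, fun i hi => hS₁ i (by push_cast at hi; omega), fun i hi => ?_⟩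
        by_cases hic : i < c
        · exact hF₁ i hic
        · exact IsFinSumOf.of_isZero (hz₁ i (Or.inr (by omega)))
      · obtain ⟨ι, E, hE, ⟨e⟩⟩ := hS₁ c le_rfl
        -- finite support of the incoming differential
        obtain ⟨T₂, hT₂⟩ := exists_cS_of_isFinSumOf E
          (by
            obtain ⟨n, E', hE', e'⟩ := hF₁ (c - 1) (by omega)
            exact ⟨n, E', fun j g => hP _ (hE' j) ι E g, e'⟩)
          (L₁.d (c - 1) c ≫ e.hom)
        have hq₂ : ∀ i, (ComplexShape.up ℤ).Rel i c → L₁.d i c ≫ e.hom ≫ cS E T₂ = 0 := by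
          intro i hi
          obtain rfl : i = c - 1 := by
            have : i + 1 = c := hi
            omega
          rw [← Category.assoc]
          exact hT₂
        -- finite support of the map from `K`
        obtain ⟨T₁, hT₁⟩ := exists_cS_of_isCompactObject hK E c
          (φ₁ ≫ Q.map (HomologicalComplex.mkHomToSingle (e.hom ≫ cS E T₂) hq₂))
        have hε : cS E (T₂ ∪ T₁) ≫ cS E (T₂ ∪ T₁) = cS E (T₂ ∪ T₁) := by
          rw [cS_comp_cS, Finset.union_self]
        have hq : ∀ i, (ComplexShape.up ℤ).Rel i c → L₁.d i c ≫ e.hom ≫ cS E (T₂ ∪ T₁) = 0 := by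
          intro i hi
          rw [← cS_comp_cS, reassoc_of% hq₂ i hi, zero_comp]
        have hφ : φ₁ ≫ Q.map (HomologicalComplex.mkHomToSingle (e.hom ≫ cS E (T₂ ∪ T₁)) hq) = 0 := by
          have h2 : HomologicalComplex.mkHomToSingle (e.hom ≫ cS E (T₂ ∪ T₁)) hq =
              HomologicalComplex.mkHomToSingle (e.hom ≫ cS E T₂) hq₂ ≫
                (HomologicalComplex.single A (ComplexShape.up ℤ) c).map (cS E T₁) := by
            rw [mkHomToSingle_comp_map]
            congr 1
            rw [Category.assoc, cS_comp_cS]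
          rw [h2, Q.map_comp, ← Category.assoc]
          exact hT₁
        obtain ⟨L₂, j, φ₂, hφ₂, hne, ⟨hc₂⟩⟩ := step L₁ c e (cS E (T₂ ∪ T₁)) hε hq φ₁ hφ
        refine ⟨L₂, φ₂, Q.map j ≫ ψ₁, by rw [reassoc_of% hφ₂, h₁], fun i hi => ?_,
          fun i hi => ?_, fun i hi => ?_⟩
        · have hic : i ≠ c := by
            rcases hi with hi | hi <;> omega
          exact IsZero.of_iso (hz₁ i hi) (hne i hic).some
        · have hic : i ≠ c := by push_cast at hi; omega
          exact IsSumOf.of_iso (hne i hic).some.symm (hS₁ i (by push_cast at hi; omega))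
        · by_cases hic : i = c
          · subst hic
            exact IsFinSumOf.of_iso hc₂.symm (isFinSumOf_kernel_cS E hE _)
          · exact IsFinSumOf.of_iso (hne i hic).some.symm (hF₁ i (by push_cast at hi; omega))
  obtain ⟨L', φ', ψ', h', hz', -, hF'⟩ := claim (b + 1 - a).toNat
  refine ⟨L', φ', ψ', h', hz', fun i => ?_⟩
  by_cases hi : i < a + ((b + 1 - a).toNat : ℤ)
  · exact hF' i hi
  · exact IsFinSumOf.of_isZero (hz' i (Or.inr (by omega)))

end Abelian

end Groth.Agent.Lib.Helper1.CompactRetract2
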