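import Mathlib
import Groth.Prelude.Def_CohDer
import Groth.Agent.Lib.Helper1.CompactRetract
import Groth.Agent.Lib.Helper1.CompactRetract2

/-!
# Helper1 — CompactRetract3: the retract theorems of `CompactRetract`/`CompactRetract2` with the
compactness hypothesis replaced by its two consequences that are actually used (factorisation
through a stage of a sequential colimit; finite support of maps to a coproduct in one degree), and
for a derived category with morphisms in an arbitrary universe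
-/

set_option autoImplicit false
set_option linter.unusedSectionVars false

open CategoryTheory CategoryTheory.Limits Opposite DerivedCategory

namespace Groth.Agent.Lib.Helper1.CompactRetract3

open Groth.Agent.Lib.Helper8.Compact Groth.Agent.Lib.Helper8 Groth.Agent.Lib.Helper1.SumClosure
  Groth.Agent.Lib.Helper1.CompactRetract2 Groth.Agent.Lib.Helper1.CellRes
  Groth.Agent.Lib.Helper1.StupidGE

universe w v u

variable {A : Type u} [Category.{v} A] [Abelian A] [HasDerivedCategory.{w} A]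

open HomologicalComplex in
/-- **the truncation step**: cutting the term in degree `c` down to the kernel of an idempotent
through which the differential and the map from `K` vanish -/
lemma step' (L : CochainComplex A ℤ) (c : ℤ) {N : A} (e : L.X c ≅ N) (ε : N ⟶ N)
    (hε : ε ≫ ε = ε) (hq : ∀ i, (ComplexShape.up ℤ).Rel i c → L.d i c ≫ e.hom ≫ ε = 0)
    {K : DerivedCategory A} (φ : K ⟶ Q.obj L)
    (hφ : φ ≫ Q.map (mkHomToSingle (e.hom ≫ ε) hq) = 0) :
    ∃ (L' : CochainComplex A ℤ) (ι : L' ⟶ L) (φ' : K ⟶ Q.obj L'), φ' ≫ Q.map ι = φ ∧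
      (∀ i, i ≠ c → Nonempty (L'.X i ≅ L.X i)) ∧ Nonempty (L'.X c ≅ kernel ε) := by
  let sg := single A (ComplexShape.up ℤ) c
  let p' := Abelian.factorThruImage ε
  let s := Abelian.image.ι ε
  have fac : p' ≫ s = ε := Abelian.image.fac ε
  have hsp : s ≫ p' = 𝟙 _ := by
    rw [← cancel_epi p', ← cancel_mono s]
    simp only [Category.assoc, Category.comp_id]
    rw [fac, reassoc_of% fac, hε]
  let p : L.X c ⟶ Abelian.image ε := e.hom ≫ p'
  have hp : ∀ i, (ComplexShape.up ℤ).Rel i c → L.d i c ≫ p = 0 := fun i hi => by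
    rw [← cancel_mono s, zero_comp]
    change (L.d i c ≫ (e.hom ≫ p')) ≫ s = 0
    rw [Category.assoc, Category.assoc, fac]
    exact hq i hi
  let π' : L ⟶ sg.obj (Abelian.image ε) := mkHomToSingle p hp
  have hπ's : π' ≫ sg.map s = mkHomToSingle (e.hom ≫ ε) hq := by
    rw [mkHomToSingle_comp_map]
    congr 1
    change (e.hom ≫ p') ≫ s = _
    rw [Category.assoc, fac]
  have hφ' : φ ≫ Q.map π' = 0 := by
    have h1 : sg.map s ≫ sg.map p' = 𝟙 _ := by
      rw [← sg.map_comp, hsp, sg.map_id]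
    have h2 : Q.map π' = Q.map (π' ≫ sg.map s) ≫ Q.map (sg.map p') := by
      rw [← Q.map_comp, Category.assoc, h1, Category.comp_id]
    rw [h2, hπ's, reassoc_of% hφ, zero_comp]
  haveI : Epi π' := by
    apply epi_of_epi_f
    intro i
    by_cases hi : i = c
    · subst hi
      rw [mkHomToSingle_f]
      infer_instance
    · exact (isZero_single_obj_X (ComplexShape.up ℤ) c _ i hi).epi _
  let S : ShortComplex (CochainComplex A ℤ) := ShortComplex.mk (kernel.ι π') π' (kernel.condition π')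
  have hS : S.ShortExact :=
    { exact := ShortComplex.exact_of_f_is_kernel _ (kernelIsKernel π')
      mono_f := inferInstanceAs (Mono (kernel.ι π'))
      epi_g := inferInstanceAs (Epi π') }
  obtain ⟨φ', hφ''⟩ := Pretriangulated.Triangle.coyoneda_exact₂ _
    (DerivedCategory.triangleOfSES_distinguished hS) φ hφ'
  refine ⟨kernel π', kernel.ι π', φ', hφ''.symm, ?_, ?_⟩
  · intro i hi
    have h0 : π'.f i = 0 := (isZero_single_obj_X (ComplexShape.up ℤ) c _ i hi).eq_of_tgt _ _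
    exact ⟨PreservesKernel.iso (eval A (ComplexShape.up ℤ) i) π' ≪≫ kernelIsoOfEq h0 ≪≫
      kernelZeroIsoSource⟩
  · have h0 : π'.f c = (e.hom ≫ p') ≫ (singleObjXSelf (ComplexShape.up ℤ) c _).inv :=
      mkHomToSingle_f p hp
    exact ⟨PreservesKernel.iso (eval A (ComplexShape.up ℤ) c) π' ≪≫ kernelIsoOfEq h0 ≪≫
      kernelCompMono _ _ ≪≫ kernelIsIsoComp _ _ ≪≫ (kernelCompMono p' s).symm ≪≫
      kernelIsoOfEq fac⟩


section Bounded

variable [HasColimitsOfShape (Discrete ℕ) A] [HasExactColimitsOfShape (Discrete ℕ) A]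
  [HasColimitsOfShape ℕ A] [HasExactColimitsOfShape ℕ A]

/-- **an object whose maps to sequential colimits factor through a stage is a retract of a bounded
complex with terms in `W`** -/
theorem exists_bounded_retract' (cv : Cov A) (hcv : ∀ X, IsZero X → IsZero (cv.obj X))
    (W : A → Prop) (hWiso : ∀ {X Y : A}, (X ≅ Y) → W X → W Y)
    (hWcv : ∀ X, W (cv.obj X)) (hWbiprod : ∀ {X Y : A}, W X → W Y → W (X ⊞ Y))
    (hWsigma : ∀ (X : ℕ → A), (∀ k, W (X k)) → W (∐ X)) (hW0 : ∀ X, IsZero X → W X)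
    (K : DerivedCategory A)
    (hfac : ∀ (L : ℕ ⥤ CochainComplex A ℤ) (c : Cocone L) (_ : IsColimit c)
      (φ : K ⟶ Q.obj c.pt), ∃ (n : ℕ) (ψ : K ⟶ Q.obj (L.obj n)), ψ ≫ Q.map (c.ι.app n) = φ) :
    ∃ (L : CochainComplex A ℤ) (a b : ℤ) (φ : K ⟶ Q.obj L) (ψ : Q.obj L ⟶ K),
      φ ≫ ψ = 𝟙 K ∧ (∀ i : ℤ, i < a ∨ b < i → IsZero (L.X i)) ∧ ∀ i, W (L.X i) := by
  let G := Q.objPreimage K
  let eG : Q.obj G ≅ K := Q.objObjPreimageIso K
  obtain ⟨Kc, π, -, -, hb, hWK, -, c, -, hc⟩ :=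
    RelCellSys.exists_system cv G hcv W hWiso hWcv hWbiprod hWsigma hW0
  haveI : IsIso (Q.map c) := (isIso_Q_map_iff_quasiIso A c).2 hc
  obtain ⟨n, ψ₁, hψ₁⟩ := hfac Kc (colimit.cocone Kc) (colimit.isColimit Kc)
    (eG.inv ≫ inv (Q.map c))
  obtain ⟨b, hbn⟩ := hb n
  let P := Kc.obj n
  let r₁ : Q.obj P ⟶ K := Q.map (colimit.ι Kc n) ≫ Q.map c ≫ eG.hom
  have h₁ : ψ₁ ≫ r₁ = 𝟙 K := by
    have := hψ₁
    change ψ₁ ≫ Q.map (colimit.ι Kc n) = _ at this
    change ψ₁ ≫ Q.map (colimit.ι Kc n) ≫ Q.map c ≫ eG.hom = _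
    rw [reassoc_of% this, IsIso.inv_hom_id_assoc, Iso.inv_hom_id]
  obtain ⟨m, ψ₂, hψ₂⟩ : ∃ (m : ℕ) (ψ₂ : K ⟶ Q.obj (ge P (-(m : ℤ)))),
      ψ₂ ≫ Q.map (geInc P (-(m : ℤ))) = ψ₁ :=
    hfac (geSeq P) (geCocone P) (isColimitGeCocone P) ψ₁
  refine ⟨ge P (-(m : ℤ)), -(m : ℤ), b, ψ₂, Q.map (geInc P (-(m : ℤ))) ≫ r₁, ?_, ?_, ?_⟩
  · rw [reassoc_of% hψ₂, h₁]
  · rintro i (hi | hi)
    · exact isZero_ge_X_of_lt P hi
    · exact isZero_ge_X_of_isZero P (P.isZero_of_isStrictlyLE b i hi)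
  · intro i
    by_cases hi : -(m : ℤ) ≤ i
    · exact hWiso (geXIso P hi).symm (hWK n i)
    · exact hW0 _ (isZero_ge_X_of_lt P (by omega))

end Bounded

section Finite

variable [HasCoproducts.{v} A] [HasFiniteBiproducts A]

/-- **cutting down to finite sums**: if a compact `K` is a retract of a bounded complex whose terms
are sums of objects in a class `P` of objects all of whose maps to coproducts have finite support,
then `K` is a retract of a bounded complex of finite sums of objects of `P` -/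
theorem exists_finite_retract' (P : A → Prop)
    (hP : ∀ E', P E' → ∀ (ι : Type v) (E : ι → A) (g : E' ⟶ ∐ E),
      ∃ T : Finset ι, g ≫ cS E T = 0)
    {K : DerivedCategory A}
    (hK : ∀ (ι : Type v) (E : ι → A) (c : ℤ)
      (θ : K ⟶ Q.obj ((HomologicalComplex.single A (ComplexShape.up ℤ) c).obj (∐ E))),
      ∃ T : Finset ι,
        θ ≫ Q.map ((HomologicalComplex.single A (ComplexShape.up ℤ) c).map (cS E T)) = 0)
    (L : CochainComplex A ℤ) (a b : ℤ) (φ : K ⟶ Q.obj L) (ψ : Q.obj L ⟶ K)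
    (hφψ : φ ≫ ψ = 𝟙 K) (hz : ∀ i : ℤ, i < a ∨ b < i → IsZero (L.X i))
    (hL : ∀ i, IsSumOf.{v} P (L.X i)) :
    ∃ (L' : CochainComplex A ℤ) (φ' : K ⟶ Q.obj L') (ψ' : Q.obj L' ⟶ K), φ' ≫ ψ' = 𝟙 K ∧
      (∀ i : ℤ, i < a ∨ b < i → IsZero (L'.X i)) ∧ ∀ i, IsFinSumOf P (L'.X i) := by
  classical
  have claim : ∀ k : ℕ, ∃ (L' : CochainComplex A ℤ) (φ' : K ⟶ Q.obj L') (ψ' : Q.obj L' ⟶ K),
      φ' ≫ ψ' = 𝟙 K ∧ (∀ i : ℤ, i < a ∨ b < i → IsZero (L'.X i)) ∧
      (∀ i : ℤ, a + k ≤ i → IsSumOf.{v} P (L'.X i)) ∧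
      (∀ i : ℤ, i < a + k → IsFinSumOf P (L'.X i)) := by
    intro k
    induction k with
    | zero =>
      exact ⟨L, φ, ψ, hφψ, hz, fun i _ => hL i, fun i hi =>
        IsFinSumOf.of_isZero (hz i (Or.inl (by simpa using hi)))⟩
    | succ k ih =>
      obtain ⟨L₁, φ₁, ψ₁, h₁, hz₁, hS₁, hF₁⟩ := ih
      set c : ℤ := a + k with hc
      by_cases hcb : b < c
      · refine ⟨L₁, φ₁, ψ₁, h₁, hz₁, fun i hi => hS₁ i (by push_cast at hi; omega), fun i hi => ?_⟩
        by_cases hic : i < c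
        · exact hF₁ i hic
        · exact IsFinSumOf.of_isZero (hz₁ i (Or.inr (by omega)))
      · obtain ⟨ι, E, hE, ⟨e⟩⟩ := hS₁ c le_rfl
        -- finite support of the incoming differential
        obtain ⟨T₂, hT₂⟩ := exists_cS_of_isFinSumOf E
          (by
            obtain ⟨n, E', hE', e'⟩ := hF₁ (c - 1) (by omega)
            exact ⟨n, E', fun j g => hP _ (hE' j) ι E g, e'⟩)
          (L₁.d (c - 1) c ≫ e.hom)
        have hq₂ : ∀ i, (ComplexShape.up ℤ).Rel i c → L₁.d i c ≫ e.hom ≫ cS E T₂ = 0 := by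
          intro i hi
          obtain rfl : i = c - 1 := by
            have : i + 1 = c := hi
            omega
          rw [← Category.assoc]
          exact hT₂
        -- finite support of the map from `K`
        obtain ⟨T₁, hT₁⟩ := hK ι E c
          (φ₁ ≫ Q.map (HomologicalComplex.mkHomToSingle (e.hom ≫ cS E T₂) hq₂))
        have hε : cS E (T₂ ∪ T₁) ≫ cS E (T₂ ∪ T₁) = cS E (T₂ ∪ T₁) := by
          rw [cS_comp_cS, Finset.union_self]
        have hq : ∀ i, (ComplexShape.up ℤ).Rel i c → L₁.d i c ≫ e.hom ≫ cS E (T₂ ∪ T₁) = 0 := by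
          intro i hi
          rw [← cS_comp_cS, reassoc_of% hq₂ i hi, zero_comp]
        have hφ : φ₁ ≫ Q.map (HomologicalComplex.mkHomToSingle (e.hom ≫ cS E (T₂ ∪ T₁)) hq) = 0 := by
          have h2 : HomologicalComplex.mkHomToSingle (e.hom ≫ cS E (T₂ ∪ T₁)) hq =
              HomologicalComplex.mkHomToSingle (e.hom ≫ cS E T₂) hq₂ ≫
                (HomologicalComplex.single A (ComplexShape.up ℤ) c).map (cS E T₁) := by
            rw [mkHomToSingle_comp_map]
            congr 1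
            rw [Category.assoc, cS_comp_cS]
          rw [h2, Q.map_comp, ← Category.assoc]
          exact hT₁
        obtain ⟨L₂, j, φ₂, hφ₂, hne, ⟨hc₂⟩⟩ := step' L₁ c e (cS E (T₂ ∪ T₁)) hε hq φ₁ hφ
        refine ⟨L₂, φ₂, Q.map j ≫ ψ₁, by rw [reassoc_of% hφ₂, h₁], fun i hi => ?_,
          fun i hi => ?_, fun i hi => ?_⟩
        · have hic : i ≠ c := by
            rcases hi with hi | hi <;> omega
          exact IsZero.of_iso (hz₁ i hi) (hne i hic).some
        · have hic : i ≠ c := by push_cast at hi; omega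
          exact IsSumOf.of_iso (hne i hic).some.symm (hS₁ i (by push_cast at hi; omega))
        · by_cases hic : i = c
          · subst hic
            exact IsFinSumOf.of_iso hc₂.symm (isFinSumOf_kernel_cS E hE _)
          · exact IsFinSumOf.of_iso (hne i hic).some.symm (hF₁ i (by push_cast at hi; omega))
  obtain ⟨L', φ', ψ', h', hz', -, hF'⟩ := claim (b + 1 - a).toNat
  refine ⟨L', φ', ψ', h', hz', fun i => ?_⟩
  by_cases hi : i < a + ((b + 1 - a).toNat : ℤ)
  · exact hF' i hi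
  · exact IsFinSumOf.of_isZero (hz' i (Or.inr (by omega)))

end Finite

end Groth.Agent.Lib.Helper1.CompactRetract3
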