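import Mathlib

/-!
# Factoring a morphism of complexes through the cone of a resolution of the cocone
-/

set_option autoImplicit false
open CategoryTheory CategoryTheory.Limits HomologicalComplex CochainComplex Pretriangulated

namespace Groth.Agent.Lib.Helper1.ConeFactor

variable {A : Type*} [Category A] [Abelian A]

/-- the cocone triangle is distinguished in the homotopy category -/
lemma mappingCocone_triangleh_distinguished {K L : CochainComplex A ℤ} (φ : K ⟶ L) :
    (HomotopyCategory.quotient A (ComplexShape.up ℤ)).mapTriangle.obj (mappingCocone.triangle φ) ∈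
      distTriang _ := by
  rw [rotate_distinguished_triangle]
  exact isomorphic_distinguished _ (HomotopyCategory.mappingCone_triangleh_distinguished φ) _
    ((HomotopyCategory.quotient A (ComplexShape.up ℤ)).mapTriangleRotateIso.app _ ≪≫
    (HomotopyCategory.quotient A (ComplexShape.up ℤ)).mapTriangle.mapIso
      (mappingCocone.rotateTriangleIso φ))

variable [HasDerivedCategory A]

/-- **Factorisation lemma.** Let `a : K ⟶ L` and let `r : M ⟶ mappingCocone a` be a
quasi-isomorphism. Then `a` factors up to homotopy as `K ⟶ mappingCone (r ≫ fst) ⟶ L` where the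
second map is a quasi-isomorphism. -/
theorem exists_factor {K L M : CochainComplex A ℤ} (a : K ⟶ L)
    (r : M ⟶ mappingCocone a) [QuasiIso r] :
    ∃ (c : mappingCone (r ≫ mappingCocone.fst a) ⟶ L), QuasiIso c ∧
      Nonempty (Homotopy a (mappingCone.inr (r ≫ mappingCocone.fst a) ≫ c)) := by
  let q := HomotopyCategory.quotient A (ComplexShape.up ℤ)
  let φ := r ≫ mappingCocone.fst a
  let T₁ := mappingCone.triangleh φ
  let T₂ := q.mapTriangle.obj (mappingCocone.triangle a)
  have hT₁ : T₁ ∈ distTriang _ := HomotopyCategory.mappingCone_triangleh_distinguished φ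
  have hT₂ : T₂ ∈ distTriang _ := mappingCocone_triangleh_distinguished a
  obtain ⟨ch, hc₁, hc₂⟩ := complete_distinguished_triangle_morphism T₁ T₂ hT₁ hT₂
    (q.map r) (𝟙 _) (by
      change q.map φ ≫ 𝟙 _ = q.map r ≫ q.map (mappingCocone.fst a)
      rw [Category.comp_id, ← q.map_comp])
  obtain ⟨c, rfl⟩ := q.map_surjective ch
  refine ⟨c, ?_, ⟨?_⟩⟩
  · let ψ : T₁ ⟶ T₂ :=
      { hom₁ := q.map r
        hom₂ := 𝟙 _
        hom₃ := q.map c
        comm₁ := by
          change q.map φ ≫ 𝟙 _ = q.map r ≫ q.map (mappingCocone.fst a)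
          rw [Category.comp_id, ← q.map_comp]
        comm₂ := hc₁
        comm₃ := hc₂ }
    have h₁ : IsIso (DerivedCategory.Qh.map (q.map r)) := by
      have : IsIso (DerivedCategory.Q.map r) := (DerivedCategory.isIso_Q_map_iff_quasiIso A r).2
        inferInstance
      exact (NatIso.isIso_map_iff (DerivedCategory.quotientCompQhIso A) r).2 this
    have h₃ : IsIso (DerivedCategory.Qh.map (q.map c)) :=
      isIso₃_of_isIso₁₂ (DerivedCategory.Qh.mapTriangle.map ψ)
        (DerivedCategory.Qh.map_distinguished _ hT₁) (DerivedCategory.Qh.map_distinguished _ hT₂)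
        h₁ (by
          change IsIso (DerivedCategory.Qh.map (𝟙 _))
          infer_instance)
    have : IsIso (DerivedCategory.Q.map c) :=
      (NatIso.isIso_map_iff (DerivedCategory.quotientCompQhIso A) c).1 h₃
    exact (DerivedCategory.isIso_Q_map_iff_quasiIso A c).1 this
  · apply HomotopyCategory.homotopyOfEq
    rw [q.map_comp]
    exact ((Category.id_comp _).symm.trans hc₁.symm)

end Groth.Agent.Lib.Helper1.ConeFactor
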