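import Mathlib.Algebra.Category.Grp.Basic
import Mathlib.Algebra.BigOperators.Finprod
import Mathlib.CategoryTheory.Limits.Shapes.Products

/-!
# A criterion for a cofan of abelian groups to be a coproduct
-/

set_option autoImplicit false
universe u
open CategoryTheory CategoryTheory.Limits

namespace Groth.Agent.Lib.Helper1.CoprodAb

variable {ι : Type u} {A : ι → AddCommGrpCat.{u}} (c : Cofan A) (p : ∀ i, c.pt ⟶ A i)
  (hself : ∀ i, c.inj i ≫ p i = 𝟙 _) (hne : ∀ i j, i ≠ j → c.inj i ≫ p j = 0)
  (hfin : ∀ b : c.pt, ∃ T : Finset ι, b = ∑ i ∈ T, (c.inj i).hom ((p i).hom b))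

lemma comp_hom_apply {X Y Z : AddCommGrpCat.{u}} (f : X ⟶ Y) (g : Y ⟶ Z) (x : X) :
    (f ≫ g).hom x = g.hom (f.hom x) := rfl

include hne in
lemma p_eq_zero (b : c.pt) (T : Finset ι) (hb : b = ∑ i ∈ T, (c.inj i).hom ((p i).hom b)) (j : ι)
    (hj : j ∉ T) : (p j).hom b = 0 := by
  have h1 := congrArg (fun x => (p j).hom x) hb
  simp only [map_sum] at h1
  rw [h1]
  refine Finset.sum_eq_zero (fun i hi => ?_)
  have : i ≠ j := fun h => hj (h ▸ hi)
  rw [← comp_hom_apply, hne i j this]
  rfl

include hne hfin in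
lemma support_finite (b : c.pt) : {i | (p i).hom b ≠ 0}.Finite := by
  obtain ⟨T, hT⟩ := hfin b
  refine T.finite_toSet.subset (fun j hj => ?_)
  by_contra h
  exact hj (p_eq_zero c p hne b T hT j h)

include hne hfin in
lemma support_finite' (s : Cofan A) (b : c.pt) :
    (Function.support fun i => (s.inj i).hom ((p i).hom b)).Finite := by
  refine (support_finite c p hne hfin b).subset (fun j hj => ?_)
  intro (h : (p j).hom b = 0)
  apply hj
  show (s.inj j).hom ((p j).hom b) = 0
  rw [h, map_zero]

/-- the descent map -/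
noncomputable def desc (s : Cofan A) : c.pt ⟶ s.pt :=
  AddCommGrpCat.ofHom
    { toFun := fun b => ∑ᶠ i, (s.inj i).hom ((p i).hom b)
      map_zero' := by simp
      map_add' := fun a b => by
        simp only [map_add]
        exact finsum_add_distrib (support_finite' c p hne hfin s a)
          (support_finite' c p hne hfin s b) }

include hself in
lemma fac (s : Cofan A) (j : ι) : c.inj j ≫ desc c p hne hfin s = s.inj j := by
  ext a
  show ∑ᶠ i, (s.inj i).hom ((p i).hom ((c.inj j).hom a)) = (s.inj j).hom a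
  rw [finsum_eq_single _ j]
  · rw [← comp_hom_apply (c.inj j) (p j), hself j]
    rfl
  · intro i hi
    rw [← comp_hom_apply (c.inj j) (p i), hne j i (Ne.symm hi)]
    exact map_zero _

include hne in
lemma uniq (s : Cofan A) (m : c.pt ⟶ s.pt) (hm : ∀ j, c.inj j ≫ m = s.inj j) :
    m = desc c p hne hfin s := by
  ext b
  show m.hom b = ∑ᶠ i, (s.inj i).hom ((p i).hom b)
  obtain ⟨T, hT⟩ := hfin b
  have h1 : m.hom b = ∑ i ∈ T, (s.inj i).hom ((p i).hom b) := by
    conv_lhs => rw [hT]
    rw [map_sum]
    refine Finset.sum_congr rfl (fun i _ => ?_)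
    rw [← comp_hom_apply (c.inj i) m, hm i]
  rw [h1]
  symm
  refine finsum_eq_sum_of_support_subset _ (fun j hj => ?_)
  by_contra h
  apply hj
  show (s.inj j).hom ((p j).hom b) = 0
  have hT' : j ∉ T := fun hjT => h (by simpa using hjT)
  rw [p_eq_zero c p hne b T hT j hT', map_zero]

include hself hne hfin in
/-- a cofan of abelian groups with projections and finite sums is a coproduct -/
theorem isColimit : Nonempty (IsColimit c) :=
  ⟨Cofan.IsColimit.mk c (fun s => desc c p hne hfin s) (fun s j => fac c p hself hne hfin s j)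
    (fun s m hm => uniq c p hne hfin s m hm)⟩

end Groth.Agent.Lib.Helper1.CoprodAb
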