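import Groth.Agent.Lib.Helper1.ExtZeroExact
import Mathlib.Algebra.Category.ModuleCat.Presheaf.Sheafification
import Mathlib.CategoryTheory.Sites.EpiMono
import Mathlib.CategoryTheory.Sites.PreservesLocallyBijective
import Mathlib.CategoryTheory.Preadditive.Injective.Preserves

/-!
# Restriction to `C/X` is exact and preserves injective modules
-/

set_option autoImplicit false
universe u
open CategoryTheory CategoryTheory.Limits

namespace Groth.Agent.Lib.Helper1.RestrExact

open Groth.Agent.Lib.Helper1.ShriekProj Groth.Agent.Lib.Helper1.ShriekSheaf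
  Groth.Agent.Lib.Helper1.ExtZeroExact

variable {C : Type u} [SmallCategory C] {J : GrothendieckTopology C}
  (O : Sheaf J CommRingCat.{u}) (X : C)

/-- (copied from `Groth.Agent.Lib.lead.SheafModRestrict`, to avoid importing all of Mathlib)
If `G ⊣ i` with `i` fully faithful and `G ⋙ H` preserves colimits of shape `K`, then so does
`H`. -/
theorem preservesColimitsOfShape_of_reflective {P₀ A₀ B₀ : Type*} [Category P₀] [Category A₀]
    [Category B₀] {G : P₀ ⥤ A₀} {i : A₀ ⥤ P₀} (adj : G ⊣ i) [i.Full] [i.Faithful] (H : A₀ ⥤ B₀)
    (K : Type*) [Category K] [HasColimitsOfShape K P₀] [PreservesColimitsOfShape K (G ⋙ H)] :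
    PreservesColimitsOfShape K H := by
  refine ⟨fun {F} => ?_⟩
  have : PreservesColimitsOfShape K G := adj.leftAdjoint_preservesColimits.preservesColimitsOfShape
  let e : (F ⋙ i) ⋙ G ≅ F := Functor.isoWhiskerLeft F (asIso adj.counit)
  have h1 : IsColimit (G.mapCocone (colimit.cocone (F ⋙ i))) :=
    isColimitOfPreserves G (colimit.isColimit (F ⋙ i))
  have h2 : IsColimit (H.mapCocone (G.mapCocone (colimit.cocone (F ⋙ i)))) :=
    isColimitOfPreserves (G ⋙ H) (colimit.isColimit (F ⋙ i))
  have : PreservesColimit ((F ⋙ i) ⋙ G) H := preservesColimit_of_preserves_colimit_cocone h1 h2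
  exact preservesColimit_of_iso_diagram H e

/-- (copied from `Groth.Agent.Lib.lead.SheafModRestrict`) the forgetful functor from sheaves of
modules to abelian sheaves preserves colimits. -/
theorem toSheaf_preservesColimitsOfShape (R : Sheaf J RingCat.{u}) (K : Type u) [SmallCategory K] :
    PreservesColimitsOfShape K (SheafOfModules.toSheaf.{u} R) := by
  have : PreservesColimitsOfShape K
      (PresheafOfModules.sheafification.{u} (𝟙 R.obj) ⋙ SheafOfModules.toSheaf.{u} R) :=
    preservesColimitsOfShape_of_natIso
      (PresheafOfModules.sheafificationCompToSheaf.{u} (𝟙 R.obj)).symm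
  exact preservesColimitsOfShape_of_reflective
    (PresheafOfModules.sheafificationAdjunction.{u} (𝟙 R.obj)) _ K

/-- the forgetful functor to abelian sheaves preserves epimorphisms -/
instance toSheaf_preservesEpi (R : Sheaf J RingCat.{u}) :
    (SheafOfModules.toSheaf.{u} R).PreservesEpimorphisms := by
  haveI : PreservesColimitsOfSize.{u, u} (SheafOfModules.toSheaf.{u} R) :=
    ⟨fun {K} _ => toSheaf_preservesColimitsOfShape R K⟩
  haveI : PreservesColimitsOfSize.{0, 0} (SheafOfModules.toSheaf.{u} R) :=
    preservesColimitsOfSize_shrink.{0, u, 0, u} _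
  infer_instance

instance additive_restr : (ModSite.restr O X).Additive where

instance restr_preservesEpi : (ModSite.restr O X).PreservesEpimorphisms where
  preserves {M N} f hf := by
    haveI := hf
    haveI : Epi ((SheafOfModules.toSheaf.{u} (ModSite.ringSh O)).map f) := inferInstance
    have hls : Sheaf.IsLocallySurjective ((SheafOfModules.toSheaf.{u} (ModSite.ringSh O)).map f) :=
      (Sheaf.isLocallySurjective_iff_epi' _ _).2 inferInstance
    have hls' : Sheaf.IsLocallySurjective ((SheafOfModules.toSheaf.{u} (ModSite.ringSh (O.over X))).map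
        ((ModSite.restr O X).map f)) := by
      show Presheaf.IsLocallySurjective (J.over X) (Functor.whiskerLeft (Over.forget X).op
        ((SheafOfModules.toSheaf.{u} (ModSite.ringSh O)).map f).hom)
      haveI : Presheaf.IsLocallySurjective J
        ((SheafOfModules.toSheaf.{u} (ModSite.ringSh O)).map f).hom := hls
      exact Presheaf.isLocallySurjective_whisker (J.over X) J (Over.forget X) _
    haveI : Epi ((SheafOfModules.toSheaf.{u} (ModSite.ringSh (O.over X))).map
        ((ModSite.restr O X).map f)) := (Sheaf.isLocallySurjective_iff_epi' _ _).1 hls'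
    exact (SheafOfModules.toSheaf.{u} (ModSite.ringSh (O.over X))).epi_of_epi_map this

/-- a left exact additive functor preserving epimorphisms is right exact -/
lemma preservesFiniteColimits_of_preservesEpi {𝒜 ℬ : Type*} [Category 𝒜] [Category ℬ]
    [Abelian 𝒜] [Abelian ℬ] (F : 𝒜 ⥤ ℬ) [F.Additive] [PreservesFiniteLimits F]
    [F.PreservesEpimorphisms] : PreservesFiniteColimits F := by
  have h03 := (Functor.preservesFiniteColimits_tfae F).out 0 3
  refine h03.1 (fun S hS => ?_)
  have h30 := (Functor.preservesFiniteLimits_tfae F).out 3 0
  have hex := h30.1 inferInstance S hS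
  haveI := hS.epi_g
  exact ⟨hex.1, inferInstance⟩

instance preservesFiniteLimits_restr : PreservesFiniteLimits (ModSite.restr O X) :=
  inferInstance

instance preservesFiniteColimits_restr : PreservesFiniteColimits (ModSite.restr O X) :=
  preservesFiniteColimits_of_preservesEpi _

instance preservesHomology_restr : (ModSite.restr O X).PreservesHomology := inferInstance

instance preservesInjectiveObjects_restr : (ModSite.restr O X).PreservesInjectiveObjects := by
  haveI : (ModSite.extZero O X).PreservesMonomorphisms := inferInstance
  exact Functor.preservesInjectiveObjects_of_adjunction_of_preservesMonomorphisms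
    (ModSite.extZeroAdj O X)

end Groth.Agent.Lib.Helper1.RestrExact
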