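import Groth.Agent.Lib.Helper1.ModSiteFree
import Groth.Agent.Lib.Helper1.RestrExact

/-!
# Functoriality of `freeOn` in the object, coverings give epimorphisms, local lifting of sections
-/

set_option autoImplicit false
universe u
open CategoryTheory CategoryTheory.Limits Opposite

namespace Groth.Agent.Lib.Helper1.FreeOnMap

open Groth.Agent.Lib.Helper1

variable {C : Type u} [SmallCategory C] {J : GrothendieckTopology C}
  (O : Sheaf J CommRingCat.{u})

/-- the universal section of `freeOn O U` over `U` -/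
noncomputable def gen (U : C) : (ModSite.freeOn O U).val.obj (op U) :=
  ModSiteFree.homEquiv O U (ModSite.freeOn O U) (𝟙 _)

lemma homEquiv_eq (U : C) {M : ModSite.Mod O} (φ : ModSite.freeOn O U ⟶ M) :
    ModSiteFree.homEquiv O U M φ = φ.val.app (op U) (gen O U) := by
  have := ModSiteFree.homEquiv_comp O U (𝟙 (ModSite.freeOn O U)) φ
  rwa [Category.id_comp] at this

/-- the morphism `freeOn Y ⟶ freeOn U` induced by `g : Y ⟶ U` -/
noncomputable def map {Y U : C} (g : Y ⟶ U) : ModSite.freeOn O Y ⟶ ModSite.freeOn O U :=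
  (ModSiteFree.homEquiv O Y (ModSite.freeOn O U)).symm
    ((ModSite.freeOn O U).val.map g.op (gen O U))

lemma homEquiv_map_comp {Y U : C} (g : Y ⟶ U) {M : ModSite.Mod O}
    (φ : ModSite.freeOn O U ⟶ M) :
    ModSiteFree.homEquiv O Y M (map O g ≫ φ) =
      M.val.map g.op (ModSiteFree.homEquiv O U M φ) := by
  rw [ModSiteFree.homEquiv_comp, homEquiv_eq O U φ]
  unfold map
  rw [Equiv.apply_symm_apply]
  exact (PresheafOfModules.naturality_apply φ.val g.op (gen O U))

/-- the morphism out of `freeOn U` determined by a section -/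
noncomputable abbrev ofSec {U : C} {M : ModSite.Mod O} (m : M.val.obj (op U)) :
    ModSite.freeOn O U ⟶ M :=
  (ModSiteFree.homEquiv O U M).symm m

lemma map_ofSec {Y U : C} (g : Y ⟶ U) {M : ModSite.Mod O} (m : M.val.obj (op U)) :
    map O g ≫ ofSec O m = ofSec O (M.val.map g.op m) := by
  apply (ModSiteFree.homEquiv O Y M).injective
  rw [homEquiv_map_comp, Equiv.apply_symm_apply, Equiv.apply_symm_apply]

lemma ofSec_comp {U : C} {M N : ModSite.Mod O} (m : M.val.obj (op U)) (p : M ⟶ N) :
    ofSec O m ≫ p = ofSec O (p.val.app (op U) m) := by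
  apply (ModSiteFree.homEquiv O U N).injective
  rw [ModSiteFree.homEquiv_comp, Equiv.apply_symm_apply, Equiv.apply_symm_apply]

/-- sections of a sheaf of modules are determined on a covering sieve -/
lemma sec_ext {U : C} (M : ModSite.Mod O) (S : Sieve U) (hS : S ∈ J U)
    (a b : M.val.obj (op U))
    (h : ∀ ⦃V : C⦄ (g : V ⟶ U), S g → M.val.map g.op a = M.val.map g.op b) : a = b := by
  have hsep := ((isSheaf_iff_isSheaf_of_type _ _).1
    ((Presheaf.isSheaf_iff_isSheaf_forget J M.val.presheaf (forget AddCommGrpCat)).1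
      M.isSheaf)).isSeparated _ hS
  exact hsep.ext (t₁ := a) (t₂ := b) (fun V g hg => h g hg)

/-- a covering family induces an epimorphism of free modules -/
theorem epi_desc_map {U : C} {κ : Type*} (Z : κ → C) (g : ∀ k, Z k ⟶ U)
    [HasCoproduct fun k => ModSite.freeOn O (Z k)]
    (hcov : Sieve.ofArrows Z g ∈ J U) :
    Epi (Sigma.desc (fun k => map O (g k)) : (∐ fun k => ModSite.freeOn O (Z k)) ⟶
      ModSite.freeOn O U) := by
  constructor
  intro M a b hab
  apply (ModSiteFree.homEquiv O U M).injective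
  refine sec_ext O M _ hcov _ _ ?_
  rintro V q ⟨W, r, q', ⟨k⟩, rfl⟩
  have hk : map O (g k) ≫ a = map O (g k) ≫ b := by
    have := Sigma.ι (fun k => ModSite.freeOn O (Z k)) k ≫= hab
    simpa using this
  have h2 := congrArg (ModSiteFree.homEquiv O (Z k) M) hk
  rw [homEquiv_map_comp, homEquiv_map_comp] at h2
  rw [op_comp, PresheafOfModules.map_comp_apply, PresheafOfModules.map_comp_apply, h2]

open Groth.Agent.Lib.Helper1.RestrExact in
/-- sections lift locally along an epimorphism -/
theorem exists_local_lift {M N : ModSite.Mod O} (π : M ⟶ N) [Epi π] {U : C}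
    (s : N.val.obj (op U)) :
    ∃ S ∈ J U, ∀ ⦃V : C⦄ (g : V ⟶ U), S g →
      ∃ t : M.val.obj (op V), π.val.app (op V) t = N.val.map g.op s := by
  haveI : Epi ((SheafOfModules.toSheaf.{u} (ModSite.ringSh O)).map π) := inferInstance
  have hls : Sheaf.IsLocallySurjective ((SheafOfModules.toSheaf.{u} (ModSite.ringSh O)).map π) :=
    (Sheaf.isLocallySurjective_iff_epi' _ _).2 inferInstance
  haveI : Presheaf.IsLocallySurjective J
      ((SheafOfModules.toSheaf.{u} (ModSite.ringSh O)).map π).hom := hls
  refine ⟨_, Presheaf.imageSieve_mem J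
    ((SheafOfModules.toSheaf.{u} (ModSite.ringSh O)).map π).hom s, ?_⟩
  intro V g hg
  obtain ⟨t, ht⟩ := hg
  exact ⟨t, ht⟩

end Groth.Agent.Lib.Helper1.FreeOnMap
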