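import Mathlib.LinearAlgebra.TensorProduct.Vanishing
import Mathlib.RingTheory.TensorProduct.DirectLimitFG

/-!
# A finite witness for the vanishing of a sum of pure tensors
-/

set_option autoImplicit false
open TensorProduct

namespace Groth.Agent.Lib.Helper1.TensorVanish

variable {R : Type*} [CommRing R] {M N : Type*} [AddCommGroup M] [AddCommGroup N]
  [Module R M] [Module R N]

/-- The data witnessing that `∑ m i ⊗ n i = 0`: extra elements `y` of `M`, coefficient matrices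
`a`, `b` and elements `z` of `N`. -/
def Witness {ι : Type*} [Fintype ι] (m : ι → M) (n : ι → N) : Prop :=
  ∃ (r k : ℕ) (y : Fin r → M) (a : ι → Fin k → R) (b : Fin r → Fin k → R) (z : Fin k → N),
    (∀ i, n i = ∑ j, a i j • z j) ∧ (∀ c, ∑ j, b c j • z j = 0) ∧
      ∀ j, ∑ i, a i j • m i + ∑ c, b c j • y c = 0

/-- Easy direction: the data forces the sum of tensors to vanish. -/
theorem sum_tmul_eq_zero_of_data {ι κ χ : Type*} [Fintype ι] [Fintype κ] [Fintype χ]
    (m : ι → M) (n : ι → N) (y : κ → M) (a : ι → χ → R) (b : κ → χ → R) (z : χ → N)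
    (h1 : ∀ i, n i = ∑ j, a i j • z j) (h2 : ∀ c, ∑ j, b c j • z j = 0)
    (h3 : ∀ j, ∑ i, a i j • m i + ∑ c, b c j • y c = 0) :
    ∑ i, m i ⊗ₜ[R] n i = 0 := by
  have e1 : ∑ i, m i ⊗ₜ[R] n i = ∑ j, (∑ i, a i j • m i) ⊗ₜ[R] z j := by
    simp_rw [h1, tmul_sum, tmul_smul, sum_tmul, smul_tmul']
    rw [Finset.sum_comm]
  have e2 : ∑ j, (∑ c, b c j • y c) ⊗ₜ[R] z j = 0 := by
    simp_rw [sum_tmul]
    rw [Finset.sum_comm]
    have : ∀ c, ∑ j, (b c j • y c) ⊗ₜ[R] z j = y c ⊗ₜ[R] (∑ j, b c j • z j) := by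
      intro c
      simp_rw [tmul_sum, tmul_smul, smul_tmul']
    simp_rw [this, h2, tmul_zero, Finset.sum_const_zero]
  have e3 : ∀ j, ∑ i, a i j • m i = - ∑ c, b c j • y c := fun j => eq_neg_of_add_eq_zero_left (h3 j)
  rw [e1]
  simp_rw [e3, neg_tmul]
  rw [Finset.sum_neg_distrib, e2, neg_zero]

/-- Hard direction: a vanishing sum of pure tensors has a finite witness. -/
theorem witness_of_sum_tmul_eq_zero {ι : Type*} [Fintype ι] (m : ι → M) (n : ι → N)
    (h : ∑ i, m i ⊗ₜ[R] n i = 0) : Witness (R := R) m n := by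
  classical
  set P : Submodule R M := Submodule.span R (Set.range m) with hPdef
  have hP : P.FG := Submodule.fg_span (Set.finite_range m)
  have hmP : ∀ i, m i ∈ P := fun i => Submodule.subset_span ⟨i, rfl⟩
  let t : P ⊗[R] N := ∑ i, (⟨m i, hmP i⟩ : P) ⊗ₜ[R] n i
  have ht : LinearMap.rTensor N P.subtype t = 0 := by
    simp only [t, map_sum, LinearMap.rTensor_tmul, Submodule.subtype_apply]
    exact h
  obtain ⟨Q, hPQ, hQ, hQt⟩ := TensorProduct.eq_zero_of_fg_of_subtype_eq_zero hP ht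
  obtain ⟨r, y, hy⟩ := Submodule.fg_iff_exists_fin_generating_family.1 hQ
  have hyQ : ∀ c, y c ∈ Q := fun c => hy ▸ Submodule.subset_span ⟨c, rfl⟩
  -- the generating family of `Q`
  let mQ : ι ⊕ Fin r → Q := Sum.elim (fun i => ⟨m i, hPQ (hmP i)⟩) (fun c => ⟨y c, hyQ c⟩)
  let nQ : ι ⊕ Fin r → N := Sum.elim n (fun _ => 0)
  have hspan : Submodule.span R (Set.range mQ) = ⊤ := by
    rw [eq_top_iff]
    rintro ⟨q, hq⟩ -
    have hq' : q ∈ Submodule.span R (Set.range y) := hy ▸ hq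
    have : Submodule.span R (Set.range y) ≤ (Submodule.span R (Set.range mQ)).map Q.subtype := by
      rw [Submodule.span_le]
      rintro _ ⟨c, rfl⟩
      exact ⟨⟨y c, hyQ c⟩, Submodule.subset_span ⟨Sum.inr c, rfl⟩, rfl⟩
    obtain ⟨q', hq'1, hq'2⟩ := this hq'
    have : q' = ⟨q, hq⟩ := Subtype.ext hq'2
    rwa [this] at hq'1
  have hsum : ∑ x, mQ x ⊗ₜ[R] nQ x = 0 := by
    rw [Fintype.sum_sum_type]
    simp only [mQ, nQ, Sum.elim_inl, Sum.elim_inr, tmul_zero, Finset.sum_const_zero, add_zero]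
    have := hQt
    simp only [t, map_sum, LinearMap.rTensor_tmul] at this
    exact this
  obtain ⟨k, a, z, h1, h2⟩ := TensorProduct.vanishesTrivially_of_sum_tmul_eq_zero R hspan hsum
  refine ⟨r, k, y, fun i => a (Sum.inl i), fun c => a (Sum.inr c), z,
    fun i => h1 (Sum.inl i), fun c => (h1 (Sum.inr c)).symm, fun j => ?_⟩
  have := congrArg Q.subtype (h2 j)
  rw [Fintype.sum_sum_type] at this
  simpa [mQ] using this

end Groth.Agent.Lib.Helper1.TensorVanish
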