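import Mathlib.Algebra.Category.ModuleCat.Presheaf.Monoidal
import Mathlib.Algebra.Category.ModuleCat.Presheaf.Sheafification
import Mathlib.CategoryTheory.Sites.LocallyBijective
import Groth.Agent.Lib.Helper1.TensorVanish

/-!
# Tensor products of locally bijective morphisms of presheaves of modules
-/

set_option autoImplicit false
universe u v' u'
open CategoryTheory MonoidalCategory Opposite TensorProduct

namespace Groth.Agent.Lib.Helper1.TensorLoc

variable {C : Type u'} [Category.{v'} C] (J : GrothendieckTopology C)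

/-- A finite intersection of covering sieves is covering. -/
lemma iInf_mem {U : C} {κ : Type*} [Finite κ] (S : κ → Sieve U) (h : ∀ c, S c ∈ J U) :
    (⨅ c, S c) ∈ J U := by
  induction κ using Finite.induction_empty_option with
  | of_equiv e ih =>
    rename_i α β
    have := ih (fun a => S (e a)) (fun a => h _)
    rwa [e.iInf_comp] at this
  | h_empty => rw [iInf_of_empty]; exact J.top_mem U
  | h_option ih =>
    rw [iInf_option]
    exact J.intersection_covering (h none) (ih _ fun a => h _)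

lemma iInf_apply {U : C} {κ : Type*} (S : κ → Sieve U) {V : C} (g : V ⟶ U) :
    (⨅ c, S c) g ↔ ∀ c, S c g := by
  rw [iInf, Sieve.sInf_apply]
  constructor
  · intro h c; exact h _ ⟨c, rfl⟩
  · rintro h _ ⟨c, rfl⟩; exact h c

variable {R : Cᵒᵖ ⥤ CommRingCat.{u}}
  {P P' Q Q' : PresheafOfModules.{u} (R ⋙ forget₂ _ _)}

open PresheafOfModules

/-- restriction of a pure tensor -/
lemma map_tmul {X Y : Cᵒᵖ} (g : X ⟶ Y) (p : P.obj X) (q : Q.obj X) :
    (P ⊗ Q).map g (p ⊗ₜ[R.obj X] q) = P.map g p ⊗ₜ[R.obj Y] Q.map g q := rfl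

lemma tensorHom_app_tmul (f : P ⟶ P') (g : Q ⟶ Q') (X : Cᵒᵖ) (p : P.obj X) (q : Q.obj X) :
    (f ⊗ₘ g).app X (p ⊗ₜ[R.obj X] q) = f.app X p ⊗ₜ[R.obj X] g.app X q := rfl

/-- the sieve of arrows along which `t` lifts through `φ` -/
def liftSieve {A B : PresheafOfModules.{u} (R ⋙ forget₂ _ _)} (φ : A ⟶ B) {U : C}
    (t : B.obj (op U)) : Sieve U where
  arrows V i := ∃ s : A.obj (op V), φ.app _ s = B.map i.op t
  downward_closed := by
    rintro V W i ⟨s, hs⟩ j
    refine ⟨A.map j.op s, ?_⟩
    rw [naturality_apply, hs, op_comp, map_comp_apply]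

lemma liftSieve_eq {A B : PresheafOfModules.{u} (R ⋙ forget₂ _ _)} (φ : A ⟶ B) {U : C}
    (t : B.obj (op U)) :
    liftSieve φ t = Presheaf.imageSieve ((toPresheaf _).map φ) (U := U) t := rfl

lemma isLocallySurjective_iff {A B : PresheafOfModules.{u} (R ⋙ forget₂ _ _)} (φ : A ⟶ B) :
    Presheaf.IsLocallySurjective J ((toPresheaf _).map φ) ↔
      ∀ (U : C) (t : B.obj (op U)), liftSieve φ t ∈ J U :=
  ⟨fun h U t => h.imageSieve_mem t, fun h => ⟨fun {U} t => h U t⟩⟩

theorem isLocallySurjective_tensorHom (f : P ⟶ P') (g : Q ⟶ Q')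
    (hf : Presheaf.IsLocallySurjective J ((toPresheaf _).map f))
    (hg : Presheaf.IsLocallySurjective J ((toPresheaf _).map g)) :
    Presheaf.IsLocallySurjective J ((toPresheaf _).map (f ⊗ₘ g)) := by
  rw [isLocallySurjective_iff] at hf hg ⊢
  intro U t
  refine TensorProduct.induction_on (motive := fun t => liftSieve (f ⊗ₘ g) t ∈ J U) t ?_ ?_ ?_
  · show liftSieve (f ⊗ₘ g) (0 : (P' ⊗ Q').obj (op U)) ∈ J U
    refine J.superset_covering ?_ (J.top_mem U)
    intro V i _
    exact ⟨0, by rw [map_zero, map_zero]; rfl⟩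
  · intro p q
    refine J.superset_covering ?_ (J.intersection_covering (hf U p) (hg U q))
    rintro V i ⟨⟨p₀, hp⟩, ⟨q₀, hq⟩⟩
    refine ⟨p₀ ⊗ₜ[R.obj (op V)] q₀, ?_⟩
    rw [tensorHom_app_tmul, hp, hq]
    rfl
  · intro x y hx hy
    show liftSieve (f ⊗ₘ g) ((x : (P' ⊗ Q').obj (op U)) + (y : (P' ⊗ Q').obj (op U))) ∈ J U
    refine J.superset_covering ?_ (J.intersection_covering hx hy)
    rintro V i ⟨⟨x₀, hx₀⟩, ⟨y₀, hy₀⟩⟩
    refine ⟨x₀ + y₀, ?_⟩
    rw [map_add, hx₀, hy₀]
    exact (map_add ((P' ⊗ Q').map i.op).hom (x : (P' ⊗ Q').obj (op U)) y).symm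

/-- the sieve of arrows along which `t` restricts to zero -/
def zeroSieve {A : PresheafOfModules.{u} (R ⋙ forget₂ _ _)} {U : C}
    (t : A.obj (op U)) : Sieve U where
  arrows V i := A.map i.op t = 0
  downward_closed := by
    rintro V W i h j
    rw [op_comp, map_comp_apply, h]
    exact (A.map j.op).hom.map_zero

lemma isLocallyInjective_iff {A B : PresheafOfModules.{u} (R ⋙ forget₂ _ _)} (φ : A ⟶ B) :
    Presheaf.IsLocallyInjective J ((toPresheaf _).map φ) ↔
      ∀ (U : C) (t : A.obj (op U)), φ.app _ t = 0 → zeroSieve t ∈ J U := by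
  constructor
  · intro h U t ht
    have := h.equalizerSieve_mem (X := op U) (t : A.obj (op U)) (0 : A.obj (op U))
      (by
        show φ.app _ t = φ.app _ 0
        rw [ht, map_zero])
    refine J.superset_covering ?_ this
    intro V i hi
    show A.map i.op t = 0
    have hi' : A.map i.op t = A.map i.op 0 := hi
    rw [hi']
    exact (A.map i.op).hom.map_zero
  · intro h
    refine ⟨fun {X} x y hxy => ?_⟩
    obtain ⟨x', rfl⟩ : ∃ x' : A.obj X, x' = x := ⟨x, rfl⟩
    obtain ⟨y', rfl⟩ : ∃ y' : A.obj X, y' = y := ⟨y, rfl⟩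
    have hxy' : φ.app X x' = φ.app X y' := hxy
    have := h X.unop (x' - y') (by
      show φ.app X (x' - y') = 0
      rw [map_sub, hxy', sub_self])
    refine J.superset_covering ?_ this
    intro V i hi
    have hi' : A.map i.op (x' - y') = 0 := hi
    show A.map i.op x' = A.map i.op y'
    have e : A.map i.op (x' - y') = A.map i.op x' - A.map i.op y' :=
      (A.map i.op).hom.map_sub x' y'
    rw [e] at hi'
    exact sub_eq_zero.1 hi'

section pmap

variable (A : PresheafOfModules.{u} (R ⋙ forget₂ _ _)) {X Y : Cᵒᵖ} (g : X ⟶ Y)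

/-- restriction as a plain function -/
noncomputable def res (x : A.obj X) : A.obj Y := A.map g x

/-- restriction of scalars as a plain function -/
noncomputable def resR (r : R.obj X) : R.obj Y := R.map g r

lemma res_smul (r : R.obj X) (x : A.obj X) : res A g (r • x) = resR g r • res A g x :=
  A.map_smul g r x

lemma res_add (x y : A.obj X) : res A g (x + y) = res A g x + res A g y :=
  (A.map g).hom.map_add x y

lemma res_zero : res A g (0 : A.obj X) = 0 :=
  (A.map g).hom.map_zero

lemma res_sum {ι : Type*} (s : Finset ι) (x : ι → A.obj X) :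
    res A g (∑ i ∈ s, x i) = ∑ i ∈ s, res A g (x i) :=
  map_sum (A.map g).hom x s

lemma res_comp {Z : Cᵒᵖ} (h : Y ⟶ Z) (x : A.obj X) :
    res A (g ≫ h) x = res A h (res A g x) :=
  map_comp_apply A g h x

lemma resR_comp {Z : Cᵒᵖ} (h : Y ⟶ Z) (r : R.obj X) :
    resR (g ≫ h) r = resR h (resR g r) := by
  simp [resR]

lemma app_res {A B : PresheafOfModules.{u} (R ⋙ forget₂ _ _)} (φ : A ⟶ B) (x : A.obj X) :
    φ.app Y (res A g x) = res B g (φ.app X x) :=
  naturality_apply φ g x

end pmap

lemma res_tmul {X Y : Cᵒᵖ} (g : X ⟶ Y) (p : P.obj X) (q : Q.obj X) :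
    res (P ⊗ Q) g (p ⊗ₜ[R.obj X] q) = res P g p ⊗ₜ[R.obj Y] res Q g q := rfl

lemma whiskerRight_app_tmul (f : P ⟶ P') (X : Cᵒᵖ) (p : P.obj X) (q : Q.obj X) :
    (f ▷ Q).app X (p ⊗ₜ[R.obj X] q) = f.app X p ⊗ₜ[R.obj X] q := rfl

open Groth.Agent.Lib.Helper1.TensorVanish in
theorem zeroSieve_mem_whiskerRight (f : P ⟶ P')
    (hfi : ∀ (U : C) (t : P.obj (op U)), f.app _ t = 0 → zeroSieve t ∈ J U)
    (hfs : ∀ (U : C) (t : P'.obj (op U)), liftSieve f t ∈ J U)
    (Q : PresheafOfModules.{u} (R ⋙ forget₂ _ _)) (U : C) (t : (P ⊗ Q).obj (op U))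
    (ht : (f ▷ Q).app _ t = 0) : zeroSieve t ∈ J U := by
  classical
  obtain ⟨s, hs⟩ := TensorProduct.exists_finset (R := R.obj (op U)) (M := P.obj (op U))
    (N := Q.obj (op U)) t
  let m : s → P.obj (op U) := fun i => i.1.1
  let n : s → Q.obj (op U) := fun i => i.1.2
  have hs' : t = ∑ i : s, m i ⊗ₜ[R.obj (op U)] n i := by
    rw [hs, ← Finset.sum_coe_sort]
  have ht' : ∑ i : s, (f.app _ (m i)) ⊗ₜ[R.obj (op U)] n i = 0 := by
    rw [hs'] at ht
    refine Eq.trans ?_ ht
    refine Eq.trans ?_ (map_sum ((f ▷ Q).app (op U)).hom (fun i : s => m i ⊗ₜ[R.obj (op U)] n i)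
      Finset.univ).symm
    rfl
  obtain ⟨r, k, y, a, b, z, h1, h2, h3⟩ :=
    witness_of_sum_tmul_eq_zero (R := R.obj (op U)) (fun i => f.app _ (m i)) n ht'
  -- first sieve: the extra elements lift
  have hS₁ : (⨅ c, liftSieve f (y c)) ∈ J U := iInf_mem J _ (fun c => hfs U (y c))
  refine J.transitive hS₁ _ ?_
  intro V g hg
  rw [iInf_apply] at hg
  choose w hw using hg
  let e : Fin k → P.obj (op V) := fun j =>
    ∑ i, resR g.op (a i j) • res P g.op (m i) + ∑ c, resR g.op (b c j) • w c
  have he : ∀ j, f.app _ (e j) = 0 := by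
    intro j
    have h3' := congrArg (res P' g.op) (h3 j)
    simp only [res_add, res_sum, res_smul, res_zero] at h3'
    rw [← h3']
    simp only [e, map_add, map_sum, map_smul, app_res]
    congr 1
    refine Finset.sum_congr rfl (fun c _ => ?_)
    rw [hw c]
    rfl
  have hS₂ : (⨅ j, zeroSieve (e j)) ∈ J V := iInf_mem J _ (fun j => hfi V (e j) (he j))
  refine J.superset_covering ?_ hS₂
  intro W h hh
  rw [iInf_apply] at hh
  show res (P ⊗ Q) (h ≫ g).op t = 0
  rw [hs']
  refine Eq.trans (res_sum (P ⊗ Q) (h ≫ g).op Finset.univ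
    (fun i : s => (m i ⊗ₜ[R.obj (op U)] n i : (P ⊗ Q).obj (op U)))) ?_
  simp only [res_tmul]
  refine sum_tmul_eq_zero_of_data (R := R.obj (op W)) _ _ (fun c => res P h.op (w c))
    (fun i j => resR (h ≫ g).op (a i j)) (fun c j => resR (h ≫ g).op (b c j))
    (fun j => res Q (h ≫ g).op (z j)) ?_ ?_ ?_
  · intro i
    have := congrArg (res Q (h ≫ g).op) (h1 i)
    simpa only [res_sum, res_smul] using this
  · intro c
    have := congrArg (res Q (h ≫ g).op) (h2 c)
    simpa only [res_sum, res_smul, res_zero] using this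
  · intro j
    have := hh j
    change res P h.op (e j) = 0 at this
    simp only [e, res_add, res_sum, res_smul] at this
    simp only [op_comp, res_comp, resR_comp]
    exact this

theorem isLocallyInjective_whiskerRight (f : P ⟶ P')
    (hfi : Presheaf.IsLocallyInjective J ((toPresheaf _).map f))
    (hfs : Presheaf.IsLocallySurjective J ((toPresheaf _).map f))
    (Q : PresheafOfModules.{u} (R ⋙ forget₂ _ _)) :
    Presheaf.IsLocallyInjective J ((toPresheaf _).map (f ▷ Q)) := by
  rw [isLocallyInjective_iff] at hfi ⊢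
  rw [isLocallySurjective_iff] at hfs
  exact fun U t ht => zeroSieve_mem_whiskerRight J f hfi hfs Q U t ht

theorem isLocallyInjective_whiskerLeft (Q : PresheafOfModules.{u} (R ⋙ forget₂ _ _)) (f : P ⟶ P')
    (hfi : Presheaf.IsLocallyInjective J ((toPresheaf _).map f))
    (hfs : Presheaf.IsLocallySurjective J ((toPresheaf _).map f)) :
    Presheaf.IsLocallyInjective J ((toPresheaf _).map (Q ◁ f)) := by
  have e : Q ◁ f = (β_ Q P).hom ≫ (f ▷ Q) ≫ (β_ Q P').inv := by
    rw [← Category.assoc, ← BraidedCategory.braiding_naturality_right, Category.assoc,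
      Iso.hom_inv_id, Category.comp_id]
  rw [e, Functor.map_comp, Functor.map_comp]
  haveI := isLocallyInjective_whiskerRight J f hfi hfs Q
  infer_instance

theorem isLocallyInjective_tensorHom (f : P ⟶ P') (g : Q ⟶ Q')
    (hfi : Presheaf.IsLocallyInjective J ((toPresheaf _).map f))
    (hfs : Presheaf.IsLocallySurjective J ((toPresheaf _).map f))
    (hgi : Presheaf.IsLocallyInjective J ((toPresheaf _).map g))
    (hgs : Presheaf.IsLocallySurjective J ((toPresheaf _).map g)) :
    Presheaf.IsLocallyInjective J ((toPresheaf _).map (f ⊗ₘ g)) := by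
  rw [tensorHom_def, Functor.map_comp]
  haveI := isLocallyInjective_whiskerRight J f hfi hfs Q
  haveI := isLocallyInjective_whiskerLeft J P' g hgi hgs
  infer_instance

section Sheafification

variable {J}
variable {R₀ : Cᵒᵖ ⥤ RingCat.{u}} {Rsh : Sheaf J RingCat.{u}} (α : R₀ ⟶ Rsh.obj)
  [Presheaf.IsLocallyInjective J α] [Presheaf.IsLocallySurjective J α]
  [J.WEqualsLocallyBijective AddCommGrpCat.{u}] [HasWeakSheafify J AddCommGrpCat.{u}]

/-- sheafification inverts locally bijective morphisms of presheaves of modules -/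
theorem isIso_sheafification_map {A B : PresheafOfModules.{u} R₀} (φ : A ⟶ B)
    (hi : Presheaf.IsLocallyInjective J ((toPresheaf _).map φ))
    (hs : Presheaf.IsLocallySurjective J ((toPresheaf _).map φ)) :
    IsIso ((PresheafOfModules.sheafification α).map φ) := by
  rw [← isIso_iff_of_reflects_iso _ (SheafOfModules.toSheaf.{u} Rsh)]
  show IsIso ((presheafToSheaf J AddCommGrpCat.{u}).map ((toPresheaf _).map φ))
  rw [← GrothendieckTopology.W_iff]
  exact J.W_of_isLocallyBijective _

end Sheafification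

end Groth.Agent.Lib.Helper1.TensorLoc
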