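import Groth.Agent.Lib.Helper1.TensorUnit
import Groth.Agent.Lib.Helper1.FreeOnMap
import Groth.Agent.Lib.Helper1.TensorLoc
import Mathlib.LinearAlgebra.DFinsupp

/-!
# Sections of a coproduct of sheaves of modules are locally finite sums
-/

set_option autoImplicit false
universe u
open CategoryTheory CategoryTheory.Limits Opposite

namespace Groth.Agent.Lib.Helper1.CoprodSections

open Groth.Agent.Lib.Helper1.TensorAdj Groth.Agent.Lib.Helper1.TensorUnit

/-- elements of a coproduct of modules are finite sums of elements of the summands -/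
lemma exists_finset_sum_of_isColimit {R : Type u} [Ring R] {ι : Type u} {M : ι → ModuleCat.{u} R}
    (c : Cofan M) (hc : IsColimit c) (x : c.pt) :
    ∃ (T : Finset ι) (m : ∀ i, M i), x = ∑ i ∈ T, (c.inj i).hom (m i) := by
  classical
  let N : Submodule R c.pt := ⨆ i, LinearMap.range (c.inj i).hom
  let π : c.pt ⟶ ModuleCat.of R (c.pt ⧸ N) := ModuleCat.ofHom N.mkQ
  have hπ : π = 0 := by
    refine Cofan.IsColimit.hom_ext hc _ _ (fun i => ?_)
    rw [comp_zero]
    ext m
    show N.mkQ ((c.inj i).hom m) = 0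
    rw [Submodule.mkQ_apply, Submodule.Quotient.mk_eq_zero]
    exact Submodule.mem_iSup_of_mem i ⟨m, rfl⟩
  have hx : x ∈ N := by
    have h1 : N.mkQ x = 0 := by
      have := congrArg (fun φ : c.pt ⟶ ModuleCat.of R (c.pt ⧸ N) => φ.hom x) hπ
      exact this
    rwa [Submodule.mkQ_apply, Submodule.Quotient.mk_eq_zero] at h1
  obtain ⟨f, hf, hsum⟩ := (Submodule.mem_iSup_iff_exists_finsupp _ x).1 hx
  choose m hm using hf
  refine ⟨f.support, m, ?_⟩
  rw [← hsum, Finsupp.sum]
  exact Finset.sum_congr rfl (fun i _ => (hm i).symm)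

variable {C : Type u} [SmallCategory C] {J : GrothendieckTopology C} (O : Sheaf J CommRingCat.{u})
  {ι : Type u} (F : ι → ModSite.Mod O)

/-- the coproduct of the underlying presheaves -/
noncomputable abbrev P : PMod O := ∐ (fun i => (incl O).obj (F i))

variable {F}
variable (c : Cofan F)

/-- the canonical map from the presheaf coproduct -/
noncomputable def ψ : P O F ⟶ (incl O).obj c.pt :=
  Sigma.desc (fun i => (incl O).map (c.inj i))

/-- its sheafified version -/
noncomputable def ψs : (shf O).obj (P O F) ⟶ c.pt :=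
  ((adj O).homEquiv (P O F) c.pt).symm (ψ O c)

lemma ψ_eq : ψ O c = (adj O).unit.app (P O F) ≫ (incl O).map (ψs O c) := by
  unfold ψs
  have := Adjunction.homEquiv_unit (adj O) (P O F) c.pt
    (((adj O).homEquiv (P O F) c.pt).symm (ψ O c))
  rw [Equiv.apply_symm_apply] at this
  exact this

lemma ι_ψs (i : ι) :
    (shf O).map (Sigma.ι (fun i => (incl O).obj (F i)) i) ≫ ψs O c =
      (adj O).counit.app (F i) ≫ c.inj i := by
  unfold ψs
  rw [Adjunction.homEquiv_counit, ← Category.assoc, ← Functor.map_comp]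
  unfold ψ
  rw [Sigma.ι_desc]
  exact (adj O).counit.naturality (c.inj i)

variable {c}

/-- a section of `ψs` -/
noncomputable def σ (hc : IsColimit c) : c.pt ⟶ (shf O).obj (P O F) :=
  Cofan.IsColimit.desc hc (fun i => inv ((adj O).counit.app (F i)) ≫
    (shf O).map (Sigma.ι (fun i => (incl O).obj (F i)) i))

lemma σ_ψs (hc : IsColimit c) : σ O hc ≫ ψs O c = 𝟙 c.pt := by
  refine Cofan.IsColimit.hom_ext hc _ _ (fun i => ?_)
  unfold σ
  rw [Cofan.IsColimit.fac_assoc, Category.assoc, ι_ψs, IsIso.inv_hom_id_assoc, Category.comp_id]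

lemma epi_ψs (hc : IsColimit c) : Epi (ψs O c) :=
  (SplitEpi.mk (σ O hc) (σ_ψs O hc)).epi

variable (F) in
/-- sections of the presheaf coproduct are finite sums -/
lemma exists_sum_P (V : C) (x : (P O F).obj (op V)) :
    ∃ (T : Finset ι) (t : ∀ i, ((incl O).obj (F i)).obj (op V)),
      x = ∑ i ∈ T, (Sigma.ι (fun i => (incl O).obj (F i)) i).app (op V) (t i) := by
  let E := PresheafOfModules.evaluation (O.obj ⋙ forget₂ CommRingCat.{u} RingCat.{u}) (op V)
  have hE := isColimitCofanMkObjOfIsColimit E (fun i => (incl O).obj (F i))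
    (Sigma.ι (fun i => (incl O).obj (F i))) (coproductIsCoproduct (fun i => (incl O).obj (F i)))
  obtain ⟨T, m, hm⟩ := exists_finset_sum_of_isColimit _ hE x
  exact ⟨T, m, hm⟩

/-- **Sections of a coproduct are locally finite sums of sections of the summands.** -/
theorem exists_local_sum (hc : IsColimit c) {W : C} (s : c.pt.val.obj (op W)) :
    ∃ S ∈ J W, ∀ ⦃V : C⦄ (g : V ⟶ W), S g →
      ∃ (T : Finset ι) (t : ∀ i, (F i).val.obj (op V)),
        c.pt.val.map g.op s = ∑ i ∈ T, (c.inj i).val.app (op V) (t i) := by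
  haveI := epi_ψs O hc
  obtain ⟨S₁, hS₁, h₁⟩ := Groth.Agent.Lib.Helper1.FreeOnMap.exists_local_lift O (ψs O c) s
  choose u hu using h₁
  have hη : Presheaf.IsLocallySurjective J ((PresheafOfModules.toPresheaf _).map
      ((adj O).unit.app (P O F))) := by
    show Presheaf.IsLocallySurjective J (toSheafify J (P O F).presheaf)
    infer_instance
  have h₂ := fun (V₁ : C) (g₁ : V₁ ⟶ W) (hg₁ : S₁ g₁) =>
    (Groth.Agent.Lib.Helper1.TensorLoc.isLocallySurjective_iff (R := O.obj) J
      ((adj O).unit.app (P O F))).1 hη V₁ (u g₁ hg₁)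
  refine ⟨Sieve.bind S₁ (fun V₁ g₁ hg₁ =>
      Groth.Agent.Lib.Helper1.TensorLoc.liftSieve ((adj O).unit.app (P O F)) (u g₁ hg₁)),
    J.bind_covering hS₁ (fun V₁ g₁ hg₁ => h₂ V₁ g₁ hg₁), ?_⟩
  rintro V g ⟨V₁, g₂, g₁, hg₁, ⟨p, hp⟩, rfl⟩
  obtain ⟨T, t, ht⟩ := exists_sum_P O F V p
  refine ⟨T, t, ?_⟩
  have e1 : c.pt.val.map (g₂ ≫ g₁).op s = c.pt.val.map g₂.op (c.pt.val.map g₁.op s) := by
    rw [op_comp, PresheafOfModules.map_comp]
    rfl
  have e2 : c.pt.val.map g₂.op ((ψs O c).val.app (op V₁) (u g₁ hg₁)) =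
      (ψs O c).val.app (op V) (((shf O).obj (P O F)).val.map g₂.op (u g₁ hg₁)) :=
    (PresheafOfModules.naturality_apply (ψs O c).val g₂.op (u g₁ hg₁)).symm
  have e3 : (ψs O c).val.app (op V) (((adj O).unit.app (P O F)).app (op V) p) =
      (ψ O c).app (op V) p := by
    have := congrArg (fun φ => φ.app (op V) p) (ψ_eq O c)
    exact this.symm
  have e4 : ∀ i, (ψ O c).app (op V) ((Sigma.ι (fun i => (incl O).obj (F i)) i).app (op V) (t i)) =
      (c.inj i).val.app (op V) (t i) := by
    intro i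
    have h : Sigma.ι (fun i => (incl O).obj (F i)) i ≫ ψ O c = (incl O).map (c.inj i) := by
      unfold ψ
      exact Sigma.ι_desc _ _
    exact congrArg (fun φ => φ.app (op V) (t i)) h
  rw [e1, ← hu g₁ hg₁, e2]
  have hp' : ((shf O).obj (P O F)).val.map g₂.op (u g₁ hg₁) =
      ((adj O).unit.app (P O F)).app (op V) p := hp.symm
  rw [hp', e3, ht, map_sum]
  exact Finset.sum_congr rfl (fun i _ => e4 i)

end Groth.Agent.Lib.Helper1.CoprodSections
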