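import Groth.Agent.Lib.Helper1.CoprodSections

/-!
# Sections of a coproduct over a quasi-compact object are finite sums
-/

set_option autoImplicit false
universe u
open CategoryTheory CategoryTheory.Limits Opposite

namespace Groth.Agent.Lib.Helper1.CoprodSections

section Proj

variable {C : Type u} [SmallCategory C] {J : GrothendieckTopology C} (O : Sheaf J CommRingCat.{u})
  {ι : Type u} {F : ι → ModSite.Mod O} {c : Cofan F} (hc : IsColimit c)

open Classical in
/-- the projection of a coproduct onto a summand -/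
noncomputable def proj (j : ι) : c.pt ⟶ F j :=
  Cofan.IsColimit.desc hc (fun i => if h : i = j then eqToHom (by rw [h]) else 0)

lemma inj_proj_self (j : ι) : c.inj j ≫ proj O hc j = 𝟙 _ := by
  unfold proj
  rw [Cofan.IsColimit.fac]
  simp

lemma inj_proj_ne {i j : ι} (h : i ≠ j) : c.inj i ≫ proj O hc j = 0 := by
  unfold proj
  rw [Cofan.IsColimit.fac]
  simp [h]

lemma proj_inj_self_apply (j : ι) (V : C) (x : (F j).val.obj (op V)) :
    (proj O hc j).val.app (op V) ((c.inj j).val.app (op V) x) = x := by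
  have := congrArg (fun φ : F j ⟶ F j => φ.val.app (op V) x) (inj_proj_self O hc j)
  exact this

lemma proj_inj_ne_apply {i j : ι} (h : i ≠ j) (V : C) (x : (F i).val.obj (op V)) :
    (proj O hc j).val.app (op V) ((c.inj i).val.app (op V) x) = 0 := by
  have := congrArg (fun φ : F i ⟶ F j => φ.val.app (op V) x) (inj_proj_ne O hc h)
  exact this

lemma proj_sum_of_mem {V : C} (T : Finset ι) (t : ∀ i, (F i).val.obj (op V)) {j : ι} (hj : j ∈ T) :
    (proj O hc j).val.app (op V) (∑ i ∈ T, (c.inj i).val.app (op V) (t i)) = t j := by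
  classical
  rw [map_sum, Finset.sum_eq_single j]
  · exact proj_inj_self_apply O hc j V (t j)
  · intro i _ hij
    exact proj_inj_ne_apply O hc hij V (t i)
  · intro h; exact absurd hj h

lemma proj_sum_of_not_mem {V : C} (T : Finset ι) (t : ∀ i, (F i).val.obj (op V)) {j : ι}
    (hj : j ∉ T) :
    (proj O hc j).val.app (op V) (∑ i ∈ T, (c.inj i).val.app (op V) (t i)) = 0 := by
  classical
  rw [map_sum]
  refine Finset.sum_eq_zero (fun i hi => ?_)
  exact proj_inj_ne_apply O hc (fun h : i = j => hj (h ▸ hi)) V (t i)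

/-- a finite sum of sections of summands is recovered from its projections -/
lemma eq_sum_proj_of_eq_sum {V : C} (s : c.pt.val.obj (op V)) (T₀ T : Finset ι) (hT : T₀ ⊆ T)
    (t : ∀ i, (F i).val.obj (op V)) (hs : s = ∑ i ∈ T₀, (c.inj i).val.app (op V) (t i)) :
    s = ∑ i ∈ T, (c.inj i).val.app (op V) ((proj O hc i).val.app (op V) s) := by
  classical
  rw [← Finset.sum_subset hT]
  · conv_lhs => rw [hs]
    refine Finset.sum_congr rfl (fun i hi => ?_)
    rw [hs, proj_sum_of_mem O hc T₀ t hi]
  · intro i _ hi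
    rw [hs, proj_sum_of_not_mem O hc T₀ t hi, map_zero]

/-- site-level quasi-compactness of an object -/
def SiteQc (J : GrothendieckTopology C) (W : C) : Prop :=
  ∀ S ∈ J W, ∃ (κ : Type u) (_ : Finite κ) (V : κ → C) (g : ∀ k, V k ⟶ W),
    (∀ k, S (g k)) ∧ Sieve.ofArrows V g ∈ J W

/-- **Sections of a coproduct over a quasi-compact object are finite sums.** -/
theorem exists_finset_sum_proj {W : C} (hW : SiteQc J W) (s : c.pt.val.obj (op W)) :
    ∃ T : Finset ι, s = ∑ i ∈ T, (c.inj i).val.app (op W) ((proj O hc i).val.app (op W) s) := by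
  classical
  obtain ⟨S, hS, h⟩ := exists_local_sum O hc s
  obtain ⟨κ, hκ, V, g, hg, hcov⟩ := hW S hS
  haveI := Fintype.ofFinite κ
  choose T₀ t ht using fun k => h (g k) (hg k)
  refine ⟨Finset.univ.biUnion T₀, ?_⟩
  refine Groth.Agent.Lib.Helper1.FreeOnMap.sec_ext O c.pt _ hcov _ _ ?_
  rintro V' q ⟨V'', r, q', ⟨k⟩, rfl⟩
  have e1 : c.pt.val.map (r ≫ g k).op s = c.pt.val.map r.op (c.pt.val.map (g k).op s) := by
    rw [op_comp, PresheafOfModules.map_comp]
    rfl
  let t' : ∀ i, (F i).val.obj (op V') := fun i => (F i).val.map r.op (t k i)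
  have e2 : c.pt.val.map (r ≫ g k).op s =
      ∑ i ∈ T₀ k, (c.inj i).val.app (op V') (t' i) := by
    rw [e1, ht k, map_sum]
    refine Finset.sum_congr rfl (fun i _ => ?_)
    exact (PresheafOfModules.naturality_apply (c.inj i).val r.op (t k i)).symm
  have e3 := eq_sum_proj_of_eq_sum O hc _ (T₀ k) (Finset.univ.biUnion T₀)
    (Finset.subset_biUnion_of_mem T₀ (Finset.mem_univ k)) t' e2
  rw [map_sum]
  rw [e3]
  refine Finset.sum_congr rfl (fun i _ => ?_)
  rw [← PresheafOfModules.naturality_apply (c.inj i).val,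
    ← PresheafOfModules.naturality_apply (proj O hc i).val]

end Proj

end Groth.Agent.Lib.Helper1.CoprodSections
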