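import Groth.Prelude.Def_ModSite

/-!
# `Hom(freeOn O U, M) ≃ M(U)` naturally in `M`
-/

set_option autoImplicit false
universe u
open CategoryTheory CategoryTheory.Limits Opposite

namespace Groth.Agent.Lib.Helper1.ModSiteFree

variable {C : Type u} [SmallCategory C] {J : GrothendieckTopology C}
  (O : Sheaf J CommRingCat.{u}) (U : C)

/-- the terminal object of `Over U` -/
abbrev top : Over U := Over.mk (𝟙 U)

/-- the unique map to the terminal object -/
abbrev toTop (V : Over U) : V ⟶ top U := Over.homMk V.hom

/-- sections of a sheaf of modules over `Over U` are determined by the value at the terminal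
object -/
lemma sections_ext_top (N : SheafOfModules.{u} ((ModSite.ringSh O).over U))
    (s t : N.sections) (h : s.1 (op (top U)) = t.1 (op (top U))) : s = t := by
  apply PresheafOfModules.sections_ext
  intro V
  have hs := s.2 (toTop U V.unop).op
  have ht := t.2 (toTop U V.unop).op
  rw [← hs, ← ht, h]

lemma toTop_comp {V W : Over U} (f : W ⟶ V) : f ≫ toTop U V = toTop U W := by
  ext
  simp

/-- the section determined by an element over the terminal object -/
noncomputable def secOf (N : SheafOfModules.{u} ((ModSite.ringSh O).over U))
    (m : N.val.obj (op (top U))) : N.sections :=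
  PresheafOfModules.sectionsMk (M := N.val)
    (fun V => N.val.map (toTop U V.unop).op m)
    (by
      intro V W f
      rw [← PresheafOfModules.map_comp_apply]
      have : (toTop U V.unop).op ≫ f = (toTop U W.unop).op := by
        rw [← toTop_comp U f.unop]; rfl
      rw [PresheafOfModules.congr_map_apply _ this])

/-- sections ≃ value at the terminal object -/
noncomputable def sectionsEquiv (N : SheafOfModules.{u} ((ModSite.ringSh O).over U)) :
    N.sections ≃ N.val.obj (op (top U)) where
  toFun s := s.1 (op (top U))
  invFun m := secOf O U N m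
  left_inv s := by
    apply sections_ext_top
    show N.val.map (toTop U (top U)).op (s.1 (op (top U))) = _
    exact s.2 _
  right_inv m := by
    show N.val.map (toTop U (top U)).op m = m
    have : (toTop U (top U)).op = 𝟙 _ := by
      rw [← op_id]; congr 1
    rw [this]
    simp

/-- evaluation of modules at an object, as a functor to types -/
noncomputable def evalAt : ModSite.Mod O ⥤ Type u where
  obj M := M.val.obj (op U)
  map p := ↾(fun m => p.val.app (op U) m)

/-- the natural bijection `Hom(freeOn O U, M) ≃ M(U)` -/
noncomputable def homEquiv (M : ModSite.Mod O) :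
    (ModSite.freeOn O U ⟶ M) ≃ M.val.obj (op U) :=
  ((ModSite.extZeroAdj O U).homEquiv (SheafOfModules.unit _) M).trans
    ((SheafOfModules.unitHomEquiv ((ModSite.restr O U).obj M)).trans
      (sectionsEquiv O U ((ModSite.restr O U).obj M)))

lemma homEquiv_comp {M N : ModSite.Mod O} (g : ModSite.freeOn O U ⟶ M) (p : M ⟶ N) :
    homEquiv O U N (g ≫ p) = p.val.app (op U) (homEquiv O U M g) := by
  unfold homEquiv
  simp only [Equiv.trans_apply]
  rw [Adjunction.homEquiv_naturality_right, SheafOfModules.unitHomEquiv_comp_apply]
  rfl

/-- `freeOn O U` corepresents evaluation at `U` -/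
noncomputable def corep : (evalAt O U).CorepresentableBy (ModSite.freeOn O U) where
  homEquiv {M} := homEquiv O U M
  homEquiv_comp p g := homEquiv_comp O U g p

section Pull

variable {D : Type u} [SmallCategory D] {K : GrothendieckTopology D}
  {O_C : Sheaf J CommRingCat.{u}} {O_D : Sheaf K CommRingCat.{u}}
  (f : ModSite.RMor O_C O_D) (X : D)

/-- `f^*(freeOn O_D X)` corepresents evaluation at `f.fn X` -/
noncomputable def corepPull :
    (evalAt O_C (f.fn.obj X)).CorepresentableBy (f.pull.obj (ModSite.freeOn O_D X)) where
  homEquiv {M} := (f.adj.homEquiv (ModSite.freeOn O_D X) M).trans (homEquiv O_D X (f.push.obj M))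
  homEquiv_comp {M N} p g := by
    simp only [Equiv.trans_apply]
    rw [Adjunction.homEquiv_naturality_right]
    exact homEquiv_comp O_D X _ (f.push.map p)

/-- `f^*(freeOn O_D X) ≅ freeOn O_C (f.fn X)` -/
noncomputable def pullFreeOnIso :
    f.pull.obj (ModSite.freeOn O_D X) ≅ ModSite.freeOn O_C (f.fn.obj X) :=
  (corepPull f X).uniqueUpToIso (corep O_C (f.fn.obj X))

end Pull

end Groth.Agent.Lib.Helper1.ModSiteFree
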