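import Groth.Prelude.Def_CohCx
import Mathlib.CategoryTheory.Sites.LocallyBijective
import Mathlib.CategoryTheory.Sites.Sheafification

/-!
# Quasi-compact objects: finite subcovers of covering families
-/

set_option autoImplicit false
universe u
open CategoryTheory CategoryTheory.Limits Opposite

namespace Groth.Agent.Lib.Helper1.QcCover

variable {C : Type u} [SmallCategory C] (J : GrothendieckTopology C)

/-- the sheaf of sets associated with an object -/
noncomputable abbrev hS (U : C) : Sheaf J (Type u) :=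
  (presheafToSheaf J (Type u)).obj (yoneda.obj U)

/-- the class in `h_U^#(W)` of a morphism `W ⟶ U` -/
noncomputable abbrev cls {U W : C} (a : W ⟶ U) : (hS J U).obj.obj (op W) :=
  (toSheafify J (yoneda.obj U)).app (op W) a

/-- the map `h_V^# ⟶ h_U^#` induced by `g : V ⟶ U` -/
noncomputable abbrev hMap {V U : C} (g : V ⟶ U) : hS J V ⟶ hS J U :=
  (presheafToSheaf J (Type u)).map (yoneda.map g)

lemma hMap_cls {V U W : C} (g : V ⟶ U) (c : W ⟶ V) :
    (hMap J g).hom.app (op W) (cls J c) = cls J (c ≫ g) := by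
  have h := toSheafify_naturality J (yoneda.map g)
  have h2 := congrFun (congrArg (fun t => t.app (op W)) h) c
  exact h2.symm

lemma cls_comp {U W W' : C} (a : W ⟶ U) (h : W' ⟶ W) :
    (hS J U).obj.map h.op (cls J a) = cls J (h ≫ a) := by
  exact (NatTrans.naturality_apply (toSheafify J (yoneda.obj U)) h.op a).symm

lemma exists_cover_cls {U W : C} (s : (hS J U).obj.obj (op W)) :
    ∃ S ∈ J W, ∀ ⦃V : C⦄ (h : V ⟶ W), S h →
      ∃ a : V ⟶ U, cls J a = (hS J U).obj.map h.op s :=
by
  refine ⟨_, Presheaf.imageSieve_mem J (toSheafify J (yoneda.obj U)) s, fun V h hh => ?_⟩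
  obtain ⟨t, ht⟩ := hh
  exact ⟨t, ht⟩

lemma exists_cover_eq {U W : C} (a b : W ⟶ U) (h : cls J a = cls J b) :
    ∃ S ∈ J W, ∀ ⦃V : C⦄ (k : V ⟶ W), S k → k ≫ a = k ≫ b :=
by
  refine ⟨_, Presheaf.equalizerSieve_mem J (toSheafify J (yoneda.obj U)) a b h, fun V k hk => ?_⟩
  exact hk

/-- a covering family gives a jointly surjective family of sheaves of sets -/
theorem jointlySurjective_of_cover {U : C} {I : Type u} (V : I → C) (g : ∀ i, V i ⟶ U)
    (hcov : Sieve.ofArrows V g ∈ J U) :
    CohCx.JointlySurjective (fun i => hMap J (g i)) := by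
  intro W s
  obtain ⟨S₁, hS₁, h₁⟩ := exists_cover_cls J s
  let S : Sieve W :=
    { arrows := fun V' h => ∃ (i : I) (x : (hS J (V i)).obj.obj (op V')),
        (hMap J (g i)).hom.app (op V') x = (hS J U).obj.map h.op s
      downward_closed := by
        rintro V' V'' h ⟨i, x, hx⟩ k
        refine ⟨i, (hS J (V i)).obj.map k.op x, ?_⟩
        rw [NatTrans.naturality_apply, hx, op_comp, Functor.map_comp]
        rfl }
  refine ⟨S, ?_, fun V' h hh => hh⟩
  refine J.transitive hS₁ S (fun V' h hh => ?_)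
  obtain ⟨a, ha⟩ := h₁ h hh
  refine J.superset_covering ?_ (J.pullback_stable a hcov)
  rintro V'' k ⟨Z, r, q', ⟨i⟩, hrq⟩
  refine ⟨i, cls J r, ?_⟩
  rw [hMap_cls, hrq, ← cls_comp, ha, op_comp, Functor.map_comp]
  rfl

/-- a jointly surjective family of maps of representable sheaves comes from a covering family -/
theorem cover_of_jointlySurjective {U : C} {I : Type u} (V : I → C) (g : ∀ i, V i ⟶ U)
    (h : CohCx.JointlySurjective (fun i => hMap J (g i))) : Sieve.ofArrows V g ∈ J U := by
  obtain ⟨S, hS, hS'⟩ := h U (cls J (𝟙 U))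
  refine J.transitive hS _ (fun V' p hp => ?_)
  obtain ⟨i, x, hx⟩ := hS' V' p hp
  obtain ⟨S₂, hS₂, h₂⟩ := exists_cover_cls J x
  refine J.transitive hS₂ _ (fun V'' k hk => ?_)
  obtain ⟨c, hc⟩ := h₂ k hk
  have heq : cls J (c ≫ g i) = cls J (k ≫ p) := by
    rw [← hMap_cls, hc, NatTrans.naturality_apply, hx, cls_comp, cls_comp, Category.comp_id]
  obtain ⟨S₃, hS₃, h₃⟩ := exists_cover_eq J _ _ heq
  refine J.superset_covering ?_ hS₃
  intro V3 l hl
  refine ⟨V i, l ≫ c, g i, ⟨i⟩, ?_⟩
  rw [Category.assoc, h₃ l hl, Category.assoc]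

/-- finite subcovers for quasi-compact objects -/
theorem exists_finite_subcover {U : C} (hqc : CohCx.IsQcObject (hS J U)) {I : Type u}
    (V : I → C) (g : ∀ i, V i ⟶ U) (hcov : Sieve.ofArrows V g ∈ J U) :
    ∃ t : Finset I, Sieve.ofArrows (fun i : t => V i.1) (fun i : t => g i.1) ∈ J U := by
  obtain ⟨t, ht⟩ := hqc I (fun i => hS J (V i)) (fun i => hMap J (g i))
    (jointlySurjective_of_cover J V g hcov)
  exact ⟨t, cover_of_jointlySurjective J (fun i : t => V i.1) (fun i : t => g i.1) ht⟩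

end Groth.Agent.Lib.Helper1.QcCover
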