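import Groth.Agent.Lib.Helper1.CoprodSections2
import Groth.Agent.Lib.Helper1.CoprodAb
import Groth.Agent.Lib.Helper1.QcCover
import Groth.Agent.Lib.Helper1.ModSiteFree

/-!
# Sections over a quasi-compact object commute with coproducts
-/

set_option autoImplicit false
universe u
open CategoryTheory CategoryTheory.Limits Opposite

namespace Groth.Agent.Lib.Helper1.CoprodSections

variable {C : Type u} [SmallCategory C] {J : GrothendieckTopology C} (O : Sheaf J CommRingCat.{u})

lemma siteQc_of_isQcObject {W : C}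
    (hqc : CohCx.IsQcObject ((presheafToSheaf J (Type u)).obj (yoneda.obj W))) : SiteQc J W := by
  intro S hS
  let I : Type u := Σ V : C, {g : V ⟶ W // S g}
  have hcov : Sieve.ofArrows (fun i : I => i.1) (fun i : I => i.2.1) ∈ J W := by
    refine J.superset_covering ?_ hS
    intro V g hg
    exact ⟨V, 𝟙 V, g, ⟨(⟨V, g, hg⟩ : I)⟩, by simp⟩
  obtain ⟨t, ht⟩ := Groth.Agent.Lib.Helper1.QcCover.exists_finite_subcover J hqc _ _ hcov
  exact ⟨ULift.{u} t, inferInstance, fun k => k.down.1.1, fun k => k.down.1.2.1,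
    fun k => k.down.1.2.2, by
      refine J.superset_covering ?_ ht
      rintro V g ⟨V', a, b, ⟨k⟩, rfl⟩
      exact ⟨_, a, _, ⟨(⟨k⟩ : ULift.{u} t)⟩, rfl⟩⟩

end Groth.Agent.Lib.Helper1.CoprodSections

namespace Groth.Agent.Lib.Helper1.CoprodSections

variable {C : Type u} [SmallCategory C] {J : GrothendieckTopology C} (O : Sheaf J CommRingCat.{u})

/-- the sections functor -/
noncomputable abbrev Γs (W : C) : ModSite.Mod O ⥤ AddCommGrpCat.{u} :=
  SheafOfModules.toSheaf (ModSite.ringSh O) ⋙ (sheafSections J AddCommGrpCat.{u}).obj (op W)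

theorem preservesCoproducts_sections {W : C} (hW : SiteQc J W) (ι : Type u) :
    PreservesColimitsOfShape (Discrete ι) (Γs O W) := by
  refine ⟨fun {K} => ?_⟩
  let F : ι → ModSite.Mod O := K.obj ∘ Discrete.mk
  suffices h : PreservesColimit (Discrete.functor F) (Γs O W) from
    preservesColimit_of_iso_diagram _ (Discrete.natIsoFunctor (F := K)).symm
  let c : Cofan F := Cofan.mk (∐ F) (Sigma.ι F)
  have hc : IsColimit c := coproductIsCoproduct F
  refine preservesColimit_of_preserves_colimit_cocone hc ?_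
  refine (isColimitMapCoconeCofanMkEquiv _ _ _).symm ?_
  refine (CoprodAb.isColimit _ (fun i => (Γs O W).map (proj O hc i)) ?_ ?_ ?_).some
  · intro i
    have h1 := inj_proj_self O hc i
    show (Γs O W).map (c.inj i) ≫ (Γs O W).map (proj O hc i) = 𝟙 _
    rw [← Functor.map_comp, h1, CategoryTheory.Functor.map_id]
  · intro i j h
    have h1 := inj_proj_ne O hc h
    show (Γs O W).map (c.inj i) ≫ (Γs O W).map (proj O hc j) = 0
    rw [← Functor.map_comp, h1]
    rfl
  · intro b
    obtain ⟨T, hT⟩ := exists_finset_sum_proj O hc hW b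
    exact ⟨T, hT⟩

end Groth.Agent.Lib.Helper1.CoprodSections

namespace Groth.Agent.Lib.Helper1.CoprodSections

variable {C : Type u} [SmallCategory C] {J : GrothendieckTopology C} (O : Sheaf J CommRingCat.{u})

lemma sum_val_app_apply {M N : ModSite.Mod O} {ι : Type u} (T : Finset ι) (f : ι → (M ⟶ N))
    (X : Cᵒᵖ) (x : M.val.obj X) :
    (∑ i ∈ T, f i).val.app X x = ∑ i ∈ T, (f i).val.app X x := by
  classical
  induction T using Finset.induction_on with
  | empty => simp; rfl
  | insert a T ha ih =>
    rw [Finset.sum_insert ha, Finset.sum_insert ha, ← ih]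
    rfl

theorem preservesCoproducts_hom_freeOn {W : C} (hW : SiteQc J W) (ι : Type u) :
    PreservesColimitsOfShape (Discrete ι) (preadditiveCoyoneda.obj (op (ModSite.freeOn O W))) := by
  refine ⟨fun {K} => ?_⟩
  let F : ι → ModSite.Mod O := K.obj ∘ Discrete.mk
  suffices h : PreservesColimit (Discrete.functor F)
      (preadditiveCoyoneda.obj (op (ModSite.freeOn O W))) from
    preservesColimit_of_iso_diagram _ (Discrete.natIsoFunctor (F := K)).symm
  let c : Cofan F := Cofan.mk (∐ F) (Sigma.ι F)
  have hc : IsColimit c := coproductIsCoproduct F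
  refine preservesColimit_of_preserves_colimit_cocone hc ?_
  refine (isColimitMapCoconeCofanMkEquiv _ _ _).symm ?_
  refine (CoprodAb.isColimit _
    (fun i => (preadditiveCoyoneda.obj (op (ModSite.freeOn O W))).map (proj O hc i)) ?_ ?_ ?_).some
  · intro i
    have h1 := inj_proj_self O hc i
    show (preadditiveCoyoneda.obj (op (ModSite.freeOn O W))).map (c.inj i) ≫
      (preadditiveCoyoneda.obj (op (ModSite.freeOn O W))).map (proj O hc i) = 𝟙 _
    rw [← Functor.map_comp, h1, CategoryTheory.Functor.map_id]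
  · intro i j h
    have h1 := inj_proj_ne O hc h
    show (preadditiveCoyoneda.obj (op (ModSite.freeOn O W))).map (c.inj i) ≫
      (preadditiveCoyoneda.obj (op (ModSite.freeOn O W))).map (proj O hc j) = 0
    rw [← Functor.map_comp, h1, Functor.map_zero]
  · intro (b : ModSite.freeOn O W ⟶ c.pt)
    obtain ⟨T, hT⟩ := exists_finset_sum_proj O hc hW
      (Groth.Agent.Lib.Helper1.ModSiteFree.homEquiv O W c.pt b)
    refine ⟨T, ?_⟩
    show b = ∑ i ∈ T, (b ≫ proj O hc i) ≫ c.inj i
    have he : b ≫ (∑ i ∈ T, proj O hc i ≫ c.inj i) = b := by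
      apply (Groth.Agent.Lib.Helper1.ModSiteFree.homEquiv O W c.pt).injective
      rw [Groth.Agent.Lib.Helper1.ModSiteFree.homEquiv_comp, sum_val_app_apply]
      exact hT.symm
    conv_lhs => rw [← he]
    rw [Preadditive.comp_sum]
    refine Finset.sum_congr rfl (fun i _ => ?_)
    rw [Category.assoc]

end Groth.Agent.Lib.Helper1.CoprodSections
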