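import Mathlib.LinearAlgebra.Finsupp.LinearCombination
import Mathlib.LinearAlgebra.Span.Basic
import Mathlib.Algebra.Ring.Hom.Defs
import Mathlib.Tactic.LinearCombination
import Mathlib.Tactic.Ring
import Mathlib.Tactic.Abel

set_option autoImplicit false
universe u v

namespace Groth.Agent.Lib.Helper1.Koszul

open Finsupp

variable {S : Type u} [CommRing S] {J : Type v} (z : J → S)

/-- the submodule of Koszul (trivial) relations among the `z j`. -/
noncomputable def K : Submodule S (J →₀ S) :=
  Submodule.span S {y | ∃ i j : J, y = single j (z i) - single i (z j)}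

/-- the sum map `c ↦ Σ c_j z_j`. -/
noncomputable abbrev tot : (J →₀ S) →ₗ[S] S := Finsupp.linearCombination S z

lemma tot_single (j : J) (a : S) : tot z (single j a) = a * z j := by
  rw [tot, Finsupp.linearCombination_single, smul_eq_mul]

lemma K_le_ker : K z ≤ LinearMap.ker (tot z) := by
  refine Submodule.span_le.mpr ?_
  rintro _ ⟨i, j, rfl⟩
  rw [SetLike.mem_coe, LinearMap.mem_ker, map_sub, tot_single, tot_single]
  ring

/-- elimination data for the member `z j`. -/
structure ElimData (j : J) where
  /-- the substitution endomorphism -/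
  ε : S →+* S
  ε_z : ε (z j) = 0
  sub_mem : ∀ a, ∃ d, a = ε a + z j * d
  idem : ∀ a, ε (ε a) = ε a
  fix : ∀ i, i ≠ j → ε (z i) = z i
  nzd : ∀ c, z j * c = 0 → c = 0

variable {z}

lemma single_sub_mem {j₀ : J} (E : ElimData z j₀) (i : J) (hi : i ≠ j₀) (a : S) :
    single i (a - E.ε a) ∈ K z ⊔ Submodule.span S {single j₀ (1 : S)} := by
  obtain ⟨d, hd⟩ := E.sub_mem a
  have h1 : single i (a - E.ε a) =
      d • (single i (z j₀) - single j₀ (z i)) + (d * z i) • single j₀ (1 : S) := by
    rw [smul_sub, smul_single, smul_single, smul_single, smul_eq_mul, smul_eq_mul, smul_eq_mul,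
      mul_one, sub_add_cancel]
    congr 1
    linear_combination hd
  rw [h1]
  refine Submodule.add_mem _ (Submodule.mem_sup_left ?_) (Submodule.mem_sup_right ?_)
  · exact Submodule.smul_mem _ _ (Submodule.subset_span ⟨j₀, i, rfl⟩)
  · exact Submodule.smul_mem _ _ (Submodule.subset_span rfl)


lemma sub_mapRange_mem {j₀ : J} (E : ElimData z j₀) (x : J →₀ S) (hx : x j₀ = 0) :
    x - x.mapRange E.ε (map_zero _) ∈ K z ⊔ Submodule.span S {single j₀ (1 : S)} := by
  classical
  have h1 : x - x.mapRange E.ε (map_zero _) = ∑ i ∈ x.support, single i (x i - E.ε (x i)) := by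
    ext k
    rw [Finsupp.sub_apply, Finsupp.mapRange_apply, Finsupp.finset_sum_apply]
    simp only [Finsupp.single_apply]
    rw [Finset.sum_ite_eq']
    split_ifs with hk
    · rfl
    · rw [Finsupp.notMem_support_iff.1 hk, map_zero, sub_zero]
  rw [h1]
  refine Submodule.sum_mem _ fun i hi => ?_
  apply single_sub_mem E i
  rintro rfl
  exact (Finsupp.mem_support_iff.1 hi) hx

lemma tot_mapRange (ε : S →+* S) (x : J →₀ S) :
    tot z (x.mapRange ε (map_zero _)) = ∑ i ∈ x.support, ε (x i) * z i := by
  rw [tot, Finsupp.linearCombination_apply,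
    Finsupp.sum_mapRange_index (h := fun i a => a • z i) (fun i => zero_smul S (z i))]
  rfl

lemma ε_tot_mapRange {j₀ : J} (E : ElimData z j₀) (x : J →₀ S) (hx : x j₀ = 0) :
    E.ε (tot z (x.mapRange E.ε (map_zero _))) = tot z (x.mapRange E.ε (map_zero _)) := by
  rw [tot_mapRange, map_sum]
  refine Finset.sum_congr rfl fun i hi => ?_
  have hi' : i ≠ j₀ := by
    rintro rfl
    exact (Finsupp.mem_support_iff.1 hi) hx
  rw [map_mul, E.idem, E.fix i hi']

theorem mem_K_of_tot_eq_zero (hE : ∀ j, Nonempty (ElimData z j)) :
    ∀ (n : ℕ) (c : J →₀ S), c.support.card = n → tot z c = 0 → c ∈ K z := by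
  intro n
  induction n using Nat.strong_induction_on with
  | _ n ih =>
    intro c hn hc
    by_cases h0 : c.support = ∅
    · rw [Finsupp.support_eq_empty] at h0
      rw [h0]
      exact Submodule.zero_mem _
    · obtain ⟨j₀, hj₀⟩ := Finset.nonempty_iff_ne_empty.2 h0
      obtain ⟨E⟩ := hE j₀
      classical
      have hx0 : (c.erase j₀) j₀ = 0 := Finsupp.erase_same
      have hW : c - (c.erase j₀).mapRange E.ε (map_zero _) ∈
          K z ⊔ Submodule.span S {single j₀ (1 : S)} := by
        have h1 : ∀ m : J →₀ S, c - m = (c.erase j₀ - m) + c j₀ • single j₀ (1 : S) := by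
          intro m
          rw [smul_single, smul_eq_mul, mul_one]
          conv_lhs => rw [← Finsupp.single_add_erase j₀ c]
          abel
        rw [h1]
        refine Submodule.add_mem _ (sub_mapRange_mem E _ hx0) (Submodule.mem_sup_right ?_)
        exact Submodule.smul_mem _ _ (Submodule.subset_span rfl)
      obtain ⟨k, hk, w, hw, hkw⟩ := Submodule.mem_sup.1 hW
      obtain ⟨c'', rfl⟩ := Submodule.mem_span_singleton.1 hw
      have h2 : tot z ((c.erase j₀).mapRange E.ε (map_zero _)) + c'' * z j₀ = 0 := by
        have h := congrArg (tot z) hkw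
        rw [map_add, map_sub, hc, (K_le_ker z hk : tot z k = 0), map_smul, tot_single,
          smul_eq_mul, one_mul, zero_add, zero_sub] at h
        rw [h]; ring
      have h3 := ε_tot_mapRange E (c.erase j₀) hx0
      have h4 : tot z ((c.erase j₀).mapRange E.ε (map_zero _)) = 0 := by
        have h := congrArg E.ε h2
        rw [map_add, map_mul, E.ε_z, mul_zero, add_zero, map_zero, h3] at h
        exact h
      have h5 : c'' = 0 := E.nzd c'' (by rw [h4, zero_add] at h2; rw [mul_comm]; exact h2)
      have h6 : c = (c.erase j₀).mapRange E.ε (map_zero _) + k := by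
        rw [h5, zero_smul, add_zero] at hkw
        rw [hkw]; abel
      have hcard : ((c.erase j₀).mapRange E.ε (map_zero _)).support.card < n := by
        calc ((c.erase j₀).mapRange E.ε (map_zero _)).support.card
            ≤ (c.erase j₀).support.card := Finset.card_le_card Finsupp.support_mapRange
          _ < c.support.card := by
              rw [Finsupp.support_erase]; exact Finset.card_erase_lt_of_mem hj₀
          _ = n := hn
      rw [h6]
      exact Submodule.add_mem _ (ih _ hcard _ rfl h4) hk

/-- Relations among a family admitting elimination data are Koszul. -/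
theorem mem_K (hE : ∀ j, Nonempty (ElimData z j)) (c : J →₀ S) (hc : tot z c = 0) : c ∈ K z :=
  mem_K_of_tot_eq_zero hE _ c rfl hc

end Groth.Agent.Lib.Helper1.Koszul
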