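import Groth.Agent.Lib.Helper1.CotRel
import Groth.Agent.Lib.Helper1.Koszul

set_option autoImplicit false
universe u v w t w'

namespace Groth.Agent.Lib.Helper1.CotJoin

open CotT TensorProduct MvPolynomial Groth.Agent.Lib.Helper1.CotRel

section Subst

variable {A : Type u} [CommRing A] {κ : Type w} {S : Type v} [CommRing S] [Algebra A S]

/-- two substitutions differ by an element of the ideal generated by the differences. -/
lemma aeval_sub_aeval_mem (g g' : κ → S) (p : MvPolynomial κ A) :
    aeval g p - aeval g' p ∈ Ideal.span (Set.range fun k => g k - g' k) := by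
  induction p using MvPolynomial.induction_on with
  | C a => rw [aeval_C, aeval_C, sub_self]; exact Ideal.zero_mem _
  | add p q hp hq =>
    rw [map_add, map_add, add_sub_add_comm]
    exact Ideal.add_mem _ hp hq
  | mul_X p k hp =>
    rw [map_mul, map_mul, aeval_X, aeval_X]
    have : aeval g p * g k - aeval g' p * g' k =
        (aeval g p - aeval g' p) * g k + aeval g' p * (g k - g' k) := by ring
    rw [this]
    exact Ideal.add_mem _ (Ideal.mul_mem_right _ _ hp)
      (Ideal.mul_mem_left _ _ (Ideal.subset_span ⟨k, rfl⟩))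

end Subst

variable {A : Type u} {B : Type v} {ι : Type w} {σ : Type t} {ι' : Type w'}
variable [CommRing A] [CommRing B] [Algebra A B]
variable (P : Algebra.Presentation A B ι σ) (v : ι' → B)

/-- chosen lifts of the new generators. -/
noncomputable def r (j : ι') : MvPolynomial ι A := P.σ (v j)

lemma aeval_r (j : ι') : aeval P.val (r P v j) = v j := P.aeval_val_σ (v j)

/-- the lifts inside the big polynomial ring. -/
noncomputable def ρ (j : ι') : MvPolynomial (ι ⊕ ι') A := rename Sum.inl (r P v j)

/-- the new relations `y_j - r_j`. -/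
noncomputable def zz (j : ι') : MvPolynomial (ι ⊕ ι') A := X (Sum.inr j) - ρ P v j

/-- the ring map `R⁺ → R`. -/
noncomputable def uβ : MvPolynomial (ι ⊕ ι') A →ₐ[A] MvPolynomial ι A :=
  aeval (Sum.elim X (r P v))

/-- the ring map `R → R⁺`. -/
noncomputable def uα : MvPolynomial ι A →ₐ[A] MvPolynomial (ι ⊕ ι') A := rename Sum.inl

lemma uβ_uα (p : MvPolynomial ι A) : uβ P v (uα p) = p := by
  unfold uβ uα
  rw [aeval_rename]
  exact aeval_X_left_apply p

lemma uβ_ρ (j : ι') : uβ P v (ρ P v j) = r P v j := uβ_uα P v _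

lemma uβ_zz (j : ι') : uβ P v (zz P v j) = 0 := by
  unfold zz
  rw [map_sub, uβ_ρ]
  unfold uβ
  rw [aeval_X, Sum.elim_inr, sub_self]

lemma aeval_join_uα (p : MvPolynomial ι A) :
    aeval (Sum.elim P.val v) (uα (ι' := ι') p) = aeval P.val p := by
  unfold uα
  rw [aeval_rename]
  rfl

lemma aeval_uβ (q : MvPolynomial (ι ⊕ ι') A) :
    aeval P.val (uβ P v q) = aeval (Sum.elim P.val v) q := by
  unfold uβ
  rw [comp_aeval_apply]
  congr 2
  funext k
  cases k with
  | inl i => simp
  | inr j => simp [aeval_r]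

lemma sub_uα_uβ_mem (a : MvPolynomial (ι ⊕ ι') A) :
    a - uα (uβ P v a) ∈ Ideal.span (Set.range (zz P v)) := by
  have h1 : a = aeval (X : ι ⊕ ι' → MvPolynomial (ι ⊕ ι') A) a := (aeval_X_left_apply a).symm
  have h2 : uα (uβ P v a) = aeval (Sum.elim (fun i => X (Sum.inl i)) (ρ P v)) a := by
    unfold uα uβ
    rw [← AlgHom.comp_apply, comp_aeval]
    congr 2
    funext k
    cases k with
    | inl i => simp
    | inr j => rfl
  rw [h2]
  nth_rewrite 1 [h1]
  refine (Ideal.span_le.2 ?_) (aeval_sub_aeval_mem _ _ a)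
  rintro _ ⟨k, rfl⟩
  cases k with
  | inl i =>
    simp only [Sum.elim_inl, sub_self]
    exact Ideal.zero_mem _
  | inr j => exact Ideal.subset_span ⟨j, rfl⟩


lemma aeval_join_surjective : Function.Surjective (aeval (R := A) (Sum.elim P.val v)) := by
  intro b
  exact ⟨uα (P.σ b), by rw [aeval_join_uα, P.aeval_val_σ]⟩

/-- generators of the join. -/
noncomputable def joinGen : Algebra.Generators A B (ι ⊕ ι') :=
  Algebra.Generators.ofSurjective (Sum.elim P.val v) (aeval_join_surjective P v)

lemma joinGen_val : (joinGen P v).val = Sum.elim P.val v := rfl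

/-- relations of the join. -/
noncomputable def joinRel : σ ⊕ ι' → MvPolynomial (ι ⊕ ι') A :=
  Sum.elim (fun s => uα (P.relation s)) (zz P v)

lemma mem_joinGen_ker (a : MvPolynomial (ι ⊕ ι') A) :
    a ∈ (joinGen P v).ker ↔ aeval (Sum.elim P.val v) a = 0 := by
  change algebraMap (joinGen P v).Ring B a = 0 ↔ _
  rw [Algebra.Generators.algebraMap_apply, joinGen_val]

lemma mem_ker_iff (p : MvPolynomial ι A) : p ∈ P.ker ↔ aeval P.val p = 0 := by
  change algebraMap P.Ring B p = 0 ↔ _
  rw [Algebra.Generators.algebraMap_apply]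

lemma zz_mem_ker (j : ι') : zz P v j ∈ (joinGen P v).ker := by
  rw [mem_joinGen_ker, ← aeval_uβ, uβ_zz, map_zero]

lemma span_joinRel : Ideal.span (Set.range (joinRel P v)) = (joinGen P v).ker := by
  apply le_antisymm
  · refine Ideal.span_le.2 ?_
    rintro _ ⟨k, rfl⟩
    cases k with
    | inl s =>
      change uα (P.relation s) ∈ (joinGen P v).ker
      rw [mem_joinGen_ker, aeval_join_uα, ← mem_ker_iff]
      exact P.relation_mem_ker s
    | inr j => exact zz_mem_ker P v j
  · intro a ha
    have h1 : a = (a - uα (uβ P v a)) + uα (uβ P v a) := by ring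
    rw [h1]
    refine Ideal.add_mem _ ?_ ?_
    · refine (Ideal.span_le.2 ?_) (sub_uα_uβ_mem P v a)
      rintro _ ⟨j, rfl⟩
      exact Ideal.subset_span ⟨Sum.inr j, rfl⟩
    · have h2 : uβ P v a ∈ P.ker := by
        rw [mem_ker_iff, aeval_uβ, ← mem_joinGen_ker]
        exact ha
      rw [← P.span_range_relation_eq_ker] at h2
      let f : MvPolynomial ι A →+* MvPolynomial (ι ⊕ ι') A :=
        (uα (ι' := ι') : MvPolynomial ι A →ₐ[A] MvPolynomial (ι ⊕ ι') A).toRingHom
      have h3 : f (uβ P v a) ∈ Ideal.map f (Ideal.span (Set.range P.relation)) :=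
        Ideal.mem_map_of_mem f h2
      rw [Ideal.map_span] at h3
      change f (uβ P v a) ∈ _
      refine (Ideal.span_le.2 ?_) h3
      rintro _ ⟨_, ⟨s, rfl⟩, rfl⟩
      exact Ideal.subset_span ⟨Sum.inl s, rfl⟩

/-- the join presentation: variables `ι ⊕ ι'`, relations those of `P` together with `y_j - r_j`. -/
noncomputable def join : Algebra.Presentation A B (ι ⊕ ι') (σ ⊕ ι') where
  toGenerators := joinGen P v
  relation := joinRel P v
  span_range_relation_eq_ker := span_joinRel P v


section Homs

/-- `P → join`. -/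
noncomputable def α : RelHom P (join P v) :=
  RelHom.mk' (P := P) (P' := join P v)
    ((uα (ι' := ι') : MvPolynomial ι A →ₐ[A] MvPolynomial (ι ⊕ ι') A).toRingHom)
    (fun p => by
      rw [algebraMap_toExtension, algebraMap_toExtension]
      exact aeval_join_uα P v p)
    (fun s => Finsupp.single (Sum.inl s) 1)
    (fun s => by
      rw [jmap_single, one_mul]
      rfl)

/-- `join → P`. -/
noncomputable def β : RelHom (join P v) P :=
  RelHom.mk' (P := join P v) (P' := P)
    ((uβ P v : MvPolynomial (ι ⊕ ι') A →ₐ[A] MvPolynomial ι A).toRingHom)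
    (fun q => by
      rw [algebraMap_toExtension, algebraMap_toExtension]
      exact aeval_uβ P v q)
    (Sum.elim (fun s => Finsupp.single s 1) (fun _ => 0))
    (fun k => by
      cases k with
      | inl s =>
        rw [Sum.elim_inl, jmap_single, one_mul]
        exact (uβ_uα P v _).symm
      | inr j =>
        rw [Sum.elim_inr, map_zero]
        exact (uβ_zz P v j).symm)

lemma α_u (p : MvPolynomial ι A) : (α P v).u p = uα p := rfl

lemma β_u (q : MvPolynomial (ι ⊕ ι') A) : (β P v).u q = uβ P v q := rfl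

lemma α_single (s : σ) (a : MvPolynomial ι A) :
    (α P v).γ (Finsupp.single s a) = Finsupp.single (Sum.inl s) (uα a) := by
  unfold α
  rw [RelHom.mk'_γ_single, Finsupp.smul_single, smul_eq_mul, mul_one]
  rfl

lemma β_single_inl (s : σ) (a : MvPolynomial (ι ⊕ ι') A) :
    (β P v).γ (Finsupp.single (Sum.inl s) a) = Finsupp.single s (uβ P v a) := by
  unfold β
  rw [RelHom.mk'_γ_single, Sum.elim_inl, Finsupp.smul_single, smul_eq_mul, mul_one]
  rfl

lemma β_single_inr (j : ι') (a : MvPolynomial (ι ⊕ ι') A) :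
    (β P v).γ (Finsupp.single (Sum.inr j) a) = 0 := by
  unfold β
  rw [RelHom.mk'_γ_single, Sum.elim_inr, smul_zero]

lemma β_α (f : relMod P) : (β P v).γ ((α P v).γ f) = f := by
  induction f using Finsupp.induction_linear with
  | zero => rw [map_zero, map_zero]
  | add f g hf hg => rw [map_add, map_add, hf, hg]
  | single s a =>
    have h1 := α_single P v s a
    have h2 := β_single_inl P v s (uα a)
    rw [h1]
    exact h2.trans (congrArg _ (uβ_uα P v a))

end Homs


section Elim

open Groth.Agent.Lib.Helper1.Koszul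

open scoped Classical

/-- substitute `y_j ↦ r_j`, other variables fixed. -/
noncomputable def εj (j : ι') : MvPolynomial (ι ⊕ ι') A →ₐ[A] MvPolynomial (ι ⊕ ι') A :=
  aeval (Function.update X (Sum.inr j) (ρ P v j))

lemma εj_X_inr_self (j : ι') : εj P v j (X (Sum.inr j)) = ρ P v j := by
  unfold εj
  rw [aeval_X, Function.update_self]

lemma εj_X_of_ne (j : ι') (k : ι ⊕ ι') (hk : k ≠ Sum.inr j) : εj P v j (X k) = X k := by
  unfold εj
  rw [aeval_X, Function.update_of_ne hk]

lemma εj_uα (j : ι') (p : MvPolynomial ι A) : εj P v j (uα p) = uα p := by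
  unfold εj uα
  rw [aeval_rename]
  have : (Function.update (X : ι ⊕ ι' → MvPolynomial (ι ⊕ ι') A) (Sum.inr j) (ρ P v j)) ∘ Sum.inl
      = X ∘ Sum.inl := by
    funext i
    simp only [Function.comp_apply]
    rw [Function.update_of_ne (by simp)]
  rw [this, ← rename_eq_aeval]

lemma εj_ρ (j i : ι') : εj P v j (ρ P v i) = ρ P v i := εj_uα P v j _

lemma εj_zz_self (j : ι') : εj P v j (zz P v j) = 0 := by
  unfold zz
  rw [map_sub, εj_X_inr_self, εj_ρ, sub_self]

lemma εj_zz_of_ne (j i : ι') (hi : i ≠ j) : εj P v j (zz P v i) = zz P v i := by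
  unfold zz
  rw [map_sub, εj_X_of_ne P v j _ (by simpa using hi), εj_ρ]

lemma εj_idem (j : ι') (a : MvPolynomial (ι ⊕ ι') A) : εj P v j (εj P v j a) = εj P v j a := by
  have : (εj P v j).comp (εj P v j) = εj P v j := by
    apply MvPolynomial.algHom_ext
    intro k
    rw [AlgHom.comp_apply]
    by_cases hk : k = Sum.inr j
    · subst hk
      rw [εj_X_inr_self, εj_ρ]
    · rw [εj_X_of_ne P v j k hk, εj_X_of_ne P v j k hk]
  exact AlgHom.congr_fun this a

lemma sub_εj_mem (j : ι') (a : MvPolynomial (ι ⊕ ι') A) :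
    ∃ d, a = εj P v j a + zz P v j * d := by
  classical
  have h1 : a = aeval (X : ι ⊕ ι' → MvPolynomial (ι ⊕ ι') A) a := (aeval_X_left_apply a).symm
  have h2 : a - εj P v j a ∈ Ideal.span {zz P v j} := by
    nth_rewrite 1 [h1]
    unfold εj
    refine (Ideal.span_le.2 ?_) (aeval_sub_aeval_mem _ _ a)
    rintro _ ⟨k, rfl⟩
    by_cases hk : k = Sum.inr j
    · subst hk
      simp only [Function.update_self]
      exact Ideal.subset_span rfl
    · simp only [Function.update_of_ne hk, sub_self]
      exact Ideal.zero_mem _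
  obtain ⟨d, hd⟩ := Ideal.mem_span_singleton'.1 h2
  refine ⟨d, ?_⟩
  rw [mul_comm, hd]
  ring

/-- the shear `y_j ↦ y_j + r_j`. -/
noncomputable def τ : MvPolynomial (ι ⊕ ι') A →ₐ[A] MvPolynomial (ι ⊕ ι') A :=
  aeval (Sum.elim (fun i => X (Sum.inl i)) (fun j => X (Sum.inr j) + ρ P v j))

/-- the inverse shear. -/
noncomputable def τ' : MvPolynomial (ι ⊕ ι') A →ₐ[A] MvPolynomial (ι ⊕ ι') A :=
  aeval (Sum.elim (fun i => X (Sum.inl i)) (fun j => X (Sum.inr j) - ρ P v j))

lemma τ_uα (p : MvPolynomial ι A) : τ P v (uα p) = uα p := by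
  unfold τ uα
  rw [aeval_rename]
  have : (Sum.elim (fun i => (X (Sum.inl i) : MvPolynomial (ι ⊕ ι') A))
      (fun j => X (Sum.inr j) + ρ P v j)) ∘ Sum.inl = X ∘ Sum.inl := by
    funext i
    rfl
  rw [this, ← rename_eq_aeval]

lemma τ'_uα (p : MvPolynomial ι A) : τ' P v (uα p) = uα p := by
  unfold τ' uα
  rw [aeval_rename]
  have : (Sum.elim (fun i => (X (Sum.inl i) : MvPolynomial (ι ⊕ ι') A))
      (fun j => X (Sum.inr j) - ρ P v j)) ∘ Sum.inl = X ∘ Sum.inl := by
    funext i
    rfl
  rw [this, ← rename_eq_aeval]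

lemma τ_zz (j : ι') : τ P v (zz P v j) = X (Sum.inr j) := by
  unfold zz
  rw [map_sub]
  have h1 : τ P v (ρ P v j) = ρ P v j := τ_uα P v _
  rw [h1]
  unfold τ
  rw [aeval_X, Sum.elim_inr, add_sub_cancel_right]

lemma τ'_τ (a : MvPolynomial (ι ⊕ ι') A) : τ' P v (τ P v a) = a := by
  have : (τ' P v).comp (τ P v) = AlgHom.id A _ := by
    apply MvPolynomial.algHom_ext
    intro k
    rw [AlgHom.comp_apply, AlgHom.id_apply]
    cases k with
    | inl i =>
      unfold τ
      rw [aeval_X, Sum.elim_inl]
      unfold τ'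
      rw [aeval_X, Sum.elim_inl]
    | inr j =>
      have h0 : τ P v (X (Sum.inr j)) = X (Sum.inr j) + ρ P v j := by
        unfold τ
        rw [aeval_X, Sum.elim_inr]
      rw [h0, map_add]
      have h1 : τ' P v (ρ P v j) = ρ P v j := τ'_uα P v _
      rw [h1]
      unfold τ'
      rw [aeval_X, Sum.elim_inr, sub_add_cancel]
  exact AlgHom.congr_fun this a

lemma zz_nzd (j : ι') (c : MvPolynomial (ι ⊕ ι') A) (hc : zz P v j * c = 0) : c = 0 := by
  have h1 := congrArg (τ P v) hc
  rw [map_mul, τ_zz, map_zero] at h1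
  have h2 : τ P v c = 0 := by
    have := (isRegular_X (R := A) (n := (Sum.inr j : ι ⊕ ι'))).left
    exact this (show X (Sum.inr j) * τ P v c = X (Sum.inr j) * 0 by rw [h1, mul_zero])
  have h3 := congrArg (τ' P v) h2
  rw [τ'_τ, map_zero] at h3
  exact h3

/-- elimination data for the new relations. -/
noncomputable def elimData (j : ι') : ElimData (zz P v) j where
  ε := (εj P v j : MvPolynomial (ι ⊕ ι') A →ₐ[A] MvPolynomial (ι ⊕ ι') A).toRingHom
  ε_z := εj_zz_self P v j
  sub_mem := sub_εj_mem P v j
  idem := εj_idem P v j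
  fix := fun i hi => εj_zz_of_ne P v j i hi
  nzd := zz_nzd P v j

/-- relations among the `y_j - r_j` are Koszul. -/
theorem zz_koszul (c : ι' →₀ MvPolynomial (ι ⊕ ι') A) (hc : tot (zz P v) c = 0) :
    c ∈ K (zz P v) :=
  mem_K (fun j => ⟨elimData P v j⟩) c hc

end Elim


section BCore

open Groth.Agent.Lib.Helper1.Koszul

/-- `zz` typed in the ring of the join. -/
noncomputable def zzJ (j : ι') : (join P v).toExtension.Ring := zz P v j

/-- the substitution `y_j ↦ r_j` as an endomorphism of the ring of the join. -/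
noncomputable def wJ : (join P v).toExtension.Ring →+* (join P v).toExtension.Ring :=
  (α P v).u.comp (β P v).u

lemma sub_wJ_mem (a : (join P v).toExtension.Ring) :
    a - wJ P v a ∈ Ideal.span (Set.range (zzJ P v)) :=
  sub_uα_uβ_mem P v a

lemma rel_inr (j : ι') : rel (join P v) (Sum.inr j) = zzJ P v j := rfl

theorem zzJ_koszul (c : ι' →₀ (join P v).toExtension.Ring) (hc : tot (zzJ P v) c = 0) :
    c ∈ K (zzJ P v) :=
  zz_koszul P v c hc

/-- the composite `F⁺ → F → F⁺`. -/
noncomputable def θ (f : relMod (join P v)) : relMod (join P v) := (α P v).γ ((β P v).γ f)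

lemma θ_add (f g : relMod (join P v)) : θ P v (f + g) = θ P v f + θ P v g := by
  unfold θ
  rw [map_add, map_add]

lemma θ_zero : θ P v 0 = 0 := by
  unfold θ
  rw [map_zero, map_zero]

lemma θ_single_inl (s : σ) (a : (join P v).toExtension.Ring) :
    θ P v (Finsupp.single (Sum.inl s) a) = Finsupp.single (Sum.inl s) (wJ P v a) := by
  unfold θ
  have h1 := β_single_inl P v s a
  rw [h1]
  exact α_single P v s (uβ P v a)

lemma θ_single_inr (j : ι') (a : (join P v).toExtension.Ring) :
    θ P v (Finsupp.single (Sum.inr j) a) = 0 := by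
  unfold θ
  have h1 := β_single_inr P v j a
  rw [h1, map_zero]

lemma jmap_θ (f : relMod (join P v)) :
    jmap (join P v) (θ P v f) = wJ P v (jmap (join P v) f) := by
  unfold θ
  rw [(α P v).hγ, (β P v).hγ]
  rfl

/-- the part of `F⁺` supported on the new relations. -/
noncomputable def E : Submodule (join P v).toExtension.Ring (relMod (join P v)) :=
  LinearMap.range (Finsupp.lmapDomain (join P v).toExtension.Ring (join P v).toExtension.Ring
    (Sum.inr : ι' → σ ⊕ ι'))

lemma single_inr_mem_E (j : ι') (a : (join P v).toExtension.Ring) :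
    (Finsupp.single (Sum.inr j) a : relMod (join P v)) ∈ E P v :=
  ⟨Finsupp.single j a, Finsupp.mapDomain_single⟩

lemma jmap_join_single_inr (j : ι') (a : (join P v).toExtension.Ring) :
    jmap (join P v) (Finsupp.single (Sum.inr j) a) = a * zzJ P v j := by
  rw [jmap_single, rel_inr]

lemma single_inl_mem_of_mem_span (s : σ) (t : (join P v).toExtension.Ring)
    (ht : t ∈ Ideal.span (Set.range (zzJ P v))) :
    (Finsupp.single (Sum.inl s) t : relMod (join P v)) ∈ trivRel (join P v) ⊔ E P v := by
  induction ht using Submodule.span_induction with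
  | mem t ht =>
    obtain ⟨j, rfl⟩ := ht
    have h1 : (Finsupp.single (Sum.inl s) (zzJ P v j) : relMod (join P v)) =
        (jmap (join P v) (Finsupp.single (Sum.inr j) 1) • Finsupp.single (Sum.inl s) 1 -
          jmap (join P v) (Finsupp.single (Sum.inl s) 1) • Finsupp.single (Sum.inr j) 1) +
        Finsupp.single (Sum.inr j) (rel (join P v) (Sum.inl s)) := by
      rw [jmap_join_single_inr, jmap_single, one_mul, one_mul, Finsupp.smul_single,
        Finsupp.smul_single, smul_eq_mul, smul_eq_mul, mul_one, mul_one, sub_add_cancel]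
    rw [h1]
    refine Submodule.add_mem _ (Submodule.mem_sup_left ?_) (Submodule.mem_sup_right ?_)
    · exact Submodule.subset_span ⟨_, _, rfl⟩
    · exact single_inr_mem_E P v j _
  | zero => rw [Finsupp.single_zero]; exact Submodule.zero_mem _
  | add x y _ _ hx hy => rw [Finsupp.single_add]; exact Submodule.add_mem _ hx hy
  | smul c x _ hx =>
    rw [smul_eq_mul, ← smul_eq_mul, ← Finsupp.smul_single]
    exact Submodule.smul_mem _ _ hx

lemma θ_sub_mem (f : relMod (join P v)) : θ P v f - f ∈ trivRel (join P v) ⊔ E P v := by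
  induction f using Finsupp.induction_linear with
  | zero => rw [θ_zero, sub_zero]; exact Submodule.zero_mem _
  | add f g hf hg =>
    rw [θ_add, add_sub_add_comm]
    exact Submodule.add_mem _ hf hg
  | single k a =>
    cases k with
    | inl s =>
      rw [θ_single_inl]
      have h1 : (Finsupp.single (Sum.inl s) (wJ P v a) - Finsupp.single (Sum.inl s) a :
          relMod (join P v)) = - Finsupp.single (Sum.inl s) (a - wJ P v a) := by
        rw [Finsupp.single_sub, neg_sub]
      rw [h1]
      exact Submodule.neg_mem _ (single_inl_mem_of_mem_span P v s _ (sub_wJ_mem P v a))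
    | inr j =>
      rw [θ_single_inr, zero_sub]
      exact Submodule.neg_mem _ (Submodule.mem_sup_right (single_inr_mem_E P v j a))

lemma jmap_mapDomain_inr (c : ι' →₀ (join P v).toExtension.Ring) :
    jmap (join P v) (Finsupp.mapDomain Sum.inr c) = tot (zzJ P v) c := by
  induction c using Finsupp.induction_linear with
  | zero => simp
  | add f g hf hg => rw [Finsupp.mapDomain_add, map_add, map_add, hf, hg]
  | single j a =>
    rw [Finsupp.mapDomain_single, jmap_join_single_inr, tot_single]

lemma mapDomain_inr_mem_trivRel (c : ι' →₀ (join P v).toExtension.Ring) (hc : c ∈ K (zzJ P v)) :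
    (Finsupp.mapDomain Sum.inr c : relMod (join P v)) ∈ trivRel (join P v) := by
  induction hc using Submodule.span_induction with
  | mem c hc =>
    obtain ⟨i, j, rfl⟩ := hc
    rw [Finsupp.mapDomain_sub, Finsupp.mapDomain_single, Finsupp.mapDomain_single]
    have h1 : (Finsupp.single (Sum.inr j) (zzJ P v i) - Finsupp.single (Sum.inr i) (zzJ P v j) :
        relMod (join P v)) =
        jmap (join P v) (Finsupp.single (Sum.inr i) 1) • Finsupp.single (Sum.inr j) 1 -
          jmap (join P v) (Finsupp.single (Sum.inr j) 1) • Finsupp.single (Sum.inr i) 1 := by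
      rw [jmap_join_single_inr, jmap_join_single_inr, one_mul, one_mul, Finsupp.smul_single,
        Finsupp.smul_single, smul_eq_mul, smul_eq_mul, mul_one, mul_one]
    rw [h1]
    exact Submodule.subset_span ⟨_, _, rfl⟩
  | zero => rw [Finsupp.mapDomain_zero]; exact Submodule.zero_mem _
  | add x y _ _ hx hy => rw [Finsupp.mapDomain_add]; exact Submodule.add_mem _ hx hy
  | smul a x _ hx =>
    rw [Finsupp.mapDomain_smul]
    exact Submodule.smul_mem _ _ hx

theorem θ_sub_mem_trivRel (q : relKer (join P v)) :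
    θ P v (q : relMod (join P v)) - q ∈ trivRel (join P v) := by
  obtain ⟨t, ht, e, he, hte⟩ := Submodule.mem_sup.1 (θ_sub_mem P v (q : relMod (join P v)))
  obtain ⟨c, rfl⟩ := he
  have hq : jmap (join P v) (q : relMod (join P v)) = 0 := q.2
  have h1 : jmap (join P v) (θ P v (q : relMod (join P v)) - q) = 0 := by
    rw [map_sub, jmap_θ, hq, map_zero, sub_zero]
  have h2 : jmap (join P v) t = 0 := trivRel_le_relKer (join P v) ht
  have h3 : tot (zzJ P v) c = 0 := by
    rw [← jmap_mapDomain_inr]
    have := congrArg (jmap (join P v)) hte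
    rw [map_add, h2, zero_add, h1] at this
    exact this
  rw [← hte]
  exact Submodule.add_mem _ ht (mapDomain_inr_mem_trivRel P v c (zzJ_koszul P v c h3))

end BCore

/-- adjoining variables together with the relations expressing them does not change `T²`. -/
theorem nonempty_T2_equiv_join (M : Type*) [AddCommGroup M] [Module B M] :
    Nonempty (T2 P M ≃ₗ[B] T2 (join P v) M) := by
  refine nonempty_T2_equiv M (α P v).L2map (α P v).L1map (α P v).d2_L2map
    (β P v).L2map (β P v).L1map (β P v).d2_L2map 0 ?_ 0 ?_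
  · intro z
    obtain ⟨q, rfl⟩ := mk2_surjective P z
    rw [RelHom.L2map_mk2, RelHom.L2map_mk2, LinearMap.zero_apply, sub_eq_zero]
    congr 1
    apply Subtype.ext
    exact β_α P v q
  · intro z
    obtain ⟨q, rfl⟩ := mk2_surjective (join P v) z
    rw [RelHom.L2map_mk2, RelHom.L2map_mk2, LinearMap.zero_apply, ← map_sub]
    apply mk2_eq_zero_of_mem
    exact θ_sub_mem_trivRel P v q


section Compare

variable {σ' : Type*} (P' : Algebra.Presentation A B ι' σ')

lemma algebraMap_join_swap (p : (join P P'.val).toExtension.Ring) :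
    algebraMap (join P' P.val).toExtension.Ring B (rename Sum.swap p) =
      algebraMap (join P P'.val).toExtension.Ring B p := by
  rw [algebraMap_toExtension, algebraMap_toExtension]
  change aeval (Sum.elim P'.val P.val) (rename Sum.swap p) = aeval (Sum.elim P.val P'.val) p
  rw [aeval_rename]
  congr 2
  funext k
  cases k <;> rfl

lemma rename_swap_swap {α β : Type*} (p : MvPolynomial (α ⊕ β) A) :
    rename Sum.swap (rename Sum.swap p) = p := by
  rw [rename_rename]
  have : (Sum.swap ∘ Sum.swap : α ⊕ β → α ⊕ β) = id := by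
    funext k
    cases k <;> rfl
  rw [this, rename_id_apply]

/-- `T²` does not depend on the presentation. -/
theorem nonempty_T2_equiv_presentations (M : Type*) [AddCommGroup M] [Module B M] :
    Nonempty (T2 P M ≃ₗ[B] T2 P' M) := by
  obtain ⟨e₁⟩ := nonempty_T2_equiv_join P P'.val M
  obtain ⟨e₂⟩ := nonempty_T2_equiv_join P' P.val M
  obtain ⟨e₃⟩ := nonempty_T2_equiv_of_ringEquiv (join P P'.val) (join P' P.val) M
    ((rename Sum.swap : MvPolynomial (ι ⊕ ι') A →ₐ[A] MvPolynomial (ι' ⊕ ι) A).toRingHom)
    ((rename Sum.swap : MvPolynomial (ι' ⊕ ι) A →ₐ[A] MvPolynomial (ι ⊕ ι') A).toRingHom)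
    (algebraMap_join_swap P P') (algebraMap_join_swap P' P)
    (fun p => rename_swap_swap p) (fun p => rename_swap_swap p)
  exact ⟨(e₁.trans e₃).trans e₂.symm⟩

end Compare

end Groth.Agent.Lib.Helper1.CotJoin
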