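import Groth.Prelude.Def_CotT

set_option autoImplicit false
universe u u' v w t w' t' m

namespace Groth.Agent.Lib.Helper1.CotRel

open CotT TensorProduct

variable {A : Type u} {A' : Type u'} {B : Type v} {ι : Type w} {σ : Type t} {ι' : Type w'} {σ' : Type t'}
variable [CommRing A] [CommRing A'] [CommRing B] [Algebra A B] [Algebra A' B]
variable (P : Algebra.Presentation A B ι σ) (P' : Algebra.Presentation A' B ι' σ')

/-- class in `L₂` of `1 ⊗ q`. -/
noncomputable def mk2 : relKer P →ₗ[P.toExtension.Ring] L2 P :=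
  ((Submodule.mkQ _).restrictScalars P.toExtension.Ring) ∘ₗ
    (TensorProduct.mk P.toExtension.Ring B (relKer P) 1)

lemma mk2_apply (q : relKer P) : mk2 P q = Submodule.Quotient.mk ((1 : B) ⊗ₜ q) := rfl

lemma mk_tmul_eq (b : B) (q : relKer P) :
    (Submodule.Quotient.mk (b ⊗ₜ[P.toExtension.Ring] q) : L2 P) = b • mk2 P q := by
  rw [mk2_apply, ← Submodule.Quotient.mk_smul, TensorProduct.smul_tmul', smul_eq_mul, mul_one]

lemma mk2_eq_zero_of_mem (q : relKer P) (hq : (q : relMod P) ∈ trivRel P) : mk2 P q = 0 := by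
  rw [mk2_apply, Submodule.Quotient.mk_eq_zero]
  exact ⟨(1 : B) ⊗ₜ ⟨q, hq⟩, rfl⟩

lemma d2_mk2 (q : relKer P) : d2 P (mk2 P q) = (1 : B) ⊗ₜ (q : relMod P) := by
  rw [mk2_apply, d2_mk_tmul]

/-- two linear maps out of `L₂` agreeing on the classes `mk2 q` are equal. -/
lemma L2_hom_ext {X : Type*} [AddCommGroup X] [Module B X] (f g : L2 P →ₗ[B] X)
    (h : ∀ q : relKer P, f (mk2 P q) = g (mk2 P q)) : f = g := by
  refine LinearMap.ext fun z => ?_
  obtain ⟨z, rfl⟩ := Submodule.Quotient.mk_surjective _ z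
  induction z using TensorProduct.induction_on with
  | zero => rw [Submodule.Quotient.mk_zero, map_zero, map_zero]
  | tmul b q => rw [mk_tmul_eq, map_smul, map_smul, h]
  | add x y hx hy => rw [Submodule.Quotient.mk_add, map_add, map_add, hx, hy]

lemma mk2_surjective : Function.Surjective (mk2 P) := by
  intro z
  obtain ⟨z, rfl⟩ := Submodule.Quotient.mk_surjective _ z
  induction z using TensorProduct.induction_on with
  | zero => exact ⟨0, by rw [map_zero]; rfl⟩
  | tmul b q =>
    obtain ⟨r, rfl⟩ := P.toExtension.algebraMap_surjective b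
    refine ⟨r • q, ?_⟩
    rw [map_smul, mk_tmul_eq, IsScalarTower.algebraMap_smul]
  | add x y hx hy =>
    obtain ⟨a, ha⟩ := hx
    obtain ⟨b, hb⟩ := hy
    exact ⟨a + b, by rw [map_add, ha, hb]; rfl⟩


/-- A semilinear morphism of relation data over the identity of `B` (the base rings may differ). -/
structure RelHom where
  /-- ring map -/
  u : P.toExtension.Ring →+* P'.toExtension.Ring
  hu : ∀ r, algebraMap P'.toExtension.Ring B (u r) = algebraMap P.toExtension.Ring B r
  /-- map on free modules -/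
  γ : relMod P →ₛₗ[u] relMod P'
  hγ : ∀ f, jmap P' (γ f) = u (jmap P f)

namespace RelHom

variable {P P'} (h : RelHom P P')

lemma γ_mem_relKer (q : relKer P) : h.γ (q : relMod P) ∈ relKer P' := by
  change jmap P' (h.γ (q : relMod P)) = 0
  rw [h.hγ, show jmap P (q : relMod P) = 0 from q.2, map_zero]

/-- restriction to relation modules -/
noncomputable def relKerMap : relKer P →ₛₗ[h.u] relKer P' :=
  (h.γ.comp (relKer P).subtype).codRestrict (relKer P') (fun q => h.γ_mem_relKer q)

@[simp] lemma relKerMap_coe (q : relKer P) : (h.relKerMap q : relMod P') = h.γ q := rfl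

lemma γ_mem_trivRel {y : relMod P} (hy : y ∈ trivRel P) : h.γ y ∈ trivRel P' := by
  induction hy using Submodule.span_induction with
  | mem x hx =>
    obtain ⟨a, b, rfl⟩ := hx
    refine Submodule.subset_span ⟨h.γ a, h.γ b, ?_⟩
    rw [map_sub, LinearMap.map_smulₛₗ, LinearMap.map_smulₛₗ, h.hγ, h.hγ]
  | zero => simp
  | add x y _ _ hx hy => rw [map_add]; exact Submodule.add_mem _ hx hy
  | smul r x _ hx => rw [LinearMap.map_smulₛₗ]; exact Submodule.smul_mem _ _ hx

/-- the induced map on `L₁`. -/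
noncomputable def L1map : L1 P →ₗ[B] L1 P' :=
  LinearMap.liftBaseChange B
    { toFun := fun f => (1 : B) ⊗ₜ[P'.toExtension.Ring] h.γ f
      map_add' := fun f g => by rw [map_add, TensorProduct.tmul_add]
      map_smul' := fun r f => by
        rw [LinearMap.map_smulₛₗ, ← TensorProduct.smul_tmul, RingHom.id_apply,
          TensorProduct.smul_tmul', Algebra.smul_def, Algebra.smul_def, h.hu] }

lemma L1map_tmul (b : B) (f : relMod P) : h.L1map (b ⊗ₜ f) = b ⊗ₜ h.γ f := by
  unfold L1map
  rw [LinearMap.liftBaseChange_tmul]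
  change b • ((1 : B) ⊗ₜ[P'.toExtension.Ring] h.γ f) = _
  rw [TensorProduct.smul_tmul', smul_eq_mul, mul_one]

/-- auxiliary map `B ⊗ Q → L₂'`. -/
noncomputable def L2aux : B ⊗[P.toExtension.Ring] relKer P →ₗ[B] L2 P' :=
  LinearMap.liftBaseChange B
    { toFun := fun q => mk2 P' (h.relKerMap q)
      map_add' := fun f g => by rw [map_add, map_add]
      map_smul' := fun r q => by
        rw [LinearMap.map_smulₛₗ, map_smul, RingHom.id_apply,
          ← IsScalarTower.algebraMap_smul B (h.u r), h.hu, IsScalarTower.algebraMap_smul] }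

lemma L2aux_tmul (b : B) (q : relKer P) : h.L2aux (b ⊗ₜ q) = b • mk2 P' (h.relKerMap q) := by
  unfold L2aux
  rw [LinearMap.liftBaseChange_tmul]
  rfl

/-- the induced map on `L₂`. -/
noncomputable def L2map : L2 P →ₗ[B] L2 P' :=
  Submodule.liftQ _ h.L2aux (by
    rintro _ ⟨z, rfl⟩
    rw [LinearMap.mem_ker]
    induction z using TensorProduct.induction_on with
    | zero => simp
    | add x y hx hy => rw [map_add, map_add, hx, hy, add_zero]
    | tmul b k =>
      rw [LinearMap.baseChange_tmul, L2aux_tmul]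
      have : mk2 P' (h.relKerMap ((trivRelKer P).subtype k)) = 0 := by
        apply mk2_eq_zero_of_mem
        rw [relKerMap_coe]
        exact h.γ_mem_trivRel k.2
      rw [this, smul_zero])

lemma L2map_mk2 (q : relKer P) : h.L2map (mk2 P q) = mk2 P' (h.relKerMap q) := by
  rw [mk2_apply]
  change h.L2aux ((1 : B) ⊗ₜ q) = _
  rw [L2aux_tmul, one_smul]

lemma d2_L2map (z : L2 P) : d2 P' (h.L2map z) = h.L1map (d2 P z) := by
  obtain ⟨q, rfl⟩ := mk2_surjective P z
  rw [L2map_mk2, d2_mk2, d2_mk2, L1map_tmul, relKerMap_coe]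

end RelHom


section Skeleton

variable {P P'}
variable (M : Type m) [AddCommGroup M] [Module B M]

/-- pull-back on `T²` along a chain map in degrees 1, 2. -/
noncomputable def T2pullRaw (a2 : L2 P →ₗ[B] L2 P') (a1 : L1 P →ₗ[B] L1 P')
    (ha : ∀ z, d2 P' (a2 z) = a1 (d2 P z)) : T2 P' M →ₗ[B] T2 P M :=
  Submodule.mapQ _ _ (LinearMap.lcomp B M a2) (by
    rintro _ ⟨ψ, rfl⟩
    refine ⟨ψ ∘ₗ a1, ?_⟩
    ext z
    simp only [d2Star_apply, LinearMap.lcomp_apply', LinearMap.comp_apply]
    rw [ha])

lemma T2pullRaw_mk (a2 : L2 P →ₗ[B] L2 P') (a1 : L1 P →ₗ[B] L1 P')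
    (ha : ∀ z, d2 P' (a2 z) = a1 (d2 P z)) (φ : L2 P' →ₗ[B] M) :
    T2pullRaw M a2 a1 ha (Submodule.Quotient.mk φ) = Submodule.Quotient.mk (φ ∘ₗ a2) := rfl

/-- The skeleton: mutually homotopy-inverse chain maps in degrees 1, 2 give an isomorphism on `T²`. -/
theorem nonempty_T2_equiv (a2 : L2 P →ₗ[B] L2 P') (a1 : L1 P →ₗ[B] L1 P')
    (ha : ∀ z, d2 P' (a2 z) = a1 (d2 P z))
    (b2 : L2 P' →ₗ[B] L2 P) (b1 : L1 P' →ₗ[B] L1 P)
    (hb : ∀ z, d2 P (b2 z) = b1 (d2 P' z))
    (s : L1 P →ₗ[B] L2 P) (hs : ∀ z, b2 (a2 z) - z = s (d2 P z))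
    (s' : L1 P' →ₗ[B] L2 P') (hs' : ∀ z, a2 (b2 z) - z = s' (d2 P' z)) :
    Nonempty (T2 P M ≃ₗ[B] T2 P' M) := by
  refine ⟨LinearEquiv.ofLinear (T2pullRaw M b2 b1 hb) (T2pullRaw M a2 a1 ha) ?_ ?_⟩
  · refine LinearMap.ext fun t => ?_
    obtain ⟨φ, rfl⟩ := Submodule.Quotient.mk_surjective _ t
    rw [LinearMap.comp_apply, T2pullRaw_mk, T2pullRaw_mk, LinearMap.id_apply]
    rw [Submodule.Quotient.eq]
    refine ⟨φ ∘ₗ s', ?_⟩
    ext z
    simp only [d2Star_apply, LinearMap.comp_apply, LinearMap.sub_apply]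
    rw [← hs', map_sub]
  · refine LinearMap.ext fun t => ?_
    obtain ⟨φ, rfl⟩ := Submodule.Quotient.mk_surjective _ t
    rw [LinearMap.comp_apply, T2pullRaw_mk, T2pullRaw_mk, LinearMap.id_apply]
    rw [Submodule.Quotient.eq]
    refine ⟨φ ∘ₗ s, ?_⟩
    ext z
    simp only [d2Star_apply, LinearMap.comp_apply, LinearMap.sub_apply]
    rw [← hs, map_sub]

end Skeleton


section Build

variable {P P'}

/-- semilinear extension of a choice of images of the basis vectors. -/
noncomputable def semiExt (u : P.toExtension.Ring →+* P'.toExtension.Ring) (relVal : σ → relMod P') :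
    relMod P →ₛₗ[u] relMod P' where
  toFun f := Finsupp.linearCombination P'.toExtension.Ring relVal (Finsupp.mapRange u (map_zero _) f)
  map_add' f g := by rw [Finsupp.mapRange_add (map_add _), map_add]
  map_smul' r f := by
    rw [← map_smul]
    congr 1
    ext s
    simp [Finsupp.mapRange_apply, map_mul]

@[simp] lemma semiExt_single (u : P.toExtension.Ring →+* P'.toExtension.Ring) (relVal : σ → relMod P')
    (s : σ) (r : P.toExtension.Ring) :
    semiExt u relVal (Finsupp.single s r) = u r • relVal s := by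
  simp [semiExt]

/-- build a `RelHom` from a ring map and lifts of the images of the relations. -/
noncomputable def RelHom.mk' (u : P.toExtension.Ring →+* P'.toExtension.Ring)
    (hu : ∀ r, algebraMap P'.toExtension.Ring B (u r) = algebraMap P.toExtension.Ring B r)
    (relVal : σ → relMod P') (hrel : ∀ s, jmap P' (relVal s) = u (rel P s)) : RelHom P P' where
  u := u
  hu := hu
  γ := semiExt u relVal
  hγ f := by
    induction f using Finsupp.induction_linear with
    | zero => simp
    | add f g hf hg => rw [map_add, map_add, hf, hg, map_add, map_add]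
    | single s r => rw [semiExt_single, map_smul, hrel, jmap_single, smul_eq_mul, map_mul]

lemma RelHom.mk'_γ_single (u : P.toExtension.Ring →+* P'.toExtension.Ring)
    (hu : ∀ r, algebraMap P'.toExtension.Ring B (u r) = algebraMap P.toExtension.Ring B r)
    (relVal : σ → relMod P') (hrel : ∀ s, jmap P' (relVal s) = u (rel P s)) (s : σ)
    (r : P.toExtension.Ring) :
    (RelHom.mk' u hu relVal hrel).γ (Finsupp.single s r) = u r • relVal s :=
  semiExt_single u relVal s r

lemma exists_relVal (u : P.toExtension.Ring →+* P'.toExtension.Ring)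
    (hu : ∀ r, algebraMap P'.toExtension.Ring B (u r) = algebraMap P.toExtension.Ring B r) (s : σ) :
    ∃ x : relMod P', jmap P' x = u (rel P s) := by
  have h1 : u (rel P s) ∈ P'.ker := by
    change algebraMap P'.toExtension.Ring B (u (rel P s)) = 0
    rw [hu, algebraMap_rel]
  rw [← range_jmap] at h1
  exact h1

/-- a `RelHom` over a given ring map (the lifts of the relations are chosen). -/
noncomputable def RelHom.ofRingHom (u : P.toExtension.Ring →+* P'.toExtension.Ring)
    (hu : ∀ r, algebraMap P'.toExtension.Ring B (u r) = algebraMap P.toExtension.Ring B r) :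
    RelHom P P' :=
  RelHom.mk' u hu (fun s => (exists_relVal u hu s).choose) (fun s => (exists_relVal u hu s).choose_spec)

end Build

section ACore

variable {P P'}
variable (h : RelHom P P') (k : RelHom P' P) (huk : ∀ r, k.u (h.u r) = r)

/-- the composite `F → F' → F`, linear when the ring maps compose to the identity. -/
noncomputable def compLin : relMod P →ₗ[P.toExtension.Ring] relMod P where
  toFun f := k.γ (h.γ f)
  map_add' f g := by rw [map_add, map_add]
  map_smul' r f := by
    rw [LinearMap.map_smulₛₗ, LinearMap.map_smulₛₗ, huk, RingHom.id_apply]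

lemma compLin_apply (f : relMod P) : compLin h k huk f = k.γ (h.γ f) := rfl

include huk in
lemma jmap_compLin (f : relMod P) : jmap P (compLin h k huk f) = jmap P f := by
  rw [compLin_apply, k.hγ, h.hγ, huk]

/-- `θ - id : F → Q`. -/
noncomputable def diffLin : relMod P →ₗ[P.toExtension.Ring] relKer P :=
  (compLin h k huk - LinearMap.id).codRestrict (relKer P) (fun f => by
    change jmap P (compLin h k huk f - f) = 0
    rw [map_sub, jmap_compLin, sub_self])

lemma diffLin_coe (f : relMod P) : (diffLin h k huk f : relMod P) = k.γ (h.γ f) - f := rfl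

/-- the homotopy `L₁ → L₂`. -/
noncomputable def homotopy : L1 P →ₗ[B] L2 P :=
  (Submodule.mkQ _) ∘ₗ (LinearMap.baseChange B (diffLin h k huk))

lemma homotopy_tmul (b : B) (f : relMod P) :
    homotopy h k huk (b ⊗ₜ f) = Submodule.Quotient.mk (b ⊗ₜ diffLin h k huk f) := rfl

lemma comp_sub_id (z : L2 P) : k.L2map (h.L2map z) - z = homotopy h k huk (d2 P z) := by
  obtain ⟨q, rfl⟩ := mk2_surjective P z
  rw [RelHom.L2map_mk2, RelHom.L2map_mk2, d2_mk2, homotopy_tmul, ← mk2_apply, ← map_sub]
  congr 1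

end ACore

/-- `T²` only depends on the ring `R → B` up to isomorphism, not on the base ring nor on the chosen
generators of the kernel. -/
theorem nonempty_T2_equiv_of_ringEquiv (M : Type m) [AddCommGroup M] [Module B M]
    (u : P.toExtension.Ring →+* P'.toExtension.Ring) (v : P'.toExtension.Ring →+* P.toExtension.Ring)
    (hu : ∀ r, algebraMap P'.toExtension.Ring B (u r) = algebraMap P.toExtension.Ring B r)
    (hv : ∀ r, algebraMap P.toExtension.Ring B (v r) = algebraMap P'.toExtension.Ring B r)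
    (huv : ∀ r, v (u r) = r) (hvu : ∀ r, u (v r) = r) :
    Nonempty (T2 P M ≃ₗ[B] T2 P' M) :=
  nonempty_T2_equiv M (RelHom.ofRingHom u hu).L2map (RelHom.ofRingHom u hu).L1map
    (RelHom.ofRingHom u hu).d2_L2map (RelHom.ofRingHom v hv).L2map (RelHom.ofRingHom v hv).L1map
    (RelHom.ofRingHom v hv).d2_L2map
    (homotopy (RelHom.ofRingHom u hu) (RelHom.ofRingHom v hv) huv)
    (comp_sub_id (RelHom.ofRingHom u hu) (RelHom.ofRingHom v hv) huv)
    (homotopy (RelHom.ofRingHom v hv) (RelHom.ofRingHom u hu) hvu)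
    (comp_sub_id (RelHom.ofRingHom v hv) (RelHom.ofRingHom u hu) hvu)

end Groth.Agent.Lib.Helper1.CotRel
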