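import Groth.Prelude.Def_CotT
import Groth.Agent.S12286
import Groth.Agent.S12289
import Mathlib.RingTheory.Extension.Cotangent.Basic

set_option autoImplicit false
universe u v w t w' t' m

namespace Groth.Agent.Lib.Helper1.CotT01

open CotT TensorProduct Algebra.Extension

section Ext

variable {R : Type u} {S : Type v} [CommRing R] [CommRing S] [Algebra R S]
variable {P₁ : Algebra.Extension.{w} R S} {P₂ : Algebra.Extension.{w'} R S}
variable (M : Type m) [AddCommGroup M] [Module S M]

/-- the cokernel of `Hom(L₀, M) → Hom(I/I², M)`. -/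
abbrev cokerDual (P : Algebra.Extension.{w} R S) : Type _ :=
  (P.Cotangent →ₗ[S] M) ⧸ LinearMap.range (LinearMap.lcomp S M P.cotangentComplex)

/-- the map induced by a morphism of extensions. -/
noncomputable def cokerMap (f : P₁.Hom P₂) : cokerDual M P₂ →ₗ[S] cokerDual M P₁ :=
  Submodule.mapQ _ _ (LinearMap.lcomp S M (Cotangent.map f)) (by
    rintro _ ⟨ψ, rfl⟩
    refine ⟨ψ ∘ₗ CotangentSpace.map f, ?_⟩
    ext x
    simp only [LinearMap.lcomp_apply', LinearMap.comp_apply]
    rw [CotangentSpace.map_cotangentComplex])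

lemma cokerMap_mk (f : P₁.Hom P₂) (φ : P₂.Cotangent →ₗ[S] M) :
    cokerMap M f (Submodule.Quotient.mk φ) = Submodule.Quotient.mk (φ ∘ₗ Cotangent.map f) := rfl


lemma cokerMap_comp (f : P₁.Hom P₂) (g : P₂.Hom P₁) (x : cokerDual M P₁) :
    cokerMap M f (cokerMap M g x) = x := by
  obtain ⟨φ, rfl⟩ := Submodule.Quotient.mk_surjective _ x
  rw [cokerMap_mk, cokerMap_mk, Submodule.Quotient.eq]
  refine ⟨φ ∘ₗ ((g.comp f).sub (Algebra.Extension.Hom.id P₁)), ?_⟩
  ext c
  have h := LinearMap.congr_fun (Cotangent.map_sub_map (g.comp f) (Algebra.Extension.Hom.id P₁)) c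
  rw [LinearMap.sub_apply, Cotangent.map_comp, Cotangent.map_id] at h
  simp only [LinearMap.lcomp_apply', LinearMap.comp_apply, LinearMap.sub_apply]
  rw [← map_sub]
  congr 1
  exact h.symm

/-- two extensions of the same algebra have isomorphic cokernels. -/
noncomputable def cokerEquiv (f : P₁.Hom P₂) (g : P₂.Hom P₁) : cokerDual M P₁ ≃ₗ[S] cokerDual M P₂ :=
  LinearEquiv.ofLinear (cokerMap M g) (cokerMap M f)
    (LinearMap.ext fun x => cokerMap_comp M g f x) (LinearMap.ext fun x => cokerMap_comp M f g x)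

end Ext


section Pres

variable {A B : Type u} [CommRing A] [CommRing B] [Algebra A B] {ι σ ι' σ' : Type w}
variable (P : Algebra.Presentation A B ι σ) (P' : Algebra.Presentation A B ι' σ')
variable (M : Type m) [AddCommGroup M] [Module B M]

/-- `T¹` as the cokernel of `Hom(L₀, M) → Hom(I/I², M)`. -/
noncomputable def cokerDualEquivT1 : cokerDual M P.toExtension ≃ₗ[B] T1 P M :=
  (Submodule.quotEquivOfEq _ _ (Groth.Agent.S12289.result A B ι σ P M).2.1.symm).trans
    ((homToT1 P M).quotKerEquivOfSurjective (Groth.Agent.S12289.result A B ι σ P M).2.2)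

theorem nonempty_T1_equiv : Nonempty (T1 P M ≃ₗ[B] T1 P' M) :=
  ⟨((cokerDualEquivT1 P M).symm.trans
    (cokerEquiv M (Algebra.Generators.defaultHom P.toGenerators P'.toGenerators).toExtensionHom
      (Algebra.Generators.defaultHom P'.toGenerators P.toGenerators).toExtensionHom)).trans
    (cokerDualEquivT1 P' M)⟩

theorem nonempty_T0_equiv : Nonempty (T0 P M ≃ₗ[B] T0 P' M) := by
  letI : Module A M := Module.compHom M (algebraMap A B)
  haveI : IsScalarTower A B M := IsScalarTower.of_compHom A B M
  exact ⟨(LinearEquiv.ofBijective (derToT0 P M) (Groth.Agent.S12286.result A B ι σ P M)).symm.trans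
    (LinearEquiv.ofBijective (derToT0 P' M) (Groth.Agent.S12286.result A B ι' σ' P' M))⟩

end Pres

end Groth.Agent.Lib.Helper1.CotT01
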