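import Groth.Agent.Lib.Helper1.CubicDihedral
import Mathlib.Algebra.QuadraticDiscriminant
import Mathlib.Analysis.Complex.Polynomial.Basic

set_option autoImplicit false

namespace Groth.Agent.Lib.Helper1.Cubic

open Module Submodule MvPolynomial

namespace SymTri

variable {S : SymTri}

/-- a smooth cubic does not vanish identically on a hyperplane -/
theorem not_vanish_hyperplane (hs : S.Smooth) (L : V →ₗ[ℂ] ℂ) {x y : V} (hx : x ≠ 0)
    (hy : y ∉ span ℂ {x}) (hLx : L x = 0) (hLy : L y = 0)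
    (hvan : ∀ v, L v = 0 → S.F v = 0) : False := by
  by_cases hL : L = 0
  · -- then F vanishes everywhere
    have hF : ∀ v, S.F v = 0 := fun v => hvan v (by rw [hL]; rfl)
    obtain ⟨u, hu⟩ := hs x hx (hF x)
    exact hu (line_coeffs (fun s t => hF _)).2.2.1
  obtain ⟨u, hu⟩ : ∃ u, L u ≠ 0 := by
    by_contra hcon
    push Not at hcon
    exact hL (LinearMap.ext hcon)
  set v0 : V := (L u)⁻¹ • u with hv0
  have hLv0 : L v0 = 1 := by rw [hv0, map_smul, smul_eq_mul, inv_mul_cancel₀ hu]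
  have hT : ∀ h h' : V, L h = 0 → L h' = 0 → S.T h h h' = 0 := by
    intro h h' hh hh'
    exact (line_coeffs (fun s t => hvan _ (by simp [hh, hh']))).2.2.1
  have hy0 : y ≠ 0 := by
    rintro rfl
    exact hy (Submodule.zero_mem _)
  obtain ⟨h, hh0, hLh, hq⟩ : ∃ h : V, h ≠ 0 ∧ L h = 0 ∧ S.T h h v0 = 0 := by
    by_cases hqy : S.T y y v0 = 0
    · exact ⟨y, hy0, hLy, hqy⟩
    · obtain ⟨s, hs'⟩ := IsAlgClosed.exists_eq_mul_self
        (discrim (S.T y y v0) (2 * S.T x y v0) (S.T x x v0))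
      obtain ⟨t, ht⟩ := exists_quadratic_eq_zero hqy ⟨s, hs'⟩
      refine ⟨x + t • y, ?_, by simp [hLx, hLy], ?_⟩
      · intro h0
        by_cases ht0 : t = 0
        · rw [ht0, zero_smul, add_zero] at h0
          exact hx h0
        · apply hy
          rw [Submodule.mem_span_singleton]
          refine ⟨-t⁻¹, ?_⟩
          have : t • y = -x := (eq_neg_of_add_eq_zero_right h0)
          have h2 : y = t⁻¹ • (t • y) := by rw [smul_smul, inv_mul_cancel₀ ht0, one_smul]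
          rw [h2, this]
          simp
      · simp only [S.add, S.add2, S.smul, S.smul2]
        rw [S.s12 y x v0]
        linear_combination ht
  obtain ⟨u', hu'⟩ := hs h hh0 (hvan h hLh)
  apply hu'
  have h1 : u' = (u' - L u' • v0) + L u' • v0 := by abel
  rw [h1, S.add3, S.smul3, hq, hT h _ hLh (by rw [map_sub, map_smul, hLv0]; simp)]
  ring


theorem polar_identity {e : V} {M : V →ₗ[ℂ] ℂ} (hM : ∀ v, S.T e v v = S.T e e v * M v)
    (x y : V) : 2 * S.T e x y = S.T e e x * M y + S.T e e y * M x := by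
  have h := hM (x + y)
  simp only [S.add2, S.add3, map_add] at h
  rw [S.s23 e y x, hM x, hM y] at h
  linear_combination h

theorem ker_span3 (L : V →ₗ[ℂ] ℂ) (hL : L ≠ 0) {e x y : V} (he : e ≠ 0)
    (hx : x ∉ span ℂ {e}) (hy : y ∉ span ℂ {e, x}) (hLe : L e = 0) (hLx : L x = 0)
    (hLy : L y = 0) (z : V) (hz : L z = 0) : ∃ a b c : ℂ, z = a • e + b • x + c • y := by
  obtain ⟨g, hg, hne⟩ := dep4 L hL ![e, x, y, z] (by
    intro i; fin_cases i
    · exact hLe
    · exact hLx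
    · exact hLy
    · exact hz)
  simp only [Matrix.cons_val_zero, Matrix.cons_val_one, Matrix.cons_val] at hg
  have hg3 : g 3 ≠ 0 := by
    intro h3
    rw [h3, zero_smul, add_zero] at hg
    obtain ⟨h0, h1, h2⟩ := indep3 he hx hy hg
    obtain ⟨i, hi⟩ := hne
    fin_cases i <;> simp_all
  refine ⟨-(g 0 / g 3), -(g 1 / g 3), -(g 2 / g 3), ?_⟩
  have : z = (g 3)⁻¹ • (g 3 • z) := by rw [smul_smul, inv_mul_cancel₀ hg3, one_smul]
  rw [this, eq_neg_of_add_eq_zero_right hg]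
  simp only [smul_add, smul_neg, smul_smul, neg_smul, neg_add]
  ring_nf

/-- if the line through two Eckardt points lies on the surface, each involution fixes the
other point -/
theorem M_apply_eq_zero_of_line (hs : S.Smooth) {e e' : V} (he : e ≠ 0)
    (he' : e' ∉ span ℂ {e}) (hE : S.IsEck e)
    (hLine : ∀ u ∈ span ℂ {e, e'}, S.F u = 0)
    {M M' : V →ₗ[ℂ] ℂ} (hM : ∀ v, S.T e v v = S.T e e v * M v)
    (hM' : ∀ v, S.T e' v v = S.T e' e' v * M' v) : M e' = 0 := by
  by_contra hMe'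
  obtain ⟨hFe, hFe', hc1, hc2⟩ := line_coeffs (S := S) (e := e) (w := e') (fun s t =>
    hLine _ (Submodule.mem_span_pair.2 ⟨s, t, rfl⟩))
  have h3 : ∀ y, S.T e e y * M e' = S.T e' e' y * M' e := by
    intro y
    have h1 := polar_identity hM e' y
    have h2 := polar_identity hM' e y
    rw [hc1] at h1
    rw [S.s13 e' e' e, hc2, S.s12 e' e y] at h2
    linear_combination h2 - h1
  obtain ⟨u0, hu0⟩ := hs e he hFe
  have hM'e : M' e ≠ 0 := by
    intro h0
    have := h3 u0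
    rw [h0, mul_zero] at this
    exact (mul_ne_zero hu0 hMe') this
  have hkerEq : ∀ y, S.T e e y = 0 → S.T e' e' y = 0 := by
    intro y hy
    have := h3 y
    rw [hy, zero_mul] at this
    exact (mul_eq_zero.1 this.symm).resolve_right hM'e
  obtain ⟨w, hw1, hw2, hwF⟩ := hE.exists_vectors he
  obtain ⟨ws, hws, hwsF⟩ : ∃ ws : V, ws ∉ span ℂ {e, e'} ∧ ∀ s t : ℂ, S.F (s • e + t • ws) = 0 := by
    by_cases h0 : w 0 ∈ span ℂ {e, e'}
    · refine ⟨w 1, ?_, hwF 1⟩
      intro h1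
      obtain ⟨a, b, hab⟩ := Submodule.mem_span_pair.1 h0
      obtain ⟨a', b', hab'⟩ := Submodule.mem_span_pair.1 h1
      have hb : b ≠ 0 := by
        rintro rfl
        apply hw1 0
        rw [Submodule.mem_span_singleton]
        exact ⟨a, by rw [← hab]; simp⟩
      apply hw2 0 1 (by decide)
      rw [Submodule.mem_span_pair]
      refine ⟨a' - b' * b⁻¹ * a, b' * b⁻¹, ?_⟩
      rw [← hab', ← hab]
      simp only [smul_add, smul_smul, sub_smul]
      have : b' * b⁻¹ * b = b' := by field_simp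
      rw [this]
      abel
    · exact ⟨w 0, h0, hwF 0⟩
  obtain ⟨-, -, hLws, -⟩ := line_coeffs hwsF
  have hL : S.lin e e ≠ 0 := fun h0 => hu0 (by rw [← S.lin_apply, h0]; rfl)
  have hvan : ∀ z, S.lin e e z = 0 → S.F z = 0 := by
    intro z hz
    obtain ⟨a, b, c, rfl⟩ := ker_span3 (S.lin e e) hL he he' hws hFe hc1 hLws z hz
    have hu : S.T e e (a • e + c • ws) = 0 := by
      rw [S.add3, S.smul3, S.smul3, hLws]
      have : S.T e e e = 0 := hFe
      rw [this]; ring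
    have hrw : a • e + b • e' + c • ws = (a • e + c • ws) + b • e' := by abel
    rw [hrw, S.F_add_smul, hwsF a c, hFe', S.s13 _ _ e', hM', S.s13 _ e' e', hkerEq _ hu]
    ring
  exact not_vanish_hyperplane hs (S.lin e e) he he' hFe hc1 hvan

end SymTri


theorem eckardt_involutions_commute_of_line_subset
    (f : MvPolynomial (Fin 4) ℂ) (hf : f.IsHomogeneous 3)
    (hsm : ∀ v : Fin 4 → ℂ, v ≠ 0 → eval v f = 0 → ∃ i : Fin 4, eval v (pderiv i f) ≠ 0)
    (e e' : Fin 4 → ℂ) (he : e ≠ 0) (he' : e' ∉ Submodule.span ℂ {e})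
    (hE : (∃ U : Fin 3 → Submodule ℂ (Fin 4 → ℂ), Function.Injective U ∧
        ∀ i : Fin 3, Module.finrank ℂ ↥(U i) = 2 ∧ e ∈ U i ∧ ∀ u ∈ U i, eval u f = 0))
    (hE' : (∃ U : Fin 3 → Submodule ℂ (Fin 4 → ℂ), Function.Injective U ∧
        ∀ i : Fin 3, Module.finrank ℂ ↥(U i) = 2 ∧ e' ∈ U i ∧ ∀ u ∈ U i, eval u f = 0))
    (hL : ∀ u ∈ Submodule.span ℂ {e, e'}, eval u f = 0)
    (A A' : Matrix (Fin 4) (Fin 4) ℂ)
    (hA : A * A = 1 ∧ Module.finrank ℂ ↥(LinearMap.ker (Matrix.toLin' A - LinearMap.id)) = 3 ∧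
        A.mulVec e = -e ∧
        ∃ c : ℂ, aeval (fun i : Fin 4 => ∑ j : Fin 4, C (A i j) * X j) f = C c * f)
    (hA' : A' * A' = 1 ∧
        Module.finrank ℂ ↥(LinearMap.ker (Matrix.toLin' A' - LinearMap.id)) = 3 ∧
        A'.mulVec e' = -e' ∧
        ∃ c : ℂ, aeval (fun i : Fin 4 => ∑ j : Fin 4, C (A' i j) * X j) f = C c * f) :
    (∃ c : ℂ, A * A' = c • (A' * A)) ∧ (∃ d : ℂ, A.mulVec e' = d • e') ∧
      (∃ d : ℂ, A'.mulVec e = d • e) := by
  have hs := smooth_symTriOf f hf hsm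
  have hEck := isEck_symTriOf f hf e hE
  have hEck' := isEck_symTriOf f hf e' hE'
  have he'0 : e' ≠ 0 := by
    rintro rfl
    exact he' (Submodule.zero_mem _)
  have hee' : e ∉ span ℂ {e'} := fun h => he' (mem_span_singleton_symm he h)
  obtain ⟨M, hM2, hM, hAv⟩ := exists_M_of_hyp f hf hsm e he hE A hA
  obtain ⟨M', hM'2, hM', hA'v⟩ := exists_M_of_hyp f hf hsm e' he'0 hE' A' hA'
  have hL1 : ∀ u ∈ span ℂ {e, e'}, (symTriOf f hf).F u = 0 := fun u hu => by
    rw [F_symTriOf]; exact hL u hu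
  have hL2 : ∀ u ∈ span ℂ {e', e}, (symTriOf f hf).F u = 0 := by
    rw [Set.pair_comm]; exact hL1
  have h1 : M e' = 0 := SymTri.M_apply_eq_zero_of_line hs he he' hEck hL1 hM hM'
  have h2 : M' e = 0 := SymTri.M_apply_eq_zero_of_line hs he'0 hee' hEck' hL2 hM' hM
  refine ⟨⟨1, ?_⟩, ⟨1, ?_⟩, ⟨1, ?_⟩⟩
  · rw [Matrix.ext_iff_mulVec]
    intro v
    simp only [← Matrix.mulVec_mulVec, one_smul, hAv, hA'v,
      SymTri.reflect_apply, map_sub, map_smul, h1, h2]
    module
  · rw [hAv, SymTri.reflect_apply, h1]; simp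
  · rw [hA'v, SymTri.reflect_apply, h2]; simp

end Groth.Agent.Lib.Helper1.Cubic
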