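import Groth.Agent.Lib.Helper1.CubicLine

set_option autoImplicit false

namespace Groth.Agent.Lib.Helper1.Cubic

open Module Submodule MvPolynomial

namespace SymTri

variable {S : SymTri}

/-- the functional `M` of an Eckardt point is unique -/
theorem IsEck.M_unique (hs : S.Smooth) {e : V} (h : S.IsEck e) (he : e ≠ 0)
    {M M₀ : V →ₗ[ℂ] ℂ} (hM2 : M e = 2) (hM : ∀ v, S.T e v v = S.T e e v * M v)
    (hM₀2 : M₀ e = 2) (hM₀ : ∀ v, S.T e v v = S.T e e v * M₀ v) : M₀ = M :=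
  h.N_eq_M hs he M hM2 hM M₀ hM₀2 1 (fun v => by rw [F_reflect h.F_self M₀ hM₀ v, one_mul])

theorem conj_reflect (hs : S.Smooth) {e e' e'' : V} (he : e ≠ 0) (he' : e' ∉ span ℂ {e})
    (hE : S.IsEck e) (hE' : S.IsEck e') (hE'' : S.IsEck e'')
    (h1 : e'' ∉ span ℂ {e}) (h2 : e'' ∉ span ℂ {e'}) (h3 : e'' ∈ span ℂ {e, e'})
    (hL : ¬ ∀ u ∈ span ℂ {e, e'}, S.F u = 0)
    {M M' M'' : V →ₗ[ℂ] ℂ} (hM2 : M e = 2) (hM : ∀ v, S.T e v v = S.T e e v * M v)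
    (hM'2 : M' e' = 2) (hM' : ∀ v, S.T e' v v = S.T e' e' v * M' v)
    (hM''2 : M'' e'' = 2) (hM'' : ∀ v, S.T e'' v v = S.T e'' e'' v * M'' v) (v : V) :
    reflect e M (reflect e' M' (reflect e M v)) = reflect e'' M'' v := by
  obtain ⟨M₀, p, hM₀2, hM₀, -, hp, -, -, -, -, hcov⟩ := line_two_eck hs he he' hE hE' hL
  have hMM : M₀ = M := hE.M_unique hs he hM2 hM hM₀2 hM₀
  subst hMM
  have he''0 : e'' ≠ 0 := by
    rintro rfl
    exact h1 (Submodule.zero_mem _)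
  have hp'' : e'' ∈ span ℂ {p} := by
    rcases hcov e'' h3 hE''.F_self with h | h | h
    · exact absurd h h1
    · exact absurd h h2
    · exact h
  obtain ⟨k, hk⟩ := Submodule.mem_span_singleton.1 (mem_span_singleton_symm he''0 hp'')
  have hpR : reflect e M₀ e' = p := by rw [reflect_apply, hp]
  set N'' : V →ₗ[ℂ] ℂ := k • (M' ∘ₗ reflect e M₀) with hN''
  have hcomp : ∀ v, reflect e M₀ (reflect e' M' (reflect e M₀ v)) = v - N'' v • e'' := by
    intro v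
    rw [reflect_apply e' M', map_sub, map_smul, reflect_invol hM2 v, hpR, ← hk, hN'']
    simp only [LinearMap.smul_apply, LinearMap.comp_apply, smul_eq_mul]
    rw [smul_smul, mul_comm]
  have hk0 : k ≠ 0 := by
    rintro rfl
    rw [zero_smul] at hk
    rw [← hk] at hp''
    exact he''0 (by simpa using hp'')
  have hN''2 : N'' e'' = 2 := by
    have : e'' = k⁻¹ • p := by rw [← hk, smul_smul, inv_mul_cancel₀ hk0, one_smul]
    rw [hN'']
    simp only [LinearMap.smul_apply, LinearMap.comp_apply, smul_eq_mul]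
    rw [this, map_smul, ← hpR, reflect_invol hM2 e', map_smul, hM'2, smul_eq_mul]
    field_simp
  have hF : ∀ v, S.F (v - N'' v • e'') = 1 * S.F v := by
    intro v
    rw [← hcomp v, reflect_apply e M₀, F_reflect hE.F_self M₀ hM, reflect_apply e' M',
      F_reflect hE'.F_self M' hM', reflect_apply e M₀, F_reflect hE.F_self M₀ hM, one_mul]
  have hNM : N'' = M'' := hE''.N_eq_M hs he''0 M'' hM''2 hM'' N'' hN''2 1 hF
  rw [hcomp v, hNM, reflect_apply]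

end SymTri


/-- the matrix of the statements acts as the Eckardt reflection -/
theorem exists_M_of_hyp (f : MvPolynomial (Fin 4) ℂ) (hf : f.IsHomogeneous 3)
    (hsm : ∀ v : Fin 4 → ℂ, v ≠ 0 → eval v f = 0 → ∃ i : Fin 4, eval v (pderiv i f) ≠ 0)
    (e : Fin 4 → ℂ) (he : e ≠ 0)
    (hE : (∃ U : Fin 3 → Submodule ℂ (Fin 4 → ℂ), Function.Injective U ∧
        ∀ i : Fin 3, Module.finrank ℂ ↥(U i) = 2 ∧ e ∈ U i ∧ ∀ u ∈ U i, eval u f = 0))
    (A : Matrix (Fin 4) (Fin 4) ℂ)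
    (hA : A * A = 1 ∧ Module.finrank ℂ ↥(LinearMap.ker (Matrix.toLin' A - LinearMap.id)) = 3 ∧
        A.mulVec e = -e ∧
        ∃ c : ℂ, aeval (fun i : Fin 4 => ∑ j : Fin 4, C (A i j) * X j) f = C c * f) :
    ∃ M : V →ₗ[ℂ] ℂ, M e = 2 ∧
      (∀ v, (symTriOf f hf).T e v v = (symTriOf f hf).T e e v * M v) ∧
      ∀ v, A.mulVec v = SymTri.reflect e M v := by
  have hs := smooth_symTriOf f hf hsm
  have hEck := isEck_symTriOf f hf e hE
  obtain ⟨M, hM2, hM⟩ := hEck.exists_M hs he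
  obtain ⟨N, c, hN2, hNv, hNF⟩ := exists_N_of_hyp f hf A he hA
  have hNM : N = M := hEck.N_eq_M hs he M hM2 hM N hN2 c hNF
  subst hNM
  exact ⟨N, hM2, hM, fun v => by rw [hNv, SymTri.reflect_apply]⟩

theorem eckardt_involutions_generate_dihedral_three
    (f : MvPolynomial (Fin 4) ℂ) (hf : f.IsHomogeneous 3)
    (hsm : ∀ v : Fin 4 → ℂ, v ≠ 0 → eval v f = 0 → ∃ i : Fin 4, eval v (pderiv i f) ≠ 0)
    (e e' e'' : Fin 4 → ℂ) (he : e ≠ 0) (he' : e' ∉ Submodule.span ℂ {e})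
    (he''1 : e'' ∉ Submodule.span ℂ {e}) (he''2 : e'' ∉ Submodule.span ℂ {e'})
    (he''L : e'' ∈ Submodule.span ℂ {e, e'})
    (hE : (∃ U : Fin 3 → Submodule ℂ (Fin 4 → ℂ), Function.Injective U ∧
        ∀ i : Fin 3, Module.finrank ℂ ↥(U i) = 2 ∧ e ∈ U i ∧ ∀ u ∈ U i, eval u f = 0))
    (hE' : (∃ U : Fin 3 → Submodule ℂ (Fin 4 → ℂ), Function.Injective U ∧
        ∀ i : Fin 3, Module.finrank ℂ ↥(U i) = 2 ∧ e' ∈ U i ∧ ∀ u ∈ U i, eval u f = 0))
    (hE'' : (∃ U : Fin 3 → Submodule ℂ (Fin 4 → ℂ), Function.Injective U ∧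
        ∀ i : Fin 3, Module.finrank ℂ ↥(U i) = 2 ∧ e'' ∈ U i ∧ ∀ u ∈ U i, eval u f = 0))
    (hL : ¬ ∀ u ∈ Submodule.span ℂ {e, e'}, eval u f = 0)
    (A A' A'' : Matrix (Fin 4) (Fin 4) ℂ)
    (hA : A * A = 1 ∧ Module.finrank ℂ ↥(LinearMap.ker (Matrix.toLin' A - LinearMap.id)) = 3 ∧
        A.mulVec e = -e ∧
        ∃ c : ℂ, aeval (fun i : Fin 4 => ∑ j : Fin 4, C (A i j) * X j) f = C c * f)
    (hA' : A' * A' = 1 ∧
        Module.finrank ℂ ↥(LinearMap.ker (Matrix.toLin' A' - LinearMap.id)) = 3 ∧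
        A'.mulVec e' = -e' ∧
        ∃ c : ℂ, aeval (fun i : Fin 4 => ∑ j : Fin 4, C (A' i j) * X j) f = C c * f)
    (hA'' : A'' * A'' = 1 ∧
        Module.finrank ℂ ↥(LinearMap.ker (Matrix.toLin' A'' - LinearMap.id)) = 3 ∧
        A''.mulVec e'' = -e'' ∧
        ∃ c : ℂ, aeval (fun i : Fin 4 => ∑ j : Fin 4, C (A'' i j) * X j) f = C c * f) :
    (¬ ∃ c : ℂ, A * A' = c • (1 : Matrix (Fin 4) (Fin 4) ℂ)) ∧
      (∃ c : ℂ, (A * A') ^ 3 = c • (1 : Matrix (Fin 4) (Fin 4) ℂ)) ∧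
      ∃ c : ℂ, A'' = c • (A * A' * A) := by
  have hs := smooth_symTriOf f hf hsm
  have hEck := isEck_symTriOf f hf e hE
  have hEck' := isEck_symTriOf f hf e' hE'
  have hEck'' := isEck_symTriOf f hf e'' hE''
  have he'0 : e' ≠ 0 := by
    rintro rfl
    exact he' (Submodule.zero_mem _)
  have he''0 : e'' ≠ 0 := by
    rintro rfl
    exact he''1 (Submodule.zero_mem _)
  have hee' : e ∉ span ℂ {e'} := fun h => he' (mem_span_singleton_symm he h)
  obtain ⟨M, hM2, hM, hAv⟩ := exists_M_of_hyp f hf hsm e he hE A hA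
  obtain ⟨M', hM'2, hM', hA'v⟩ := exists_M_of_hyp f hf hsm e' he'0 hE' A' hA'
  obtain ⟨M'', hM''2, hM'', hA''v⟩ := exists_M_of_hyp f hf hsm e'' he''0 hE'' A'' hA''
  have hL' : ¬ ∀ u ∈ span ℂ {e, e'}, (symTriOf f hf).F u = 0 := by
    intro h
    exact hL (fun u hu => by rw [← F_symTriOf f hf]; exact h u hu)
  have hL'' : ¬ ∀ u ∈ span ℂ {e', e}, (symTriOf f hf).F u = 0 := by
    rw [Set.pair_comm]; exact hL'
  have hc1 := SymTri.conj_reflect hs he he' hEck hEck' hEck'' he''1 he''2 he''L hL'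
    hM2 hM hM'2 hM' hM''2 hM''
  have hc2 := SymTri.conj_reflect hs he'0 hee' hEck' hEck hEck'' he''2 he''1
    (by rw [Set.pair_comm]; exact he''L) hL'' hM'2 hM' hM2 hM hM''2 hM''
  refine ⟨?_, ⟨1, ?_⟩, ⟨1, ?_⟩⟩
  · rintro ⟨c, hc⟩
    obtain ⟨M₀, p, hM₀2, hM₀, hM₀e', -, -, -, -, -, -⟩ :=
      SymTri.line_two_eck hs he he' hEck hEck' hL'
    have hMM : M₀ = M := hEck.M_unique hs he hM2 hM hM₀2 hM₀
    subst hMM
    have h1 := congrArg (fun B => Matrix.mulVec B e') hc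
    simp only [← Matrix.mulVec_mulVec, Matrix.smul_mulVec, Matrix.one_mulVec] at h1
    rw [hA'.2.2.1, Matrix.mulVec_neg, hAv, SymTri.reflect_apply] at h1
    have h2 : M₀ e' • e = (c + 1) • e' := by
      rw [add_smul, one_smul, ← h1]; abel
    apply hee'
    rw [Submodule.mem_span_singleton]
    refine ⟨(M₀ e')⁻¹ * (c + 1), ?_⟩
    rw [mul_smul, ← h2, smul_smul, inv_mul_cancel₀ hM₀e', one_smul]
  · rw [Matrix.ext_iff_mulVec]
    intro v
    simp only [pow_succ, pow_zero, one_mul, ← Matrix.mulVec_mulVec,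
      Matrix.one_mulVec, one_smul, hAv, hA'v]
    rw [hc1, ← hA'v (SymTri.reflect e M _), ← hA'v v]
    rw [hA'v (SymTri.reflect e M _), hA'v v, hc2, SymTri.reflect_invol hM''2]
  · rw [Matrix.ext_iff_mulVec]
    intro v
    simp only [← Matrix.mulVec_mulVec, one_smul, hAv, hA'v, hA''v]
    rw [hc1]

end Groth.Agent.Lib.Helper1.Cubic
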