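import Groth.Agent.Lib.Helper1.CubicTri
import Mathlib.LinearAlgebra.Dual.Lemmas

set_option autoImplicit false

namespace Groth.Agent.Lib.Helper1.Cubic

open Module Submodule

theorem finrank_span_pair {e w : V} (he : e ≠ 0) (hw : w ∉ span ℂ {e}) :
    finrank ℂ (span ℂ ({e, w} : Set V)) = 2 := by
  have hli : LinearIndependent ℂ ![e, w] := by
    rw [LinearIndependent.pair_iff' he]
    intro a h
    exact hw (h ▸ Submodule.smul_mem _ _ (Submodule.mem_span_singleton_self e))
  have h := finrank_span_eq_card hli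
  have hr : Set.range ![e, w] = {e, w} := by
    ext x
    simp [eq_comm, or_comm]
  rw [hr] at h
  simpa using h

theorem dep4 (L : V →ₗ[ℂ] ℂ) (hL : L ≠ 0) (v : Fin 4 → V) (hv : ∀ i, L (v i) = 0) :
    ∃ g : Fin 4 → ℂ, g 0 • v 0 + g 1 • v 1 + g 2 • v 2 + g 3 • v 3 = 0 ∧ ∃ i, g i ≠ 0 := by
  by_contra hcon
  have hli : LinearIndependent ℂ v := by
    by_contra hli
    rw [Fintype.not_linearIndependent_iff] at hli
    obtain ⟨g, hg, hi⟩ := hli
    exact hcon ⟨g, by simpa [Fin.sum_univ_four] using hg, hi⟩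
  have hspan := hli.span_eq_top_of_card_eq_finrank' (by simp)
  apply hL
  apply LinearMap.ext_on_range hspan
  intro i
  simp [hv i]

theorem indep3 {e x y : V} (he : e ≠ 0) (hx : x ∉ span ℂ {e}) (hy : y ∉ span ℂ {e, x})
    {a b c : ℂ} (h : a • e + b • x + c • y = 0) : a = 0 ∧ b = 0 ∧ c = 0 := by
  have hc : c = 0 := by
    by_contra hc
    apply hy
    rw [Submodule.mem_span_pair]
    refine ⟨-(a / c), -(b / c), ?_⟩
    have : y = c⁻¹ • (c • y) := by rw [smul_smul, inv_mul_cancel₀ hc, one_smul]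
    rw [this, eq_neg_of_add_eq_zero_right h]
    simp only [smul_add, smul_neg, smul_smul, neg_smul]
    ring_nf
  subst hc
  have hb : b = 0 := by
    by_contra hb
    apply hx
    rw [Submodule.mem_span_singleton]
    refine ⟨-(a / b), ?_⟩
    have : x = b⁻¹ • (b • x) := by rw [smul_smul, inv_mul_cancel₀ hb, one_smul]
    rw [zero_smul, add_zero] at h
    rw [this, eq_neg_of_add_eq_zero_right h]
    simp only [smul_neg, smul_smul, neg_smul]
    ring_nf
  subst hb
  simp only [zero_smul, add_zero, smul_eq_zero] at h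
  exact ⟨h.resolve_right he, rfl, rfl⟩


namespace SymTri

variable (S : SymTri)

theorem IsEck.exists_vectors {S : SymTri} {e : V} (h : S.IsEck e) (he : e ≠ 0) :
    ∃ w : Fin 3 → V, (∀ i, w i ∉ span ℂ {e}) ∧ (∀ i j, i ≠ j → w j ∉ span ℂ {e, w i}) ∧
      ∀ i (s t : ℂ), S.F (s • e + t • w i) = 0 := by
  obtain ⟨U, hinj, hU⟩ := h
  have h1 : ∀ i, ∃ w ∈ U i, w ∉ span ℂ {e} := by
    intro i
    by_contra hcon
    push Not at hcon
    have hle : U i ≤ span ℂ {e} := hcon
    have := Submodule.finrank_mono hle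
    rw [(hU i).1, finrank_span_singleton he] at this
    omega
  choose w hwU hw using h1
  have hUeq : ∀ i, U i = span ℂ {e, w i} := fun i =>
    (Submodule.eq_of_le_of_finrank_eq
      (span_le.2 (by rintro x (rfl | rfl); exacts [(hU i).2.1, hwU i]))
      (by rw [finrank_span_pair he (hw i), (hU i).1])).symm
  refine ⟨w, hw, ?_, ?_⟩
  · intro i j hij hmem
    apply hij
    apply hinj
    have hle : U j ≤ U i := by
      rw [hUeq j, span_le]
      rintro x (rfl | rfl)
      · exact (hU i).2.1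
      · rw [hUeq i]; exact hmem
    exact (Submodule.eq_of_le_of_finrank_eq hle (by rw [(hU i).1, (hU j).1])).symm
  · intro i s t
    apply (hU i).2.2
    exact (U i).add_mem ((U i).smul_mem _ (hU i).2.1) ((U i).smul_mem _ (hwU i))

theorem quad_expand (e x y : V) (a b c : ℂ) :
    S.T e (a • e + b • x + c • y) (a • e + b • x + c • y) =
      a ^ 2 * S.T e e e + b ^ 2 * S.T e x x + c ^ 2 * S.T e y y + 2 * a * b * S.T e e x +
        2 * a * c * S.T e e y + 2 * b * c * S.T e x y := by
  simp only [S.add2, S.add3, S.smul2, S.smul3]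
  rw [S.s23 e x e, S.s23 e y e, S.s23 e y x]
  ring

theorem IsEck.F_self {S : SymTri} {e : V} (h : S.IsEck e) : S.F e = 0 := by
  obtain ⟨U, _, hU⟩ := h
  exact (hU 0).2.2 e (hU 0).2.1

/-- the key structural fact on Eckardt points: the polar quadric splits off the tangent plane -/
theorem IsEck.exists_M {S : SymTri} (hs : S.Smooth) {e : V} (h : S.IsEck e) (he : e ≠ 0) :
    ∃ M : V →ₗ[ℂ] ℂ, M e = 2 ∧ ∀ v, S.T e v v = S.T e e v * M v := by
  obtain ⟨w, hw1, hw2, hwF⟩ := h.exists_vectors he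
  have hFe : S.F e = 0 := h.F_self
  have hTe : S.T e e e = 0 := hFe
  obtain ⟨u, hu⟩ := hs e he hFe
  have hL : S.lin e e ≠ 0 := fun h0 => hu (by rw [← S.lin_apply, h0]; rfl)
  have hline : ∀ i, S.T e e (w i) = 0 ∧ S.T e (w i) (w i) = 0 := by
    intro i
    have h0 := hwF i 0 1
    have h1 := hwF i 1 1
    have h2 := hwF i (-1) 1
    rw [S.F_comb] at h0 h1 h2
    rw [hFe] at h0 h1 h2
    have h0' : S.F (w i) = 0 := by simpa using h0
    rw [h0'] at h1 h2
    constructor
    · linear_combination (1 / 6 : ℂ) * h1 + (1 / 6 : ℂ) * h2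
    · linear_combination (1 / 6 : ℂ) * h1 - (1 / 6 : ℂ) * h2
  -- the kernel of L is spanned by e, w 0, w 1
  have hker : ∀ x : V, S.T e e x = 0 → ∃ a b c : ℂ, x = a • e + b • w 0 + c • w 1 := by
    intro x hx
    obtain ⟨g, hg, hne⟩ := dep4 (S.lin e e) hL ![e, w 0, w 1, x] (by
      intro i; fin_cases i
      · exact hTe
      · exact (hline 0).1
      · exact (hline 1).1
      · exact hx)
    simp only [Matrix.cons_val_zero, Matrix.cons_val_one, Matrix.cons_val] at hg
    have hg3 : g 3 ≠ 0 := by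
      intro h3
      rw [h3, zero_smul, add_zero] at hg
      obtain ⟨h0, h1, h2⟩ := indep3 he (hw1 0) (hw2 0 1 (by decide)) hg
      obtain ⟨i, hi⟩ := hne
      fin_cases i <;> simp_all
    refine ⟨-(g 0 / g 3), -(g 1 / g 3), -(g 2 / g 3), ?_⟩
    have : x = (g 3)⁻¹ • (g 3 • x) := by rw [smul_smul, inv_mul_cancel₀ hg3, one_smul]
    rw [this, eq_neg_of_add_eq_zero_right hg]
    simp only [smul_add, smul_neg, smul_smul, neg_smul, neg_add]
    ring_nf
  have hB : S.T e (w 0) (w 1) = 0 := by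
    obtain ⟨a, b, c, habc⟩ := hker (w 2) (hline 2).1
    have hb : b ≠ 0 := by
      rintro rfl
      apply hw2 1 2 (by decide)
      rw [Submodule.mem_span_pair]
      exact ⟨a, c, by rw [habc]; simp⟩
    have hc : c ≠ 0 := by
      rintro rfl
      apply hw2 0 2 (by decide)
      rw [Submodule.mem_span_pair]
      exact ⟨a, b, by rw [habc]; simp⟩
    have h2 := (hline 2).2
    rw [habc, S.quad_expand, hTe, (hline 0).1, (hline 0).2, (hline 1).1, (hline 1).2] at h2
    have : 2 * b * c * S.T e (w 0) (w 1) = 0 := by linear_combination h2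
    simpa [hb, hc] using this
  have hQ : ∀ x : V, S.T e e x = 0 → S.T e x x = 0 := by
    intro x hx
    obtain ⟨a, b, c, habc⟩ := hker x hx
    rw [habc, S.quad_expand, hTe, (hline 0).1, (hline 0).2, (hline 1).1, (hline 1).2, hB]
    ring
  -- the functional M
  set v0 : V := (S.T e e u)⁻¹ • u with hv0
  have hLv0 : S.T e e v0 = 1 := by rw [hv0, S.smul3, inv_mul_cancel₀ hu]
  refine ⟨(2 : ℂ) • S.lin e v0 - (S.T e v0 v0) • S.lin e e, ?_, ?_⟩
  · simp only [LinearMap.sub_apply, LinearMap.smul_apply, lin_apply, smul_eq_mul]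
    rw [S.s23 e v0 e, hLv0, hTe]; ring
  · intro v
    simp only [LinearMap.sub_apply, LinearMap.smul_apply, lin_apply, smul_eq_mul]
    have hh := hQ (v - S.T e e v • v0) (by rw [S.sub3, S.smul3, hLv0]; ring)
    simp only [S.sub2, S.sub3, S.smul2, S.smul3] at hh
    rw [S.s23 e v0 v] at hh ⊢
    linear_combination hh

end SymTri

end Groth.Agent.Lib.Helper1.Cubic
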