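import Groth.Agent.Lib.Helper1.CubicEck

set_option autoImplicit false

namespace Groth.Agent.Lib.Helper1.Cubic

open Module Submodule MvPolynomial

namespace SymTri

variable {S : SymTri}

/-- expansion of `F` along the reflection direction -/
theorem F_sub_smul {e : V} (hFe : S.F e = 0) (v : V) (t : ℂ) :
    S.F (v - t • e) = S.F v - 3 * t * S.T e v v + 3 * t ^ 2 * S.T e e v := by
  have := S.F_add_smul v e (-t)
  rw [neg_smul, ← sub_eq_add_neg] at this
  rw [this, hFe, S.s13 v v e, S.s13 v e e]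
  ring

theorem F_reflect {e : V} (hFe : S.F e = 0) (M : V →ₗ[ℂ] ℂ)
    (hM : ∀ v, S.T e v v = S.T e e v * M v) (v : V) : S.F (v - M v • e) = S.F v := by
  rw [F_sub_smul hFe, hM v]
  ring

/-- key identity for a reflection with centre `e` -/
theorem F_reflect_N {e : V} (hFe : S.F e = 0) (M N : V →ₗ[ℂ] ℂ)
    (hM : ∀ v, S.T e v v = S.T e e v * M v) (v : V) :
    S.F (v - N v • e) = S.F v + 3 * N v * S.T e e v * (N v - M v) := by
  rw [F_sub_smul hFe, hM v]
  ring

theorem two_functionals {L D : V →ₗ[ℂ] ℂ} (hL : L ≠ 0) (h : ∀ v, L v * D v = 0) : D = 0 := by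
  obtain ⟨u, hu⟩ : ∃ u, L u ≠ 0 := by
    by_contra hcon
    push Not at hcon
    exact hL (LinearMap.ext hcon)
  have hDu : D u = 0 := by
    have := h u
    rcases mul_eq_zero.1 this with h1 | h1
    · exact absurd h1 hu
    · exact h1
  refine LinearMap.ext fun v => ?_
  have := h (v + ((1 - L v) / L u) • u)
  simp only [map_add, map_smul, smul_eq_mul, hDu, mul_zero, add_zero] at this
  have h1 : L v + (1 - L v) / L u * L u = 1 := by field_simp; ring
  rw [h1, one_mul] at this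
  simpa using this


theorem line_coeffs {e w : V} (h : ∀ s t : ℂ, S.F (s • e + t • w) = 0) :
    S.F e = 0 ∧ S.F w = 0 ∧ S.T e e w = 0 ∧ S.T e w w = 0 := by
  have h0 := h 0 1
  have h3 := h 1 0
  have h1 := h 1 1
  have h2 := h (-1) 1
  rw [S.F_comb] at h0 h1 h2 h3
  have h0' : S.F w = 0 := by simpa using h0
  have h3' : S.F e = 0 := by simpa using h3
  rw [h0', h3'] at h1 h2
  refine ⟨h3', h0', ?_, ?_⟩
  · linear_combination (1 / 6 : ℂ) * h1 + (1 / 6 : ℂ) * h2
  · linear_combination (1 / 6 : ℂ) * h1 - (1 / 6 : ℂ) * h2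

/-- uniqueness of the reflection with centre an Eckardt point preserving the cubic -/
theorem IsEck.N_eq_M (hs : S.Smooth) {e : V} (h : S.IsEck e) (he : e ≠ 0)
    (M : V →ₗ[ℂ] ℂ) (hM2 : M e = 2) (hM : ∀ v, S.T e v v = S.T e e v * M v)
    (N : V →ₗ[ℂ] ℂ) (hN2 : N e = 2) (c : ℂ) (hN : ∀ v, S.F (v - N v • e) = c * S.F v) :
    N = M := by
  have hFe := h.F_self
  have hTe : S.T e e e = 0 := hFe
  have key : ∀ v, (c - 1) * S.F v = 3 * N v * S.T e e v * (N v - M v) := by
    intro v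
    have := F_reflect_N hFe M N hM v
    rw [hN v] at this
    linear_combination this
  obtain ⟨u, hu⟩ := hs e he hFe
  have hL : S.lin e e ≠ 0 := fun h0 => hu (by rw [← S.lin_apply, h0]; rfl)
  by_cases hc : c = 1
  · subst hc
    have h1 : ∀ v, S.lin e e v * (N - M) v = 0 := by
      intro v
      have := key (v + ((1 - N v) / 2) • e)
      simp only [map_add, map_smul, smul_eq_mul, hN2, hM2, S.add3, S.smul3, hTe, sub_self,
        zero_mul] at this
      simp only [lin_apply, LinearMap.sub_apply]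
      linear_combination (-(1 / 3 : ℂ)) * this
    exact sub_eq_zero.1 (two_functionals hL h1)
  · exfalso
    obtain ⟨w, hw1, -, hwF⟩ := h.exists_vectors he
    obtain ⟨-, -, hLw, -⟩ := line_coeffs (hwF 0)
    set vs : V := w 0 - (N (w 0) / 2) • e with hvs
    have hNvs : N vs = 0 := by
      rw [hvs, map_sub, map_smul, hN2, smul_eq_mul]; ring
    have hLvs : S.T e e vs = 0 := by
      rw [hvs, S.sub3, S.smul3, hLw, hTe]; ring
    have hvs0 : vs ≠ 0 := by
      intro h0
      apply hw1 0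
      rw [Submodule.mem_span_singleton]
      exact ⟨N (w 0) / 2, (sub_eq_zero.1 h0).symm⟩
    have hc1 : c - 1 ≠ 0 := sub_ne_zero.2 hc
    have hFvs : S.F vs = 0 := by
      have := key vs
      rw [hNvs] at this
      have h2 : (c - 1) * S.F vs = 0 := by linear_combination this
      exact (mul_eq_zero.1 h2).resolve_left hc1
    obtain ⟨u', hu'⟩ := hs vs hvs0 hFvs
    apply hu'
    have E1 := key (vs + (1 : ℂ) • u')
    have E2 := key (vs + (-1 : ℂ) • u')
    have E3 := key (vs + (2 : ℂ) • u')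
    rw [S.F_add_smul] at E1 E2 E3
    simp only [map_add, map_smul, smul_eq_mul, hNvs, S.add3, S.smul3, hLvs, hFvs] at E1 E2 E3
    have h3 : 3 * (c - 1) * S.T vs vs u' = 0 := by
      linear_combination E1 - (1 / 3 : ℂ) * E2 - (1 / 6 : ℂ) * E3
    have h4 : (3 * (c - 1) : ℂ) ≠ 0 := mul_ne_zero (by norm_num) hc1
    exact (mul_eq_zero.1 h3).resolve_left h4

end SymTri


theorem eval_aeval_matrix (A : Matrix (Fin 4) (Fin 4) ℂ) (f : MvPolynomial (Fin 4) ℂ) (v : V) :
    eval v (aeval (fun i : Fin 4 => ∑ j : Fin 4, C (A i j) * X j) f) = eval (A.mulVec v) f := by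
  induction f using MvPolynomial.induction_on with
  | C a => simp
  | add p q hp hq => rw [map_add, map_add, hp, hq, map_add]
  | mul_X p i hp =>
    simp only [map_mul, hp, aeval_X, eval_X, map_sum, eval_C]
    rfl

theorem exists_N_of_matrix (A : Matrix (Fin 4) (Fin 4) ℂ) {e : V} (he : e ≠ 0)
    (hfix : finrank ℂ (LinearMap.ker (Matrix.toLin' A - LinearMap.id)) = 3)
    (hAe : A.mulVec e = -e) :
    ∃ N : V →ₗ[ℂ] ℂ, N e = 2 ∧ ∀ v, A.mulVec v = v - N v • e := by
  set G : V →ₗ[ℂ] V := Matrix.toLin' A - LinearMap.id with hG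
  have hGv : ∀ v, G v = A.mulVec v - v := fun v => by
    simp [hG, Matrix.toLin'_apply]
  have hGe : G e = (-2 : ℂ) • e := by
    rw [hGv, hAe]; simp only [neg_smul]; rw [two_smul]; abel
  have hrk : finrank ℂ (LinearMap.range G) = 1 := by
    have := LinearMap.finrank_range_add_finrank_ker G
    rw [hfix] at this
    simp at this
    omega
  have hle : span ℂ {e} ≤ LinearMap.range G := by
    rw [span_le, Set.singleton_subset_iff]
    refine ⟨(-(1 / 2) : ℂ) • e, ?_⟩
    rw [map_smul, hGe, smul_smul]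
    norm_num
  have hrange : span ℂ {e} = LinearMap.range G :=
    Submodule.eq_of_le_of_finrank_eq hle (by rw [finrank_span_singleton he, hrk])
  obtain ⟨i, hi⟩ : ∃ i, e i ≠ 0 := by
    by_contra hcon
    push Not at hcon
    exact he (funext hcon)
  set φ : V →ₗ[ℂ] ℂ := (e i)⁻¹ • LinearMap.proj i with hφ
  have hφe : φ e = 1 := by simp [hφ, hi]
  refine ⟨-(φ ∘ₗ G), ?_, ?_⟩
  · simp only [LinearMap.neg_apply, LinearMap.comp_apply, hGe, map_smul, hφe, smul_eq_mul]
    ring
  · intro v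
    have hv : G v ∈ span ℂ {e} := by rw [hrange]; exact ⟨v, rfl⟩
    obtain ⟨c, hc⟩ := Submodule.mem_span_singleton.1 hv
    simp only [LinearMap.neg_apply, LinearMap.comp_apply]
    rw [← hc, map_smul, hφe, smul_eq_mul, mul_one, neg_smul, sub_neg_eq_add, hc, hGv]
    abel

theorem matrix_of_N (N : V →ₗ[ℂ] ℂ) {e : V} (he : e ≠ 0) (hN : N e = 2) :
    ∃ A : Matrix (Fin 4) (Fin 4) ℂ, (∀ v, A.mulVec v = v - N v • e) ∧ A * A = 1 ∧
      finrank ℂ (LinearMap.ker (Matrix.toLin' A - LinearMap.id)) = 3 ∧ A.mulVec e = -e := by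
  set R : V →ₗ[ℂ] V := LinearMap.id - N.smulRight e with hR
  have hRv : ∀ v, R v = v - N v • e := fun v => by simp [hR]
  have hA : ∀ v, (LinearMap.toMatrix' R).mulVec v = v - N v • e := fun v => by
    rw [← Matrix.toLin'_apply, Matrix.toLin'_toMatrix', hRv]
  refine ⟨LinearMap.toMatrix' R, hA, ?_, ?_, ?_⟩
  · rw [Matrix.ext_iff_mulVec]
    intro v
    rw [← Matrix.mulVec_mulVec, hA, hA, Matrix.one_mulVec, map_sub, map_smul, hN, smul_eq_mul]
    module
  · rw [Matrix.toLin'_toMatrix']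
    have hker : LinearMap.ker (R - LinearMap.id) = LinearMap.ker N := by
      ext v
      simp only [LinearMap.mem_ker, LinearMap.sub_apply, hRv, LinearMap.id_apply]
      constructor
      · intro h
        have : N v • e = 0 := by
          have h2 : v - N v • e - v = -(N v • e) := by abel
          rw [h2] at h
          exact neg_eq_zero.1 h
        exact (smul_eq_zero.1 this).resolve_right he
      · intro h
        rw [h]; simp
    rw [hker]
    have hN0 : N ≠ 0 := by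
      intro h0
      rw [h0] at hN
      simp at hN
    have := Module.Dual.finrank_ker_add_one_of_ne_zero hN0
    simp at this
    omega
  · rw [hA, hN, two_smul]
    abel


theorem smooth_symTriOf (f : MvPolynomial (Fin 4) ℂ) (hf : f.IsHomogeneous 3)
    (hsm : ∀ v : Fin 4 → ℂ, v ≠ 0 → eval v f = 0 → ∃ i : Fin 4, eval v (pderiv i f) ≠ 0) :
    (symTriOf f hf).Smooth := by
  intro v hv hF
  have hF' : eval v f = 0 := by rw [← symTriOf_diag f hf]; exact hF
  obtain ⟨i, hi⟩ := hsm v hv hF'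
  refine ⟨Pi.single i 1, fun h0 => hi ?_⟩
  have := symTriOf_pderiv f hf (Pi.single i 1) v
  rw [(symTriOf f hf).s13, h0] at this
  simpa [Pi.single_apply] using this

theorem isEck_symTriOf (f : MvPolynomial (Fin 4) ℂ) (hf : f.IsHomogeneous 3) (e : Fin 4 → ℂ)
    (hE : ∃ U : Fin 3 → Submodule ℂ (Fin 4 → ℂ), Function.Injective U ∧
        ∀ i : Fin 3, Module.finrank ℂ ↥(U i) = 2 ∧ e ∈ U i ∧ ∀ u ∈ U i, eval u f = 0) :
    (symTriOf f hf).IsEck e := by
  obtain ⟨U, h1, h2⟩ := hE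
  exact ⟨U, h1, fun i => ⟨(h2 i).1, (h2 i).2.1, fun u hu => by
    rw [SymTri.F, symTriOf_diag]; exact (h2 i).2.2 u hu⟩⟩

theorem F_symTriOf (f : MvPolynomial (Fin 4) ℂ) (hf : f.IsHomogeneous 3) (v : V) :
    (symTriOf f hf).F v = eval v f := symTriOf_diag f hf v

/-- an involution matrix as in the statements gives a reflection functional scaling `F` -/
theorem exists_N_of_hyp (f : MvPolynomial (Fin 4) ℂ) (hf : f.IsHomogeneous 3)
    (A : Matrix (Fin 4) (Fin 4) ℂ) {e : V} (he : e ≠ 0)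
    (hA : A * A = 1 ∧ Module.finrank ℂ ↥(LinearMap.ker (Matrix.toLin' A - LinearMap.id)) = 3 ∧
        A.mulVec e = -e ∧
        ∃ c : ℂ, aeval (fun i : Fin 4 => ∑ j : Fin 4, C (A i j) * X j) f = C c * f) :
    ∃ (N : V →ₗ[ℂ] ℂ) (c : ℂ), N e = 2 ∧ (∀ v, A.mulVec v = v - N v • e) ∧
      ∀ v, (symTriOf f hf).F (v - N v • e) = c * (symTriOf f hf).F v := by
  obtain ⟨-, hfix, hAe, c, hc⟩ := hA
  obtain ⟨N, hN2, hNv⟩ := exists_N_of_matrix A he hfix hAe
  refine ⟨N, c, hN2, hNv, fun v => ?_⟩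
  have := congrArg (eval v) hc
  rw [eval_aeval_matrix, hNv, map_mul, eval_C] at this
  rw [F_symTriOf, F_symTriOf]
  exact this

theorem existsUnique_involution (f : MvPolynomial (Fin 4) ℂ) (hf : f.IsHomogeneous 3)
    (hsm : ∀ v : Fin 4 → ℂ, v ≠ 0 → eval v f = 0 → ∃ i : Fin 4, eval v (pderiv i f) ≠ 0)
    (e : Fin 4 → ℂ) (he : e ≠ 0)
    (hE : (∃ U : Fin 3 → Submodule ℂ (Fin 4 → ℂ), Function.Injective U ∧
        ∀ i : Fin 3, Module.finrank ℂ ↥(U i) = 2 ∧ e ∈ U i ∧ ∀ u ∈ U i, eval u f = 0)) :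
    ∃! A : Matrix (Fin 4) (Fin 4) ℂ, A * A = 1 ∧
      Module.finrank ℂ ↥(LinearMap.ker (Matrix.toLin' A - LinearMap.id)) = 3 ∧
        A.mulVec e = -e ∧
        ∃ c : ℂ, aeval (fun i : Fin 4 => ∑ j : Fin 4, C (A i j) * X j) f = C c * f := by
  have hs := smooth_symTriOf f hf hsm
  have hEck := isEck_symTriOf f hf e hE
  obtain ⟨M, hM2, hM⟩ := hEck.exists_M hs he
  obtain ⟨A, hAv, hA2, hAfix, hAe⟩ := matrix_of_N M he hM2
  refine ⟨A, ⟨hA2, hAfix, hAe, 1, ?_⟩, ?_⟩
  · apply MvPolynomial.funext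
    intro v
    rw [eval_aeval_matrix, hAv, map_mul, eval_C, one_mul, ← F_symTriOf f hf, ← F_symTriOf f hf]
    exact SymTri.F_reflect hEck.F_self M hM v
  · intro B hB
    obtain ⟨N, c, hN2, hNv, hNF⟩ := exists_N_of_hyp f hf B he hB
    have hNM : N = M := hEck.N_eq_M hs he M hM2 hM N hN2 c hNF
    rw [Matrix.ext_iff_mulVec]
    intro v
    rw [hNv, hAv, hNM]

end Groth.Agent.Lib.Helper1.Cubic
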