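import Groth.Agent.Lib.Helper1.CubicKLinDiv

set_option autoImplicit false

namespace Groth.Agent.Lib.Helper1.CubicK

variable {K : Type*} [Field K] [IsAlgClosed K] [CharZero K]

/-- a binary quadratic form over an algebraically closed field splits -/
theorem bq_split (A B C : K) :
    ∃ α₁ β₁ α₂ β₂ : K, ∀ x y : K,
      A * x ^ 2 + B * x * y + C * y ^ 2 = (α₁ * x + β₁ * y) * (α₂ * x + β₂ * y) := by
  by_cases hA : A = 0
  · exact ⟨0, 1, B, C, fun x y => by rw [hA]; ring⟩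
  · obtain ⟨s, hs⟩ := IsAlgClosed.exists_pow_nat_eq (B ^ 2 - 4 * A * C) (n := 2) (by norm_num)
    refine ⟨A, (B - s) / 2, 1, (B + s) / (2 * A), fun x y => ?_⟩
    field_simp
    linear_combination (y ^ 2) * hs

/-- a binary cubic form over an algebraically closed field splits -/
theorem bc_split (c₀ c₁ c₂ c₃ : K) :
    ∃ α₁ β₁ α₂ β₂ α₃ β₃ : K, ∀ x y : K,
      c₀ * x ^ 3 + c₁ * x ^ 2 * y + c₂ * x * y ^ 2 + c₃ * y ^ 3 =
        (α₁ * x + β₁ * y) * (α₂ * x + β₂ * y) * (α₃ * x + β₃ * y) := by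
  by_cases h0 : c₀ = 0
  · obtain ⟨α₁, β₁, α₂, β₂, h⟩ := bq_split c₁ c₂ c₃
    refine ⟨0, 1, α₁, β₁, α₂, β₂, fun x y => ?_⟩
    rw [h0]
    linear_combination y * h x y
  · have hdeg : (Polynomial.C c₀ * Polynomial.X ^ 3 + Polynomial.C c₁ * Polynomial.X ^ 2 +
        Polynomial.C c₂ * Polynomial.X + Polynomial.C c₃).degree ≠ 0 := by
      rw [Polynomial.degree_cubic h0]
      norm_num
    obtain ⟨r, hr⟩ := IsAlgClosed.exists_root _ hdeg
    have hr' : c₀ * r ^ 3 + c₁ * r ^ 2 + c₂ * r + c₃ = 0 := by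
      simpa using hr
    obtain ⟨α₁, β₁, α₂, β₂, h⟩ := bq_split c₀ (c₁ + c₀ * r) (c₂ + c₁ * r + c₀ * r ^ 2)
    refine ⟨1, -r, α₁, β₁, α₂, β₂, fun x y => ?_⟩
    linear_combination (1 * x + -r * y) * h x y + y ^ 3 * hr'

end Groth.Agent.Lib.Helper1.CubicK
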