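import Groth.Agent.Lib.Helper1.CubicKCount
import Mathlib.RingTheory.Nullstellensatz
import Mathlib.RingTheory.MvPolynomial.IrreducibleQuadratic
import Mathlib.Algebra.Polynomial.Degree.SmallDegree

set_option autoImplicit false

namespace Groth.Agent.Lib.Helper1.CubicK

open MvPolynomial

variable {K : Type*} [Field K]

/-- the linear form with given coefficients -/
noncomputable def linPoly (c : Fin 4 → K) : MvPolynomial (Fin 4) K := ∑ i, C (c i) * X i

theorem linPoly_eval (c : Fin 4 → K) (x : Fin 4 → K) : eval x (linPoly c) = ∑ i, c i * x i := by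
  simp [linPoly]

theorem linPoly_isHomogeneous (c : Fin 4 → K) : (linPoly c).IsHomogeneous 1 := by
  apply IsHomogeneous.sum
  intro i _
  exact (isHomogeneous_X K i).C_mul _

theorem linPoly_ne_zero {c : Fin 4 → K} (hc : c ≠ 0) : linPoly c ≠ 0 := by
  obtain ⟨i, hi⟩ : ∃ i, c i ≠ 0 := by
    by_contra hcon
    push Not at hcon
    exact hc (funext hcon)
  intro h0
  apply hi
  have := congrArg (eval (Pi.single i (1 : K))) h0
  simpa [linPoly_eval, Pi.single_apply] using this

theorem linPoly_coeff (c : Fin 4 → K) (i : Fin 4) :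
    (linPoly c).coeff (Finsupp.single i 1) = c i := by
  classical
  unfold linPoly
  rw [coeff_sum]
  rw [Finset.sum_eq_single i]
  · simp
  · intro j _ hji
    rw [coeff_C_mul, coeff_X]
    rw [if_neg]
    · simp
    · intro h
      apply hji
      have := Finsupp.single_left_inj (one_ne_zero) |>.mp h
      exact this
  · intro h; exact absurd (Finset.mem_univ i) h

theorem linPoly_irreducible {c : Fin 4 → K} (hc : c ≠ 0) : Irreducible (linPoly c) := by
  apply irreducible_of_totalDegree_eq_one
  · exact (linPoly_isHomogeneous c).totalDegree (linPoly_ne_zero hc)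
  · intro x hx
    obtain ⟨i, hi⟩ : ∃ i, c i ≠ 0 := by
      by_contra hcon
      push Not at hcon
      exact hc (funext hcon)
    have := hx (Finsupp.single i 1)
    rw [linPoly_coeff] at this
    rw [isUnit_iff_ne_zero]
    rintro rfl
    exact hi (zero_dvd_iff.mp this)

/-- a polynomial vanishing on a hyperplane is divisible by its linear form -/
theorem mem_span_linPoly_of_vanish [IsAlgClosed K] {c : Fin 4 → K} (hc : c ≠ 0)
    (G : MvPolynomial (Fin 4) K)
    (h : ∀ x : Fin 4 → K, eval x (linPoly c) = 0 → eval x G = 0) :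
    G ∈ Ideal.span ({linPoly c} : Set (MvPolynomial (Fin 4) K)) := by
  have hprime : (Ideal.span ({linPoly c} : Set (MvPolynomial (Fin 4) K))).IsPrime :=
    Ideal.isPrime_span_singleton_of_prime (linPoly_irreducible hc).prime
  have hrad : (Ideal.span ({linPoly c} : Set (MvPolynomial (Fin 4) K))).radical =
      Ideal.span ({linPoly c} : Set (MvPolynomial (Fin 4) K)) := hprime.isRadical.radical
  rw [← hrad, ← vanishingIdeal_zeroLocus_eq_radical (K := K)]
  rw [mem_vanishingIdeal_iff]
  intro x hx
  rw [mem_zeroLocus_iff] at hx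
  have h1 := hx (linPoly c) (Ideal.subset_span (Set.mem_singleton _))
  rw [aeval_eq_eval] at h1 ⊢
  exact h x h1

end Groth.Agent.Lib.Helper1.CubicK
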