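import Groth.Agent.Lib.Helper1.CubicKPolar
import Mathlib.Algebra.MvPolynomial.Nilpotent
import Mathlib.RingTheory.MvPolynomial.EulerIdentity
import Mathlib.RingTheory.Polynomial.UniqueFactorization

set_option autoImplicit false

namespace Groth.Agent.Lib.Helper1.CubicK

open MvPolynomial

variable {K : Type*} [Field K]

/-- an irreducible cubic does not vanish on the zero set of a form of smaller positive degree -/
theorem irreducible_cubic_not_vanish [IsAlgClosed K] (F : MvPolynomial (Fin 4) K)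
    (hF : F.IsHomogeneous 3) (hirr : Irreducible F) (G : MvPolynomial (Fin 4) K) (d : ℕ)
    (hG : G.IsHomogeneous d) (hG0 : G ≠ 0) (hd0 : 0 < d) (hd : d < 3)
    (h : ∀ x : Fin 4 → K, eval x G = 0 → eval x F = 0) : False := by
  have hF0 : F ≠ 0 := hirr.ne_zero
  have hFdeg : F.totalDegree = 3 := hF.totalDegree hF0
  have hGdeg : G.totalDegree = d := hG.totalDegree hG0
  have hGunit : ¬ IsUnit G := by
    intro hu
    have := (isUnit_iff_totalDegree_of_isReduced.mp hu).2
    omega
  have hmem : F ∈ (Ideal.span ({G} : Set (MvPolynomial (Fin 4) K))).radical := by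
    rw [← vanishingIdeal_zeroLocus_eq_radical (K := K), mem_vanishingIdeal_iff]
    intro x hx
    rw [mem_zeroLocus_iff] at hx
    have h1 := hx G (Ideal.subset_span (Set.mem_singleton _))
    rw [aeval_eq_eval] at h1 ⊢
    exact h x h1
  obtain ⟨n, hn⟩ := hmem
  rw [Ideal.mem_span_singleton] at hn
  obtain ⟨π, hπ, hπG⟩ := WfDvdMonoid.exists_irreducible_factor hGunit hG0
  have hπF : π ∣ F := hπ.prime.dvd_of_dvd_pow (hπG.trans hn)
  have hassoc : F ∣ π := by
    obtain ⟨q, hq⟩ := hπF
    rcases hirr.isUnit_or_isUnit hq with hu | hu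
    · exact absurd hu hπ.not_isUnit
    · obtain ⟨u, rfl⟩ := hu
      exact ⟨↑u⁻¹, by rw [hq, mul_assoc, Units.mul_inv, mul_one]⟩
  obtain ⟨G', hG'⟩ := hassoc.trans hπG
  have hG'0 : G' ≠ 0 := by
    rintro rfl
    apply hG0
    rw [hG', mul_zero]
  have := totalDegree_mul_of_isDomain hF0 hG'0
  rw [← hG', hGdeg, hFdeg] at this
  omega

end Groth.Agent.Lib.Helper1.CubicK
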