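import Groth.Agent.Lib.Helper1.CubicKBinary
import Mathlib.LinearAlgebra.Basis.VectorSpace

set_option autoImplicit false

namespace Groth.Agent.Lib.Helper1.CubicK

open Module Submodule

variable {K : Type*} [Field K]

theorem exists_mem_not_mem_of_finrank_lt (H U : Submodule K (V K))
    (h : finrank K ↥U < finrank K ↥H) : ∃ w ∈ H, w ∉ U := by
  by_contra hcon
  push Not at hcon
  have := Submodule.finrank_mono (show H ≤ U from hcon)
  omega

/-- coordinate functionals with respect to four independent vectors -/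
theorem exists_coord (e1 e2 e3 e4 : V K)
    (hind : ∀ a b c d : K, a • e1 + b • e2 + c • e3 + d • e4 = 0 → a = 0 ∧ b = 0 ∧ c = 0 ∧ d = 0) :
    ∃ ξ η : V K →ₗ[K] K, ∀ a b c d : K, ξ (a • e1 + b • e2 + c • e3 + d • e4) = b ∧
      η (a • e1 + b • e2 + c • e3 + d • e4) = c := by
  have hli : LinearIndependent K ![e1, e2, e3, e4] := by
    rw [Fintype.linearIndependent_iff]
    intro g hg
    rw [Fin.sum_univ_four] at hg
    obtain ⟨h0, h1, h2, h3⟩ := hind _ _ _ _ hg
    intro i
    fin_cases i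
    · exact h0
    · exact h1
    · exact h2
    · exact h3
  let b := basisOfLinearIndependentOfCardEqFinrank hli (by simp)
  have hb : ∀ i, b i = ![e1, e2, e3, e4] i := fun i => by
    simp [b, coe_basisOfLinearIndependentOfCardEqFinrank]
  refine ⟨b.coord 1, b.coord 2, fun x y z t => ?_⟩
  have e : x • e1 + y • e2 + z • e3 + t • e4 = x • b 0 + y • b 1 + z • b 2 + t • b 3 := by
    rw [hb 0, hb 1, hb 2, hb 3]; rfl
  rw [e]
  simp only [map_add, map_smul, Basis.coord_apply, Basis.repr_self, smul_eq_mul]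
  constructor
  · simp
  · simp

theorem solve2 (x₁ y₁ x₂ y₂ s t : K) (hdet : x₁ * y₂ - x₂ * y₁ ≠ 0) :
    ∃ σ τ : K, s = σ * x₁ + τ * x₂ ∧ t = σ * y₁ + τ * y₂ := by
  refine ⟨(s * y₂ - t * x₂) / (x₁ * y₂ - x₂ * y₁), (x₁ * t - y₁ * s) / (x₁ * y₂ - x₂ * y₁), ?_, ?_⟩
  · rw [div_mul_eq_mul_div, div_mul_eq_mul_div, ← add_div, eq_div_iff hdet]; ring
  · rw [div_mul_eq_mul_div, div_mul_eq_mul_div, ← add_div, eq_div_iff hdet]; ring

namespace SymTri

variable [CharZero K] [IsAlgClosed K] (S : SymTri K)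

/-- the first polar of a smooth non-`T`-point cuts its tangent plane in at most two lines -/
theorem polar_tangent (a : V K) (ha : a ≠ 0) (hFa : S.F a = 0) (u₀ : V K) (hu₀ : S.T a a u₀ ≠ 0)
    (hT : ¬ ∃ l₁ l₂ l₃ : V K →ₗ[K] K, ∀ x, S.T a a x = 0 → S.F x = l₁ x * l₂ x * l₃ x)
    (H : Submodule K (V K)) (hH : ∀ x, x ∈ H ↔ S.T a a x = 0) :
    (∃ U₁ U₂ : Submodule K (V K), finrank K ↥U₁ = 2 ∧ finrank K ↥U₂ = 2 ∧ a ∈ U₁ ∧ a ∈ U₂ ∧
        U₁ ≤ H ∧ U₂ ≤ H ∧ {x : V K | x ∈ H ∧ S.T a x x = 0} = (U₁ : Set (V K)) ∪ (U₂ : Set (V K))) ∧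
      ∀ U : Submodule K (V K), a ∈ U → finrank K ↥U = 2 → (∀ u ∈ U, S.F u = 0) →
        U ≤ H ∧ ∀ u ∈ U, S.T a u u = 0 := by
  have haH : a ∈ H := (hH a).mpr hFa
  have hHker : H = LinearMap.ker (S.lin a a) := by
    ext x
    rw [hH, LinearMap.mem_ker, SymTri.lin_apply]
  have hH3 : finrank K ↥H = 3 := by
    rw [hHker]
    exact finrank_ker_of_ne_zero (S.lin a a) u₀ hu₀
  have hLne : S.lin a a ≠ 0 := fun h => hu₀ (by rw [← SymTri.lin_apply, h]; rfl)
  refine ⟨?_, ?_⟩
  swap
  · intro U haU hU2 hUF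
    obtain ⟨w, hwU, hw, hUw⟩ := exists_dir U hU2 a ha haU
    have hl := S.line_conds a w (fun s t => hUF _
      (Submodule.add_mem _ (Submodule.smul_mem _ _ haU) (Submodule.smul_mem _ _ hwU)))
    have hmem : ∀ u ∈ U, ∃ s t : K, u = s • a + t • w := by
      intro u hu
      rw [hUw] at hu
      obtain ⟨s, t, rfl⟩ := Submodule.mem_span_pair.mp hu
      exact ⟨s, t, rfl⟩
    refine ⟨fun u hu => ?_, fun u hu => ?_⟩
    · obtain ⟨s, t, rfl⟩ := hmem u hu
      rw [hH]
      simp only [S.add3, S.smul3]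
      have : S.T a a a = 0 := hFa
      rw [this, hl.2.1]
      ring
    · obtain ⟨s, t, rfl⟩ := hmem u hu
      simp only [S.add2, S.add3, S.smul2, S.smul3]
      have : S.T a a a = 0 := hFa
      rw [this, hl.2.1, S.s23 a w a, hl.2.1, hl.2.2.1]
      ring
  -- a basis of the tangent plane
  obtain ⟨w₁, hw₁H, hw₁⟩ := exists_mem_not_mem_of_finrank_lt H (span K ({a} : Set (V K)))
    (by rw [finrank_span_singleton ha, hH3]; omega)
  obtain ⟨w₂, hw₂H, hw₂⟩ := exists_mem_not_mem_of_finrank_lt H (span K ({a, w₁} : Set (V K)))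
    (by rw [finrank_span_pair ha hw₁, hH3]; omega)
  have ha1 : S.T a a w₁ = 0 := (hH w₁).mp hw₁H
  have ha2 : S.T a a w₂ = 0 := (hH w₂).mp hw₂H
  have haa : S.T a a a = 0 := hFa
  have hdec : ∀ h ∈ H, ∃ α x y : K, h = α • a + x • w₁ + y • w₂ := by
    intro h hh
    exact ker_comb (S.lin a a) hLne ha hw₁ hw₂ (by rw [SymTri.lin_apply]; exact haa)
      (by rw [SymTri.lin_apply]; exact ha1) (by rw [SymTri.lin_apply]; exact ha2) h
      (by rw [SymTri.lin_apply]; exact (hH h).mp hh)
  have hmemH : ∀ α x y : K, α • a + x • w₁ + y • w₂ ∈ H := fun α x y =>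
    Submodule.add_mem _ (Submodule.add_mem _ (Submodule.smul_mem _ _ haH)
      (Submodule.smul_mem _ _ hw₁H)) (Submodule.smul_mem _ _ hw₂H)
  have hind3 := fun x y z (h : x • a + y • w₁ + z • w₂ = 0) => indep3 ha hw₁ hw₂ h
  set A := S.T a w₁ w₁ with hA
  set B := S.T a w₁ w₂ with hB
  set C := S.T a w₂ w₂ with hC
  have hQ : ∀ α x y : K, S.T a (α • a + x • w₁ + y • w₂) (α • a + x • w₁ + y • w₂) =
      A * x ^ 2 + 2 * B * x * y + C * y ^ 2 := by
    intro α x y
    rw [S.s13, S.T_comb2, S.s23 a w₁ a, S.s23 a w₂ a, S.s13 w₁ w₁ a, S.s13 w₁ w₂ a, S.s23 a w₂ w₁,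
      S.s13 w₂ w₂ a, haa, ha1, ha2]
    ring
  have hABC : ¬ (A = 0 ∧ B = 0 ∧ C = 0) := by
    rintro ⟨hA0, hB0, hC0⟩
    apply hT
    obtain ⟨α₁, β₁, α₂, β₂, α₃, β₃, hsplit⟩ := bc_split (S.F w₁) (3 * S.T w₁ w₁ w₂)
      (3 * S.T w₁ w₂ w₂) (S.F w₂)
    have hu₀H : u₀ ∉ span K ({a, w₁, w₂} : Set (V K)) := by
      intro hm
      obtain ⟨x, y, z, rfl⟩ := Submodule.mem_span_triple.mp hm
      apply hu₀
      exact (hH _).mp (hmemH x y z)
    obtain ⟨ξ, η, hξη⟩ := exists_coord a w₁ w₂ u₀ (fun x y z t h => indep4 ha hw₁ hw₂ hu₀H h)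
    refine ⟨α₁ • ξ + β₁ • η, α₂ • ξ + β₂ • η, α₃ • ξ + β₃ • η, fun x hx => ?_⟩
    obtain ⟨α, s, t, rfl⟩ := hdec x ((hH x).mpr hx)
    have hc := hξη α s t 0
    rw [zero_smul, add_zero] at hc
    simp only [LinearMap.add_apply, LinearMap.smul_apply, smul_eq_mul, hc.1, hc.2]
    rw [← hsplit]
    unfold F
    rw [S.T_comb3, haa, ha1, ha2, ← hA, ← hB, ← hC, hA0, hB0, hC0]
    ring
  -- the two lines
  by_cases hdisc : (2 * B) ^ 2 - 4 * A * C = 0
  · obtain ⟨α, β, hsq⟩ := bq_square A (2 * B) C hdisc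
    have hαβ : ¬ (α = 0 ∧ β = 0) := by
      rintro ⟨rfl, rfl⟩
      apply hABC
      have h10 := hsq 1 0
      have h01 := hsq 0 1
      have h11 := hsq 1 1
      refine ⟨by linear_combination h10, ?_, by linear_combination h01⟩
      linear_combination (1 / 2 : K) * h11 - (1 / 2 : K) * h10 - (1 / 2 : K) * h01
    set v := β • w₁ + (-α) • w₂ with hv
    have hvH : v ∈ H := by
      have := hmemH 0 β (-α)
      rwa [zero_smul, zero_add] at this
    have hva : v ∉ span K ({a} : Set (V K)) := by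
      intro hm
      obtain ⟨k, hk⟩ := Submodule.mem_span_singleton.mp hm
      have h0 : (-k) • a + β • w₁ + (-α) • w₂ = 0 := by
        rw [add_assoc, ← hv, ← hk]; simp
      obtain ⟨-, h1, h2⟩ := hind3 _ _ _ h0
      exact hαβ ⟨neg_eq_zero.mp h2, h1⟩
    refine ⟨span K {a, v}, span K {a, v}, finrank_span_pair ha hva, finrank_span_pair ha hva,
      Submodule.subset_span (by simp), Submodule.subset_span (by simp), ?_, ?_, ?_⟩
    · rw [Submodule.span_le]
      intro x hx
      rcases hx with rfl | rfl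
      · exact haH
      · exact hvH
    · rw [Submodule.span_le]
      intro x hx
      rcases hx with rfl | rfl
      · exact haH
      · exact hvH
    · rw [Set.union_self]
      ext x
      simp only [Set.mem_ofPred_eq, SetLike.mem_coe]
      constructor
      · rintro ⟨hxH, hx0⟩
        obtain ⟨γ, s, t, rfl⟩ := hdec x hxH
        rw [hQ, hsq] at hx0
        have hlin : α * s + β * t = 0 := pow_eq_zero_iff (two_ne_zero) |>.mp hx0
        rw [Submodule.mem_span_pair]
        by_cases hβ : β = 0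
        · have hα : α ≠ 0 := fun h => hαβ ⟨h, hβ⟩
          have hs : s = 0 := by
            rw [hβ] at hlin
            simpa [hα] using hlin
          refine ⟨γ, -t / α, ?_⟩
          rw [hv, hs, hβ]
          simp only [zero_smul, zero_add, add_zero, smul_smul]
          rw [div_mul_eq_mul_div, neg_mul_neg, mul_div_cancel_right₀ _ hα]
        · refine ⟨γ, s / β, ?_⟩
          rw [hv]
          simp only [smul_add, smul_smul]
          rw [div_mul_cancel₀ _ hβ]
          have : s / β * -α = t := by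
            field_simp
            linear_combination -hlin
          rw [this]
          abel
      · intro hx
        obtain ⟨γ, σ, rfl⟩ := Submodule.mem_span_pair.mp hx
        have e : γ • a + σ • v = γ • a + (σ * β) • w₁ + (σ * -α) • w₂ := by
          rw [hv]; simp only [smul_add, smul_smul]; abel
        rw [e]
        refine ⟨hmemH _ _ _, ?_⟩
        rw [hQ, hsq]
        ring
  · obtain ⟨x₁, y₁, x₂, y₂, hdet, hr₁, hr₂⟩ := bq_roots A (2 * B) C hdisc
    set v₁ := x₁ • w₁ + y₁ • w₂ with hv₁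
    set v₂ := x₂ • w₁ + y₂ • w₂ with hv₂
    have hvH : ∀ x y : K, x • w₁ + y • w₂ ∈ H := by
      intro x y
      have := hmemH 0 x y
      rwa [zero_smul, zero_add] at this
    have hva : ∀ x y : K, (x ≠ 0 ∨ y ≠ 0) → x • w₁ + y • w₂ ∉ span K ({a} : Set (V K)) := by
      intro x y hxy hm
      obtain ⟨k, hk⟩ := Submodule.mem_span_singleton.mp hm
      have h0 : (-k) • a + x • w₁ + y • w₂ = 0 := by
        rw [add_assoc, ← hk]; simp
      obtain ⟨-, h1, h2⟩ := hind3 _ _ _ h0
      rcases hxy with h | h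
      · exact h h1
      · exact h h2
    have hne₁ : x₁ ≠ 0 ∨ y₁ ≠ 0 := by
      by_contra hcon
      push Not at hcon
      apply hdet
      rw [hcon.1, hcon.2]; ring
    have hne₂ : x₂ ≠ 0 ∨ y₂ ≠ 0 := by
      by_contra hcon
      push Not at hcon
      apply hdet
      rw [hcon.1, hcon.2]; ring
    set β₁₂ := A * x₁ * x₂ + B * (x₁ * y₂ + x₂ * y₁) + C * y₁ * y₂ with hβ₁₂
    have hform : ∀ σ τ : K, A * (σ * x₁ + τ * x₂) ^ 2 + 2 * B * (σ * x₁ + τ * x₂) * (σ * y₁ + τ * y₂)
        + C * (σ * y₁ + τ * y₂) ^ 2 = 2 * σ * τ * β₁₂ := by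
      intro σ τ
      rw [hβ₁₂]
      linear_combination σ ^ 2 * hr₁ + τ ^ 2 * hr₂
    have hβne : β₁₂ ≠ 0 := by
      intro h0
      apply hdisc
      have hall : ∀ s t : K, A * s ^ 2 + 2 * B * s * t + C * t ^ 2 = 0 := by
        intro s t
        obtain ⟨σ, τ, e1, e2⟩ := solve2 x₁ y₁ x₂ y₂ s t hdet
        have := hform σ τ
        rw [← e1, ← e2, h0, mul_zero] at this
        exact this
      have h10 := hall 1 0
      have h01 := hall 0 1
      have h11 := hall 1 1
      have hA0 : A = 0 := by linear_combination h10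
      have hC0 : C = 0 := by linear_combination h01
      have hB0 : B = 0 := by
        linear_combination (1 / 2 : K) * h11 - (1 / 2 : K) * h10 - (1 / 2 : K) * h01
      rw [hA0, hB0, hC0]; ring
    refine ⟨span K {a, v₁}, span K {a, v₂}, finrank_span_pair ha (hva _ _ hne₁),
      finrank_span_pair ha (hva _ _ hne₂), Submodule.subset_span (by simp),
      Submodule.subset_span (by simp), ?_, ?_, ?_⟩
    · rw [Submodule.span_le]
      intro x hx
      rcases hx with rfl | rfl
      · exact haH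
      · exact hvH _ _
    · rw [Submodule.span_le]
      intro x hx
      rcases hx with rfl | rfl
      · exact haH
      · exact hvH _ _
    · ext x
      simp only [Set.mem_ofPred_eq, Set.mem_union, SetLike.mem_coe]
      constructor
      · rintro ⟨hxH, hx0⟩
        obtain ⟨γ, s, t, rfl⟩ := hdec x hxH
        rw [hQ] at hx0
        obtain ⟨σ, τ, e1, e2⟩ := solve2 x₁ y₁ x₂ y₂ s t hdet
        have hprod : 2 * σ * τ * β₁₂ = 0 := by
          rw [← hform, ← e1, ← e2]; exact hx0
        have hστ : σ = 0 ∨ τ = 0 := by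
          rcases mul_eq_zero.mp hprod with h | h
          · rcases mul_eq_zero.mp h with h' | h'
            · rcases mul_eq_zero.mp h' with h'' | h''
              · exact absurd h'' two_ne_zero
              · exact Or.inl h''
            · exact Or.inr h'
          · exact absurd h hβne
        rcases hστ with h | h
        · right
          rw [Submodule.mem_span_pair]
          refine ⟨γ, τ, ?_⟩
          rw [hv₂, e1, e2, h]
          simp only [smul_add, smul_smul, zero_mul, zero_add]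
          abel
        · left
          rw [Submodule.mem_span_pair]
          refine ⟨γ, σ, ?_⟩
          rw [hv₁, e1, e2, h]
          simp only [smul_add, smul_smul, zero_mul, add_zero]
          abel
      · rintro (hx | hx)
        · obtain ⟨γ, σ, rfl⟩ := Submodule.mem_span_pair.mp hx
          have e : γ • a + σ • v₁ = γ • a + (σ * x₁) • w₁ + (σ * y₁) • w₂ := by
            rw [hv₁]; simp only [smul_add, smul_smul]; abel
          rw [e]
          refine ⟨hmemH _ _ _, ?_⟩
          rw [hQ]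
          linear_combination σ ^ 2 * hr₁
        · obtain ⟨γ, σ, rfl⟩ := Submodule.mem_span_pair.mp hx
          have e : γ • a + σ • v₂ = γ • a + (σ * x₂) • w₁ + (σ * y₂) • w₂ := by
            rw [hv₂]; simp only [smul_add, smul_smul]; abel
          rw [e]
          refine ⟨hmemH _ _ _, ?_⟩
          rw [hQ]
          linear_combination σ ^ 2 * hr₂

end SymTri

end Groth.Agent.Lib.Helper1.CubicK
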