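import Groth.Agent.Lib.Helper1.CubicKNull

set_option autoImplicit false

namespace Groth.Agent.Lib.Helper1.CubicK

open Module Submodule Polynomial

variable {K : Type*} [Field K]

namespace SymTri

/-- a singular point of the cubic -/
structure SingPt (S : SymTri K) (p : V K) : Prop where
  hp : p ≠ 0
  sing : ∀ v, S.T p p v = 0

variable {S : SymTri K} {p u0 u1 u2 : V K} {c : K}

theorem SingPt.Fp (hN : S.SingPt p) : S.F p = 0 := hN.sing p

theorem SingPt.sing2 (hN : S.SingPt p) (v : V K) : S.T p v p = 0 := by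
  rw [S.s23]; exact hN.sing v

theorem SingPt.F_line [CharZero K] (hN : S.SingPt p) (u : V K) (s t : K) :
    S.F (s • p + t • u) = 3 * s * t ^ 2 * S.T p u u + t ^ 3 * S.F u := by
  rw [S.F_comb, hN.Fp, hN.sing u]
  ring

theorem SingPt.line_iff [CharZero K] (hN : S.SingPt p) (u : V K) :
    (∀ s t : K, S.F (s • p + t • u) = 0) ↔ S.T p u u = 0 ∧ S.F u = 0 := by
  constructor
  · intro h
    have := S.line_conds p u h
    exact ⟨this.2.2.1, this.2.2.2⟩
  · rintro ⟨h1, h2⟩ s t
    rw [hN.F_line, h1, h2]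
    ring

theorem SingPt.q_add (hN : S.SingPt p) (a : K) (w : V K) :
    S.T p (a • p + w) (a • p + w) = S.T p w w := by
  simp only [S.add2, S.add3, S.smul2, S.smul3, hN.sing, hN.sing2, mul_zero, zero_add]

theorem SingPt.exists_frame [CharZero K] [IsAlgClosed K] (hN : S.SingPt p)
    (hnd : ∀ x, (∀ v, S.T p x v = 0) → x ∈ span K ({p} : Set (V K))) :
    ∃ (u0 u1 u2 : V K) (c : K), S.Frame p u0 u1 u2 c := by
  have hp := hN.hp
  obtain ⟨w0, hw0⟩ := exists_not_mem_of_finrank_lt (span K ({p} : Set (V K)))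
    (by rw [finrank_span_singleton hp]; omega)
  obtain ⟨w1, hw1⟩ := exists_not_mem_of_finrank_lt (span K ({p, w0} : Set (V K)))
    (by rw [finrank_span_pair hp hw0]; omega)
  obtain ⟨s, t, hst, hiso⟩ := exists_isotropic (S.T p w0 w0) (S.T p w0 w1) (S.T p w1 w1)
  set u0 := s • w0 + t • w1 with hu0
  have hq0 : S.T p u0 u0 = 0 := by
    rw [hu0]
    simp only [S.add2, S.add3, S.smul2, S.smul3]
    rw [S.s23 p w1 w0]
    linear_combination hiso
  have hu0p : u0 ∉ span K ({p} : Set (V K)) := by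
    intro hm
    obtain ⟨a, ha⟩ := Submodule.mem_span_singleton.mp hm
    have h0 : (-a) • p + s • w0 + t • w1 = 0 := by
      rw [add_assoc, ← hu0, ← ha]; simp
    obtain ⟨-, h1, h2⟩ := indep3 hp hw0 hw1 h0
    rcases hst with h | h
    · exact h h1
    · exact h h2
  have hex : ∃ v, S.T p u0 v ≠ 0 := by
    by_contra hcon
    push Not at hcon
    exact hu0p (hnd u0 hcon)
  obtain ⟨v, hv⟩ := hex
  set β := S.T p u0 v with hβ
  set u2' := v - (S.T p v v / (2 * β)) • u0 with hu2'
  have hq2' : S.T p u2' u2' = 0 := by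
    rw [hu2']
    simp only [S.sub2, S.sub3, S.smul2, S.smul3]
    rw [S.s23 p v u0, ← hβ, hq0]
    field_simp
    ring
  have hb02' : S.T p u0 u2' = β := by
    rw [hu2']
    simp only [S.sub3, S.smul3]
    rw [hq0, ← hβ]
    ring
  have hu2'p : u2' ∉ span K ({p, u0} : Set (V K)) := by
    intro hm
    obtain ⟨a, b, hab⟩ := Submodule.mem_span_pair.mp hm
    apply hv
    rw [← hb02', ← hab]
    simp only [S.add3, S.smul3, hN.sing2, hq0]
    ring
  have hind3 := fun x y z (h : x • p + y • u0 + z • u2' = 0) => indep3 hp hu0p hu2'p h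
  obtain ⟨w, hw⟩ := exists_not_mem_of_finrank_lt (span K ({p, u0, u2'} : Set (V K)))
    (by rw [finrank_span3 p u0 u2' hind3]; omega)
  set u1 := w - (S.T p w u2' / β) • u0 - (S.T p w u0 / β) • u2' with hu1
  have hb01 : S.T p u0 u1 = 0 := by
    rw [hu1]
    simp only [S.sub3, S.smul3]
    rw [hq0, hb02', S.s23 p w u0]
    field_simp
    ring
  have hb12 : S.T p u1 u2' = 0 := by
    rw [hu1]
    simp only [S.sub2, S.smul2]
    rw [hq2', hb02']
    field_simp
    ring
  have hu1p : u1 ∉ span K ({p, u0, u2'} : Set (V K)) := by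
    intro hm
    apply hw
    have : w = u1 + ((S.T p w u2' / β) • u0 + (S.T p w u0 / β) • u2') := by rw [hu1]; abel
    rw [this]
    refine Submodule.add_mem _ hm (Submodule.add_mem _ (Submodule.smul_mem _ _ ?_)
      (Submodule.smul_mem _ _ ?_)) <;> apply Submodule.subset_span <;> simp
  have hind4 : ∀ a x y z : K, a • p + x • u0 + y • u2' + z • u1 = 0 →
      a = 0 ∧ x = 0 ∧ y = 0 ∧ z = 0 := fun a x y z h => indep4 hp hu0p hu2'p hu1p h
  have hd : S.T p u1 u1 ≠ 0 := by
    intro h0
    apply hu1p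
    have hmem : u1 ∈ span K ({p} : Set (V K)) := by
      apply hnd
      intro y
      obtain ⟨a, b, c, d, rfl⟩ := span4 hind4 y
      simp only [S.add3, S.smul3, hN.sing2, h0, hb12]
      rw [S.s23 p u1 u0, hb01]
      ring
    obtain ⟨a, ha⟩ := Submodule.mem_span_singleton.mp hmem
    rw [← ha]
    exact Submodule.smul_mem _ _ (Submodule.subset_span (by simp))
  set d := S.T p u1 u1 with hd'
  set κ := -d / (2 * β) with hκ
  have hκ0 : κ ≠ 0 := by
    rw [hκ]
    exact div_ne_zero (neg_ne_zero.mpr hd) (mul_ne_zero two_ne_zero hv)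
  refine ⟨u0, u1, κ • u2', -d, neg_ne_zero.mpr hd, ?_, hq0, ?_, hb01, ?_, ?_, ?_⟩
  · intro a x y z h
    have h' : a • p + x • u0 + (z * κ) • u2' + y • u1 = 0 := by
      rw [← h, smul_smul]; abel
    obtain ⟨h1, h2, h3, h4⟩ := hind4 _ _ _ _ h'
    exact ⟨h1, h2, h4, (mul_eq_zero.mp h3).resolve_right hκ0⟩
  · simp only [S.smul2, S.smul3, hq2']; ring
  · simp only [S.smul3, hb12]; ring
  · rw [neg_neg]
  · simp only [S.smul3, hb02']
    rw [hκ]
    field_simp


/-- every line through the node is a `nodeLine` -/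
theorem Frame.exists_root_of_line' [CharZero K] (hN : S.SingPt p) (hFr : S.Frame p u0 u1 u2 c) (hF2 : S.F u2 ≠ 0)
    (U : Submodule K (V K)) (hpU : p ∈ U) (hU2 : finrank K ↥U = 2) (hUF : ∀ u ∈ U, S.F u = 0) :
    ∃ t, (S.sextic u0 u1 u2).IsRoot t ∧ U = nodeLine p u0 u1 u2 t := by
  obtain ⟨w, hwU, hwp, hUw⟩ := exists_dir U hU2 p hN.hp hpU
  obtain ⟨a, x, y, z, hw⟩ := span4 hFr.hind w
  have hline := (hN.line_iff w).mp (fun s t => hUF _
    (Submodule.add_mem _ (Submodule.smul_mem _ _ hpU) (Submodule.smul_mem _ _ hwU)))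
  have hq : c * (x * z - y ^ 2) = 0 := by
    rw [← hFr.q_coord, ← hN.q_add a, ← add_assoc, ← add_assoc, ← hw]
    exact hline.1
  have hxz : x * z = y ^ 2 := by
    have := (mul_eq_zero.mp hq).resolve_left hFr.hc
    linear_combination this
  have hw'U : x • u0 + y • u1 + z • u2 ∈ U := by
    have : x • u0 + y • u1 + z • u2 = w - a • p := by rw [hw]; abel
    rw [this]
    exact Submodule.sub_mem _ hwU (Submodule.smul_mem _ _ hpU)
  have hx : x ≠ 0 := by
    rintro rfl
    have hy : y = 0 := by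
      have : y ^ 2 = 0 := by rw [← hxz]; ring
      exact pow_eq_zero_iff (by norm_num) |>.mp this
    subst hy
    have hFz : S.F (z • u2) = 0 := by
      have := hUF _ hw'U
      rwa [zero_smul, zero_smul, zero_add, zero_add] at this
    rw [S.F_smul] at hFz
    have hz : z = 0 := by
      rcases mul_eq_zero.mp hFz with h | h
      · exact pow_eq_zero_iff (by norm_num) |>.mp h
      · exact absurd h hF2
    apply hwp
    rw [hw, hz]
    simp only [zero_smul, add_zero]
    exact Submodule.smul_mem _ _ (Submodule.mem_span_singleton_self p)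
  have hpt : x • u0 + y • u1 + z • u2 = x • (u0 + (y / x) • u1 + (y / x) ^ 2 • u2) := by
    have hz : z = x * (y / x) ^ 2 := by
      field_simp
      linear_combination hxz
    rw [smul_add, smul_add, smul_smul, smul_smul, mul_div_cancel₀ _ hx, ← hz]
  have hptU : u0 + (y / x) • u1 + (y / x) ^ 2 • u2 ∈ U := by
    have : u0 + (y / x) • u1 + (y / x) ^ 2 • u2 = x⁻¹ • (x • u0 + y • u1 + z • u2) := by
      rw [hpt, smul_smul, inv_mul_cancel₀ hx, one_smul]
    rw [this]
    exact Submodule.smul_mem _ _ hw'U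
  refine ⟨y / x, ?_, ?_⟩
  · show (S.sextic u0 u1 u2).eval (y / x) = 0
    rw [sextic_eval]
    exact hUF _ hptU
  · symm
    apply Submodule.eq_of_le_of_finrank_eq
    · unfold nodeLine
      rw [Submodule.span_le]
      intro v hv
      rcases hv with rfl | rfl
      · exact hpU
      · exact hptU
    · rw [show finrank K ↥(nodeLine p u0 u1 u2 (y / x)) = 2 from
        finrank_span_pair hN.hp (hFr.pt_not_mem (y / x)), hU2]


end SymTri

end Groth.Agent.Lib.Helper1.CubicK
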