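import Groth.Agent.Lib.Helper1.CubicKSingSix

set_option autoImplicit false

namespace Groth.Agent.Lib.Helper1.CubicK

open Module Submodule Polynomial

variable {K : Type*} [Field K]

/-- a set without four distinct elements has at most three elements -/
theorem encard_le_three {α : Type*} (s : Set α)
    (h : ∀ U : Fin 4 → α, Function.Injective U → (∀ i, U i ∈ s) → False) : s.encard ≤ 3 := by
  have hfin : s.Finite := by
    by_contra hinf
    obtain ⟨t, hts, htc⟩ := (Set.not_finite.mp hinf).exists_subset_card_eq 4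
    let e := (Finset.equivFinOfCardEq htc).symm
    exact h (fun i => (e i : α)) (fun i j hij => e.injective (Subtype.ext hij))
      (fun i => hts (e i).2)
  rw [← hfin.cast_ncard_eq]
  have : s.ncard ≤ 3 := by
    by_contra hgt
    have h4 : 4 ≤ hfin.toFinset.card := by
      rw [← Set.ncard_eq_toFinset_card s hfin]; omega
    obtain ⟨t, hts, htc⟩ := Finset.exists_subset_card_eq h4
    let e := (Finset.equivFinOfCardEq htc).symm
    exact h (fun i => (e i : α)) (fun i j hij => e.injective (Subtype.ext hij))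
      (fun i => (Set.Finite.mem_toFinset hfin).mp (hts (e i).2))
  exact_mod_cast this

namespace SymTri

variable [CharZero K] [IsAlgClosed K] {S : SymTri K} {p : V K}

/-- at most three lines through the singular point in a plane on which the tangent cone vanishes -/
theorem SingPt.le_three_in_plane (hN : S.SingPt p) (l : V K →ₗ[K] K) (w₀ : V K) (hl : l w₀ ≠ 0)
    (hlp : l p = 0) (hlq : ∀ x, l x = 0 → S.T p x x = 0) (hplane : ¬ ∀ x, l x = 0 → S.F x = 0) :
    {U : Submodule K (V K) | (p ∈ U ∧ finrank K ↥U = 2 ∧ ∀ u ∈ U, S.F u = 0) ∧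
      ∀ u ∈ U, l u = 0}.encard ≤ 3 := by
  have hp := hN.hp
  have hlne : l ≠ 0 := fun h => hl (by rw [h]; rfl)
  have hk3 : finrank K ↥(LinearMap.ker l) = 3 := finrank_ker_of_ne_zero l w₀ hl
  obtain ⟨z₁, hz₁k, hz₁⟩ := exists_mem_not_mem_of_finrank_lt (LinearMap.ker l)
    (span K ({p} : Set (V K))) (by rw [finrank_span_singleton hp, hk3]; omega)
  obtain ⟨z₂, hz₂k, hz₂⟩ := exists_mem_not_mem_of_finrank_lt (LinearMap.ker l)
    (span K ({p, z₁} : Set (V K))) (by rw [finrank_span_pair hp hz₁, hk3]; omega)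
  have hlz₁ : l z₁ = 0 := hz₁k
  have hlz₂ : l z₂ = 0 := hz₂k
  have hdec : ∀ h, l h = 0 → ∃ α x y : K, h = α • p + x • z₁ + y • z₂ :=
    fun h hh => ker_comb l hlne hp hz₁ hz₂ hlp hlz₁ hlz₂ h hh
  have hind3 := fun x y z (h : x • p + y • z₁ + z • z₂ = 0) => indep3 hp hz₁ hz₂ h
  have hFform : ∀ α x y : K, S.F (α • p + x • z₁ + y • z₂) =
      S.F z₁ * x ^ 3 + 3 * S.T z₁ z₁ z₂ * x ^ 2 * y + 3 * S.T z₁ z₂ z₂ * x * y ^ 2 +
        S.F z₂ * y ^ 3 := by
    intro α x y
    have e : α • p + x • z₁ + y • z₂ = α • p + (1 : K) • (x • z₁ + y • z₂) := by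
      rw [one_smul, add_assoc]
    have hq : S.T p (x • z₁ + y • z₂) (x • z₁ + y • z₂) = 0 := by
      apply hlq
      rw [map_add, map_smul, map_smul, hlz₁, hlz₂]
      simp
    rw [e, hN.F_line, hq, S.F_comb]
    ring
  obtain ⟨α₁, β₁, α₂, β₂, α₃, β₃, hsplit⟩ := bc_split (S.F z₁) (3 * S.T z₁ z₁ z₂)
    (3 * S.T z₁ z₂ z₂) (S.F z₂)
  set αs : Fin 3 → K := ![α₁, α₂, α₃] with hαs
  set βs : Fin 3 → K := ![β₁, β₂, β₃] with hβs
  have hFprod : ∀ α x y : K, S.F (α • p + x • z₁ + y • z₂) =
      (αs 0 * x + βs 0 * y) * (αs 1 * x + βs 1 * y) * (αs 2 * x + βs 2 * y) := by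
    intro α x y
    rw [hFform, hsplit]
    simp [hαs, hβs]
  have hfac : ∀ j : Fin 3, αs j ≠ 0 ∨ βs j ≠ 0 := by
    intro j
    by_contra hcon
    push Not at hcon
    apply hplane
    intro x hx
    obtain ⟨α, s, t, rfl⟩ := hdec x hx
    rw [hFprod]
    fin_cases j
    · simp only [Fin.zero_eta] at hcon
      rw [hcon.1, hcon.2]; ring
    · simp only [Fin.mk_one] at hcon
      rw [hcon.1, hcon.2]; ring
    · simp only [Fin.reduceFinMk] at hcon
      rw [hcon.1, hcon.2]; ring
  apply encard_le_three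
  intro U hUinj hU
  -- direction vectors
  have hdir : ∀ k, ∃ x y : K, (x ≠ 0 ∨ y ≠ 0) ∧ x • z₁ + y • z₂ ∈ U k ∧
      S.F (x • z₁ + y • z₂) = 0 := by
    intro k
    obtain ⟨⟨hpU, hU2, hUF⟩, hUl⟩ := hU k
    obtain ⟨w, hwU, hw, -⟩ := exists_dir (U k) hU2 p hp hpU
    obtain ⟨α, x, y, rfl⟩ := hdec w (hUl w hwU)
    have hmem : x • z₁ + y • z₂ ∈ U k := by
      have : x • z₁ + y • z₂ = (α • p + x • z₁ + y • z₂) - α • p := by abel
      rw [this]
      exact Submodule.sub_mem _ hwU (Submodule.smul_mem _ _ hpU)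
    refine ⟨x, y, ?_, hmem, hUF _ hmem⟩
    by_contra hcon
    push Not at hcon
    apply hw
    rw [hcon.1, hcon.2]
    simp only [zero_smul, add_zero]
    exact Submodule.smul_mem _ _ (Submodule.mem_span_singleton_self p)
  choose xs ys hxy hmemU hFxy using hdir
  have hfactor : ∀ k, ∃ j : Fin 3, αs j * xs k + βs j * ys k = 0 := by
    intro k
    have := hFxy k
    have e : xs k • z₁ + ys k • z₂ = (0 : K) • p + xs k • z₁ + ys k • z₂ := by
      rw [zero_smul, zero_add]
    rw [e, hFprod] at this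
    rcases mul_eq_zero.mp this with h | h
    · rcases mul_eq_zero.mp h with h' | h'
      · exact ⟨0, h'⟩
      · exact ⟨1, h'⟩
    · exact ⟨2, h⟩
  choose js hjs using hfactor
  obtain ⟨k, k', hkk', hj⟩ := Fintype.exists_ne_map_eq_of_card_lt js (by simp)
  apply hkk'
  apply hUinj
  -- the two direction vectors are proportional
  have hdet : xs k * ys k' - xs k' * ys k = 0 := by
    have e1 := hjs k
    have e2 := hjs k'
    rw [← hj] at e2
    rcases hfac (js k) with h | h
    · have : αs (js k) * (xs k * ys k' - xs k' * ys k) = 0 := by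
        linear_combination ys k' * e1 - ys k * e2
      exact (mul_eq_zero.mp this).resolve_left h
    · have : βs (js k) * (xs k * ys k' - xs k' * ys k) = 0 := by
        linear_combination xs k * e2 - xs k' * e1
      exact (mul_eq_zero.mp this).resolve_left h
  obtain ⟨⟨hpU, hU2, -⟩, -⟩ := hU k
  obtain ⟨⟨hpU', hU2', -⟩, -⟩ := hU k'
  have hnotp : ∀ x y : K, (x ≠ 0 ∨ y ≠ 0) → x • z₁ + y • z₂ ∉ span K ({p} : Set (V K)) := by
    intro x y hxy' hm
    obtain ⟨c, hc⟩ := Submodule.mem_span_singleton.mp hm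
    have h0 : (-c) • p + x • z₁ + y • z₂ = 0 := by
      rw [add_assoc, ← hc]; simp
    obtain ⟨-, h1, h2⟩ := hind3 _ _ _ h0
    rcases hxy' with h | h
    · exact h h1
    · exact h h2
  -- U k = span {p, v_k}
  have hUk : U k = span K {p, xs k • z₁ + ys k • z₂} := by
    symm
    apply Submodule.eq_of_le_of_finrank_eq
    · rw [Submodule.span_le]
      intro v hv
      rcases hv with rfl | rfl
      · exact hpU
      · exact hmemU k
    · rw [finrank_span_pair hp (hnotp _ _ (hxy k)), hU2]
  have hmem' : xs k' • z₁ + ys k' • z₂ ∈ U k := by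
    rw [hUk, Submodule.mem_span_pair]
    rcases hxy k with h | h
    · refine ⟨0, xs k' / xs k, ?_⟩
      rw [zero_smul, zero_add, smul_add, smul_smul, smul_smul, div_mul_cancel₀ _ h]
      have : xs k' / xs k * ys k = ys k' := by
        field_simp
        linear_combination -hdet
      rw [this]
    · refine ⟨0, ys k' / ys k, ?_⟩
      rw [zero_smul, zero_add, smul_add, smul_smul, smul_smul, div_mul_cancel₀ _ h]
      have : ys k' / ys k * xs k = xs k' := by
        field_simp
        linear_combination hdet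
      rw [this]
  symm
  have hUk' : span K {p, xs k' • z₁ + ys k' • z₂} = U k' := by
    apply Submodule.eq_of_le_of_finrank_eq
    · rw [Submodule.span_le]
      intro v hv
      rcases hv with rfl | rfl
      · exact hpU'
      · exact hmemU k'
    · rw [finrank_span_pair hp (hnotp _ _ (hxy k')), hU2']
  rw [← hUk']
  apply Submodule.eq_of_le_of_finrank_eq
  · rw [Submodule.span_le]
    intro v hv
    rcases hv with rfl | rfl
    · exact hpU
    · exact hmem'
  · rw [finrank_span_pair hp (hnotp _ _ (hxy k')), hU2]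

end SymTri

end Groth.Agent.Lib.Helper1.CubicK
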