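import Groth.Agent.Lib.Helper1.CubicKSingRad

set_option autoImplicit false

namespace Groth.Agent.Lib.Helper1.CubicK

open Module Submodule Polynomial

variable {K : Type*} [Field K]

namespace SymTri

variable [CharZero K] [IsAlgClosed K] {S : SymTri K} {p : V K}

/-- at most six lines through a singular point with degenerate tangent cone -/
theorem SingPt.le_six_of_rad (hN : S.SingPt p) (r : V K) (hr : r ∉ span K ({p} : Set (V K)))
    (hrad : ∀ v, S.T p r v = 0) (hcone : ¬ ∀ x, S.T p x x = 0)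
    (hplane : ∀ l : V K →ₗ[K] K, l ≠ 0 → ¬ ∀ x, l x = 0 → S.F x = 0) :
    {U : Submodule K (V K) | p ∈ U ∧ finrank K ↥U = 2 ∧ ∀ u ∈ U, S.F u = 0}.encard ≤ 6 := by
  have hp := hN.hp
  have hrad2 : ∀ v, S.T p v r = 0 := fun v => by rw [S.s23]; exact hrad v
  obtain ⟨w₁, hw₁⟩ := exists_not_mem_of_finrank_lt (span K ({p, r} : Set (V K)))
    (by rw [finrank_span_pair hp hr]; omega)
  have hind3 := fun x y z (h : x • p + y • r + z • w₁ = 0) => indep3 hp hr hw₁ h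
  obtain ⟨w₂, hw₂⟩ := exists_not_mem_of_finrank_lt (span K ({p, r, w₁} : Set (V K)))
    (by rw [finrank_span3 p r w₁ hind3]; omega)
  have hind4 : ∀ a b c d : K, a • p + b • w₁ + c • w₂ + d • r = 0 →
      a = 0 ∧ b = 0 ∧ c = 0 ∧ d = 0 := by
    intro a b c d h
    have h' : a • p + d • r + b • w₁ + c • w₂ = 0 := by rw [← h]; abel
    obtain ⟨h1, h2, h3, h4⟩ := indep4 hp hr hw₁ hw₂ h'
    exact ⟨h1, h3, h4, h2⟩
  obtain ⟨ξ, η, hξη⟩ := exists_coord p w₁ w₂ r hind4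
  have hsp := span4 hind4
  set A := S.T p w₁ w₁ with hA
  set B := S.T p w₁ w₂ with hB
  set C := S.T p w₂ w₂ with hC
  have hq : ∀ α x y ρ : K, S.T p (α • p + x • w₁ + y • w₂ + ρ • r) (α • p + x • w₁ + y • w₂ + ρ • r)
      = A * x ^ 2 + 2 * B * x * y + C * y ^ 2 := by
    intro α x y ρ
    simp only [S.add2, S.add3, S.smul2, S.smul3, hN.sing, hN.sing2, hrad, hrad2, mul_zero, add_zero,
      zero_add]
    rw [S.s23 p w₂ w₁]
    ring
  obtain ⟨α₁, β₁, α₂, β₂, hsplit⟩ := bq_split A (2 * B) C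
  set l₁ : V K →ₗ[K] K := α₁ • ξ + β₁ • η with hl₁
  set l₂ : V K →ₗ[K] K := α₂ • ξ + β₂ • η with hl₂
  have hl₁v : ∀ α x y ρ : K, l₁ (α • p + x • w₁ + y • w₂ + ρ • r) = α₁ * x + β₁ * y := by
    intro α x y ρ
    simp only [hl₁, LinearMap.add_apply, LinearMap.smul_apply, smul_eq_mul, (hξη α x y ρ).1,
      (hξη α x y ρ).2]
  have hl₂v : ∀ α x y ρ : K, l₂ (α • p + x • w₁ + y • w₂ + ρ • r) = α₂ * x + β₂ * y := by
    intro α x y ρ
    simp only [hl₂, LinearMap.add_apply, LinearMap.smul_apply, smul_eq_mul, (hξη α x y ρ).1,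
      (hξη α x y ρ).2]
  have hql : ∀ v, S.T p v v = l₁ v * l₂ v := by
    intro v
    obtain ⟨α, x, y, ρ, rfl⟩ := hsp v
    rw [hq, hl₁v, hl₂v, ← hsplit]
  have hl₁0 : l₁ ≠ 0 := by
    intro h0
    apply hcone
    intro x
    rw [hql, h0]
    simp
  have hl₂0 : l₂ ≠ 0 := by
    intro h0
    apply hcone
    intro x
    rw [hql, h0]
    simp
  have hexw : ∀ l : V K →ₗ[K] K, l ≠ 0 → ∃ w₀, l w₀ ≠ 0 := by
    intro l hl
    by_contra hcon
    push Not at hcon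
    exact hl (LinearMap.ext hcon)
  obtain ⟨v₁, hv₁⟩ := hexw l₁ hl₁0
  obtain ⟨v₂, hv₂⟩ := hexw l₂ hl₂0
  have hpe : p = (1 : K) • p + (0 : K) • w₁ + (0 : K) • w₂ + (0 : K) • r := by simp
  have hl₁p : l₁ p = 0 := by
    rw [hpe, hl₁v]; ring
  have hl₂p : l₂ p = 0 := by
    rw [hpe, hl₂v]; ring
  have h1 := hN.le_three_in_plane l₁ v₁ hv₁ hl₁p
    (fun x hx => by rw [hql, hx, zero_mul]) (hplane l₁ hl₁0)
  have h2 := hN.le_three_in_plane l₂ v₂ hv₂ hl₂p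
    (fun x hx => by rw [hql, hx, mul_zero]) (hplane l₂ hl₂0)
  have hsub : {U : Submodule K (V K) | p ∈ U ∧ finrank K ↥U = 2 ∧ ∀ u ∈ U, S.F u = 0} ⊆
      {U : Submodule K (V K) | (p ∈ U ∧ finrank K ↥U = 2 ∧ ∀ u ∈ U, S.F u = 0) ∧
        ∀ u ∈ U, l₁ u = 0} ∪
      {U : Submodule K (V K) | (p ∈ U ∧ finrank K ↥U = 2 ∧ ∀ u ∈ U, S.F u = 0) ∧
        ∀ u ∈ U, l₂ u = 0} := by
    rintro U ⟨hpU, hU2, hUF⟩
    obtain ⟨w, hwU, hw, hUw⟩ := exists_dir U hU2 p hp hpU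
    have hline := (hN.line_iff w).mp (fun s t => hUF _
      (Submodule.add_mem _ (Submodule.smul_mem _ _ hpU) (Submodule.smul_mem _ _ hwU)))
    have hprod : l₁ w * l₂ w = 0 := by rw [← hql]; exact hline.1
    rcases mul_eq_zero.mp hprod with h | h
    · left
      refine ⟨⟨hpU, hU2, hUF⟩, fun u hu => ?_⟩
      rw [hUw] at hu
      obtain ⟨s, t, rfl⟩ := Submodule.mem_span_pair.mp hu
      rw [map_add, map_smul, map_smul, hl₁p, h]
      simp
    · right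
      refine ⟨⟨hpU, hU2, hUF⟩, fun u hu => ?_⟩
      rw [hUw] at hu
      obtain ⟨s, t, rfl⟩ := Submodule.mem_span_pair.mp hu
      rw [map_add, map_smul, map_smul, hl₂p, h]
      simp
  calc {U : Submodule K (V K) | p ∈ U ∧ finrank K ↥U = 2 ∧ ∀ u ∈ U, S.F u = 0}.encard
      ≤ _ := Set.encard_le_encard hsub
    _ ≤ _ := Set.encard_union_le _ _
    _ ≤ 3 + 3 := add_le_add h1 h2
    _ = 6 := by norm_num

end SymTri

end Groth.Agent.Lib.Helper1.CubicK
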