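import Groth.Agent.Lib.Helper1.CubicKSingPt

set_option autoImplicit false

namespace Groth.Agent.Lib.Helper1.CubicK

open Module Submodule Polynomial

variable {K : Type*} [Field K]

namespace SymTri

variable [CharZero K] {S : SymTri K} {p u0 u1 u2 : V K} {c : K}

theorem Frame.shift (hFr : S.Frame p u0 u1 u2 c) (a : K) :
    S.Frame p u0 ((2 * a) • u0 + u1) (a ^ 2 • u0 + a • u1 + u2) c := by
  refine ⟨hFr.hc, ?_, hFr.q00, ?_, ?_, ?_, ?_, ?_⟩
  · intro α x y z h
    have h' : α • p + (x + 2 * a * y + a ^ 2 * z) • u0 + (y + a * z) • u1 + z • u2 = 0 := by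
      rw [← h]
      simp only [smul_add, smul_smul, add_smul]; ring_nf
    obtain ⟨h1, h2, h3, h4⟩ := hFr.hind _ _ _ _ h'
    rw [h4] at h3 h2
    have hy : y = 0 := by linear_combination h3
    rw [hy] at h2
    exact ⟨h1, by linear_combination h2, hy, h4⟩
  · have := hFr.q_coord (a ^ 2) a 1
    rw [one_smul] at this
    rw [this]; ring
  · have := hFr.B_coord 1 0 0 (2 * a) 1 0
    simp only [one_smul, zero_smul, add_zero] at this
    rw [this]; ring
  · have := hFr.B_coord (2 * a) 1 0 (a ^ 2) a 1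
    simp only [one_smul, zero_smul, add_zero] at this
    rw [this]; ring
  · have := hFr.q_coord (2 * a) 1 0
    simp only [one_smul, zero_smul, add_zero] at this
    rw [this]; ring
  · have := hFr.B_coord 1 0 0 (a ^ 2) a 1
    simp only [one_smul, zero_smul, add_zero] at this
    rw [this]; ring

/-- if the sextic vanishes identically the cubic contains the cone over the conic -/
theorem Frame.vanish_of_sextic_eq_zero (hN : S.SingPt p) (hFr : S.Frame p u0 u1 u2 c)
    (h0 : S.sextic u0 u1 u2 = 0) : ∀ x, S.T p x x = 0 → S.F x = 0 := by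
  have hφ : ∀ t : K, S.F (u0 + t • u1 + t ^ 2 • u2) = 0 := by
    intro t
    rw [← sextic_eval, h0, eval_zero]
  have h2 : S.F u2 = 0 := by
    rw [← sextic_coeff S u0 u1 u2, h0, coeff_zero]
  intro x hx
  obtain ⟨α, x₀, y, z, rfl⟩ := span4 hFr.hind x
  have e : α • p + x₀ • u0 + y • u1 + z • u2 = α • p + (x₀ • u0 + y • u1 + z • u2) := by abel
  rw [e] at hx ⊢
  rw [hN.q_add] at hx
  have hF1 := hN.F_line (x₀ • u0 + y • u1 + z • u2) α 1
  rw [one_smul] at hF1
  rw [hF1, hx]
  have hxz : x₀ * z = y ^ 2 := by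
    rw [hFr.q_coord] at hx
    have := (mul_eq_zero.mp hx).resolve_left hFr.hc
    linear_combination this
  have hFw : S.F (x₀ • u0 + y • u1 + z • u2) = 0 := by
    by_cases hx0 : x₀ = 0
    · subst hx0
      have hy : y = 0 := by
        have : y ^ 2 = 0 := by rw [← hxz]; ring
        exact pow_eq_zero_iff (by norm_num) |>.mp this
      subst hy
      rw [zero_smul, zero_smul, zero_add, zero_add, S.F_smul, h2, mul_zero]
    · have hpt : x₀ • u0 + y • u1 + z • u2 = x₀ • (u0 + (y / x₀) • u1 + (y / x₀) ^ 2 • u2) := by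
        have hz : z = x₀ * (y / x₀) ^ 2 := by
          field_simp
          linear_combination hxz
        rw [smul_add, smul_add, smul_smul, smul_smul, mul_div_cancel₀ _ hx0, ← hz]
      rw [hpt, S.F_smul, hφ, mul_zero]
  rw [hFw]
  ring

/-- at most six lines through a singular point with nondegenerate tangent cone -/
theorem SingPt.le_six_of_nd [IsAlgClosed K] (hN : S.SingPt p)
    (hnd : ∀ x, (∀ v, S.T p x v = 0) → x ∈ span K ({p} : Set (V K)))
    (hZ : ¬ ∀ x, S.T p x x = 0 → S.F x = 0) :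
    {U : Submodule K (V K) | p ∈ U ∧ finrank K ↥U = 2 ∧ ∀ u ∈ U, S.F u = 0}.encard ≤ 6 := by
  classical
  obtain ⟨u0, u1, u2, c, hFr0⟩ := hN.exists_frame hnd
  -- rebase
  have hne0 : S.sextic u2 u1 u0 ≠ 0 := fun h0 => hZ (hFr0.swap.vanish_of_sextic_eq_zero hN h0)
  haveI : Infinite K := Infinite.of_injective (Nat.cast : ℕ → K) Nat.cast_injective
  have hex : ∃ a, (S.sextic u2 u1 u0).eval a ≠ 0 := by
    by_contra hcon
    push Not at hcon
    apply hne0
    apply Polynomial.funext
    intro t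
    rw [hcon, eval_zero]
  obtain ⟨a, ha⟩ := hex
  rw [sextic_eval] at ha
  have hFr := hFr0.shift a
  have hF2 : S.F (a ^ 2 • u0 + a • u1 + u2) ≠ 0 := by
    intro h0
    apply ha
    rw [← h0]
    congr 1
    abel
  set v1 := (2 * a) • u0 + u1
  set v2 := a ^ 2 • u0 + a • u1 + u2
  set g := S.sextic u0 v1 v2 with hg
  have hg0 : g ≠ 0 := fun h0 => hZ (hFr.vanish_of_sextic_eq_zero hN h0)
  have hsub : {U : Submodule K (V K) | p ∈ U ∧ finrank K ↥U = 2 ∧ ∀ u ∈ U, S.F u = 0} ⊆
      nodeLine p u0 v1 v2 '' ↑g.roots.toFinset := by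
    rintro U ⟨h1, h2, h3⟩
    obtain ⟨t, ht, rfl⟩ := hFr.exists_root_of_line' hN hF2 U h1 h2 h3
    refine ⟨t, ?_, rfl⟩
    rw [Finset.mem_coe, Multiset.mem_toFinset, Polynomial.mem_roots hg0]
    exact ht
  calc {U : Submodule K (V K) | p ∈ U ∧ finrank K ↥U = 2 ∧ ∀ u ∈ U, S.F u = 0}.encard
      ≤ (nodeLine p u0 v1 v2 '' ↑g.roots.toFinset).encard := Set.encard_le_encard hsub
    _ ≤ (↑g.roots.toFinset : Set K).encard := Set.encard_image_le _ _
    _ = (g.roots.toFinset.card : ℕ∞) := Set.encard_coe_eq_coe_finsetCard _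
    _ ≤ 6 := by
      have h1 : g.roots.toFinset.card ≤ Multiset.card g.roots := Multiset.toFinset_card_le _
      have h2 : Multiset.card g.roots ≤ g.natDegree := Polynomial.card_roots' g
      have h3 : g.natDegree ≤ 6 := sextic_natDegree_le _ _ _ _
      exact_mod_cast (h1.trans (h2.trans h3))

end SymTri

end Groth.Agent.Lib.Helper1.CubicK
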