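import Groth.Agent.Lib.Helper1.CubicInvol

set_option autoImplicit false

namespace Groth.Agent.Lib.Helper1.Cubic

open Module Submodule MvPolynomial

theorem mem_span_singleton_symm {x y : V} (hx : x ≠ 0) (h : x ∈ span ℂ {y}) : y ∈ span ℂ {x} := by
  obtain ⟨c, rfl⟩ := Submodule.mem_span_singleton.1 h
  have hc : c ≠ 0 := by
    rintro rfl
    simp at hx
  rw [Submodule.mem_span_singleton]
  exact ⟨c⁻¹, by rw [smul_smul, inv_mul_cancel₀ hc, one_smul]⟩

theorem no_three_cover {e e' e'' : V} (he : e ≠ 0) (he' : e' ∉ span ℂ {e})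
    (h2 : e'' ∉ span ℂ {e'})
    (hcov : ∀ u ∈ span ℂ {e, e'}, u ∈ span ℂ {e} ∨ u ∈ span ℂ {e'} ∨ u ∈ span ℂ {e''}) :
    False := by
  have key : ∀ k : ℂ, k ≠ 0 → ∃ c : ℂ, c • e'' = e + k • e' := by
    intro k hk
    have hmem : e + k • e' ∈ span ℂ {e, e'} := by
      rw [Submodule.mem_span_pair]
      exact ⟨1, k, by simp⟩
    rcases hcov _ hmem with h | h | h
    · exfalso
      obtain ⟨c, hc⟩ := Submodule.mem_span_singleton.1 h
      apply he'
      rw [Submodule.mem_span_singleton]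
      refine ⟨k⁻¹ * (c - 1), ?_⟩
      have : k • e' = (c - 1) • e := by
        rw [sub_smul, one_smul, hc]; abel
      rw [mul_smul, ← this, smul_smul, inv_mul_cancel₀ hk, one_smul]
    · exfalso
      obtain ⟨c, hc⟩ := Submodule.mem_span_singleton.1 h
      have : e = (c - k) • e' := by
        rw [sub_smul, hc]; abel
      apply he'
      apply mem_span_singleton_symm he
      rw [Submodule.mem_span_singleton]
      exact ⟨c - k, this.symm⟩
    · exact Submodule.mem_span_singleton.1 h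
  obtain ⟨c1, h1⟩ := key 1 one_ne_zero
  obtain ⟨c2, h2'⟩ := key 2 two_ne_zero
  have h3 : e' = (c2 - c1) • e'' := by
    rw [sub_smul, h1, h2', one_smul, two_smul]; abel
  by_cases hc : c2 - c1 = 0
  · rw [hc, zero_smul] at h3
    apply he'
    rw [h3]
    exact Submodule.zero_mem _
  · apply h2
    rw [Submodule.mem_span_singleton]
    exact ⟨(c2 - c1)⁻¹, by rw [h3, smul_smul, inv_mul_cancel₀ hc, one_smul]⟩

namespace SymTri

variable {S : SymTri}

/-- the reflection with centre `e` and functional `M` -/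
def reflect (e : V) (M : V →ₗ[ℂ] ℂ) : V →ₗ[ℂ] V := LinearMap.id - M.smulRight e

theorem reflect_apply (e : V) (M : V →ₗ[ℂ] ℂ) (v : V) : reflect e M v = v - M v • e := by
  simp [reflect]

theorem reflect_invol {e : V} {M : V →ₗ[ℂ] ℂ} (hM2 : M e = 2) :
    Function.Involutive (reflect e M) := by
  intro v
  rw [reflect_apply, reflect_apply, map_sub, map_smul, hM2, smul_eq_mul]
  module

/-- the reflection as a linear equivalence -/
noncomputable def reflectEquiv (e : V) (M : V →ₗ[ℂ] ℂ) (hM2 : M e = 2) : V ≃ₗ[ℂ] V :=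
  LinearEquiv.ofInvolutive (reflect e M) (reflect_invol hM2)

theorem reflectEquiv_apply (e : V) (M : V →ₗ[ℂ] ℂ) (hM2 : M e = 2) (v : V) :
    reflectEquiv e M hM2 v = v - M v • e := by
  simp [reflectEquiv, reflect_apply]

theorem IsEck.map_equiv {e' : V} (hE' : S.IsEck e') (σ : V ≃ₗ[ℂ] V)
    (hσ : ∀ v, S.F (σ v) = S.F v) : S.IsEck (σ e') := by
  obtain ⟨U, hinj, hU⟩ := hE'
  refine ⟨fun i => (U i).map (σ : V →ₗ[ℂ] V), ?_, fun i => ⟨?_, ?_, ?_⟩⟩
  · intro i j hij
    exact hinj (Submodule.map_injective_of_injective σ.injective hij)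
  · rw [LinearEquiv.finrank_map_eq]; exact (hU i).1
  · exact Submodule.mem_map_of_mem (hU i).2.1
  · rintro u ⟨u', hu', rfl⟩
    change S.F (σ u') = 0
    rw [hσ]; exact (hU i).2.2 u' hu'


/-- the two mixed coefficients on the line through two Eckardt points -/
theorem line_coeff_relations {e e' : V} {M M' : V →ₗ[ℂ] ℂ}
    (hM : ∀ v, S.T e v v = S.T e e v * M v) (hM' : ∀ v, S.T e' v v = S.T e' e' v * M' v) :
    S.T e e' e' = S.T e e e' * M e' ∧ S.T e e e' = S.T e e' e' * M' e := by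
  refine ⟨hM e', ?_⟩
  have := hM' e
  rw [S.s13 e' e e, S.s13 e' e' e] at this
  exact this

theorem F_line {e e' : V} (hFe : S.F e = 0) (hFe' : S.F e' = 0) (s t : ℂ) :
    S.F (s • e + t • e') = 3 * s * t * (s * S.T e e e' + t * S.T e e' e') := by
  rw [S.F_comb, hFe, hFe']
  ring

theorem line_two_eck (hs : S.Smooth) {e e' : V} (he : e ≠ 0) (he' : e' ∉ span ℂ {e})
    (hE : S.IsEck e) (hE' : S.IsEck e')
    (hL : ¬ ∀ u ∈ span ℂ {e, e'}, S.F u = 0) :
    ∃ (M : V →ₗ[ℂ] ℂ) (e'' : V), M e = 2 ∧ (∀ v, S.T e v v = S.T e e v * M v) ∧ M e' ≠ 0 ∧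
      e'' = e' - M e' • e ∧
      e'' ∈ span ℂ {e, e'} ∧ e'' ∉ span ℂ {e} ∧ e'' ∉ span ℂ {e'} ∧ S.IsEck e'' ∧
      ∀ u ∈ span ℂ {e, e'}, S.F u = 0 →
        u ∈ span ℂ {e} ∨ u ∈ span ℂ {e'} ∨ u ∈ span ℂ {e''} := by
  have he'0 : e' ≠ 0 := by
    rintro rfl
    exact he' (Submodule.zero_mem _)
  obtain ⟨M, hM2, hM⟩ := hE.exists_M hs he
  obtain ⟨M', hM'2, hM'⟩ := hE'.exists_M hs he'0
  obtain ⟨hb, ha⟩ := line_coeff_relations hM hM'
  have hFe := hE.F_self
  have hFe' := hE'.F_self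
  have hab : S.T e e e' ≠ 0 := by
    intro ha0
    apply hL
    intro u hu
    obtain ⟨s, t, rfl⟩ := Submodule.mem_span_pair.1 hu
    rw [F_line hFe hFe', hb, ha0]
    ring
  have hMe' : M e' ≠ 0 := by
    intro h0
    apply hab
    rw [ha, hb, h0]
    ring
  refine ⟨M, e' - M e' • e, hM2, hM, hMe', rfl, ?_, ?_, ?_, ?_, ?_⟩
  · rw [Submodule.mem_span_pair]
    exact ⟨-(M e'), 1, by rw [one_smul, neg_smul]; abel⟩
  · intro h
    apply he'
    have : e' = (e' - M e' • e) + M e' • e := by abel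
    rw [this]
    exact Submodule.add_mem _ h (Submodule.smul_mem _ _ (Submodule.mem_span_singleton_self e))
  · intro h
    obtain ⟨c, hc⟩ := Submodule.mem_span_singleton.1 h
    have h1 : M e' • e = (1 - c) • e' := by
      rw [sub_smul, one_smul, hc]; abel
    have h2 : e = ((M e')⁻¹ * (1 - c)) • e' := by
      rw [mul_smul, ← h1, smul_smul, inv_mul_cancel₀ hMe', one_smul]
    apply he'
    apply mem_span_singleton_symm he
    rw [Submodule.mem_span_singleton]
    exact ⟨_, h2.symm⟩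
  · have := hE'.map_equiv (reflectEquiv e M hM2) (fun v => by
      rw [reflectEquiv_apply]; exact F_reflect hFe M hM v)
    rwa [reflectEquiv_apply] at this
  · intro u hu hFu
    obtain ⟨s, t, rfl⟩ := Submodule.mem_span_pair.1 hu
    rw [F_line hFe hFe'] at hFu
    rcases mul_eq_zero.1 hFu with h1 | h1
    · rcases mul_eq_zero.1 h1 with h2 | h2
      · have hs0 : s = 0 := by
          rcases mul_eq_zero.1 h2 with h3 | h3
          · norm_num at h3
          · exact h3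
        right; left
        rw [hs0, zero_smul, zero_add]
        exact Submodule.smul_mem _ _ (Submodule.mem_span_singleton_self e')
      · left
        rw [h2, zero_smul, add_zero]
        exact Submodule.smul_mem _ _ (Submodule.mem_span_singleton_self e)
    · right; right
      rw [hb] at h1
      have h2 : S.T e e e' * (s + t * M e') = 0 := by linear_combination h1
      have h3 : s = -(t * M e') := by
        have := (mul_eq_zero.1 h2).resolve_left hab
        linear_combination this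
      rw [Submodule.mem_span_singleton]
      refine ⟨t, ?_⟩
      rw [h3]
      module

end SymTri


theorem hyp_of_isEck (f : MvPolynomial (Fin 4) ℂ) (hf : f.IsHomogeneous 3) (e : Fin 4 → ℂ)
    (h : (symTriOf f hf).IsEck e) :
    ∃ U : Fin 3 → Submodule ℂ (Fin 4 → ℂ), Function.Injective U ∧
        ∀ i : Fin 3, Module.finrank ℂ ↥(U i) = 2 ∧ e ∈ U i ∧ ∀ u ∈ U i, eval u f = 0 := by
  obtain ⟨U, h1, h2⟩ := h
  exact ⟨U, h1, fun i => ⟨(h2 i).1, (h2 i).2.1, fun u hu => by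
    rw [← F_symTriOf f hf]; exact (h2 i).2.2 u hu⟩⟩

theorem line_through_two_eckardtPoints (f : MvPolynomial (Fin 4) ℂ) (hf : f.IsHomogeneous 3)
    (hsm : ∀ v : Fin 4 → ℂ, v ≠ 0 → eval v f = 0 → ∃ i : Fin 4, eval v (pderiv i f) ≠ 0)
    (e e' : Fin 4 → ℂ) (he : e ≠ 0) (he' : e' ∉ Submodule.span ℂ {e})
    (hE : (∃ U : Fin 3 → Submodule ℂ (Fin 4 → ℂ), Function.Injective U ∧
        ∀ i : Fin 3, Module.finrank ℂ ↥(U i) = 2 ∧ e ∈ U i ∧ ∀ u ∈ U i, eval u f = 0))
    (hE' : (∃ U : Fin 3 → Submodule ℂ (Fin 4 → ℂ), Function.Injective U ∧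
        ∀ i : Fin 3, Module.finrank ℂ ↥(U i) = 2 ∧ e' ∈ U i ∧ ∀ u ∈ U i, eval u f = 0)) :
    Xor (∀ u ∈ Submodule.span ℂ {e, e'}, eval u f = 0)
      (∃ e'' : Fin 4 → ℂ, e'' ∈ Submodule.span ℂ {e, e'} ∧ e'' ∉ Submodule.span ℂ {e} ∧
        e'' ∉ Submodule.span ℂ {e'} ∧
        (∃ U : Fin 3 → Submodule ℂ (Fin 4 → ℂ), Function.Injective U ∧
        ∀ i : Fin 3, Module.finrank ℂ ↥(U i) = 2 ∧ e'' ∈ U i ∧ ∀ u ∈ U i, eval u f = 0) ∧
        ∀ u ∈ Submodule.span ℂ {e, e'}, eval u f = 0 →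
          u ∈ Submodule.span ℂ {e} ∨ u ∈ Submodule.span ℂ {e'} ∨ u ∈ Submodule.span ℂ {e''}) := by
  have hs := smooth_symTriOf f hf hsm
  have hEck := isEck_symTriOf f hf e hE
  have hEck' := isEck_symTriOf f hf e' hE'
  by_cases hL : ∀ u ∈ Submodule.span ℂ {e, e'}, eval u f = 0
  · left
    refine ⟨hL, ?_⟩
    rintro ⟨e'', -, -, h2, -, hcov⟩
    exact no_three_cover he he' h2 (fun u hu => hcov u hu (hL u hu))
  · right
    refine ⟨?_, hL⟩
    have hL' : ¬ ∀ u ∈ span ℂ {e, e'}, (symTriOf f hf).F u = 0 := by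
      intro h
      exact hL (fun u hu => by rw [← F_symTriOf f hf]; exact h u hu)
    obtain ⟨M, e'', -, -, -, -, h1, h2, h3, h4, h5⟩ :=
      SymTri.line_two_eck hs he he' hEck hEck' hL'
    exact ⟨e'', h1, h2, h3, hyp_of_isEck f hf e'' h4, fun u hu hu0 =>
      h5 u hu (by rw [F_symTriOf]; exact hu0)⟩

end Groth.Agent.Lib.Helper1.Cubic
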