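import Groth.Agent.Lib.Helper1.CubicCommute
import Mathlib.Algebra.Polynomial.Degree.SmallDegree
import Mathlib.FieldTheory.IsAlgClosed.Basic

set_option autoImplicit false

namespace Groth.Agent.Lib.Helper1.Cubic

open Module Submodule

namespace SymTri

variable {S : SymTri}

theorem isEck_of_vectors {e : V} (he : e ≠ 0) (w : Fin 3 → V) (hw : ∀ i, w i ∉ span ℂ {e})
    (hww : ∀ i j, i ≠ j → w j ∉ span ℂ {e, w i})
    (hF : ∀ i (s t : ℂ), S.F (s • e + t • w i) = 0) : S.IsEck e := by
  refine ⟨fun i => span ℂ {e, w i}, ?_, fun i => ⟨finrank_span_pair he (hw i), ?_, ?_⟩⟩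
  · intro i j hij
    by_contra hne
    apply hww i j hne
    have h1 : w j ∈ span ℂ {e, w j} := subset_span (by simp)
    have h2 : span ℂ {e, w i} = span ℂ {e, w j} := hij
    rw [h2]
    exact h1
  · exact subset_span (by simp)
  · intro u hu
    obtain ⟨s, t, rfl⟩ := Submodule.mem_span_pair.1 hu
    exact hF i s t

/-- four independent vectors span `V`, so a functional vanishing on them vanishes -/
theorem eq_zero_of_four (Φ : V →ₗ[ℂ] ℂ) (v : Fin 4 → V)
    (hli : ∀ g : Fin 4 → ℂ, g 0 • v 0 + g 1 • v 1 + g 2 • v 2 + g 3 • v 3 = 0 → ∀ i, g i = 0)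
    (hv : ∀ i, Φ (v i) = 0) (u : V) : Φ u = 0 := by
  have hli' : LinearIndependent ℂ v := by
    rw [Fintype.linearIndependent_iff]
    intro g hg
    exact hli g (by simpa [Fin.sum_univ_four] using hg)
  have hspan := hli'.span_eq_top_of_card_eq_finrank' (by simp)
  have : Φ = 0 := by
    apply LinearMap.ext_on_range hspan
    intro i
    simp [hv i]
  rw [this]; rfl

theorem isEck_of_reflection (hs : S.Smooth) {p : V} (hp : p ≠ 0) (hFp : S.F p = 0)
    (N : V →ₗ[ℂ] ℂ) (c : ℂ) (hN2 : N p = 2) (hNF : ∀ v, S.F (v - N v • p) = c * S.F v) :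
    S.IsEck p := by
  classical
  have hN0 : N ≠ 0 := fun h => by rw [h] at hN2; simp at hN2
  set L : V →ₗ[ℂ] ℂ := S.lin p p with hL
  have hLv : ∀ v, L v = S.T p p v := fun v => rfl
  have hLp : L p = 0 := hFp
  obtain ⟨u0, hu0⟩ := hs p hp hFp
  have hL0 : L ≠ 0 := fun h => hu0 (by rw [← hLv, h]; rfl)
  -- v0 ∈ ker N with L v0 = 1
  set v0 : V := (L u0)⁻¹ • (u0 - (N u0 / 2) • p) with hv0
  have hNv0 : N v0 = 0 := by
    rw [hv0, map_smul, map_sub, map_smul, hN2, smul_eq_mul, smul_eq_mul]
    ring
  have hLv0 : L v0 = 1 := by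
    rw [hv0, map_smul, map_sub, map_smul, hLp, smul_eq_mul, smul_eq_mul, mul_zero, sub_zero]
    exact inv_mul_cancel₀ hu0
  have hv0ne : v0 ≠ 0 := fun h => by rw [h, map_zero] at hLv0; exact zero_ne_one hLv0
  -- the plane W = ker N ⊓ ker L has dimension ≥ 2
  set W : Submodule ℂ V := LinearMap.ker N ⊓ LinearMap.ker L with hW
  have hWmem : ∀ w, w ∈ W ↔ N w = 0 ∧ L w = 0 := fun w => by
    rw [hW, Submodule.mem_inf, LinearMap.mem_ker, LinearMap.mem_ker]
  have hWdim : 1 < finrank ℂ W := by
    have h1 := Module.Dual.finrank_ker_add_one_of_ne_zero hN0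
    have h2 := Module.Dual.finrank_ker_add_one_of_ne_zero hL0
    have h3 := Submodule.finrank_sup_add_finrank_inf_eq (LinearMap.ker N) (LinearMap.ker L)
    have h4 : finrank ℂ ↥(LinearMap.ker N ⊔ LinearMap.ker L) ≤ finrank ℂ V :=
      Submodule.finrank_le _
    have h5 : finrank ℂ V = 4 := by simp
    rw [h5] at h1 h2 h4
    rw [← hW] at h3
    omega
  -- T(h,h,p) = 0 on ker N, once c = 1
  obtain ⟨w1, hw1⟩ : ∃ w : W, w ≠ 0 := by
    haveI : Nontrivial W := Module.nontrivial_of_finrank_pos (R := ℂ) (by omega)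
    exact exists_ne 0
  have hw1N : N (w1 : V) = 0 := ((hWmem _).1 w1.2).1
  have hw1L : L (w1 : V) = 0 := ((hWmem _).1 w1.2).2
  have hw1ne : (w1 : V) ≠ 0 := fun h => hw1 (Subtype.ext h)
  have hc : c = 1 := by
    by_contra hc
    have hvan : ∀ v, N v = 0 → S.F v = 0 := by
      intro v hv
      have := hNF v
      rw [hv, zero_smul, sub_zero] at this
      have h2 : (1 - c) * S.F v = 0 := by linear_combination this
      exact (mul_eq_zero.1 h2).resolve_left (sub_ne_zero.2 (Ne.symm hc))
    refine not_vanish_hyperplane hs N hv0ne ?_ hNv0 hw1N hvan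
    intro hmem
    obtain ⟨a, ha⟩ := Submodule.mem_span_singleton.1 hmem
    have : L (w1 : V) = a := by rw [← ha, map_smul, hLv0, smul_eq_mul, mul_one]
    rw [hw1L] at this
    rw [← this, zero_smul] at ha
    exact hw1ne ha.symm
  subst hc
  have hQ : ∀ h, N h = 0 → S.T h h p = 0 := by
    intro h hh
    have := hNF (h + p)
    rw [map_add, hh, hN2, zero_add, one_mul] at this
    have e1 : h + p - (2 : ℂ) • p = h + (-1 : ℂ) • p := by rw [two_smul, neg_one_smul]; abel
    have e2 : h + p = h + (1 : ℂ) • p := by rw [one_smul]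
    rw [e1, S.F_add_smul] at this
    rw [e2, S.F_add_smul, hFp] at this
    linear_combination (-1 / 6 : ℂ) * this
  have hQ2 : ∀ h h', N h = 0 → N h' = 0 → S.T h h' p = 0 := by
    intro h h' hh hh'
    have := hQ (h + h') (by rw [map_add, hh, hh', add_zero])
    simp only [S.add, S.add2] at this
    rw [hQ h hh, hQ h' hh', S.s12 h' h p] at this
    linear_combination (1 / 2 : ℂ) * this
  have hTpp : ∀ h, S.T h p p = L h := fun h => by rw [hLv, S.s13]
  -- a vector in W with F ≠ 0
  obtain ⟨y, hyW, hFy⟩ : ∃ y, y ∈ W ∧ S.F y ≠ 0 := by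
    by_contra hcon
    push Not at hcon
    have hvan : ∀ v, L v = 0 → S.F v = 0 := by
      intro v hv
      set t : ℂ := N v / 2 with ht
      set h : V := v - t • p with hh
      have hhN : N h = 0 := by
        rw [hh, map_sub, map_smul, hN2, ht, smul_eq_mul]; ring
      have hhL : L h = 0 := by
        rw [hh, map_sub, map_smul, hLp, hv, smul_eq_mul, mul_zero, sub_zero]
      have hv' : v = h + t • p := by rw [hh]; abel
      rw [hv', S.F_add_smul, hcon h ((hWmem h).2 ⟨hhN, hhL⟩), hQ h hhN, hTpp, hhL, hFp]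
      ring
    refine not_vanish_hyperplane hs L hp ?_ hLp hw1L hvan
    intro hmem
    obtain ⟨a, ha⟩ := Submodule.mem_span_singleton.1 hmem
    have : N (w1 : V) = a * 2 := by rw [← ha, map_smul, hN2, smul_eq_mul]
    rw [hw1N] at this
    have ha0 : a = 0 := by
      rcases mul_eq_zero.1 this.symm with h | h
      · exact h
      · norm_num at h
    rw [ha0, zero_smul] at ha
    exact hw1ne ha.symm
  have hyN : N y = 0 := ((hWmem y).1 hyW).1
  have hyL : L y = 0 := ((hWmem y).1 hyW).2
  have hy0 : y ≠ 0 := fun h => hFy (by rw [h, S.F_zero])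
  obtain ⟨x', hx'⟩ := exists_linearIndependent_pair_of_one_lt_finrank hWdim
    (x := (⟨y, hyW⟩ : W)) (fun h => hy0 (congrArg Subtype.val h))
  set x : V := (x' : V) with hx
  have hxN : N x = 0 := ((hWmem _).1 x'.2).1
  have hxL : L x = 0 := ((hWmem _).1 x'.2).2
  have hind : ∀ a b : ℂ, a • x + b • y = 0 → a = 0 ∧ b = 0 := by
    intro a b hab
    rw [LinearIndependent.pair_iff] at hx'
    have := hx' b a (Subtype.ext (by
      change b • y + a • x = 0
      rw [add_comm]; exact hab))
    exact ⟨this.2, this.1⟩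
  -- the cubic polynomial g(t) = F(x + t y)
  let P : Polynomial ℂ := Polynomial.C (S.F y) * Polynomial.X ^ 3 +
    Polynomial.C (3 * S.T x y y) * Polynomial.X ^ 2 +
    Polynomial.C (3 * S.T x x y) * Polynomial.X + Polynomial.C (S.F x)
  have hPeval : ∀ t, P.eval t = S.F (x + t • y) := by
    intro t
    rw [S.F_add_smul]
    simp only [P, Polynomial.eval_add, Polynomial.eval_mul, Polynomial.eval_C, Polynomial.eval_pow,
      Polynomial.eval_X]
    ring
  have hdeg : P.natDegree = 3 := Polynomial.natDegree_cubic hFy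
  have hP0 : P ≠ 0 := fun h => by rw [h] at hdeg; simp at hdeg
  have hcard : P.roots.card = 3 := by
    rw [← hdeg]; exact Polynomial.splits_iff_card_roots.1 (IsAlgClosed.splits P)
  have hwN : ∀ t : ℂ, N (x + t • y) = 0 := fun t => by
    rw [map_add, map_smul, hxN, hyN, smul_zero, add_zero]
  have hwL : ∀ t : ℂ, L (x + t • y) = 0 := fun t => by
    rw [map_add, map_smul, hxL, hyL, smul_zero, add_zero]
  have hwne : ∀ t : ℂ, x + t • y ≠ 0 := fun t h => by
    have := hind 1 t (by rwa [one_smul])
    exact one_ne_zero this.1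
  by_cases hnd : P.roots.Nodup
  · obtain ⟨t1, t2, t3, h123⟩ := Multiset.card_eq_three.1 hcard
    rw [h123] at hnd
    have hd : t1 ≠ t2 ∧ t1 ≠ t3 ∧ t2 ≠ t3 := by
      simp only [Multiset.insert_eq_cons, Multiset.nodup_cons, Multiset.mem_cons,
        Multiset.mem_singleton, Multiset.nodup_singleton, not_or] at hnd
      exact ⟨hnd.1.1, hnd.1.2, hnd.2.1⟩
    let τ : Fin 3 → ℂ := ![t1, t2, t3]
    have hτinj : Function.Injective τ := by
      intro i j h
      fin_cases i <;> fin_cases j <;> first
        | rfl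
        | (exfalso
           simp only [τ, Fin.zero_eta, Fin.mk_one, Fin.reduceFinMk, Matrix.cons_val_zero,
             Matrix.cons_val_one, Matrix.cons_val] at h
           first
             | exact hd.1 h | exact hd.2.1 h | exact hd.2.2 h
             | exact hd.1 h.symm | exact hd.2.1 h.symm | exact hd.2.2 h.symm)
    have hτroot : ∀ i, S.F (x + τ i • y) = 0 := by
      intro i
      rw [← hPeval]
      have : τ i ∈ P.roots := by rw [h123]; fin_cases i <;> simp [τ]
      exact (Polynomial.mem_roots hP0).1 this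
    refine isEck_of_vectors hp (fun i => x + τ i • y) ?_ ?_ ?_
    · intro i hmem
      obtain ⟨a, ha⟩ := Submodule.mem_span_singleton.1 hmem
      have : N (x + τ i • y) = a * 2 := by rw [← ha, map_smul, hN2, smul_eq_mul]
      rw [hwN] at this
      have ha0 : a = 0 := by
        rcases mul_eq_zero.1 this.symm with h | h
        · exact h
        · norm_num at h
      rw [ha0, zero_smul] at ha
      exact hwne _ ha.symm
    · intro i j hij hmem
      obtain ⟨a, b, hab⟩ := Submodule.mem_span_pair.1 hmem
      have h1 : N (a • p + b • (x + τ i • y)) = N (x + τ j • y) := by rw [hab]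
      rw [map_add, map_smul, map_smul, hwN, hwN, hN2, smul_eq_mul, smul_eq_mul, mul_zero,
        add_zero] at h1
      have ha0 : a = 0 := by
        rcases mul_eq_zero.1 h1 with h | h
        · exact h
        · norm_num at h
      rw [ha0, zero_smul, zero_add] at hab
      have h2 : (b - 1) • x + (b * τ i - τ j) • y = 0 := by
        have : b • (x + τ i • y) - (x + τ j • y) = 0 := sub_eq_zero.2 hab
        rw [← this]
        simp only [smul_add, sub_smul, smul_smul, one_smul]
        abel
      obtain ⟨hb1, hb2⟩ := hind _ _ h2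
      have hb : b = 1 := sub_eq_zero.1 hb1
      rw [hb, one_mul] at hb2
      exact hij (hτinj (sub_eq_zero.1 hb2))
    · intro i s t
      rw [S.F_comb, hFp, hτroot i]
      have h1 : S.T p p (x + τ i • y) = 0 := hwL (τ i)
      have h2 : S.T p (x + τ i • y) (x + τ i • y) = 0 := by
        rw [S.s13]; exact hQ _ (hwN _)
      rw [h1, h2]; ring
  · exfalso
    rw [Multiset.nodup_iff_count_le_one] at hnd
    push Not at hnd
    obtain ⟨t0, ht0⟩ := hnd
    rw [Polynomial.count_roots, Polynomial.one_lt_rootMultiplicity_iff_isRoot hP0] at ht0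
    obtain ⟨hr, hr'⟩ := ht0
    set h0 : V := x + t0 • y with hh0
    have hF0 : S.F h0 = 0 := by rw [hh0, ← hPeval]; exact hr
    have hder : S.T h0 h0 y = 0 := by
      have h1 : (Polynomial.derivative P).eval t0 = 0 := hr'
      simp only [P, Polynomial.derivative_add, Polynomial.derivative_mul, Polynomial.derivative_C,
        Polynomial.derivative_X_pow, Polynomial.derivative_X, Polynomial.eval_add,
        Polynomial.eval_mul, Polynomial.eval_C, Polynomial.eval_pow, Polynomial.eval_X,
        zero_mul, zero_add, mul_one, Polynomial.eval_zero, add_zero, Polynomial.eval_natCast,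
        Polynomial.eval_one] at h1
      rw [hh0]
      simp only [S.add, S.add2, S.smul, S.smul2]
      norm_num at h1
      rw [S.s12 y x y]
      have hFy' : S.F y = S.T y y y := rfl
      linear_combination (1 / 3 : ℂ) * h1 - t0 ^ 2 * hFy'
    have hh0N : N h0 = 0 := hwN t0
    have hh0L : L h0 = 0 := hwL t0
    have hh0ne : h0 ≠ 0 := hwne t0
    have hderx : S.T h0 h0 x = 0 := by
      have e : x = h0 - t0 • y := by rw [hh0]; abel
      have : S.T h0 h0 x = S.T h0 h0 h0 - t0 * S.T h0 h0 y := by
        conv_lhs => rw [e, S.sub3, S.smul3]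
      rw [this, hder, mul_zero, sub_zero]; exact hF0
    obtain ⟨t, ht⟩ := IsAlgClosed.exists_eq_mul_self (-(S.T h0 h0 v0))
    set v : V := h0 + t • p with hv
    have hvne : v ≠ 0 := by
      intro h
      have hN : N v = 0 := by rw [h, map_zero]
      rw [hv, map_add, map_smul, hh0N, hN2, zero_add, smul_eq_mul] at hN
      have ht0' : t = 0 := by
        rcases mul_eq_zero.1 hN with h | h
        · exact h
        · norm_num at h
      rw [hv, ht0', zero_smul, add_zero] at h
      exact hh0ne h
    have hFv : S.F v = 0 := by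
      rw [hv, S.F_add_smul, hF0, hQ h0 hh0N, hTpp, hh0L, hFp]; ring
    obtain ⟨u, hu⟩ := hs v hvne hFv
    apply hu
    have key : ∀ z, S.T v v z = S.T h0 h0 z + 2 * t * S.T h0 p z + t ^ 2 * S.T p p z := by
      intro z
      rw [hv]
      simp only [S.add, S.add2, S.smul, S.smul2]
      rw [S.s12 p h0 z]
      ring
    refine eq_zero_of_four (S.lin v v) ![x, y, v0, p] ?_ ?_ u
    · intro g hg
      simp only [Matrix.cons_val_zero, Matrix.cons_val_one, Matrix.cons_val] at hg
      have hN' := congrArg N hg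
      simp only [map_add, map_smul, hxN, hyN, hNv0, hN2, smul_eq_mul, mul_zero, zero_add,
        map_zero] at hN'
      have hg3 : g 3 = 0 := by
        rcases mul_eq_zero.1 hN' with h | h
        · exact h
        · norm_num at h
      have hL' := congrArg L hg
      simp only [map_add, map_smul, hxL, hyL, hLv0, hLp, smul_eq_mul, mul_zero, zero_add,
        map_zero, mul_one, add_zero] at hL'
      rw [hg3, hL', zero_smul, zero_smul, add_zero, add_zero] at hg
      obtain ⟨hg0, hg1⟩ := hind _ _ hg
      intro i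
      fin_cases i
      · exact hg0
      · exact hg1
      · exact hL'
      · exact hg3
    · intro i
      fin_cases i
      · change S.T v v x = 0
        rw [key, hderx, S.s23 h0 p x, hQ2 h0 x hh0N hxN, ← hLv, hxL]; ring
      · change S.T v v y = 0
        rw [key, hder, S.s23 h0 p y, hQ2 h0 y hh0N hyN, ← hLv, hyL]; ring
      · change S.T v v v0 = 0
        rw [key, S.s23 h0 p v0, hQ2 h0 v0 hh0N hNv0, ← hLv, hLv0]
        linear_combination (-1 : ℂ) * ht
      · change S.T v v p = 0
        rw [key, hQ h0 hh0N, hTpp, hh0L]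
        have : S.T p p p = 0 := hFp
        rw [this]; ring

end SymTri

end Groth.Agent.Lib.Helper1.Cubic
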