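import Groth.Agent.Lib.Helper1.CubicForm
import Mathlib.LinearAlgebra.FiniteDimensional.Lemmas
import Mathlib.LinearAlgebra.FiniteDimensional.Basic
import Mathlib.LinearAlgebra.LinearIndependent.Lemmas

set_option autoImplicit false

namespace Groth.Agent.Lib.Helper1.Cubic

open Module Submodule

namespace SymTri

variable (S : SymTri)

theorem add2 (x y y' z : V) : S.T x (y + y') z = S.T x y z + S.T x y' z := by
  rw [S.s12, S.add, S.s12 y, S.s12 y']

theorem add3 (x y z z' : V) : S.T x y (z + z') = S.T x y z + S.T x y z' := by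
  rw [S.s23, S.add2, S.s23 x z, S.s23 x z']

theorem smul2 (c : ℂ) (x y z : V) : S.T x (c • y) z = c * S.T x y z := by
  rw [S.s12, S.smul, S.s12 y]

theorem smul3 (c : ℂ) (x y z : V) : S.T x y (c • z) = c * S.T x y z := by
  rw [S.s23, S.smul2, S.s23 x z]

theorem s13 (x y z : V) : S.T x y z = S.T z y x := by
  rw [S.s12 x y z, S.s23 y x z, S.s12 y z x]

theorem neg1 (x y z : V) : S.T (-x) y z = - S.T x y z := by
  have := S.smul (-1) x y z
  simpa using this

theorem neg2 (x y z : V) : S.T x (-y) z = - S.T x y z := by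
  have := S.smul2 (-1) x y z
  simpa using this

theorem neg3 (x y z : V) : S.T x y (-z) = - S.T x y z := by
  have := S.smul3 (-1) x y z
  simpa using this

theorem sub1 (x x' y z : V) : S.T (x - x') y z = S.T x y z - S.T x' y z := by
  rw [sub_eq_add_neg, S.add, S.neg1]; ring

theorem sub2 (x y y' z : V) : S.T x (y - y') z = S.T x y z - S.T x y' z := by
  rw [sub_eq_add_neg, S.add2, S.neg2]; ring

theorem sub3 (x y z z' : V) : S.T x y (z - z') = S.T x y z - S.T x y z' := by
  rw [sub_eq_add_neg, S.add3, S.neg3]; ring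

theorem zero1 (y z : V) : S.T 0 y z = 0 := by
  have := S.smul 0 0 y z
  simpa using this

theorem zero2 (x z : V) : S.T x 0 z = 0 := by
  rw [S.s12, S.zero1]

theorem zero3 (x y : V) : S.T x y 0 = 0 := by
  rw [S.s23, S.zero2]

/-- the linear functional `z ↦ T a b z` -/
def lin (a b : V) : V →ₗ[ℂ] ℂ where
  toFun z := S.T a b z
  map_add' := S.add3 a b
  map_smul' c z := by simp [S.smul3]

@[simp] theorem lin_apply (a b z : V) : S.lin a b z = S.T a b z := rfl

/-- the cubic form -/
def F (v : V) : ℂ := S.T v v v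

theorem F_add (x y : V) :
    S.F (x + y) = S.F x + 3 * S.T x x y + 3 * S.T x y y + S.F y := by
  unfold F
  simp only [S.add, S.add2, S.add3]
  rw [S.s23 x y x, S.s12 y x x, S.s23 x y x, S.s12 y x y, S.s23 y y x, S.s12 y x y]
  ring

theorem F_smul (c : ℂ) (x : V) : S.F (c • x) = c ^ 3 * S.F x := by
  unfold F
  simp only [S.smul, S.smul2, S.smul3]
  ring

theorem F_add_smul (x y : V) (t : ℂ) :
    S.F (x + t • y) = S.F x + 3 * t * S.T x x y + 3 * t ^ 2 * S.T x y y + t ^ 3 * S.F y := by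
  rw [S.F_add, S.F_smul, S.smul3, S.smul3, S.smul2]
  ring

theorem F_comb (x y : V) (s t : ℂ) :
    S.F (s • x + t • y) =
      s ^ 3 * S.F x + 3 * s ^ 2 * t * S.T x x y + 3 * s * t ^ 2 * S.T x y y + t ^ 3 * S.F y := by
  rw [S.F_add, S.F_smul, S.F_smul, S.smul3, S.smul3, S.smul2, S.smul2, S.smul, S.smul]
  ring

theorem F_zero : S.F 0 = 0 := S.zero1 0 0

/-- smoothness of the cubic surface -/
def Smooth : Prop := ∀ v : V, v ≠ 0 → S.F v = 0 → ∃ u : V, S.T v v u ≠ 0

/-- Eckardt point -/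
def IsEck (e : V) : Prop :=
  ∃ U : Fin 3 → Submodule ℂ V, Function.Injective U ∧
    ∀ i : Fin 3, Module.finrank ℂ ↥(U i) = 2 ∧ e ∈ U i ∧ ∀ u ∈ U i, S.F u = 0

end SymTri

end Groth.Agent.Lib.Helper1.Cubic
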