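import Mathlib

/-!
# Dense affine open neighbourhoods in Noetherian schemes (helper1)
-/

set_option autoImplicit false
universe u
open AlgebraicGeometry TopologicalSpace

namespace Groth.Agent.Lib.Helper1.DenseAffine

variable (X : Scheme.{u})

/-- the irreducible components of `X` not contained in the closure of `U`. -/
def missing (U : X.Opens) : Set (Set X) :=
  {Z | Z ∈ irreducibleComponents X ∧ ¬ Z ⊆ closure (U : Set X)}

theorem dense_of_missing_eq_empty (U : X.Opens) (h : missing X U = ∅) : Dense (U : Set X) := by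
  rw [dense_iff_closure_eq, ← Set.univ_subset_iff, ← sUnion_irreducibleComponents]
  apply Set.sUnion_subset
  intro Z hZ
  by_contra hZU
  have : Z ∈ missing X U := ⟨hZ, hZU⟩
  rw [h] at this
  exact this

theorem exists_dense_affine_aux [NoetherianSpace X] (x : X) (n : ℕ) :
    ∀ U : X.Opens, IsAffineOpen U → x ∈ U → (missing X U).ncard ≤ n →
      ∃ U' : X.Opens, IsAffineOpen U' ∧ x ∈ U' ∧ Dense (U' : Set X) := by
  have hfin : ∀ U : X.Opens, (missing X U).Finite := fun U =>
    (NoetherianSpace.finite_irreducibleComponents (α := X)).subset fun Z hZ => hZ.1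
  induction n with
  | zero =>
    intro U hU hxU hn
    have h0 : missing X U = ∅ := by
      rw [← Set.ncard_eq_zero (hfin U)]
      exact Nat.le_zero.1 hn
    exact ⟨U, hU, hxU, dense_of_missing_eq_empty X U h0⟩
  | succ n ih =>
    intro U hU hxU hn
    by_cases h0 : missing X U = ∅
    · exact ⟨U, hU, hxU, dense_of_missing_eq_empty X U h0⟩
    obtain ⟨Z, hZ⟩ := Set.nonempty_iff_ne_empty.2 h0
    obtain ⟨hZc, hZU⟩ := hZ
    obtain ⟨z, hzZ, hzU⟩ := Set.not_subset.1 hZU
    have hVopen : IsOpen ((closure (U : Set X))ᶜ) := isClosed_closure.isOpen_compl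
    obtain ⟨_, ⟨(U₁ : X.Opens), hU₁, rfl⟩, hzU₁, hU₁V⟩ :=
      X.isBasis_affineOpens.exists_subset_of_mem_open (show z ∈ (closure (U : Set X))ᶜ from hzU) hVopen
    have hdisj : Disjoint U U₁ := by
      rw [← Opens.coe_disjoint, Set.disjoint_left]
      intro y hyU hyU₁
      exact hU₁V hyU₁ (subset_closure hyU)
    have hU' : IsAffineOpen (U ⊔ U₁) := hU.sup_of_disjoint hU₁ hdisj
    have hZcl : Z ⊆ closure ((U ⊔ U₁ : X.Opens) : Set X) := by
      have hZirr : IsIrreducible Z := hZc.1
      have h1 := subset_closure_inter_of_isPreirreducible_of_isOpen hZirr.isPreirreducible U₁.2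
        ⟨z, hzZ, hzU₁⟩
      refine h1.trans (closure_mono ?_)
      intro y hy
      exact Or.inr hy.2
    have hsub : missing X (U ⊔ U₁) ⊆ missing X U \ {Z} := by
      rintro Z' ⟨hZ'c, hZ'U⟩
      refine ⟨⟨hZ'c, fun h => hZ'U (h.trans (closure_mono ?_))⟩, ?_⟩
      · intro y hy
        exact Or.inl hy
      · intro hZZ'
        rw [Set.mem_singleton_iff] at hZZ'
        rw [hZZ'] at hZ'U
        exact hZ'U hZcl
    have hcard : (missing X (U ⊔ U₁)).ncard ≤ n := by
      have h1 := Set.ncard_le_ncard hsub ((hfin U).sdiff)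
      have h2 := Set.ncard_sdiff_singleton_add_one (show Z ∈ missing X U from ⟨hZc, hZU⟩) (hfin U)
      omega
    exact ih (U ⊔ U₁) hU' (Or.inl hxU) hcard

/-- every point of a Noetherian scheme has a dense affine open neighbourhood. -/
theorem exists_dense_affine [NoetherianSpace X] (x : X) :
    ∃ U : X.Opens, IsAffineOpen U ∧ x ∈ U ∧ Dense (U : Set X) := by
  obtain ⟨_, ⟨(U : X.Opens), hU, rfl⟩, hxU, -⟩ :=
    X.isBasis_affineOpens.exists_subset_of_mem_open (Set.mem_univ x) isOpen_univ
  exact exists_dense_affine_aux X x _ U hU hxU le_rfl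

end Groth.Agent.Lib.Helper1.DenseAffine
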