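import Mathlib.CategoryTheory.Abelian.RightDerived
import Mathlib.CategoryTheory.Preadditive.Injective.Preserves
import Mathlib.Algebra.Homology.QuasiIso
import Mathlib.Algebra.Homology.ShortComplex.ExactFunctor

/-!
# Right derived functors commute with exact functors preserving injectives
-/

set_option autoImplicit false
open CategoryTheory CategoryTheory.Limits

namespace Groth.Agent.Lib.Helper1.DerivedExact

universe v₁ v₂ v₃ v₄ u₁ u₂ u₃ u₄

variable {𝒜 : Type u₁} [Category.{v₁} 𝒜] [Abelian 𝒜]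
  {ℬ : Type u₂} [Category.{v₂} ℬ] [Abelian ℬ]

section MapRes

variable (G : 𝒜 ⥤ ℬ) [G.Additive] [G.PreservesHomology] [G.PreservesInjectiveObjects]

/-- the image of an injective resolution under an exact functor preserving injectives -/
noncomputable def mapRes {Z : 𝒜} (I : InjectiveResolution Z) : InjectiveResolution (G.obj Z) where
  cocomplex := (G.mapHomologicalComplex _).obj I.cocomplex
  injective n := G.injective_obj (I.cocomplex.X n)
  ι := (HomologicalComplex.singleMapHomologicalComplex G (ComplexShape.up ℕ) 0).inv.app Z ≫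
    (G.mapHomologicalComplex _).map I.ι
  quasiIso := inferInstance

lemma mapRes_ι_f_zero {Z : 𝒜} (I : InjectiveResolution Z) :
    (mapRes G I).ι.f 0 = G.map (I.ι.f 0) := by
  simp [mapRes, HomologicalComplex.singleMapHomologicalComplex]
  exact (congrArg (· ≫ G.map (I.ι.f 0)) (eqToHom_refl _ _)).trans (Category.id_comp _)

end MapRes

lemma four_squares {𝒞 : Type*} [Category 𝒞] {X₀ X₁ X₂ X₃ X₄ Y₀ Y₁ Y₂ Y₃ Y₄ : 𝒞}
    {x₀ : X₀ ⟶ Y₀} {x₁ : X₁ ⟶ Y₁} {x₂ : X₂ ⟶ Y₂} {x₃ : X₃ ⟶ Y₃} {x₄ : X₄ ⟶ Y₄}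
    {a : X₀ ⟶ X₁} {b : X₁ ⟶ X₂} {c : X₂ ⟶ X₃} {d : X₃ ⟶ X₄}
    {a' : Y₀ ⟶ Y₁} {b' : Y₁ ⟶ Y₂} {c' : Y₂ ⟶ Y₃} {d' : Y₃ ⟶ Y₄}
    (h1 : x₀ ≫ a' = a ≫ x₁) (h2 : x₁ ≫ b' = b ≫ x₂) (h3 : x₂ ≫ c' = c ≫ x₃)
    (h4 : x₃ ≫ d' = d ≫ x₄) :
    x₀ ≫ (a' ≫ b' ≫ c' ≫ d') = (a ≫ b ≫ c ≫ d) ≫ x₄ := by
  rw [reassoc_of% h1, reassoc_of% h2, reassoc_of% h3, h4]
  simp only [Category.assoc]

section Main

variable {𝒜' : Type u₃} [Category.{v₃} 𝒜'] [Abelian 𝒜']
  {ℬ' : Type u₄} [Category.{v₄} ℬ'] [Abelian ℬ']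
  [HasInjectiveResolutions 𝒜] [HasInjectiveResolutions ℬ]
  (G : 𝒜 ⥤ ℬ) [G.Additive] [G.PreservesHomology] [G.PreservesInjectiveObjects]
  (G' : 𝒜' ⥤ ℬ') [G'.Additive] [G'.PreservesHomology]
  (F : 𝒜 ⥤ 𝒜') [F.Additive] (F' : ℬ ⥤ ℬ') [F'.Additive]
  (e : F ⋙ G' ≅ G ⋙ F') (n : ℕ)

/-- the comparison isomorphism computed with a given resolution -/
noncomputable def compIso {N : 𝒜} (I : InjectiveResolution N) :
    G'.obj ((F.rightDerived n).obj N) ≅ (F'.rightDerived n).obj (G.obj N) :=
  G'.mapIso (I.isoRightDerivedObj F n) ≪≫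
    ((((F.mapHomologicalComplex _).obj I.cocomplex).sc n).mapHomologyIso G').symm ≪≫
    (HomologicalComplex.homologyFunctor ℬ' _ n).mapIso
      ((NatIso.mapHomologicalComplex e (ComplexShape.up ℕ)).app I.cocomplex) ≪≫
    ((mapRes G I).isoRightDerivedObj F' n).symm

lemma compIso_naturality {N N' : 𝒜} (f : N ⟶ N') (I : InjectiveResolution N)
    (I' : InjectiveResolution N') :
    G'.map ((F.rightDerived n).map f) ≫ (compIso G G' F F' e n I').hom =
      (compIso G G' F F' e n I).hom ≫ (F'.rightDerived n).map (G.map f) := by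
  let φ : I.cocomplex ⟶ I'.cocomplex := InjectiveResolution.desc f I' I
  have comm : I.ι.f 0 ≫ φ.f 0 = f ≫ I'.ι.f 0 := InjectiveResolution.desc_commutes_zero f I' I
  let Fφ := (F.mapHomologicalComplex (ComplexShape.up ℕ)).map φ
  have h1 : G'.map ((F.rightDerived n).map f) ≫ G'.map (I'.isoRightDerivedObj F n).hom =
      G'.map (I.isoRightDerivedObj F n).hom ≫ G'.map (HomologicalComplex.homologyMap Fφ n) := by
    rw [← G'.map_comp, ← G'.map_comp]
    congr 1
    exact InjectiveResolution.isoRightDerivedObj_hom_naturality f I I' φ comm F n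
  have h2 : G'.map (HomologicalComplex.homologyMap Fφ n) ≫
      ((((F.mapHomologicalComplex _).obj I'.cocomplex).sc n).mapHomologyIso G').inv =
      ((((F.mapHomologicalComplex _).obj I.cocomplex).sc n).mapHomologyIso G').inv ≫
        HomologicalComplex.homologyMap ((G'.mapHomologicalComplex _).map Fφ) n :=
    ShortComplex.mapHomologyIso_inv_naturality
      ((HomologicalComplex.shortComplexFunctor 𝒜' (ComplexShape.up ℕ) n).map Fφ) G'
  have h3 : HomologicalComplex.homologyMap ((G'.mapHomologicalComplex _).map Fφ) n ≫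
      (HomologicalComplex.homologyFunctor ℬ' _ n).map
        ((NatIso.mapHomologicalComplex e (ComplexShape.up ℕ)).hom.app I'.cocomplex) =
      (HomologicalComplex.homologyFunctor ℬ' _ n).map
        ((NatIso.mapHomologicalComplex e (ComplexShape.up ℕ)).hom.app I.cocomplex) ≫
      HomologicalComplex.homologyMap ((F'.mapHomologicalComplex _).map
        ((G.mapHomologicalComplex _).map φ)) n := by
    have := (NatIso.mapHomologicalComplex e (ComplexShape.up ℕ)).hom.naturality φ
    have h := congrArg (fun t => (HomologicalComplex.homologyFunctor ℬ' _ n).map t) this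
    simp only [Functor.map_comp] at h
    exact h
  have comm' : (mapRes G I).ι.f 0 ≫ ((G.mapHomologicalComplex _).map φ).f 0 =
      G.map f ≫ (mapRes G I').ι.f 0 := by
    rw [mapRes_ι_f_zero, mapRes_ι_f_zero]
    exact (G.map_comp _ _).symm.trans ((congrArg G.map comm).trans (G.map_comp _ _))
  have h4 : HomologicalComplex.homologyMap ((F'.mapHomologicalComplex _).map
        ((G.mapHomologicalComplex _).map φ)) n ≫ ((mapRes G I').isoRightDerivedObj F' n).inv =
      ((mapRes G I).isoRightDerivedObj F' n).inv ≫ (F'.rightDerived n).map (G.map f) :=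
    (InjectiveResolution.isoRightDerivedObj_inv_naturality (G.map f) (mapRes G I) (mapRes G I')
      ((G.mapHomologicalComplex _).map φ) comm' F' n).symm
  exact four_squares h1 h2 h3 h4

/-- right derived functors commute with exact functors preserving injective objects -/
noncomputable def rightDerivedCompIso :
    F.rightDerived n ⋙ G' ≅ G ⋙ F'.rightDerived n :=
  NatIso.ofComponents (fun N => compIso G G' F F' e n (injectiveResolution N))
    (fun f => compIso_naturality G G' F F' e n f _ _)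

end Main

end Groth.Agent.Lib.Helper1.DerivedExact
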