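import Groth.Agent.Lib.Helper17.ZeroSupp
import Groth.Agent.Lib.Helper28.QCohGlobal

/-!
# Modules vanishing off a finite set of closed points are flasque, hence acyclic
-/

set_option autoImplicit false
universe u
open CategoryTheory CategoryTheory.Limits AlgebraicGeometry Opposite TopologicalSpace

namespace Groth.Agent.Lib.Helper1.DualS2

open Groth.Agent.Lib.Helper28.QCohLoc

variable {X : Scheme.{u}} (M : X.Modules) (U : X.Opens)

/-- a module whose sections over every open inside `U` vanish, where the complement of `U` is a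
finite set of closed points, is flasque. -/
theorem isFlasque_of_sections_zero (hfin : ((U : Set X)ᶜ).Finite)
    (hcl : ∀ x : X, x ∉ U → IsClosed ({x} : Set X))
    (h0 : ∀ T : X.Opens, T ≤ U → ∀ s : Γ(M, T), s = 0) :
    TopCat.Sheaf.IsFlasque (Coh.toAb M) where
  epi {W' U'} i := by
    rw [AddCommGrpCat.epi_iff_surjective]
    intro s
    obtain ⟨W⟩ := W'
    obtain ⟨T⟩ := U'
    have hTW : T ≤ W := leOfHom i.unop
    obtain rfl : i = (homOfLE hTW).op := Subsingleton.elim _ _
    -- the part of the complement of `U` in `T` is closed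
    have hsub : (U : Set X)ᶜ ∩ (T : Set X) ⊆ (U : Set X)ᶜ := Set.inter_subset_left
    have hfin' : ((U : Set X)ᶜ ∩ (T : Set X)).Finite := hfin.subset hsub
    have hcl' : IsClosed ((U : Set X)ᶜ ∩ (T : Set X)) := by
      have h1 : (U : Set X)ᶜ ∩ (T : Set X) = ⋃ a ∈ (U : Set X)ᶜ ∩ (T : Set X), {a} :=
        (Set.biUnion_of_singleton _).symm
      rw [h1]
      exact hfin'.isClosed_biUnion fun a ha => hcl a ha.1
    let V : X.Opens := W ⊓ ⟨((U : Set X)ᶜ ∩ (T : Set X))ᶜ, hcl'.isOpen_compl⟩
    let 𝒱 : Bool → X.Opens := fun b => cond b T V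
    have h𝒱 : ∀ b, 𝒱 b ≤ W := fun b => by
      cases b
      · exact inf_le_left
      · exact hTW
    have hcov : W ≤ iSup 𝒱 := by
      intro x hxW
      by_cases hx : x ∈ (U : Set X)ᶜ ∩ (T : Set X)
      · exact Opens.mem_iSup.2 ⟨true, hx.2⟩
      · exact Opens.mem_iSup.2 ⟨false, ⟨hxW, hx⟩⟩
    let sf : ∀ b, Γ(M, 𝒱 b) := fun b => match b with
      | true => (show Γ(M, T) from s)
      | false => (0 : Γ(M, V))
    have hzero : ∀ (T' : X.Opens) (t : Γ(M, T')), T' ≤ T → T' ≤ V → t = 0 := by
      intro T' t hT'T hT'V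
      refine h0 T' ?_ t
      intro x hx
      by_contra hxU
      exact (hT'V hx).2 ⟨hxU, hT'T hx⟩
    obtain ⟨t, ht⟩ := exists_gluing M 𝒱 W h𝒱 hcov sf (by
      intro a b
      cases a <;> cases b
      · rfl
      · exact (hzero _ _ inf_le_right inf_le_left).trans (hzero _ _ inf_le_right inf_le_left).symm
      · exact (hzero _ _ inf_le_left inf_le_right).trans (hzero _ _ inf_le_left inf_le_right).symm
      · rfl)
    exact ⟨t, ht true⟩

open Groth.Agent.Lib.Helper6.SheafCoh in
/-- such a module is acyclic -/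
theorem subsingleton_HH_of_sections_zero (hfin : ((U : Set X)ᶜ).Finite)
    (hcl : ∀ x : X, x ∉ U → IsClosed ({x} : Set X))
    (h0 : ∀ T : X.Opens, T ≤ U → ∀ s : Γ(M, T), s = 0) (n : ℕ) :
    Subsingleton (Coh.HH X M (n + 1)) := by
  haveI := isFlasque_of_sections_zero M U hfin hcl h0
  refine ⟨fun a b => ?_⟩
  have h := flasque_H_eq_zero (X := X.toTopCat) (Coh.toAb M) n
  exact (h a).trans (h b).symm

end Groth.Agent.Lib.Helper1.DualS2
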