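import Groth.Agent.Lib.Helper28.ModExact
import Groth.Agent.Lib.Helper28.QCohPush
import Groth.Agent.Lib.Helper17.FTExt

/-!
# The unit `ω ⟶ j_* j^* ω` of an open immersion: kernel and cokernel vanish on the open
-/

set_option autoImplicit false
universe u
open CategoryTheory CategoryTheory.Limits AlgebraicGeometry Opposite TopologicalSpace

namespace Groth.Agent.Lib.Helper1.DualS2

open Groth.Agent.Lib.Helper28.QCohLoc Scheme.Modules

variable {X : Scheme.{u}} (ω : X.Modules) (U : X.Opens)

/-- the target `j_* j^* ω` -/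
noncomputable abbrev Fj : X.Modules := (pushforward U.ι).obj (ω.restrict U.ι)

/-- the unit map `ω ⟶ j_* j^* ω` -/
noncomputable abbrev η : ω ⟶ Fj ω U := (restrictAdjunction U.ι).unit.app ω

theorem image_preimage_eq_of_le {T : X.Opens} (hT : T ≤ U) : U.ι ''ᵁ (U.ι ⁻¹ᵁ T) = T := by
  rw [Scheme.Hom.image_preimage_eq_opensRange_inf, Scheme.Opens.opensRange_ι]
  exact inf_eq_right.mpr hT

theorem bijective_η_app {T : X.Opens} (hT : T ≤ U) : Function.Bijective ((η ω U).app T) := by
  rw [restrictAdjunction_unit_app_app]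
  have e := image_preimage_eq_of_le U hT
  haveI : IsIso (homOfLE (U.ι.image_preimage_le T)) := by
    refine ⟨homOfLE (le_of_eq e.symm), Subsingleton.elim _ _, Subsingleton.elim _ _⟩
  haveI : IsIso (homOfLE (U.ι.image_preimage_le T)).op := isIso_op _
  have h3 : IsIso (ω.presheaf.map (homOfLE (U.ι.image_preimage_le T)).op) := Functor.map_isIso _ _
  exact (ConcreteCategory.isIso_iff_bijective _).1 h3

/-- sections of the kernel of the unit vanish on opens inside `U` -/
theorem kernel_sections_zero {T : X.Opens} (hT : T ≤ U) (s : Γ(kernel (η ω U), T)) : s = 0 := by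
  apply injective_of_mono (kernel.ι (η ω U)) inferInstance T
  apply (bijective_η_app ω U hT).1
  have h := congrArg (fun φ => Scheme.Modules.Hom.app φ T s) (kernel.condition (η ω U))
  rw [map_zero, map_zero]
  exact h

variable [ω.IsQuasicoherent] [QuasiCompact U.ι]

instance : (Fj ω U).IsQuasicoherent :=
  Groth.Agent.Lib.Helper28.QCohLoc.isQuasicoherent_pushforward _ _

/-- sections of the cokernel of the unit vanish on opens inside `U` -/
theorem cokernel_sections_zero {T : X.Opens} (hT : T ≤ U) (s : Γ(cokernel (η ω U), T)) : s = 0 := by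
  -- cover `T` by affine opens
  have hcov : T ≤ ⨆ (W : {W : X.affineOpens // (W : X.Opens) ≤ T}), (W.1 : X.Opens) := by
    intro x hx
    obtain ⟨W, ⟨W', hW', rfl⟩, hxW, hWT⟩ := (X.isBasis_affineOpens).exists_subset_of_mem_open hx T.2
    exact Opens.mem_iSup.2 ⟨⟨⟨W', hW'⟩, hWT⟩, hxW⟩
  refine eq_of_locally_eq _ (fun W : {W : X.affineOpens // (W : X.Opens) ≤ T} => (W.1 : X.Opens)) T
    (fun W => W.2) hcov s 0 (fun W => ?_)
  rw [res_zero]
  obtain ⟨f, hf⟩ := Groth.Agent.Lib.Helper17.FTExt.cokernel_π_app_surjective (η ω U) W.1.2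
    (res _ W.2 s)
  obtain ⟨w, hw⟩ := (bijective_η_app ω U (W.2.trans hT)).2 f
  rw [← hf, ← hw]
  have h := congrArg (fun φ => Scheme.Modules.Hom.app φ W.1.1 w) (cokernel.condition (η ω U))
  exact h

end Groth.Agent.Lib.Helper1.DualS2
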