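import Groth.Agent.Lib.Helper1.DualS2a
import Groth.Agent.Lib.Helper1.DualS2b
import Groth.Agent.Lib.Helper4.HLesFin1
import Groth.Agent.Lib.Helper17.CohKer

/-!
# A 1-dualizing module is `S₂` across a finite set of closed points
-/

set_option autoImplicit false
universe u
open CategoryTheory CategoryTheory.Limits AlgebraicGeometry Opposite TopologicalSpace

namespace Groth.Agent.Lib.Helper1.DualS2

open Groth.Agent.Lib.Helper28.QCohLoc Scheme.Modules
open Groth.Agent.Lib.Helper2.HLesLin Groth.Agent.Lib.Helper4.HLesFin1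

section torsion

variable {X : Scheme.{u}}

/-- `H⁰ = ` global sections -/
noncomputable def eH0 (M : X.Modules) : Coh.HH X M 0 ≃+ Γ(M, ⊤) :=
  Sheaf.H.equiv₀ (Coh.toAb M) Limits.isTerminalTop

theorem eH0_smul (M : X.Modules) (r : Coh.Γtop X) (q : Coh.HH X M 0) :
    eH0 M (r • q) = (show Γ(X, ⊤) from r) • eH0 M q := by
  change eH0 M (Sheaf.H.map (Coh.smulAb M r) 0 q) = _
  refine (Sheaf.H.equiv₀_naturality Limits.isTerminalTop (Coh.smulAb M r) q).symm.trans ?_
  refine (Coh.smulAb_app M r (op ⊤) _).trans ?_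
  have : Coh.resTop X (op ⊤) r = r := by
    change (X.ringCatSheaf.obj.map (𝟙 _)).hom r = r
    rw [X.ringCatSheaf.obj.map_id]
    rfl
  rw [this]
  rfl

/-- classes in `H⁰` of a quasi-coherent module which vanishes on `D(f)` are `f`-power torsion -/
theorem exists_pow_smul_eq_zero_H0 [CompactSpace X] (M : X.Modules) [M.IsQuasicoherent]
    (f : Coh.Γtop X) (h0 : ∀ s : Γ(M, X.basicOpen (show Γ(X, ⊤) from f)), s = 0)
    (q : Coh.HH X M 0) : ∃ n : ℕ, f ^ n • q = 0 := by
  obtain ⟨n, hn⟩ := exists_pow_smul_eq_zero_of_isCompact M (U := ⊤) isCompact_univ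
    (show Γ(X, ⊤) from f) (eH0 M q) (h0 _)
  refine ⟨n, ?_⟩
  apply (eH0 M).injective
  rw [eH0_smul, map_zero]
  exact hn

end torsion

section main

variable (A : Type u) [CommRing A] [IsDomain A] {X : Scheme.{u}} [X.Over (Spec (CommRingCat.of A))]
  [IsLocallyNoetherian X] [CompactSpace X]
  (ω : X.Modules) (tr : Coh.HH X ω 1 →ₗ[A] A) (hω : Canon.IsRDualOver A X 1 ω tr)
  (U : X.Opens) (hfin : ((U : Set X)ᶜ).Finite) (hcl : ∀ x : X, x ∉ U → IsClosed ({x} : Set X))
  (a : A) (ha : a ≠ 0)
  (haU : X.basicOpen (show Γ(X, ⊤) from Coh.toGlobal (X ↘ Spec (CommRingCat.of A)) a) ≤ U)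

omit [IsDomain A] [IsLocallyNoetherian X] [CompactSpace X] in
theorem HHlin_comp_apply' {F G K : X.Modules} (φ : F ⟶ G) (ψ : G ⟶ K) (p : ℕ)
    (y : Coh.HH X F p) :
    Canon.HHlin A ψ p (Canon.HHlin A φ p y) = Canon.HHlin A (φ ≫ ψ) p y := by
  change Sheaf.H.map ((SheafOfModules.toSheaf X.ringCatSheaf).map ψ) p
    (Sheaf.H.map ((SheafOfModules.toSheaf X.ringCatSheaf).map φ) p y) =
    Sheaf.H.map ((SheafOfModules.toSheaf X.ringCatSheaf).map (φ ≫ ψ)) p y
  rw [← Sheaf.H.map_comp_apply]
  rfl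

omit [IsDomain A] [IsLocallyNoetherian X] [CompactSpace X] in
theorem HHlin_id_apply' {F : X.Modules} (p : ℕ) (y : Coh.HH X F p) :
    Canon.HHlin A (𝟙 F) p y = y :=
  Sheaf.H.map_id_apply (F := Coh.toAb F) y

include hω hfin hcl ha haU in
/-- **the unit `ω ⟶ j_* j^* ω` is an isomorphism for a 1-dualizing module**, when the complement of `U`
is a finite set of closed points lying in the zero locus of a nonzero element of the (domain) base. -/
theorem isIso_η : IsIso (η ω U) := by
  haveI : ω.IsQuasicoherent := hω.1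
  -- the kernel
  haveI hKq : (kernel (η ω U)).IsQuasicoherent :=
    Groth.Agent.Lib.Helper17.CohKer.isQuasicoherent_kernel _
  have hK1 : Subsingleton (Coh.HH X (kernel (η ω U)) 1) :=
    subsingleton_HH_of_sections_zero _ U hfin hcl (fun T hT s => kernel_sections_zero ω U hT s) 0
  have hι0 : kernel.ι (η ω U) = 0 := by
    apply (hω.2 _ hKq).1
    apply LinearMap.ext
    intro x
    rw [Subsingleton.elim x 0, map_zero, map_zero]
  haveI hmono : Mono (η ω U) := Preadditive.mono_of_kernel_zero hι0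
  -- the cokernel
  haveI hQq : (cokernel (η ω U)).IsQuasicoherent :=
    Groth.Agent.Lib.Helper17.CohKer.isQuasicoherent_cokernel _
  have hQ1 : Subsingleton (Coh.HH X (cokernel (η ω U)) 1) :=
    subsingleton_HH_of_sections_zero _ U hfin hcl (fun T hT s => cokernel_sections_zero ω U hT s) 0
  let S : ShortComplex X.Modules :=
    ShortComplex.mk (η ω U) (cokernel.π (η ω U)) (cokernel.condition _)
  have hS : S.ShortExact :=
    { exact := ShortComplex.exact_of_g_is_cokernel _ (cokernelIsCokernel _)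
      mono_f := hmono
      epi_g := inferInstanceAs (Epi (cokernel.π (η ω U))) }
  -- surjectivity of `H¹(η)`
  have hsurj : Function.Surjective (Canon.HHlin A (η ω U) 1) := by
    rw [← LinearMap.range_eq_top]
    have h2 := range_eq_ker₂ S hS A 1
    change LinearMap.range (Canon.HHlin A (η ω U) 1) = _ at h2
    rw [h2, eq_top_iff]
    intro x _
    rw [LinearMap.mem_ker]
    exact Subsingleton.elim _ _
  -- the kernel of `H¹(η)` is killed by `tr`
  have hker : LinearMap.ker (Canon.HHlin A (η ω U) 1) ≤ LinearMap.ker tr := by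
    intro x hx
    have h1 := range_eq_ker₁ S hS A 0
    change _ = LinearMap.ker (Canon.HHlin A (η ω U) 1) at h1
    rw [← h1] at hx
    obtain ⟨q, rfl⟩ := hx
    obtain ⟨n, hn⟩ := exists_pow_smul_eq_zero_H0 (cokernel (η ω U))
      (Coh.toGlobal (X ↘ Spec (CommRingCat.of A)) a)
      (fun s => cokernel_sections_zero ω U haU s) q
    have hn' : a ^ n • q = 0 := by
      change (Coh.toGlobal (X ↘ Spec (CommRingCat.of A)) (a ^ n)) • q = 0
      rw [map_pow]
      exact hn
    rw [LinearMap.mem_ker]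
    have h3 : a ^ n • tr (δLin S hS A 0 q) = 0 := by
      rw [← LinearMap.map_smul, ← LinearMap.map_smul, hn', map_zero, map_zero]
    rcases smul_eq_zero.1 h3 with h | h
    · exact absurd h (pow_ne_zero n ha)
    · exact h
  -- the functional `lam` on `H¹(j_* j^* ω)`
  obtain ⟨lam, hlam⟩ : ∃ lam : Coh.HH X (Fj ω U) 1 →ₗ[A] A,
      ∀ x, lam (Canon.HHlin A (η ω U) 1 x) = tr x := by
    let e := (Canon.HHlin A (η ω U) 1).quotKerEquivOfSurjective hsurj
    refine ⟨((LinearMap.ker (Canon.HHlin A (η ω U) 1)).liftQ tr hker).comp e.symm.toLinearMap, ?_⟩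
    intro x
    have : e.symm (Canon.HHlin A (η ω U) 1 x) = Submodule.Quotient.mk x := by
      rw [LinearEquiv.symm_apply_eq]
      rfl
    rw [LinearMap.comp_apply, LinearEquiv.coe_coe, this, Submodule.liftQ_apply]
  obtain ⟨r, hr⟩ := (hω.2 (Fj ω U) inferInstance).2 lam
  -- `η ≫ r = 𝟙`
  have h1 : η ω U ≫ r = 𝟙 ω := by
    apply (hω.2 ω hω.1).1
    apply LinearMap.ext
    intro x
    change tr (Canon.HHlin A (η ω U ≫ r) 1 x) = tr (Canon.HHlin A (𝟙 ω) 1 x)
    rw [← HHlin_comp_apply', HHlin_id_apply']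
    have := congrArg (fun l : Coh.HH X (Fj ω U) 1 →ₗ[A] A => l (Canon.HHlin A (η ω U) 1 x)) hr
    exact this.trans (hlam x)
  -- `r ≫ η = 𝟙` through the adjunction
  have h2 : r ≫ η ω U = 𝟙 (Fj ω U) := by
    let adj := restrictAdjunction U.ι
    apply (adj.homEquiv _ _).symm.injective
    rw [Adjunction.homEquiv_counit, Adjunction.homEquiv_counit]
    congr 1
    have hiso : IsIso ((restrictFunctor U.ι).map (η ω U)) := by
      have h := adj.left_triangle_components ω
      exact IsIso.of_isIso_fac_right h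
    have h3 : (restrictFunctor U.ι).map (η ω U) ≫ (restrictFunctor U.ι).map r = 𝟙 _ := by
      rw [← CategoryTheory.Functor.map_comp, h1, CategoryTheory.Functor.map_id]
    rw [CategoryTheory.Functor.map_comp, CategoryTheory.Functor.map_id]
    have h4 : (restrictFunctor U.ι).map r = inv ((restrictFunctor U.ι).map (η ω U)) :=
      (IsIso.eq_inv_of_hom_inv_id h3)
    rw [h4, IsIso.inv_hom_id]
  exact ⟨r, h1, h2⟩

end main

end Groth.Agent.Lib.Helper1.DualS2
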