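import Mathlib

/-!
# A saturated, locally principal ideal of a factorial domain is principal (helper1)
-/

set_option autoImplicit false

namespace Groth.Agent.Lib.Helper1.EffCartExt

/-- Let `A` be a Noetherian factorial domain, `J` an ideal and `𝒰` a set of prime ideals such that
`J` is principal (with nonzero generator) at every prime of `𝒰` and is saturated with respect to
`𝒰`. Then `J` is principal, generated by a nonzero element. -/
theorem exists_eq_span_singleton {A : Type*} [CommRing A] [IsDomain A]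
    [UniqueFactorizationMonoid A] [IsNoetherianRing A] (J : Ideal A) (𝒰 : Set (Ideal A))
    (h𝒰 : ∀ 𝔭 ∈ 𝒰, 𝔭.IsPrime)
    (hloc : ∀ 𝔭 ∈ 𝒰, ∃ g ∈ J, g ≠ 0 ∧ ∀ y ∈ J, ∃ t, t ∉ 𝔭 ∧ ∃ c, t * y = c * g)
    (hsat : ∀ a : A, (∀ 𝔭 ∈ 𝒰, ∃ t, t ∉ 𝔭 ∧ t * a ∈ J) → a ∈ J) :
    ∃ d : A, d ≠ 0 ∧ J = Ideal.span {d} := by
  classical
  letI : StrongNormalizationMonoid A := UniqueFactorizationMonoid.strongNormalizationMonoid
  letI : NormalizedGCDMonoid A := UniqueFactorizationMonoid.toNormalizedGCDMonoid A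
  by_cases hne : 𝒰 = ∅
  · refine ⟨1, one_ne_zero, ?_⟩
    have h1 : (1 : A) ∈ J := hsat 1 (by rw [hne]; intro 𝔭 h𝔭; exact absurd h𝔭 (Set.notMem_empty _))
    rw [Ideal.span_singleton_one]
    exact (Ideal.eq_top_iff_one J).2 h1
  obtain ⟨𝔭₀, h𝔭₀⟩ := Set.nonempty_iff_ne_empty.2 hne
  obtain ⟨g₀, hg₀J, hg₀0, -⟩ := hloc 𝔭₀ h𝔭₀
  obtain ⟨S, hS⟩ := (isNoetherianRing_iff_ideal_fg A).1 inferInstance J
  have hSJ : ∀ b ∈ S, b ∈ J := fun b hb => hS ▸ Ideal.subset_span hb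
  have hSne : ∃ x, x ∈ S ∧ (id x : A) ≠ 0 := by
    by_contra hcon
    push Not at hcon
    have : J = ⊥ := by
      rw [← hS, Ideal.span_eq_bot]
      intro x hx
      exact hcon x hx
    rw [this] at hg₀J
    exact hg₀0 hg₀J
  have hSnonempty : S.Nonempty := by
    obtain ⟨x, hx, -⟩ := hSne
    exact ⟨x, hx⟩
  obtain ⟨g', hg', hgcd⟩ := Finset.extract_gcd (id : A → A) hSnonempty
  set d : A := S.gcd id with hd
  have hd0 : d ≠ 0 := by
    intro h0
    obtain ⟨x, hx, hx0⟩ := hSne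
    rw [Finset.gcd_eq_zero_iff] at h0
    exact hx0 (h0 x hx)
  have hJd : J ≤ Ideal.span {d} := by
    rw [← hS, Ideal.span_le]
    intro b hb
    rw [SetLike.mem_coe, Ideal.mem_span_singleton]
    exact Finset.gcd_dvd hb
  have hdJ : d ∈ J := by
    apply hsat
    intro 𝔭 h𝔭
    haveI := h𝒰 𝔭 h𝔭
    obtain ⟨g, hgJ, hg0, hg⟩ := hloc 𝔭 h𝔭
    obtain ⟨h, hh⟩ := Ideal.mem_span_singleton.1 (hJd hgJ)
    -- `g = d * h`
    refine ⟨h, ?_, by rw [mul_comm, ← hh]; exact hgJ⟩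
    intro hh𝔭
    have hh0 : h ≠ 0 := by
      rintro rfl
      rw [mul_zero] at hh
      exact hg0 hh
    have hnu : ¬ IsUnit h := fun hu => (Ideal.IsPrime.ne_top inferInstance)
      (Ideal.eq_top_of_isUnit_mem _ hh𝔭 hu)
    -- a prime factor of `h` inside `𝔭`
    obtain ⟨π, hπ, hπh, hπ𝔭⟩ : ∃ π : A, Prime π ∧ π ∣ h ∧ π ∈ 𝔭 := by
      obtain ⟨f, hfp, hfa⟩ := UniqueFactorizationMonoid.exists_prime_factors h hh0
      have hprod : f.prod ∈ 𝔭 := by
        obtain ⟨u, hu⟩ := hfa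
        have : f.prod = h * ↑u⁻¹ := by rw [← hu, mul_assoc, Units.mul_inv, mul_one]
        rw [this]
        exact Ideal.mul_mem_right _ _ hh𝔭
      obtain ⟨π, hπf, hπ𝔭⟩ := (Ideal.IsPrime.multiset_prod_mem_iff_exists_mem inferInstance f).1 hprod
      exact ⟨π, hfp π hπf, (Multiset.dvd_prod hπf).trans hfa.dvd, hπ𝔭⟩
    have hall : ∀ b ∈ S, π ∣ g' b := by
      intro b hb
      obtain ⟨t, ht, c, hc⟩ := hg b (hSJ b hb)
      have hb' : b = d * g' b := hg' b hb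
      have h1 : d * (t * g' b) = d * (c * h) := by
        calc d * (t * g' b) = t * (d * g' b) := by ring
          _ = t * b := by rw [← hb']
          _ = c * g := hc
          _ = d * (c * h) := by rw [hh]; ring
      have h2 : t * g' b = c * h := mul_left_cancel₀ hd0 h1
      have h3 : π ∣ t * g' b := h2 ▸ (hπh.mul_left c)
      rcases hπ.dvd_or_dvd h3 with h4 | h4
      · exact absurd (Ideal.mem_of_dvd _ h4 hπ𝔭) ht
      · exact h4
    have h5 : π ∣ S.gcd g' := Finset.dvd_gcd hall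
    rw [hgcd] at h5
    exact hπ.not_isUnit (isUnit_of_dvd_one h5)
  exact ⟨d, hd0, le_antisymm hJd ((Ideal.span_singleton_le_iff_mem _).2 hdJ)⟩

end Groth.Agent.Lib.Helper1.EffCartExt
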