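import Groth.Agent.Lib.Helper1.EffCartExt1

/-!
# Principal generators near a factorial point (helper1)

`R` Noetherian, `I` an ideal which is locally principal (by nonzerodivisors) on the open complement
of `V(𝔟)` and saturated with respect to it, `P` a prime with `R_P` factorial. Then `I` is generated
by one nonzerodivisor on a basic open neighbourhood of `P`.
-/

set_option autoImplicit false

namespace Groth.Agent.Lib.Helper1.EffCartExt

/-- uniform denominators for a finitely generated ideal -/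
theorem exists_mul_mem_of_fg {R : Type*} [CommRing R] (M : Submonoid R) (K : Ideal R) (hK : K.FG)
    (Q : R → Prop) (hQ0 : Q 0) (hQadd : ∀ x y, Q x → Q y → Q (x + y))
    (hQsmul : ∀ r x, Q x → Q (r * x))
    (h : ∀ b ∈ K, ∃ m ∈ M, Q (m * b)) : ∃ t ∈ M, ∀ b ∈ K, Q (t * b) := by
  classical
  obtain ⟨T, hT⟩ := hK
  have h' : ∀ b : R, ∃ m ∈ M, b ∈ T → Q (m * b) := by
    intro b
    by_cases hb : b ∈ T
    · obtain ⟨m, hm, hmb⟩ := h b (hT ▸ Ideal.subset_span hb)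
      exact ⟨m, hm, fun _ => hmb⟩
    · exact ⟨1, M.one_mem, fun hb' => absurd hb' hb⟩
  choose m hmM hm using h'
  refine ⟨∏ b ∈ T, m b, M.prod_mem fun b _ => hmM b, ?_⟩
  intro b hb
  rw [← hT] at hb
  refine Submodule.span_induction ?_ ?_ ?_ ?_ hb
  · intro x hx
    have hx' : x ∈ T := hx
    rw [← Finset.mul_prod_erase T m hx', mul_comm (m x), mul_assoc]
    exact hQsmul _ _ (hm x hx')
  · rw [mul_zero]; exact hQ0
  · intro x y _ _ hx hy
    rw [mul_add]; exact hQadd _ _ hx hy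
  · intro r x _ hx
    rw [smul_eq_mul, mul_left_comm]; exact hQsmul _ _ hx

variable {R : Type*} [CommRing R] [IsNoetherianRing R] (I 𝔟 : Ideal R) (P : Ideal R) [P.IsPrime]
  (A : Type*) [CommRing A] [Algebra R A] [IsLocalization.AtPrime A P] [IsDomain A]
  [UniqueFactorizationMonoid A]

include A in
theorem exists_principal_near
    (hloc : ∀ p : Ideal R, p.IsPrime → ¬ 𝔟 ≤ p → ∃ g ∈ I,
      (∀ y ∈ I, ∃ t, t ∉ p ∧ ∃ c, t * y = c * g) ∧ (∀ z, g * z = 0 → ∃ t, t ∉ p ∧ t * z = 0))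
    (hsat : ∀ f : R, (∀ p : Ideal R, p.IsPrime → ¬ 𝔟 ≤ p → ∃ t, t ∉ p ∧ t * f ∈ I) → f ∈ I) :
    ∃ s, s ∉ P ∧ ∃ d ∈ I, (∀ y ∈ I, ∃ c, s * y = c * d) ∧ (∀ z, d * z = 0 → s * z = 0) := by
  classical
  set M : Submonoid R := P.primeCompl with hM
  haveI : IsNoetherianRing A := IsLocalization.isNoetherianRing M A inferInstance
  set J : Ideal A := I.map (algebraMap R A) with hJ
  set 𝒰 : Set (Ideal A) := {𝔭 | 𝔭.IsPrime ∧ ¬ 𝔟 ≤ 𝔭.comap (algebraMap R A)} with h𝒰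
  have hunit : ∀ m : R, m ∈ M → IsUnit (algebraMap R A m) := fun m hm =>
    IsLocalization.map_units A (⟨m, hm⟩ : M)
  have hnotmem : ∀ (𝔭 : Ideal A) [𝔭.IsPrime] (m : R), m ∈ M → algebraMap R A m ∉ 𝔭 := by
    intro 𝔭 _ m hm hmem
    exact (Ideal.IsPrime.ne_top inferInstance) (Ideal.eq_top_of_isUnit_mem _ hmem (hunit m hm))
  -- local principality in `A`
  have hlocA : ∀ 𝔭 ∈ 𝒰, ∃ g ∈ J, g ≠ 0 ∧ ∀ y ∈ J, ∃ t, t ∉ 𝔭 ∧ ∃ c, t * y = c * g := by
    rintro 𝔭 ⟨h𝔭, hb⟩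
    haveI := h𝔭
    obtain ⟨g, hgI, hgen, hnzd⟩ := hloc (𝔭.comap (algebraMap R A)) inferInstance hb
    refine ⟨algebraMap R A g, Ideal.mem_map_of_mem _ hgI, ?_, ?_⟩
    · intro h0
      rw [IsLocalization.map_eq_zero_iff M A g] at h0
      obtain ⟨m, hm⟩ := h0
      obtain ⟨t, ht, htm⟩ := hnzd m (by rw [mul_comm]; exact hm)
      have h1 : algebraMap R A t * algebraMap R A m = 0 := by rw [← map_mul, htm, map_zero]
      have h2 : algebraMap R A t = 0 := (hunit m m.2).mul_left_eq_zero.1 h1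
      exact ht (by rw [Ideal.mem_comap, h2]; exact 𝔭.zero_mem)
    · intro y hy
      rw [hJ, IsLocalization.mem_map_algebraMap_iff M A] at hy
      obtain ⟨⟨⟨y₀, hy₀⟩, s⟩, hys⟩ := hy
      obtain ⟨t, ht, c, hc⟩ := hgen y₀ hy₀
      refine ⟨algebraMap R A t * algebraMap R A s, ?_, algebraMap R A c, ?_⟩
      · intro hmem
        rcases Ideal.IsPrime.mem_or_mem inferInstance hmem with h | h
        · exact ht h
        · exact hnotmem 𝔭 s s.2 h
      · rw [mul_assoc, mul_comm (algebraMap R A ↑s), hys, ← map_mul, ← map_mul]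
        exact congrArg _ hc
  -- saturation in `A`
  have hsatA : ∀ a : A, (∀ 𝔭 ∈ 𝒰, ∃ t, t ∉ 𝔭 ∧ t * a ∈ J) → a ∈ J := by
    intro a ha
    obtain ⟨f, s, rfl⟩ := IsLocalization.exists_mk'_eq M a
    rw [hJ, IsLocalization.mk'_mem_map_algebraMap_iff]
    set 𝔞 : Ideal R := I.colon ({f} : Set R) with h𝔞
    have hmem𝔞 : ∀ x, x ∈ 𝔞 ↔ x * f ∈ I := fun x => by
      rw [h𝔞, Submodule.mem_colon_singleton, smul_eq_mul]
    have hrad : 𝔟.map (algebraMap R A) ≤ (𝔞.map (algebraMap R A)).radical := by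
      rw [Ideal.radical_eq_sInf]
      refine le_sInf ?_
      rintro 𝔮 ⟨h𝔞𝔮, h𝔮⟩
      haveI := h𝔮
      by_contra hcon
      have h𝔮𝒰 : 𝔮 ∈ 𝒰 := ⟨h𝔮, fun hle => hcon (Ideal.map_le_iff_le_comap.2 hle)⟩
      obtain ⟨t, ht, hta⟩ := ha 𝔮 h𝔮𝒰
      obtain ⟨t₁, s₁, rfl⟩ := IsLocalization.exists_mk'_eq M t
      rw [← IsLocalization.mk'_mul, hJ, IsLocalization.mk'_mem_map_algebraMap_iff] at hta
      obtain ⟨s₂, hs₂, hs₂I⟩ := hta
      have h1 : s₂ * t₁ ∈ 𝔞 := by rw [hmem𝔞, mul_assoc]; exact hs₂I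
      have h2 : algebraMap R A (s₂ * t₁) ∈ 𝔮 := h𝔞𝔮 (Ideal.mem_map_of_mem _ h1)
      rw [map_mul] at h2
      rcases Ideal.IsPrime.mem_or_mem inferInstance h2 with h | h
      · exact hnotmem 𝔮 s₂ hs₂ h
      · exact ht ((IsLocalization.mk'_mem_iff).2 h)
    obtain ⟨n, hn⟩ := Ideal.exists_pow_le_of_le_radical_of_fg hrad (IsNoetherian.noetherian _)
    rw [← Ideal.map_pow] at hn
    obtain ⟨t₀, ht₀, ht₀b⟩ := exists_mul_mem_of_fg M (𝔟 ^ n) (IsNoetherian.noetherian _)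
      (fun x => x ∈ 𝔞) 𝔞.zero_mem (fun _ _ => 𝔞.add_mem) (fun r _ h => 𝔞.mul_mem_left r h)
      (fun b hb => by
        have := hn (Ideal.mem_map_of_mem _ hb)
        rwa [IsLocalization.algebraMap_mem_map_algebraMap_iff M] at this)
    refine ⟨t₀, ht₀, ?_⟩
    apply hsat
    intro p hp hbp
    haveI := hp
    have hnp : ¬ 𝔟 ^ n ≤ p := by
      intro hle
      by_cases hn0 : n = 0
      · rw [hn0, pow_zero, Ideal.one_eq_top, top_le_iff] at hle
        exact (Ideal.IsPrime.ne_top inferInstance) hle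
      · exact hbp ((Ideal.IsPrime.pow_le_iff hn0).1 hle)
    obtain ⟨b, hb, hbp'⟩ := SetLike.not_le_iff_exists.1 hnp
    refine ⟨b, hbp', ?_⟩
    have := (hmem𝔞 _).1 (ht₀b b hb)
    rw [mul_left_comm, ← mul_assoc]
    exact this
  obtain ⟨d', hd'0, hd'⟩ := exists_eq_span_singleton J 𝒰 (fun 𝔭 h => h.1) hlocA hsatA
  -- a generator coming from `I`
  have hd'J : d' ∈ J := hd' ▸ Ideal.mem_span_singleton_self d'
  rw [hJ, IsLocalization.mem_map_algebraMap_iff M A] at hd'J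
  obtain ⟨⟨⟨d₀, hd₀⟩, s₀⟩, hds⟩ := hd'J
  have hd₀0 : algebraMap R A d₀ ≠ 0 := by
    rw [← hds]
    exact mul_ne_zero hd'0 (hunit s₀ s₀.2).ne_zero
  have hJd₀ : J = Ideal.span {algebraMap R A d₀} := by
    rw [hd', ← hds]
    exact (Ideal.span_singleton_mul_right_unit (hunit s₀ s₀.2) d').symm
  have h1 : ∀ y ∈ I, ∃ m ∈ M, ∃ c, m * y = c * d₀ := by
    intro y hy
    have hyJ : algebraMap R A y ∈ J := Ideal.mem_map_of_mem _ hy
    rw [hJd₀, Ideal.mem_span_singleton'] at hyJ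
    obtain ⟨a, ha⟩ := hyJ
    obtain ⟨a₀, s₁, rfl⟩ := IsLocalization.exists_mk'_eq M a
    have h2 : algebraMap R A (a₀ * d₀) = algebraMap R A (s₁ * y) := by
      rw [map_mul, map_mul, ← ha, ← mul_assoc, IsLocalization.mk'_spec']
    obtain ⟨m, hm⟩ := (IsLocalization.eq_iff_exists M A).1 h2
    exact ⟨m * s₁, M.mul_mem m.2 s₁.2, m * a₀, by rw [mul_assoc, mul_assoc]; exact hm.symm⟩
  have h2 : ∀ z ∈ (⊥ : Ideal R).colon ({d₀} : Set R), ∃ m ∈ M, m * z = 0 := by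
    intro z hz
    rw [Submodule.mem_colon_singleton, smul_eq_mul, Submodule.mem_bot] at hz
    have h3 : algebraMap R A z * algebraMap R A d₀ = 0 := by rw [← map_mul, hz, map_zero]
    have h4 : algebraMap R A z = 0 := (mul_eq_zero.1 h3).resolve_right hd₀0
    rw [IsLocalization.map_eq_zero_iff M A z] at h4
    obtain ⟨m, hm⟩ := h4
    exact ⟨m, m.2, hm⟩
  obtain ⟨s₁, hs₁, hs₁I⟩ := exists_mul_mem_of_fg M I (IsNoetherian.noetherian _)
    (fun x => ∃ c, x = c * d₀) ⟨0, by rw [zero_mul]⟩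
    (fun x y ⟨c, hc⟩ ⟨c', hc'⟩ => ⟨c + c', by rw [hc, hc', add_mul]⟩)
    (fun r x ⟨c, hc⟩ => ⟨r * c, by rw [hc, mul_assoc]⟩)
    (fun y hy => by
      obtain ⟨m, hm, c, hc⟩ := h1 y hy
      exact ⟨m, hm, c, hc⟩)
  obtain ⟨s₂, hs₂, hs₂I⟩ := exists_mul_mem_of_fg M ((⊥ : Ideal R).colon ({d₀} : Set R))
    (IsNoetherian.noetherian _)
    (fun x => x = 0) rfl (fun x y hx hy => by rw [hx, hy, add_zero])
    (fun r x hx => by rw [hx, mul_zero]) h2
  refine ⟨s₁ * s₂, M.mul_mem hs₁ hs₂, d₀, hd₀, ?_, ?_⟩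
  · intro y hy
    obtain ⟨c, hc⟩ := hs₁I y hy
    exact ⟨s₂ * c, by rw [mul_comm s₁, mul_assoc, hc, mul_assoc]⟩
  · intro z hz
    have hz' : z ∈ (⊥ : Ideal R).colon ({d₀} : Set R) := by
      rw [Submodule.mem_colon_singleton, smul_eq_mul, Submodule.mem_bot, mul_comm]
      exact hz
    rw [mul_assoc, hs₂I z hz', mul_zero]

end Groth.Agent.Lib.Helper1.EffCartExt
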