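import Groth.Agent.Lib.Helper1.EffCartExt2
import Groth.Prelude.Def_BlowUp2

/-!
# Scheme-theoretic closure of an effective Cartier divisor: local pieces (helper1)
-/

set_option autoImplicit false
universe u
open CategoryTheory CategoryTheory.Limits AlgebraicGeometry Opposite TopologicalSpace

namespace Groth.Agent.Lib.Helper1.EffCartExt

variable {X : Scheme.{u}}

/-- the ideal on an affine open is generated by one nonzerodivisor -/
def Pr (I : X.IdealSheafData) (W : X.affineOpens) : Prop :=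
  ∃ f : Γ(X, W.1), f ∈ nonZeroDivisors Γ(X, W.1) ∧ I.ideal W = Ideal.span {f}

theorem isEffCartierIdeal_iff (I : X.IdealSheafData) :
    BlowUp.IsEffCartierIdeal I ↔ ∀ x : X, ∃ W : X.affineOpens, x ∈ W.1 ∧ Pr I W := Iff.rfl

/-- principal generation by a nonzerodivisor passes to basic opens. -/
theorem pr_basicOpen (I : X.IdealSheafData) (W : X.affineOpens) (g : Γ(X, W.1)) (h : Pr I W) :
    Pr I (X.affineBasicOpen g) := by
  obtain ⟨f, hf, hI⟩ := h
  refine ⟨(X.presheaf.map (homOfLE (X.basicOpen_le g)).op).hom f, ?_, ?_⟩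
  · letI : Algebra Γ(X, W.1) Γ(X, X.basicOpen g) :=
      (X.presheaf.map (homOfLE (X.basicOpen_le g)).op).hom.toAlgebra
    haveI : IsLocalization.Away g Γ(X, X.basicOpen g) := W.2.isLocalization_basicOpen g
    exact IsLocalization.map_nonZeroDivisors_le (Submonoid.powers g) Γ(X, X.basicOpen g)
      ⟨f, hf, rfl⟩
  · rw [← I.map_ideal_basicOpen W g, hI, Ideal.map_span, Set.image_singleton]
    rfl

/-- a section in the kernel ideal locally (up to invertible multipliers) is in the kernel ideal -/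
theorem mem_ker_of_locally {Z : Scheme.{u}} (ι : Z ⟶ X) [QuasiCompact ι] {V : X.Opens}
    (hV : IsAffineOpen V) (f : Γ(X, V))
    (h : ∀ z : Z, ι.base z ∈ V → ∃ t : Γ(X, V), ι.base z ∈ X.basicOpen t ∧
      t * f ∈ ι.ker.ideal ⟨V, hV⟩) :
    f ∈ ι.ker.ideal ⟨V, hV⟩ := by
  rw [Scheme.Hom.ker_apply, RingHom.mem_ker]
  have h' : ∀ z : ↥(ι ⁻¹ᵁ V), ∃ t : Γ(X, V), ι.base z.1 ∈ X.basicOpen t ∧
      (ι.app V).hom (t * f) = 0 := by
    intro z
    obtain ⟨t, ht, htf⟩ := h z.1 z.2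
    rw [Scheme.Hom.ker_apply, RingHom.mem_ker] at htf
    exact ⟨t, ht, htf⟩
  choose t ht htf using h'
  have hle : ∀ z : ↥(ι ⁻¹ᵁ V), ι ⁻¹ᵁ (X.basicOpen (t z)) ≤ ι ⁻¹ᵁ V := fun z =>
    (Opens.map ι.base).monotone (X.basicOpen_le (t z))
  refine Z.sheaf.eq_of_locally_eq' (fun z : ↥(ι ⁻¹ᵁ V) => ι ⁻¹ᵁ (X.basicOpen (t z))) (ι ⁻¹ᵁ V)
    (fun z => homOfLE (hle z)) ?_ _ _ ?_
  · intro z hz
    rw [Opens.mem_iSup]
    exact ⟨⟨z, hz⟩, ht ⟨z, hz⟩⟩
  · intro z
    show (Z.presheaf.map (homOfLE (hle z)).op).hom ((ι.app V).hom f) =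
      (Z.presheaf.map (homOfLE (hle z)).op).hom 0
    rw [map_zero]
    have hnat := ι.naturality (homOfLE (X.basicOpen_le (t z))).op
    have h1 : ∀ r : Γ(X, V), (Z.presheaf.map (homOfLE (hle z)).op).hom ((ι.app V).hom r) =
        (ι.app (X.basicOpen (t z))).hom ((X.presheaf.map (homOfLE (X.basicOpen_le (t z))).op).hom r) := by
      intro r
      have := congrArg (fun φ => φ.hom r) hnat
      simp only [CommRingCat.hom_comp, RingHom.comp_apply] at this
      exact this.symm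
    have h2 := congrArg (Z.presheaf.map (homOfLE (hle z)).op).hom (htf z)
    rw [map_zero, h1, map_mul, map_mul] at h2
    have hu : IsUnit ((X.presheaf.map (homOfLE (X.basicOpen_le (t z))).op).hom (t z)) :=
      RingedSpace.isUnit_res_basicOpen _ (t z)
    have hu' := hu.map (ι.app (X.basicOpen (t z))).hom
    rw [h1]
    exact hu'.mul_right_eq_zero.1 h2

/-- the closure ideal on an affine open inside `U` -/
theorem pr_map_of_le (U : X.Opens) [QuasiCompact U.ι] (D : (U : Scheme.{u}).IdealSheafData)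
    (W' : X.affineOpens) (hW' : W'.1 ≤ U) (H : IsAffineOpen (U.ι ⁻¹ᵁ W'.1)) (h : Pr D ⟨_, H⟩) :
    Pr (D.map U.ι) W' := by
  have hI := Scheme.IdealSheafData.ideal_map D U.ι W' H
  haveI : IsIso (U.ι.app W'.1) :=
    U.ι.isIso_app W'.1 (by rw [Scheme.Opens.opensRange_ι]; exact hW')
  let e : Γ(X, W'.1) ≃+* Γ(U, U.ι ⁻¹ᵁ W'.1) := (asIso (U.ι.app W'.1)).commRingCatIsoToRingEquiv
  have he : ∀ r, e r = (U.ι.app W'.1).hom r := fun r => rfl
  obtain ⟨f, hf, hD⟩ := h
  refine ⟨e.symm f, ?_, ?_⟩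
  · rw [mem_nonZeroDivisors_iff_right] at hf ⊢
    intro z hz
    have := hf (e z) (by rw [← e.apply_symm_apply f, ← map_mul, hz, map_zero])
    exact e.injective (by rw [this, map_zero])
  · rw [hI, hD]
    ext x
    rw [Ideal.mem_comap, Ideal.mem_span_singleton', Ideal.mem_span_singleton']
    constructor
    · rintro ⟨a, ha⟩
      refine ⟨e.symm a, ?_⟩
      apply e.injective
      rw [map_mul, e.apply_symm_apply, e.apply_symm_apply]
      exact ha
    · rintro ⟨a, ha⟩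
      refine ⟨e a, ?_⟩
      rw [← ha, ← he, map_mul, e.apply_symm_apply]

/-- the closure ideal on the image of an affine open of `U` -/
theorem pr_map_of_pr (U : X.Opens) [QuasiCompact U.ι] (D : (U : Scheme.{u}).IdealSheafData)
    (W : (U : Scheme.{u}).affineOpens) (h : Pr D W) :
    Pr (D.map U.ι) ⟨U.ι ''ᵁ W.1, W.2.image_of_isOpenImmersion U.ι⟩ := by
  have hpre : U.ι ⁻¹ᵁ (U.ι ''ᵁ W.1) = W.1 := U.ι.preimage_image_eq W.1
  have H : IsAffineOpen (U.ι ⁻¹ᵁ (U.ι ''ᵁ W.1)) := by rw [hpre]; exact W.2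
  have hW : (⟨U.ι ⁻¹ᵁ (U.ι ''ᵁ W.1), H⟩ : (U : Scheme.{u}).affineOpens) = W := Subtype.ext hpre
  have h' : Pr D ⟨U.ι ⁻¹ᵁ (U.ι ''ᵁ W.1), H⟩ := by rw [hW]; exact h
  exact pr_map_of_le U D ⟨U.ι ''ᵁ W.1, W.2.image_of_isOpenImmersion U.ι⟩
    (Scheme.Opens.ι_image_le U W.1) H h'

/-- the closure ideal restricts to the original ideal -/
theorem comap_map_ι (U : X.Opens) [QuasiCompact U.ι] (D : (U : Scheme.{u}).IdealSheafData) :
    (D.map U.ι).comap U.ι = D := by
  apply Scheme.IdealSheafData.ext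
  funext W
  rw [Scheme.IdealSheafData.ideal_comap_of_isOpenImmersion]
  have hpre : U.ι ⁻¹ᵁ (U.ι ''ᵁ W.1) = W.1 := U.ι.preimage_image_eq W.1
  have H : IsAffineOpen (U.ι ⁻¹ᵁ (U.ι ''ᵁ W.1)) := by rw [hpre]; exact W.2
  rw [Scheme.IdealSheafData.ideal_map D U.ι _ H, Ideal.comap_comap]
  have hcomp : (U.ι.app (U.ι ''ᵁ W.1)).hom.comp (U.ι.appIso W.1).inv.hom =
      ((U : Scheme.{u}).presheaf.map (eqToHom hpre).op).hom := by
    rw [← CommRingCat.hom_comp]
    congr 1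
    rw [Iso.inv_comp_eq, Scheme.Hom.appIso_hom, Category.assoc, ← Functor.map_comp, ← op_comp,
      eqToHom_trans, eqToHom_refl, op_id, CategoryTheory.Functor.map_id, Category.comp_id]
  rw [hcomp]
  have hmap := D.map_ideal' (U := ⟨U.ι ⁻¹ᵁ (U.ι ''ᵁ W.1), H⟩) (V := W) (eqToHom hpre).op
  rw [← hmap]
  refine Ideal.comap_map_of_bijective _ ?_
  exact ConcreteCategory.bijective_of_isIso ((U : Scheme.{u}).presheaf.map (eqToHom hpre).op)

end Groth.Agent.Lib.Helper1.EffCartExt
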