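import Groth.Agent.Lib.Helper1.EffCartExt3

/-!
# Extension of effective Cartier divisors across factorial points (helper1)
-/

set_option autoImplicit false
universe u
open CategoryTheory CategoryTheory.Limits AlgebraicGeometry Opposite TopologicalSpace

namespace Groth.Agent.Lib.Helper1.EffCartExt

/-- from a principal generator on a basic open to an element-wise description -/
theorem exists_gen_of_away {R S : Type*} [CommRing R] [CommRing S] [Algebra R S] (f : R)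
    [IsLocalization.Away f S] (I : Ideal R) (γ : S) (hγ : γ ∈ nonZeroDivisors S)
    (hI : I.map (algebraMap R S) = Ideal.span {γ}) :
    ∃ g ∈ I, (∀ y ∈ I, ∃ n : ℕ, ∃ c, f ^ n * y = c * g) ∧
      (∀ z, g * z = 0 → ∃ n : ℕ, f ^ n * z = 0) := by
  set M : Submonoid R := Submonoid.powers f with hM
  have hγI : γ ∈ I.map (algebraMap R S) := hI ▸ Ideal.mem_span_singleton_self γ
  rw [IsLocalization.mem_map_algebraMap_iff M S] at hγI
  obtain ⟨⟨⟨g, hg⟩, s⟩, hgs⟩ := hγI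
  change γ * algebraMap R S ↑s = algebraMap R S g at hgs
  obtain ⟨k, hk⟩ := s.2
  replace hk : f ^ k = ↑s := hk
  refine ⟨g, hg, ?_, ?_⟩
  · intro y hy
    have hyI : algebraMap R S y ∈ I.map (algebraMap R S) := Ideal.mem_map_of_mem _ hy
    rw [hI, Ideal.mem_span_singleton'] at hyI
    obtain ⟨a, ha⟩ := hyI
    obtain ⟨a₀, s₁, rfl⟩ := IsLocalization.exists_mk'_eq M a
    obtain ⟨k₁, hk₁⟩ := s₁.2
    replace hk₁ : f ^ k₁ = ↑s₁ := hk₁
    have h2 : algebraMap R S (a₀ * g) = algebraMap R S (↑s₁ * ↑s * y) := by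
      rw [map_mul, map_mul, map_mul, ← ha, ← hgs]
      have := IsLocalization.mk'_spec' S a₀ s₁
      calc algebraMap R S a₀ * (γ * algebraMap R S ↑s)
          = (algebraMap R S ↑s₁ * IsLocalization.mk' S a₀ s₁) * (γ * algebraMap R S ↑s) := by
            rw [this]
        _ = algebraMap R S ↑s₁ * algebraMap R S ↑s * (IsLocalization.mk' S a₀ s₁ * γ) := by ring
    obtain ⟨m, hm⟩ := (IsLocalization.eq_iff_exists M S).1 h2
    obtain ⟨k₂, hk₂⟩ := m.2
    replace hk₂ : f ^ k₂ = ↑m := hk₂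
    refine ⟨k₂ + k₁ + k, ↑m * a₀, ?_⟩
    rw [pow_add, pow_add, hk, hk₁, hk₂, mul_assoc (↑m : R) a₀ g, hm]
    ring
  · intro z hz
    have h1 : γ * (algebraMap R S ↑s * algebraMap R S z) = 0 := by
      rw [← mul_assoc, hgs, ← map_mul, hz, map_zero]
    have h2 : algebraMap R S ↑s * algebraMap R S z = 0 := by
      have := (mem_nonZeroDivisors_iff_right.1 hγ) (algebraMap R S ↑s * algebraMap R S z)
        (by rw [mul_comm]; exact h1)
      exact this
    rw [← map_mul, IsLocalization.map_eq_zero_iff M S] at h2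
    obtain ⟨m, hm⟩ := h2
    obtain ⟨k₂, hk₂⟩ := m.2
    replace hk₂ : f ^ k₂ = ↑m := hk₂
    refine ⟨k₂ + k, ?_⟩
    rw [pow_add, hk, hk₂, mul_assoc]
    exact hm

/-- from an element-wise description to a principal generator on a basic open -/
theorem map_eq_span_of_gen {R S : Type*} [CommRing R] [CommRing S] [Algebra R S] (s : R)
    [IsLocalization.Away s S] (I : Ideal R) (d : R) (hd : d ∈ I)
    (hgen : ∀ y ∈ I, ∃ c, s * y = c * d) (hnzd : ∀ z, d * z = 0 → s * z = 0) :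
    algebraMap R S d ∈ nonZeroDivisors S ∧
      I.map (algebraMap R S) = Ideal.span {algebraMap R S d} := by
  have hsu : IsUnit (algebraMap R S s) := IsLocalization.Away.algebraMap_isUnit s
  constructor
  · rw [mem_nonZeroDivisors_iff_right]
    intro z' hz'
    obtain ⟨z, t, rfl⟩ := IsLocalization.exists_mk'_eq (Submonoid.powers s) z'
    rw [IsLocalization.mk'_eq_zero_iff]
    have h1 : algebraMap R S (z * d) = 0 := by
      have := congrArg (fun w => w * algebraMap R S ↑t) hz'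
      simp only [zero_mul] at this
      rw [mul_assoc, mul_comm (algebraMap _ _ d), ← mul_assoc, IsLocalization.mk'_spec] at this
      rw [map_mul, this]
    rw [IsLocalization.map_eq_zero_iff (Submonoid.powers s)] at h1
    obtain ⟨m', hm⟩ := h1
    obtain ⟨m, hm'⟩ := m'.2
    replace hm' : s ^ m = ↑m' := hm'
    have h2 : d * (s ^ m * z) = 0 := by
      have : s ^ m * (z * d) = 0 := by rw [hm']; exact hm
      rw [← this]; ring
    have h3 := hnzd _ h2
    refine ⟨⟨s ^ (m + 1), ⟨m + 1, rfl⟩⟩, ?_⟩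
    show s ^ (m + 1) * z = 0
    rw [pow_succ, mul_comm (s ^ m) s, mul_assoc]
    exact h3
  · apply le_antisymm
    · rw [Ideal.map_le_iff_le_comap]
      intro y hy
      obtain ⟨c, hc⟩ := hgen y hy
      rw [Ideal.mem_comap, Ideal.mem_span_singleton']
      obtain ⟨u, hu⟩ := hsu
      refine ⟨↑u⁻¹ * algebraMap _ _ c, ?_⟩
      have h1 : algebraMap R S (s * y) = algebraMap R S (c * d) := congrArg _ hc
      rw [map_mul, map_mul, ← hu] at h1
      rw [mul_assoc, ← h1, ← mul_assoc, Units.inv_mul, one_mul]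
    · rw [Ideal.span_singleton_le_iff_mem]
      exact Ideal.mem_map_of_mem _ hd

variable {X : Scheme.{u}}

theorem fromSpec_mem_basicOpen_iff {V : X.Opens} (hV : IsAffineOpen V)
    (p : PrimeSpectrum Γ(X, V)) (f : Γ(X, V)) :
    hV.fromSpec p ∈ X.basicOpen f ↔ f ∉ p.asIdeal := by
  have : p ∈ hV.fromSpec ⁻¹ᵁ X.basicOpen f ↔ f ∉ p.asIdeal := by
    rw [hV.fromSpec_preimage_basicOpen]
    rfl
  exact this

theorem fromSpec_mem {V : X.Opens} (hV : IsAffineOpen V) (p : PrimeSpectrum Γ(X, V)) :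
    hV.fromSpec p ∈ V := by
  have := hV.range_fromSpec
  rw [← SetLike.mem_coe, ← this]
  exact Set.mem_range_self p

/-- principal generation on a basic open from an element-wise description -/
theorem pr_basicOpen_of_gen (I : X.IdealSheafData) {V : X.Opens} (hV : IsAffineOpen V)
    (s d : Γ(X, V)) (hd : d ∈ I.ideal ⟨V, hV⟩)
    (hgen : ∀ y ∈ I.ideal ⟨V, hV⟩, ∃ c, s * y = c * d) (hnzd : ∀ z, d * z = 0 → s * z = 0) :
    Pr I (X.affineBasicOpen (U := ⟨V, hV⟩) s) := by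
  letI : Algebra Γ(X, V) Γ(X, X.basicOpen s) :=
    (X.presheaf.map (homOfLE (X.basicOpen_le s)).op).hom.toAlgebra
  haveI : IsLocalization.Away s Γ(X, X.basicOpen s) := hV.isLocalization_basicOpen s
  obtain ⟨h1, h2⟩ := map_eq_span_of_gen (S := Γ(X, X.basicOpen s)) s (I.ideal ⟨V, hV⟩) d hd hgen hnzd
  refine ⟨algebraMap Γ(X, V) Γ(X, X.basicOpen s) d, h1, ?_⟩
  rw [← I.map_ideal_basicOpen ⟨V, hV⟩ s]
  exact h2

/-- element-wise description of a principal generator near a point, from one on a basic open -/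
theorem exists_gen_of_pr_basicOpen (I : X.IdealSheafData) {V : X.Opens} (hV : IsAffineOpen V)
    (f : Γ(X, V)) (h : Pr I (X.affineBasicOpen (U := ⟨V, hV⟩) f)) :
    ∃ g ∈ I.ideal ⟨V, hV⟩, (∀ y ∈ I.ideal ⟨V, hV⟩, ∃ n : ℕ, ∃ c, f ^ n * y = c * g) ∧
      (∀ z, g * z = 0 → ∃ n : ℕ, f ^ n * z = 0) := by
  obtain ⟨γ, hγ, hγI⟩ := h
  rw [← I.map_ideal_basicOpen ⟨V, hV⟩ f] at hγI
  letI : Algebra Γ(X, V) Γ(X, X.basicOpen f) :=
    (X.presheaf.map (homOfLE (X.basicOpen_le f)).op).hom.toAlgebra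
  haveI : IsLocalization.Away f Γ(X, X.basicOpen f) := hV.isLocalization_basicOpen f
  have hγI' : (I.ideal ⟨V, hV⟩).map (algebraMap Γ(X, V) Γ(X, X.basicOpen f)) = Ideal.span {γ} :=
    hγI
  exact exists_gen_of_away (S := Γ(X, X.basicOpen f)) f (I.ideal ⟨V, hV⟩) γ hγ hγI'

/-- local principality of the closure ideal at points of `U` -/
theorem exists_gen_at (U : X.Opens) [QuasiCompact U.ι] (D : (U : Scheme.{u}).IdealSheafData)
    (hD : BlowUp.IsEffCartierIdeal D) {V : X.Opens} (hV : IsAffineOpen V)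
    (p : PrimeSpectrum Γ(X, V)) (hyU : hV.fromSpec p ∈ U) :
    ∃ g ∈ (D.map U.ι).ideal ⟨V, hV⟩,
      (∀ y ∈ (D.map U.ι).ideal ⟨V, hV⟩, ∃ t, t ∉ p.asIdeal ∧ ∃ c, t * y = c * g) ∧
        (∀ z, g * z = 0 → ∃ t, t ∉ p.asIdeal ∧ t * z = 0) := by
  have hyV : hV.fromSpec p ∈ V := fromSpec_mem hV p
  obtain ⟨W, hyW, hW⟩ := hD ⟨hV.fromSpec p, hyU⟩
  have hW' := pr_map_of_pr U D W hW
  have hyW' : hV.fromSpec p ∈ U.ι ''ᵁ W.1 := ⟨⟨hV.fromSpec p, hyU⟩, hyW, rfl⟩
  obtain ⟨f, g, hfg, hyf⟩ := exists_basicOpen_le_affine_inter hV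
    (W.2.image_of_isOpenImmersion U.ι) (hV.fromSpec p) ⟨hyV, hyW'⟩
  have h1 := pr_basicOpen (D.map U.ι) ⟨U.ι ''ᵁ W.1, W.2.image_of_isOpenImmersion U.ι⟩ g hW'
  have heq : X.affineBasicOpen (U := ⟨U.ι ''ᵁ W.1, W.2.image_of_isOpenImmersion U.ι⟩) g =
      X.affineBasicOpen (U := ⟨V, hV⟩) f := Subtype.ext hfg.symm
  rw [heq] at h1
  obtain ⟨g₀, hg₀, hgen, hnzd⟩ := exists_gen_of_pr_basicOpen (D.map U.ι) hV f h1
  have hfp : f ∉ p.asIdeal := (fromSpec_mem_basicOpen_iff hV p f).1 hyf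
  have hfn : ∀ n : ℕ, f ^ n ∉ p.asIdeal := fun n h => hfp (p.isPrime.mem_of_pow_mem n h)
  refine ⟨g₀, hg₀, ?_, ?_⟩
  · intro y' hy'
    obtain ⟨n, c, hc⟩ := hgen y' hy'
    exact ⟨f ^ n, hfn n, c, hc⟩
  · intro z hz
    obtain ⟨n, hn⟩ := hnzd z hz
    exact ⟨f ^ n, hfn n, hn⟩

/-- saturation of the closure ideal -/
theorem mem_of_locally_mem (U : X.Opens) [QuasiCompact U.ι] (D : (U : Scheme.{u}).IdealSheafData)
    {V : X.Opens} (hV : IsAffineOpen V) (f : Γ(X, V))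
    (hf : ∀ p : PrimeSpectrum Γ(X, V), hV.fromSpec p ∈ U →
      ∃ t, t ∉ p.asIdeal ∧ t * f ∈ (D.map U.ι).ideal ⟨V, hV⟩) :
    f ∈ (D.map U.ι).ideal ⟨V, hV⟩ := by
  refine mem_ker_of_locally (D.subschemeι ≫ U.ι) hV f ?_
  intro z hz
  have hyU : (D.subschemeι ≫ U.ι).base z ∈ U := by
    rw [Scheme.Hom.comp_base, TopCat.comp_app]
    exact (D.subschemeι.base z).2
  have hpy : hV.fromSpec (hV.primeIdealOf ⟨_, hz⟩) = (D.subschemeι ≫ U.ι).base z :=
    hV.fromSpec_primeIdealOf ⟨_, hz⟩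
  obtain ⟨t, ht, htf⟩ := hf (hV.primeIdealOf ⟨_, hz⟩) (by rw [hpy]; exact hyU)
  refine ⟨t, ?_, htf⟩
  rw [← hpy, fromSpec_mem_basicOpen_iff]
  exact ht

/-- at a point with factorial local ring the closure ideal is generated by one
nonzerodivisor on an affine neighbourhood -/
theorem exists_pr_of_ufd [IsLocallyNoetherian X] (U : X.Opens)
    (D : (U : Scheme.{u}).IdealSheafData) (hD : BlowUp.IsEffCartierIdeal D) (x : X)
    (hdom : IsDomain (X.presheaf.stalk x))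
    (hufd : UniqueFactorizationMonoid (X.presheaf.stalk x)) :
    ∃ W : X.affineOpens, x ∈ W.1 ∧ Pr (D.map U.ι) W := by
  obtain ⟨V, hV, hxV, -⟩ := (Opens.isBasis_iff_nbhd.1 X.isBasis_affineOpens)
    (show x ∈ (⊤ : X.Opens) from trivial)
  haveI : IsNoetherianRing Γ(X, V) := IsLocallyNoetherian.component_noetherian ⟨V, hV⟩
  letI := X.presheaf.algebra_section_stalk (⟨x, hxV⟩ : V)
  haveI := hV.isLocalization_stalk ⟨x, hxV⟩
  -- points of `V` whose prime does not contain `𝔟` lie in `U`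
  have hmemU : ∀ p : PrimeSpectrum Γ(X, V),
      ¬ Ideal.span {h : Γ(X, V) | X.basicOpen h ≤ U} ≤ p.asIdeal → hV.fromSpec p ∈ U := by
    intro p hp
    rw [Ideal.span_le] at hp
    obtain ⟨h, hhU, hhp⟩ := Set.not_subset.1 hp
    exact hhU ((fromSpec_mem_basicOpen_iff hV p h).2 hhp)
  have hnotle : ∀ p : PrimeSpectrum Γ(X, V), hV.fromSpec p ∈ U →
      ¬ Ideal.span {h : Γ(X, V) | X.basicOpen h ≤ U} ≤ p.asIdeal := by
    intro p hpU hle
    obtain ⟨h, hhU, hyh⟩ := hV.exists_basicOpen_le (V := U) ⟨hV.fromSpec p, hpU⟩ (fromSpec_mem hV p)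
    have h1 : h ∈ Ideal.span {h : Γ(X, V) | X.basicOpen h ≤ U} := Ideal.subset_span hhU
    exact (fromSpec_mem_basicOpen_iff hV p h).1 hyh (hle h1)
  obtain ⟨s, hs, d, hd, hgen, hnzd⟩ := exists_principal_near ((D.map U.ι).ideal ⟨V, hV⟩)
    (Ideal.span {h : Γ(X, V) | X.basicOpen h ≤ U})
    (hV.primeIdealOf ⟨x, hxV⟩).asIdeal (X.presheaf.stalk x)
    (fun p hp hbp => exists_gen_at U D hD hV ⟨p, hp⟩ (hmemU ⟨p, hp⟩ hbp))
    (fun f hf => mem_of_locally_mem U D hV f fun p hpU =>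
      hf p.asIdeal p.isPrime (hnotle p hpU))
  refine ⟨X.affineBasicOpen (U := ⟨V, hV⟩) s, ?_, pr_basicOpen_of_gen _ hV s d hd hgen hnzd⟩
  have hx' : hV.fromSpec (hV.primeIdealOf ⟨x, hxV⟩) = x := hV.fromSpec_primeIdealOf ⟨x, hxV⟩
  show x ∈ X.basicOpen s
  rw [← hx', fromSpec_mem_basicOpen_iff]
  exact hs

end Groth.Agent.Lib.Helper1.EffCartExt
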