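import Groth.Agent.Lib.Helper1.ModFlatMore
import Mathlib.Algebra.Category.Grp.AB

/-!
# Enough flat modules on a ringed site
-/

set_option autoImplicit false
universe u
open CategoryTheory CategoryTheory.Limits

namespace Groth.Agent.Lib.Helper1.EnoughFlat

open Groth.Agent.Lib.Helper1.TensorAdj Groth.Agent.Lib.Helper1.ModFlat
  Groth.Agent.Lib.Helper1.ModFlatMore

variable {C : Type u} [SmallCategory C] {J : GrothendieckTopology C}
  (O : Sheaf J CommRingCat.{u})

/-- a coproduct of flat modules is flat -/
theorem isFlat_of_isColimit_cofan {ι : Type u} (F : ι → ModSite.Mod O)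
    (hF : ∀ i, ModSite.IsFlat (F i)) (c : Cofan F) (hc : IsColimit c) : ModSite.IsFlat c.pt := by
  haveI : HasExactColimitsOfShape (Discrete ι) AddCommGrpCat.{u} := inferInstance
  exact isFlat_of_isColimit O (Discrete.functor F) (fun i => hF i.as) c hc

/-- index type for the canonical flat cover -/
abbrev CoverIdx (F : ModSite.Mod O) : Type u := Σ X : C, (ModSite.freeOn O X ⟶ F)

/-- the canonical flat cover -/
noncomputable abbrev cover (F : ModSite.Mod O) : ModSite.Mod O :=
  ∐ (fun i : CoverIdx O F => ModSite.freeOn O i.1)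

/-- the canonical map from the flat cover -/
noncomputable abbrev coverπ (F : ModSite.Mod O) : cover O F ⟶ F :=
  Sigma.desc (fun i : CoverIdx O F => i.2)

theorem isFlat_cover (F : ModSite.Mod O) : ModSite.IsFlat (cover O F) :=
  isFlat_of_isColimit_cofan O (fun i : CoverIdx O F => ModSite.freeOn O i.1)
    (fun i => isFlat_freeOn O i.1) _ (coproductIsCoproduct _)

instance epi_coverπ (F : ModSite.Mod O) : Epi (coverπ O F) where
  left_cancellation {Z} u v huv := by
    refine isSeparating_freeOn O u v ?_
    intro G hG h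
    obtain ⟨X⟩ := hG
    have := Sigma.ι (fun i : CoverIdx O F => ModSite.freeOn O i.1) ⟨X.1, h⟩ ≫= huv
    simpa using this

/-- every module is a quotient of a flat module -/
theorem exists_epi_of_isFlat (F : ModSite.Mod O) :
    ∃ (G : ModSite.Mod O) (π : G ⟶ F), ModSite.IsFlat G ∧ Epi π :=
  ⟨cover O F, coverπ O F, isFlat_cover O F, inferInstance⟩

end Groth.Agent.Lib.Helper1.EnoughFlat
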