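import Groth.Prelude.Def_ModSite
import Groth.Prelude.Def_AlgSpPerf
import Mathlib.CategoryTheory.Idempotents.Basic
import Mathlib.Algebra.Category.ModuleCat.Biproducts

/-!
# Global sections of direct summands of finite free modules on a site with a final object
-/

set_option autoImplicit false
universe u
open CategoryTheory CategoryTheory.Limits Opposite

namespace Groth.Agent.Lib.Helper1.FinFreeSections

variable {C : Type u} [SmallCategory C] {J : GrothendieckTopology C} (R : Sheaf J RingCat.{u})
  {X : C} (hX : IsTerminal X)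

/-- global sections as evaluation at the final object -/
noncomputable abbrev Γ : SheafOfModules.{u} R ⥤ ModuleCat.{u} (R.obj.obj (op X)) :=
  SheafOfModules.evaluation R (op X)

instance : (Γ R (X := X)).Additive :=
  inferInstanceAs (SheafOfModules.forget R ⋙ PresheafOfModules.evaluation R.obj (op X)).Additive

variable {R}

include hX in
lemma sections_ext_terminal (N : SheafOfModules.{u} R) (s t : N.sections)
    (h : s.1 (op X) = t.1 (op X)) : s = t := by
  apply PresheafOfModules.sections_ext
  intro V
  have hs := s.2 (hX.from V.unop).op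
  have ht := t.2 (hX.from V.unop).op
  rw [← hs, ← ht, h]

/-- the section determined by an element over the final object -/
noncomputable def secOf (N : SheafOfModules.{u} R) (m : N.val.obj (op X)) : N.sections :=
  PresheafOfModules.sectionsMk (M := N.val)
    (fun V => N.val.map (hX.from V.unop).op m)
    (by
      intro V W f
      rw [← PresheafOfModules.map_comp_apply]
      have : (hX.from V.unop).op ≫ f = (hX.from W.unop).op := by
        rw [← hX.hom_ext (f.unop ≫ hX.from V.unop) (hX.from W.unop)]; rfl
      rw [PresheafOfModules.congr_map_apply _ this])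

lemma secOf_val (N : SheafOfModules.{u} R) (m : N.val.obj (op X)) :
    (secOf hX N m).1 (op X) = m := by
  show N.val.map (hX.from X).op m = m
  have : (hX.from X).op = 𝟙 _ := by
    rw [← op_id]; congr 1; exact hX.hom_ext _ _
  rw [this]
  simp

section Free

variable (I : Type u) [Finite I]

/-- `Γ(free I)` is a coproduct of copies of `Γ(unit)` -/
noncomputable def isColimitΓFree :
    IsColimit ((Γ R (X := X)).mapCocone (SheafOfModules.freeCofan (R := R) I)) :=
  isColimitOfPreserves _ (SheafOfModules.isColimitFreeCofan I)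

/-- maps out of `Γ(free I)` are determined on the images of `1` under the inclusions -/
lemma Γfree_hom_ext {M : ModuleCat.{u} (R.obj.obj (op X))}
    (a b : (Γ R (X := X)).obj (SheafOfModules.free I) ⟶ M)
    (h : ∀ i : I, a ((SheafOfModules.ιFree (R := R) i).val.app (op X) (1 : R.obj.obj (op X))) =
      b ((SheafOfModules.ιFree (R := R) i).val.app (op X) (1 : R.obj.obj (op X)))) : a = b := by
  refine (isColimitΓFree (R := R) (X := X) I).hom_ext (fun ⟨i⟩ => ?_)
  show (SheafOfModules.ιFree (R := R) i).val.app (op X) ≫ a =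
    (SheafOfModules.ιFree (R := R) i).val.app (op X) ≫ b
  ext
  exact h i

omit [Finite I] in
lemma freeHomEquiv_val (N : SheafOfModules.{u} R) (φ : SheafOfModules.free I ⟶ N) (i : I) :
    (N.freeHomEquiv φ i).1 (op X) =
      φ.val.app (op X) ((SheafOfModules.ιFree (R := R) i).val.app (op X) (1 : R.obj.obj (op X))) :=
  rfl

include hX in
/-- morphisms out of a finite free module are determined by, and can be prescribed on,
global sections -/
theorem bijective_Γ_map_free (N : SheafOfModules.{u} R) :
    Function.Bijective (fun φ : SheafOfModules.free I ⟶ N => (Γ R (X := X)).map φ) := by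
  constructor
  · intro φ ψ h
    apply (SheafOfModules.freeHomEquiv N).injective
    funext i
    apply sections_ext_terminal hX
    rw [freeHomEquiv_val, freeHomEquiv_val]
    exact congrArg (fun (t : (Γ R (X := X)).obj (SheafOfModules.free I) ⟶ (Γ R (X := X)).obj N) =>
      t ((SheafOfModules.ιFree (R := R) i).val.app (op X) (1 : R.obj.obj (op X)))) h
  · intro g
    let f : I → N.sections := fun i => secOf hX N
      (g ((SheafOfModules.ιFree (R := R) i).val.app (op X) (1 : R.obj.obj (op X))))
    refine ⟨(SheafOfModules.freeHomEquiv N).symm f, ?_⟩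
    refine Γfree_hom_ext I _ _ (fun i => ?_)
    have key : N.freeHomEquiv ((SheafOfModules.freeHomEquiv N).symm f) i = f i :=
      congrFun (Equiv.apply_symm_apply _ f) i
    have h1 := freeHomEquiv_val (X := X) I N ((SheafOfModules.freeHomEquiv N).symm f) i
    rw [key] at h1
    exact h1.symm.trans (secOf_val hX N _)

/-- the basis elements of `Γ(free I)` -/
noncomputable abbrev bas (i : I) : (Γ R (X := X)).obj (SheafOfModules.free I) :=
  (SheafOfModules.ιFree (R := R) i).val.app (op X) (1 : R.obj.obj (op X))

/-- coordinates on `Γ(free I)` -/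
noncomputable def coord : (Γ R (X := X)).obj (SheafOfModules.free I) ⟶
    ModuleCat.of (R.obj.obj (op X)) (I →₀ R.obj.obj (op X)) :=
  (isColimitΓFree (R := R) (X := X) I).desc
    (Cofan.mk (ModuleCat.of (R.obj.obj (op X)) (I →₀ R.obj.obj (op X)))
      (fun i => ModuleCat.ofHom (Finsupp.lsingle i)))

lemma coord_bas (i : I) : coord (R := R) (X := X) I (bas I i) = Finsupp.single i 1 := by
  have h := (isColimitΓFree (R := R) (X := X) I).fac
    (Cofan.mk (ModuleCat.of (R.obj.obj (op X)) (I →₀ R.obj.obj (op X)))
      (fun i => ModuleCat.ofHom (Finsupp.lsingle i))) ⟨i⟩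
  exact congrArg (fun (t : (Γ R (X := X)).obj (SheafOfModules.unit R) ⟶
    ModuleCat.of (R.obj.obj (op X)) (I →₀ R.obj.obj (op X))) => t (1 : R.obj.obj (op X))) h

/-- `Γ(free I) ≃ R(X)^(I)` -/
noncomputable def ΓfreeEquiv : (Γ R (X := X)).obj (SheafOfModules.free I) ≃ₗ[R.obj.obj (op X)]
    (I →₀ R.obj.obj (op X)) :=
  LinearEquiv.ofLinearMap (coord (R := R) (X := X) I).hom
    (Finsupp.linearCombination (R.obj.obj (op X)) (bas (R := R) (X := X) I))
    (by
      refine Finsupp.lhom_ext' (fun i => LinearMap.ext_ring ?_)
      simp only [LinearMap.coe_comp, Function.comp_apply, Finsupp.lsingle_apply,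
        Finsupp.linearCombination_single, one_smul, LinearMap.id_comp]
      exact coord_bas I i)
    (by
      have h : coord (R := R) (X := X) I ≫ ModuleCat.ofHom
          (Finsupp.linearCombination (R.obj.obj (op X)) (bas (R := R) (X := X) I)) = 𝟙 _ := by
        refine Γfree_hom_ext I _ _ (fun i => ?_)
        show Finsupp.linearCombination (R.obj.obj (op X)) (bas (R := R) (X := X) I)
          (coord (R := R) (X := X) I (bas I i)) = bas I i
        rw [coord_bas, Finsupp.linearCombination_single, one_smul]
      exact congrArg ModuleCat.Hom.hom h)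

instance finite_Γfree : Module.Finite (R.obj.obj (op X))
    ((Γ R (X := X)).obj (SheafOfModules.free I)) :=
  Module.Finite.equiv (ΓfreeEquiv (R := R) (X := X) I).symm

instance projective_Γfree : Module.Projective (R.obj.obj (op X))
    ((Γ R (X := X)).obj (SheafOfModules.free I)) :=
  Module.Projective.of_equiv (ΓfreeEquiv (R := R) (X := X) I).symm

end Free

section Summand

variable {E : SheafOfModules.{u} R} (I : Type u) [Finite I]
  (i : E ⟶ SheafOfModules.free I) (p : SheafOfModules.free I ⟶ E) (hip : i ≫ p = 𝟙 E)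

include hX hip in
theorem bijective_Γ_map_of_retract (N : SheafOfModules.{u} R) :
    Function.Bijective (fun φ : E ⟶ N => (Γ R (X := X)).map φ) := by
  constructor
  · intro φ ψ h
    have h2 : p ≫ φ = p ≫ ψ := by
      apply (bijective_Γ_map_free hX I N).1
      show (Γ R (X := X)).map (p ≫ φ) = (Γ R (X := X)).map (p ≫ ψ)
      rw [Functor.map_comp, Functor.map_comp]
      exact congrArg _ h
    calc φ = (i ≫ p) ≫ φ := by rw [hip, Category.id_comp]
      _ = (i ≫ p) ≫ ψ := by rw [Category.assoc, h2, Category.assoc]
      _ = ψ := by rw [hip, Category.id_comp]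
  · intro g
    obtain ⟨χ, hχ⟩ := (bijective_Γ_map_free hX I N).2 ((Γ R (X := X)).map p ≫ g)
    refine ⟨i ≫ χ, ?_⟩
    show (Γ R (X := X)).map (i ≫ χ) = g
    have hχ' : (Γ R (X := X)).map χ = (Γ R (X := X)).map p ≫ g := hχ
    rw [Functor.map_comp, hχ', ← Category.assoc, ← Functor.map_comp, hip, CategoryTheory.Functor.map_id,
      Category.id_comp]

include hip in
theorem finite_Γ_of_retract :
    Module.Finite (R.obj.obj (op X)) ((Γ R (X := X)).obj E) := by
  have hsurj : Function.Surjective ((Γ R (X := X)).map p).hom := by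
    intro x
    refine ⟨(Γ R (X := X)).map i x, ?_⟩
    have : (Γ R (X := X)).map i ≫ (Γ R (X := X)).map p = 𝟙 _ := by
      rw [← Functor.map_comp, hip, CategoryTheory.Functor.map_id]
    exact congrArg (fun (t : (Γ R (X := X)).obj E ⟶ (Γ R (X := X)).obj E) => t x) this
  exact Module.Finite.of_surjective _ hsurj

include hip in
theorem projective_Γ_of_retract :
    Module.Projective (R.obj.obj (op X)) ((Γ R (X := X)).obj E) := by
  refine Module.Projective.of_split ((Γ R (X := X)).map i).hom ((Γ R (X := X)).map p).hom ?_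
  have : (Γ R (X := X)).map i ≫ (Γ R (X := X)).map p = 𝟙 _ := by
    rw [← Functor.map_comp, hip, CategoryTheory.Functor.map_id]
  exact congrArg ModuleCat.Hom.hom this

end Summand

section Exists

include hX in
/-- every finite projective module over the ring of global sections is the module of global
sections of a direct summand of a finite free module -/
theorem exists_summand (M : ModuleCat.{u} (R.obj.obj (op X)))
    [Module.Finite (R.obj.obj (op X)) M] [Module.Projective (R.obj.obj (op X)) M] :
    ∃ (n : ℕ) (E : SheafOfModules.{u} R) (i : E ⟶ SheafOfModules.free (ULift.{u} (Fin n)))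
      (p : SheafOfModules.free (ULift.{u} (Fin n)) ⟶ E), i ≫ p = 𝟙 E ∧
      Nonempty ((Γ R (X := X)).obj E ≅ M) := by
  obtain ⟨n, m, hm⟩ := Module.Finite.exists_fin (R := R.obj.obj (op X)) (M := M)
  let I := ULift.{u} (Fin n)
  let f : (I →₀ R.obj.obj (op X)) →ₗ[R.obj.obj (op X)] M :=
    Finsupp.linearCombination (R.obj.obj (op X)) (fun j : I => m j.down)
  have hf : Function.Surjective f := by
    rw [← LinearMap.range_eq_top, Finsupp.range_linearCombination]
    have : Set.range (fun j : I => m j.down) = Set.range m := by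
      ext x
      constructor
      · rintro ⟨j, rfl⟩; exact ⟨j.down, rfl⟩
      · rintro ⟨j, rfl⟩; exact ⟨⟨j⟩, rfl⟩
    rw [this, hm]
  obtain ⟨g, hg⟩ := Module.projective_lifting_property f LinearMap.id hf
  let θ := ΓfreeEquiv (R := R) (X := X) I
  let a : M ⟶ (Γ R (X := X)).obj (SheafOfModules.free I) :=
    ModuleCat.ofHom (θ.symm.toLinearMap ∘ₗ g)
  let b : (Γ R (X := X)).obj (SheafOfModules.free I) ⟶ M :=
    ModuleCat.ofHom (f ∘ₗ θ.toLinearMap)
  have hab : a ≫ b = 𝟙 M := by
    ext x
    show f (θ (θ.symm (g x))) = x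
    rw [LinearEquiv.apply_symm_apply]
    exact LinearMap.congr_fun hg x
  obtain ⟨ε, hε⟩ := (bijective_Γ_map_free hX I (SheafOfModules.free I)).2 (b ≫ a)
  have hε' : (Γ R (X := X)).map ε = b ≫ a := hε
  have hidem : ε ≫ ε = ε := by
    apply (bijective_Γ_map_free hX I (SheafOfModules.free I)).1
    show (Γ R (X := X)).map (ε ≫ ε) = (Γ R (X := X)).map ε
    rw [Functor.map_comp, hε', Category.assoc, ← Category.assoc a, hab, Category.id_comp]
  obtain ⟨E, i, p, hip, hpi⟩ := IsIdempotentComplete.idempotents_split _ ε hidem
  refine ⟨n, E, i, p, hip, ⟨?_⟩⟩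
  refine ⟨(Γ R (X := X)).map i ≫ b, a ≫ (Γ R (X := X)).map p, ?_, ?_⟩
  · calc ((Γ R (X := X)).map i ≫ b) ≫ a ≫ (Γ R (X := X)).map p
        = (Γ R (X := X)).map i ≫ (b ≫ a) ≫ (Γ R (X := X)).map p := by
          simp only [Category.assoc]
      _ = (Γ R (X := X)).map (i ≫ ε ≫ p) := by
          rw [← hε', Functor.map_comp, Functor.map_comp]
      _ = 𝟙 _ := by
          rw [← hpi, Category.assoc, hip, Category.comp_id, hip, CategoryTheory.Functor.map_id]
  · calc (a ≫ (Γ R (X := X)).map p) ≫ (Γ R (X := X)).map i ≫ b
        = a ≫ (Γ R (X := X)).map (p ≫ i) ≫ b := by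
          rw [Functor.map_comp]; simp only [Category.assoc]
      _ = a ≫ (b ≫ a) ≫ b := by rw [hpi, hε']
      _ = (a ≫ b) ≫ (a ≫ b) := by simp only [Category.assoc]
      _ = 𝟙 _ := by rw [hab, Category.id_comp]

end Exists

end Groth.Agent.Lib.Helper1.FinFreeSections
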