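import Groth.Agent.Lib.Helper1.ModAB5
import Mathlib.Algebra.Homology.ShortComplex.ExactFunctor

/-!
# Flat modules on a ringed site: `- ⊗ F` preserves monomorphisms
-/

set_option autoImplicit false
universe u
open CategoryTheory CategoryTheory.Limits MonoidalCategory Opposite

namespace Groth.Agent.Lib.Helper1.ModFlat

open Groth.Agent.Lib.Helper1.TensorAdj

variable {C : Type u} [SmallCategory C] {J : GrothendieckTopology C} (O : Sheaf J CommRingCat.{u})

/-- `- ⊗_O F` -/
noncomputable abbrev tens (F : ModSite.Mod O) : ModSite.Mod O ⥤ ModSite.Mod O :=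
  (ModSite.tensorBi O).flip.obj F

instance (F : ModSite.Mod O) : (tens O F).IsLeftAdjoint := hasSheafHom O F

instance (F : ModSite.Mod O) : PreservesFiniteColimits (tens O F) := inferInstance

instance (F : ModSite.Mod O) : (tens O F).Additive := by
  have h : rightExactFunctor _ _ (tens O F) := by
    rw [rightExactFunctor_iff]
    infer_instance
  exact rightExactFunctor_le_additiveFunctor _ _ _ h

theorem isFlat_iff (F : ModSite.Mod O) :
    ModSite.IsFlat F ↔ (tens O F).PreservesMonomorphisms := by
  constructor
  · rintro ⟨h, -⟩
    infer_instance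
  · intro h
    refine ⟨?_, inferInstance⟩
    rw [Functor.preservesFiniteLimits_iff_forall_exact_map_and_mono]
    intro S hS
    have h30 := (Functor.preservesFiniteColimits_tfae (tens O F)).out 3 0
    have hex := h30.1 inferInstance S hS
    haveI := hS.mono_f
    exact ⟨hex.1, inferInstance⟩

/-- `M ⊗_O -` -/
noncomputable abbrev tensL (M : ModSite.Mod O) : ModSite.Mod O ⥤ ModSite.Mod O :=
  (ModSite.tensorBi O).obj M

/-- the underlying morphism of presheaves of modules -/
noncomputable abbrev underMap {N N' : ModSite.Mod O} (f : N ⟶ N') : under O N ⟶ under O N' :=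
  (SheafOfModules.forget (ModSite.ringSh O)).map f

/-- symmetry of the tensor product -/
noncomputable def tensLIso (M : ModSite.Mod O) : tensL O M ≅ tens O M :=
  NatIso.ofComponents (fun N => (shf O).mapIso (β_ (under O M) (under O N))) (by
    intro N N' f
    show (shf O).map (under O M ◁ underMap O f) ≫
        (shf O).map (β_ (under O M) (under O N')).hom =
      (shf O).map (β_ (under O M) (under O N)).hom ≫
        (shf O).map (underMap O f ▷ under O M)
    rw [← Functor.map_comp, ← Functor.map_comp, BraidedCategory.braiding_naturality_right])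

instance (M : ModSite.Mod O) : PreservesColimitsOfSize.{u, u} (tensL O M) :=
  preservesColimits_of_natIso (tensLIso O M).symm

/-- A colimit of flat modules along a shape with exact colimits is flat. -/
theorem isFlat_of_isColimit {I : Type u} [SmallCategory I] [HasExactColimitsOfShape I (ModSite.Mod O)]
    (D : I ⥤ ModSite.Mod O) (hD : ∀ i, ModSite.IsFlat (D.obj i)) (c : Cocone D) (hc : IsColimit c) :
    ModSite.IsFlat c.pt := by
  rw [isFlat_iff]
  constructor
  intro M' M f hf
  let τ : tensL O M' ⟶ tensL O M := (ModSite.tensorBi O).map f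
  have hmono : ∀ j, Mono (τ.app (D.obj j)) := by
    intro j
    haveI := (isFlat_iff O (D.obj j)).1 (hD j)
    exact inferInstanceAs (Mono ((tens O (D.obj j)).map f))
  haveI : Mono (Functor.whiskerLeft D τ) := by
    haveI : ∀ j, Mono ((Functor.whiskerLeft D τ).app j) := hmono
    exact NatTrans.mono_of_mono_app _
  exact colim.map_mono' (Functor.whiskerLeft D τ)
    (isColimitOfPreserves (tensL O M') hc) (isColimitOfPreserves (tensL O M) hc)
    (τ.app c.pt) (fun j => τ.naturality (c.ι.app j))

end Groth.Agent.Lib.Helper1.ModFlat
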