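import Groth.Agent.Lib.Helper1.ShriekProj
import Groth.Agent.Lib.Helper1.ModFlat

/-!
# Naturality of the projection formula for extension by zero
-/

set_option autoImplicit false
universe u
open CategoryTheory CategoryTheory.Limits MonoidalCategory Opposite TensorProduct
open scoped Classical

namespace Groth.Agent.Lib.Helper1.ShriekProjNat

open Groth.Agent.Lib.Helper1.Shriek Groth.Agent.Lib.Helper1.TensorAdj
  Groth.Agent.Lib.Helper1.TensorRestr Groth.Agent.Lib.Helper1.ShriekTensor
  Groth.Agent.Lib.Helper1.ShriekSheaf Groth.Agent.Lib.Helper1.ShriekProj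
  Groth.Agent.Lib.Helper1.ModFlat

variable {C : Type u} [SmallCategory C] {J : GrothendieckTopology C} {O : Sheaf J CommRingCat.{u}}
  {X : C}

/-- morphisms out of an extension by zero are determined on the summands -/
lemma sh_hom_ext {Q : PMod (O.over X)} {R' : PMod O} (a b : (sh O X).obj Q ⟶ R')
    (h : ∀ (V : C) (φ : V ⟶ X) (t : summ Q φ),
      a.app (op V) (DirectSum.of (fun ψ : V ⟶ X => summ Q ψ) φ t) =
      b.app (op V) (DirectSum.of (fun ψ : V ⟶ X => summ Q ψ) φ t)) : a = b := by
  ext V s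
  have key : (a.app V).hom.toAddMonoidHom = (b.app V).hom.toAddMonoidHom := by
    refine DirectSum.addHom_ext (fun φ t => ?_)
    exact h V.unop φ t
  exact DFunLike.congr_fun key s

/-- morphisms out of an extension by zero of a tensor product are determined on pure tensors -/
lemma sh_tensor_hom_ext {P : PMod (O.over X)} {N' : PMod O} {R' : PMod O}
    (a b : (sh O X).obj (P ⊗ (j₀ O X).obj N') ⟶ R')
    (h : ∀ (V : C) (φ : V ⟶ X) (x : summ P φ) (n : N'.obj (op V)),
      a.app (op V) (DirectSum.of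
        (fun ψ : V ⟶ X => summ (MonoidalCategory.tensorObj P ((j₀ O X).obj N')) ψ) φ
          (x ⊗ₜ[O.obj.obj (op V)] n)) =
      b.app (op V) (DirectSum.of
        (fun ψ : V ⟶ X => summ (MonoidalCategory.tensorObj P ((j₀ O X).obj N')) ψ) φ
          (x ⊗ₜ[O.obj.obj (op V)] n))) : a = b := by
  refine sh_hom_ext a b (fun V φ t => ?_)
  let A : summ (MonoidalCategory.tensorObj P ((j₀ O X).obj N')) φ →+ R'.obj (op V) :=
    (a.app (op V)).hom.toAddMonoidHom.comp
      (DirectSum.of (fun ψ : V ⟶ X => summ (MonoidalCategory.tensorObj P ((j₀ O X).obj N')) ψ) φ)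
  let B : summ (MonoidalCategory.tensorObj P ((j₀ O X).obj N')) φ →+ R'.obj (op V) :=
    (b.app (op V)).hom.toAddMonoidHom.comp
      (DirectSum.of (fun ψ : V ⟶ X => summ (MonoidalCategory.tensorObj P ((j₀ O X).obj N')) ψ) φ)
  show A t = B t
  refine TensorProduct.induction_on (motive := fun t => A t = B t) t ?_ ?_ ?_
  · exact (map_zero A).trans (map_zero B).symm
  · intro x n
    exact h V φ x n
  · intro s t hs ht
    exact (map_add A s t).trans ((congrArg₂ (· + ·) hs ht).trans (map_add B s t).symm)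

/-- naturality of `θ` in the first variable -/
lemma θ_natural_left {P P' : PMod (O.over X)} (f : P ⟶ P') (N' : PMod O) :
    (sh O X).map (f ▷ (j₀ O X).obj N') ≫ θ O X P' N' =
      θ O X P N' ≫ ((sh O X).map f ▷ N') := by
  refine sh_tensor_hom_ext _ _ (fun V φ x n => ?_)
  show (θ O X P' N').app (op V) (((sh O X).map (f ▷ (j₀ O X).obj N')).app (op V)
      (DirectSum.of (fun ψ : V ⟶ X => summ (MonoidalCategory.tensorObj P ((j₀ O X).obj N')) ψ) φ
        (x ⊗ₜ[O.obj.obj (op V)] n))) =
    ((sh O X).map f ▷ N').app (op V) ((θ O X P N').app (op V)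
      (DirectSum.of (fun ψ : V ⟶ X => summ (MonoidalCategory.tensorObj P ((j₀ O X).obj N')) ψ) φ
        (x ⊗ₜ[O.obj.obj (op V)] n)))
  rw [θ_app_of_tmul]
  have h1 : ((sh O X).map (f ▷ (j₀ O X).obj N')).app (op V)
      (DirectSum.of (fun ψ : V ⟶ X => summ (MonoidalCategory.tensorObj P ((j₀ O X).obj N')) ψ) φ
        (x ⊗ₜ[O.obj.obj (op V)] n)) =
      DirectSum.of (fun ψ : V ⟶ X => summ (MonoidalCategory.tensorObj P' ((j₀ O X).obj N')) ψ) φ
        ((f.app (op (Over.mk φ)) x : summ P' φ) ⊗ₜ[O.obj.obj (op V)] n) :=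
    (shriek_map_app_of (R := O.obj ⋙ forget₂ CommRingCat.{u} RingCat.{u}) (X := X)
      (f ▷ (j₀ O X).obj N') φ (x ⊗ₜ[O.obj.obj (op V)] n)).trans rfl
  rw [h1, θ_app_of_tmul]
  have h2 : (DirectSum.of (fun ψ : V ⟶ X => summ P' ψ) φ (f.app (op (Over.mk φ)) x)) =
      ((sh O X).map f).app (op V) (DirectSum.of (fun ψ : V ⟶ X => summ P ψ) φ x) :=
    (shriek_map_app_of (R := O.obj ⋙ forget₂ CommRingCat.{u} RingCat.{u}) (X := X) f φ x).symm
  rw [h2]
  rfl

/-- naturality of `θ` in the second variable -/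
lemma θ_natural_right (P : PMod (O.over X)) {N' N'' : PMod O} (g : N' ⟶ N'') :
    (sh O X).map (P ◁ (j₀ O X).map g) ≫ θ O X P N'' =
      θ O X P N' ≫ ((sh O X).obj P ◁ g) := by
  refine sh_tensor_hom_ext _ _ (fun V φ x n => ?_)
  show (θ O X P N'').app (op V) (((sh O X).map (P ◁ (j₀ O X).map g)).app (op V)
      (DirectSum.of (fun ψ : V ⟶ X => summ (MonoidalCategory.tensorObj P ((j₀ O X).obj N')) ψ) φ
        (x ⊗ₜ[O.obj.obj (op V)] n))) =
    ((sh O X).obj P ◁ g).app (op V) ((θ O X P N').app (op V)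
      (DirectSum.of (fun ψ : V ⟶ X => summ (MonoidalCategory.tensorObj P ((j₀ O X).obj N')) ψ) φ
        (x ⊗ₜ[O.obj.obj (op V)] n)))
  rw [θ_app_of_tmul]
  have h1 : ((sh O X).map (P ◁ (j₀ O X).map g)).app (op V)
      (DirectSum.of (fun ψ : V ⟶ X => summ (MonoidalCategory.tensorObj P ((j₀ O X).obj N')) ψ) φ
        (x ⊗ₜ[O.obj.obj (op V)] n)) =
      DirectSum.of (fun ψ : V ⟶ X => summ (MonoidalCategory.tensorObj P ((j₀ O X).obj N'')) ψ) φ
        (x ⊗ₜ[O.obj.obj (op V)] (g.app (op V) n)) :=
    (shriek_map_app_of (R := O.obj ⋙ forget₂ CommRingCat.{u} RingCat.{u}) (X := X)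
      (P ◁ (j₀ O X).map g) φ (x ⊗ₜ[O.obj.obj (op V)] n)).trans rfl
  rw [h1, θ_app_of_tmul]
  rfl

variable (O X)

/-- the projection formula is natural in the module on `C/X` -/
lemma projIso'_natural_left {P P' : ModSite.Mod (O.over X)} (f : P ⟶ P') (N : ModSite.Mod O) :
    (ez' O X).map ((tens (O.over X) ((ModSite.restr O X).obj N)).map f) ≫
        (projIso' O X P' N).hom =
      (projIso' O X P N).hom ≫ (tens O N).map ((ez' O X).map f) := by
  let uN := under O N
  let uf := underMap (O.over X) f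
  let a : under (O.over X) P ⊗ (j₀ O X).obj uN ⟶ under (O.over X) P' ⊗ (j₀ O X).obj uN :=
    uf ▷ (j₀ O X).obj uN
  have sq1 : (ez' O X).map ((shf (O.over X)).map a) ≫ (shShfIso O X).inv.app _ =
      (shShfIso O X).inv.app _ ≫ (shf O).map ((sh O X).map a) :=
    (shShfIso O X).inv.naturality a
  have sq2 : (shf O).map ((sh O X).map a) ≫ (shf O).map (θ O X (under (O.over X) P') uN) =
      (shf O).map (θ O X (under (O.over X) P) uN) ≫ (shf O).map ((sh O X).map uf ▷ uN) := by
    rw [← Functor.map_comp, ← Functor.map_comp, θ_natural_left]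
  have sq3 : (shf O).map ((sh O X).map uf ▷ uN) ≫
        (G O uN).map ((adj O).unit.app ((sh O X).obj (under (O.over X) P'))) =
      (G O uN).map ((adj O).unit.app ((sh O X).obj (under (O.over X) P))) ≫
        (shf O).map ((incl O).map ((shf O).map ((sh O X).map uf)) ▷ uN) := by
    have := (adj O).unit.naturality ((sh O X).map uf)
    have h2 := congrArg (fun t => (G O uN).map t) this
    simp only [Functor.map_comp] at h2
    exact h2
  show (ez' O X).map ((shf (O.over X)).map a) ≫ ((shShfIso O X).inv.app _ ≫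
      (shf O).map (θ O X (under (O.over X) P') uN) ≫
        (G O uN).map ((adj O).unit.app ((sh O X).obj (under (O.over X) P')))) =
    ((shShfIso O X).inv.app _ ≫
      (shf O).map (θ O X (under (O.over X) P) uN) ≫
        (G O uN).map ((adj O).unit.app ((sh O X).obj (under (O.over X) P)))) ≫
      (shf O).map ((incl O).map ((shf O).map ((sh O X).map uf)) ▷ uN)
  rw [reassoc_of% sq1, reassoc_of% sq2, sq3]
  simp only [Category.assoc]

/-- the projection formula is natural in the module on `C` -/
lemma projIso'_natural_right (P : ModSite.Mod (O.over X)) {N N' : ModSite.Mod O} (g : N ⟶ N') :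
    (ez' O X).map ((tensL (O.over X) P).map ((ModSite.restr O X).map g)) ≫
        (projIso' O X P N').hom =
      (projIso' O X P N).hom ≫ (tensL O ((ez' O X).obj P)).map g := by
  let uP := under (O.over X) P
  let ug := underMap O g
  let b : uP ⊗ (j₀ O X).obj (under O N) ⟶ uP ⊗ (j₀ O X).obj (under O N') :=
    uP ◁ (j₀ O X).map ug
  have sq1 : (ez' O X).map ((shf (O.over X)).map b) ≫ (shShfIso O X).inv.app _ =
      (shShfIso O X).inv.app _ ≫ (shf O).map ((sh O X).map b) :=
    (shShfIso O X).inv.naturality b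
  have sq2 : (shf O).map ((sh O X).map b) ≫ (shf O).map (θ O X uP (under O N')) =
      (shf O).map (θ O X uP (under O N)) ≫ (shf O).map ((sh O X).obj uP ◁ ug) := by
    rw [← Functor.map_comp, ← Functor.map_comp, θ_natural_right]
  have sq3 : (shf O).map ((sh O X).obj uP ◁ ug) ≫
        (G O (under O N')).map ((adj O).unit.app ((sh O X).obj uP)) =
      (G O (under O N)).map ((adj O).unit.app ((sh O X).obj uP)) ≫
        (shf O).map ((incl O).obj ((shf O).obj ((sh O X).obj uP)) ◁ ug) := by
    show (shf O).map ((sh O X).obj uP ◁ ug) ≫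
        (shf O).map ((adj O).unit.app ((sh O X).obj uP) ▷ under O N') =
      (shf O).map ((adj O).unit.app ((sh O X).obj uP) ▷ under O N) ≫
        (shf O).map ((incl O).obj ((shf O).obj ((sh O X).obj uP)) ◁ ug)
    rw [← Functor.map_comp, ← Functor.map_comp, whisker_exchange]
    rfl
  show (ez' O X).map ((shf (O.over X)).map b) ≫ ((shShfIso O X).inv.app _ ≫
      (shf O).map (θ O X uP (under O N')) ≫
        (G O (under O N')).map ((adj O).unit.app ((sh O X).obj uP))) =
    ((shShfIso O X).inv.app _ ≫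
      (shf O).map (θ O X uP (under O N)) ≫
        (G O (under O N)).map ((adj O).unit.app ((sh O X).obj uP))) ≫
      (shf O).map ((incl O).obj ((shf O).obj ((sh O X).obj uP)) ◁ ug)
  rw [reassoc_of% sq1, reassoc_of% sq2, sq3]
  simp only [Category.assoc]

/-- the projection formula, natural in the module on `C/X` -/
noncomputable def projNatLeft (N : ModSite.Mod O) :
    tens (O.over X) ((ModSite.restr O X).obj N) ⋙ ez' O X ≅ ez' O X ⋙ tens O N :=
  NatIso.ofComponents (fun P => projIso' O X P N)
    (fun f => projIso'_natural_left O X f N)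

/-- the projection formula, natural in the module on `C` -/
noncomputable def projNatRight (P : ModSite.Mod (O.over X)) :
    ModSite.restr O X ⋙ tensL (O.over X) P ⋙ ez' O X ≅ tensL O ((ez' O X).obj P) :=
  NatIso.ofComponents (fun N => projIso' O X P N)
    (fun g => projIso'_natural_right O X P g)

end Groth.Agent.Lib.Helper1.ShriekProjNat
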