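import Groth.Agent.Lib.Helper1.TensorUnit
import Groth.Agent.Lib.Helper1.FinFreeSections
import Groth.Agent.Lib.Helper1.ModFlat
import Groth.Agent.S6147

/-!
# Equational criterion of flatness on a ringed site (flat ⇒ relations are locally trivial)
-/

set_option autoImplicit false
universe u
open CategoryTheory CategoryTheory.Limits MonoidalCategory Opposite TensorProduct

namespace Groth.Agent.Lib.Helper1.EqCrit

open Groth.Agent.Lib.Helper1.TensorAdj Groth.Agent.Lib.Helper1.ModFlat
  Groth.Agent.Lib.Helper1.TensorUnit Groth.Agent.Lib.Helper1.TensorLoc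

variable {C : Type u} [SmallCategory C] {J : GrothendieckTopology C} (O : Sheaf J CommRingCat.{u})

/-- the canonical map from the presheaf tensor product to the sheaf tensor product -/
noncomputable abbrev η (G F : ModSite.Mod O) :
    under O G ⊗ under O F ⟶ (incl O).obj ((tens O F).obj G) :=
  (adj O).unit.app (under O G ⊗ under O F)

/-- pure tensors in the sheaf tensor product -/
noncomputable def pure {G F : ModSite.Mod O} {W : C} (x : (under O G).obj (op W))
    (t : (under O F).obj (op W)) : ((incl O).obj ((tens O F).obj G)).obj (op W) :=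
  (η O G F).app (op W) (x ⊗ₜ[O.obj.obj (op W)] t)

variable {O}

lemma pure_def {G F : ModSite.Mod O} {W : C} (x : (under O G).obj (op W)) (t : (under O F).obj (op W)) :
    pure O x t = (η O G F).app (op W) (x ⊗ₜ[O.obj.obj (op W)] t) := rfl

lemma pure_add_left {G F : ModSite.Mod O} {W : C} (x x' : (under O G).obj (op W)) (t : (under O F).obj (op W)) :
    pure O (x + x') t = pure O x t + pure O x' t := by
  rw [pure_def, pure_def, pure_def, TensorProduct.add_tmul]
  exact map_add ((η O G F).app (op W)).hom _ _

lemma pure_add_right {G F : ModSite.Mod O} {W : C} (x : (under O G).obj (op W)) (t t' : (under O F).obj (op W)) :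
    pure O x (t + t') = pure O x t + pure O x t' := by
  rw [pure_def, pure_def, pure_def, TensorProduct.tmul_add]
  exact map_add ((η O G F).app (op W)).hom _ _

lemma pure_zero_right {G F : ModSite.Mod O} {W : C} (x : (under O G).obj (op W)) :
    pure O x (0 : (under O F).obj (op W)) = 0 := by
  rw [pure_def, TensorProduct.tmul_zero]
  exact map_zero ((η O G F).app (op W)).hom

lemma pure_smul {G F : ModSite.Mod O} {W : C} (a : O.obj.obj (op W)) (x : (under O G).obj (op W))
    (t : (under O F).obj (op W)) :
    pure O (a • x) t = pure O x (a • t) := by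
  rw [pure_def, pure_def, TensorProduct.smul_tmul]

lemma map_pure {G G' F : ModSite.Mod O} (g : G ⟶ G') {W : C} (x : (under O G).obj (op W))
    (t : (under O F).obj (op W)) :
    ((incl O).map ((tens O F).map g)).app (op W) (pure O x t) = pure O ((underMap O g).app (op W) x) t := by
  have h := (adj O).unit.naturality (underMap O g ▷ under O F)
  have h2 := congrArg (fun φ => φ.app (op W) (x ⊗ₜ[O.obj.obj (op W)] t)) h
  exact h2.symm

lemma res_pure {G F : ModSite.Mod O} {W V : C} (i : V ⟶ W) (x : (under O G).obj (op W))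
    (t : (under O F).obj (op W)) :
    ((incl O).obj ((tens O F).obj G)).map i.op (pure O x t) =
      pure O (G := G) (F := F) (W := V) ((under O G).map i.op x) ((under O F).map i.op t) := by
  have h := PresheafOfModules.naturality_apply (η O G F) i.op (x ⊗ₜ[O.obj.obj (op W)] t)
  exact h.symm

lemma leftUnit_comp (F : ModSite.Mod O) :
    η O (ModSite.unit O) F ≫ (incl O).map (leftUnitIso O F).hom = (λ_ (under O F)).hom := by
  have h1 := (adj O).unit.naturality (λ_ (under O F)).hom
  have h2 := (adj O).right_triangle_components F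
  show (adj O).unit.app (𝟙_ (PMod O) ⊗ under O F) ≫
    (incl O).map ((shf O).map (λ_ (under O F)).hom ≫ (adj O).counit.app F) = _
  rw [Functor.map_comp, ← Category.assoc]
  erw [← h1]
  rw [Category.assoc]
  erw [h2]
  exact Category.comp_id _

lemma leftUnit_pure (F : ModSite.Mod O) {W : C} (a : (under O (ModSite.unit O)).obj (op W))
    (t : (under O F).obj (op W)) :
    ((incl O).map (leftUnitIso O F).hom).app (op W) (pure O a t) =
      (show O.obj.obj (op W) from a) • t := by
  have h := congrArg (fun φ => φ.app (op W) (a ⊗ₜ[O.obj.obj (op W)] t)) (leftUnit_comp F)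
  exact h

lemma exists_fin_sum_tmul {R : Type*} [CommRing R] {M N : Type*} [AddCommGroup M] [AddCommGroup N]
    [Module R M] [Module R N] (p : M ⊗[R] N) :
    ∃ (l : ℕ) (x : Fin l → M) (t : Fin l → N), p = ∑ k, x k ⊗ₜ[R] t k := by
  induction p using TensorProduct.induction_on with
  | zero => exact ⟨0, Fin.elim0, Fin.elim0, by simp⟩
  | tmul x t => exact ⟨1, fun _ => x, fun _ => t, by simp⟩
  | add p q hp hq =>
    obtain ⟨l, x, t, rfl⟩ := hp
    obtain ⟨l', x', t', rfl⟩ := hq
    refine ⟨l + l', Fin.append x x', Fin.append t t', ?_⟩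
    rw [Fin.sum_univ_add]
    simp only [Fin.append_left, Fin.append_right]

lemma isLocallySurjective_η (G F : ModSite.Mod O) :
    Presheaf.IsLocallySurjective J ((PresheafOfModules.toPresheaf _).map (η O G F)) := by
  show Presheaf.IsLocallySurjective J (toSheafify J (under O G ⊗ under O F).presheaf)
  infer_instance

theorem exists_local_pure {G F : ModSite.Mod O} {U : C}
    (w : ((incl O).obj ((tens O F).obj G)).obj (op U)) :
    ∃ S ∈ J U, ∀ ⦃W : C⦄ (g : W ⟶ U), S g →
      ∃ (l : ℕ) (x : Fin l → (under O G).obj (op W)) (t : Fin l → (under O F).obj (op W)),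
        ((incl O).obj ((tens O F).obj G)).map g.op w = ∑ k, pure O (x k) (t k) := by
  have hs := (TensorLoc.isLocallySurjective_iff (R := O.obj) J (η O G F)).1
    (isLocallySurjective_η G F) U w
  refine ⟨_, hs, ?_⟩
  rintro W g ⟨p, hp⟩
  obtain ⟨l, x, t, rfl⟩ := exists_fin_sum_tmul (R := O.obj.obj (op W))
    (M := (under O G).obj (op W)) (N := (under O F).obj (op W)) p
  refine ⟨l, x, t, ?_⟩
  rw [← hp]
  exact map_sum ((η O G F).app (op W)).hom _ _

section Terminal

open Groth.Agent.Lib.Helper1.FinFreeSections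

variable {X : C} (hX : IsTerminal X) {I : Type u}

/-- the map `O^I → O` with coefficients `c` -/
noncomputable def lin (c : I → (ModSite.ringSh O).obj.obj (op X)) :
    SheafOfModules.free (R := ModSite.ringSh O) I ⟶ ModSite.unit O :=
  (SheafOfModules.freeHomEquiv (ModSite.unit O)).symm
    (fun i => secOf hX (ModSite.unit O) (c i))

lemma lin_bas (c : I → (ModSite.ringSh O).obj.obj (op X)) (W : C) (i : I) :
    (lin hX c).val.app (op W) (bas (R := ModSite.ringSh O) (X := W) I i) =
      (ModSite.ringSh O).obj.map (hX.from W).op (c i) := by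
  have key : (ModSite.unit O).freeHomEquiv (lin hX c) i = secOf hX (ModSite.unit O) (c i) :=
    congrFun (Equiv.apply_symm_apply _ _) i
  have h1 : ((ModSite.unit O).freeHomEquiv (lin hX c) i).1 (op W) =
      (lin hX c).val.app (op W) (bas (R := ModSite.ringSh O) (X := W) I i) := rfl
  rw [← h1, key]
  rfl

lemma lin_apply [Fintype I] (c : I → (ModSite.ringSh O).obj.obj (op X)) (W : C)
    (y : (Γ (ModSite.ringSh O) (X := W)).obj (SheafOfModules.free I)) :
    ((Γ (ModSite.ringSh O) (X := W)).map (lin hX c)).hom y =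
      ∑ j, (ΓfreeEquiv (R := ModSite.ringSh O) (X := W) I y) j *
        (ModSite.ringSh O).obj.map (hX.from W).op (c j) := by
  have hy : y = ∑ j, (ΓfreeEquiv (R := ModSite.ringSh O) (X := W) I y) j •
      bas (R := ModSite.ringSh O) (X := W) I j := by
    conv_lhs => rw [← (ΓfreeEquiv (R := ModSite.ringSh O) (X := W) I).symm_apply_apply y]
    show Finsupp.linearCombination _ (bas (R := ModSite.ringSh O) (X := W) I) _ = _
    rw [Finsupp.linearCombination_apply]
    exact Finsupp.sum_fintype _ _ (fun i => zero_smul _ _)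
  conv_lhs => rw [hy]
  rw [map_sum]
  refine Finset.sum_congr rfl (fun j _ => ?_)
  rw [map_smul]
  have := lin_bas hX c W j
  erw [this]
  rfl

lemma lin_single [Fintype I] [DecidableEq I] (i : I) (W : C)
    (y : (Γ (ModSite.ringSh O) (X := W)).obj (SheafOfModules.free I)) :
    ((Γ (ModSite.ringSh O) (X := W)).map
      (lin hX (Pi.single i (1 : (ModSite.ringSh O).obj.obj (op X))))).hom y =
      (ΓfreeEquiv (R := ModSite.ringSh O) (X := W) I y) i := by
  rw [lin_apply]
  rw [Finset.sum_eq_single i]
  · rw [Pi.single_eq_same, map_one, mul_one]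
  · intro j _ hji
    rw [Pi.single_eq_of_ne hji, map_zero, mul_zero]
  · intro h
    exact absurd (Finset.mem_univ i) h

lemma ΓfreeEquiv_bas [Fintype I] [DecidableEq I] (W : C) (j i : I) :
    (ΓfreeEquiv (R := ModSite.ringSh O) (X := W) I (bas (R := ModSite.ringSh O) (X := W) I j)) i =
      if j = i then 1 else 0 := by
  have h : ΓfreeEquiv (R := ModSite.ringSh O) (X := W) I (bas (R := ModSite.ringSh O) (X := W) I j) =
      Finsupp.single j 1 := coord_bas (R := ModSite.ringSh O) (X := W) I j
  rw [h, Finsupp.single_apply]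

/-- the `i`-th coordinate of `O^I ⊗ F`, as a map to `F` -/
noncomputable def Λ [DecidableEq I] (F : ModSite.Mod O) (i : I) :
    (tens O F).obj (SheafOfModules.free (R := ModSite.ringSh O) I) ⟶ F :=
  (tens O F).map (lin hX (Pi.single i (1 : (ModSite.ringSh O).obj.obj (op X)))) ≫
    (leftUnitIso O F).hom

lemma Λ_pure [Fintype I] [DecidableEq I] (F : ModSite.Mod O) (i : I) {W : C}
    (y : (under O (SheafOfModules.free (R := ModSite.ringSh O) I)).obj (op W))
    (t : (under O F).obj (op W)) :
    ((incl O).map (Λ hX F i)).app (op W) (pure O y t) =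
      (show O.obj.obj (op W) from (ΓfreeEquiv (R := ModSite.ringSh O) (X := W) I y) i) • t := by
  unfold Λ
  rw [Functor.map_comp]
  show ((incl O).map (leftUnitIso O F).hom).app (op W)
    (((incl O).map ((tens O F).map (lin hX (Pi.single i 1)))).app (op W) (pure O y t)) = _
  rw [map_pure, leftUnit_pure]
  have := lin_single hX i W y
  erw [this]

lemma res_bas (W : C) (g : W ⟶ X) (j : I) :
    (under O (SheafOfModules.free (R := ModSite.ringSh O) I)).map g.op
      (bas (R := ModSite.ringSh O) (X := X) I j) = bas (R := ModSite.ringSh O) (X := W) I j := by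
  have h := PresheafOfModules.naturality_apply
    ((SheafOfModules.forget _).map (SheafOfModules.ιFree (R := ModSite.ringSh O) j)) g.op
    (1 : (ModSite.ringSh O).obj.obj (op X))
  refine h.symm.trans ?_
  congr 1
  exact map_one ((ModSite.ringSh O).obj.map g.op).hom

include hX in
theorem eqCrit_terminal [Fintype I] [DecidableEq I] (F : ModSite.Mod O) (hF : ModSite.IsFlat F)
    (f : I → (ModSite.ringSh O).obj.obj (op X)) (s : I → (under O F).obj (op X))
    (hrel : ∑ i, (show O.obj.obj (op X) from f i) • s i = 0) :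
    ∃ S ∈ J X, ∀ ⦃W : C⦄ (g : W ⟶ X), S g →
      ∃ (l : ℕ) (t : Fin l → (under O F).obj (op W))
        (a : I → Fin l → (ModSite.ringSh O).obj.obj (op W)),
        (∀ i, (under O F).map g.op (s i) = ∑ k, (show O.obj.obj (op W) from a i k) • t k) ∧
        (∀ k, ∑ i, a i k * (ModSite.ringSh O).obj.map g.op (f i) = 0) := by
  classical
  set Fr := SheafOfModules.free (R := ModSite.ringSh O) I with hFr
  let ψ : Fr ⟶ ModSite.unit O := lin hX f
  let κ : kernel ψ ⟶ Fr := kernel.ι ψ
  -- the element `z = ∑ e_i ⊗ s_i`
  let z : ((incl O).obj ((tens O F).obj Fr)).obj (op X) :=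
    ∑ i, pure O (bas (R := ModSite.ringSh O) (X := X) I i) (s i)
  -- `(ψ ⊗ F) z = 0`
  have hz : ((incl O).map ((tens O F).map ψ)).app (op X) z = 0 := by
    show ((incl O).map ((tens O F).map ψ)).app (op X)
      (∑ i, pure O (bas (R := ModSite.ringSh O) (X := X) I i) (s i)) = 0
    rw [map_sum]
    have h1 : ∀ i, ((incl O).map ((tens O F).map ψ)).app (op X)
        (pure O (bas (R := ModSite.ringSh O) (X := X) I i) (s i)) =
        pure O (G := ModSite.unit O) (F := F) (W := X)
          (1 : O.obj.obj (op X)) ((show O.obj.obj (op X) from f i) • s i) := by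
      intro i
      rw [map_pure]
      have h2 : (underMap O ψ).app (op X) (bas (R := ModSite.ringSh O) (X := X) I i) =
          (show O.obj.obj (op X) from f i) • (1 : O.obj.obj (op X)) := by
        have h3 := lin_bas hX f X i
        have h4 : hX.from X = 𝟙 X := hX.hom_ext _ _
        rw [h4] at h3
        refine h3.trans ?_
        rw [op_id, CategoryTheory.Functor.map_id]
        exact (mul_one (show O.obj.obj (op X) from f i)).symm
      rw [h2]
      exact pure_smul _ _ _
    rw [Finset.sum_congr rfl (fun i _ => h1 i)]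
    have h5 : ∀ (σ : Finset I), ∑ i ∈ σ, pure O (G := ModSite.unit O) (F := F) (W := X)
        (1 : O.obj.obj (op X)) ((show O.obj.obj (op X) from f i) • s i) =
        pure O (G := ModSite.unit O) (F := F) (W := X)
          (1 : O.obj.obj (op X)) (∑ i ∈ σ, (show O.obj.obj (op X) from f i) • s i) := by
      intro σ
      induction σ using Finset.induction_on with
      | empty => simp only [Finset.sum_empty]; exact (pure_zero_right _).symm
      | insert a σ ha ih => rw [Finset.sum_insert ha, Finset.sum_insert ha, ih, pure_add_right]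
    rw [h5, hrel, pure_zero_right]
  let ζ : ModSite.unit O ⟶ (tens O F).obj Fr :=
    (SheafOfModules.unitHomEquiv _).symm (secOf hX ((tens O F).obj Fr) z)
  have hζu : SheafOfModules.unitHomEquiv _ ζ = secOf hX ((tens O F).obj Fr) z :=
    Equiv.apply_symm_apply _ _
  have hζz : ζ.val.app (op X) (1 : (ModSite.ringSh O).obj.obj (op X)) = z := by
    have h1 : (SheafOfModules.unitHomEquiv _ ζ).val (op X) =
        ζ.val.app (op X) (1 : (ModSite.ringSh O).obj.obj (op X)) := rfl
    rw [← h1, hζu]
    exact secOf_val hX _ z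
  have hζ : ζ ≫ (tens O F).map ψ = 0 := by
    apply (SheafOfModules.unitHomEquiv _).injective
    apply sections_ext_terminal hX
    show ((tens O F).map ψ).val.app (op X)
      (ζ.val.app (op X) (1 : (ModSite.ringSh O).obj.obj (op X))) = 0
    rw [hζz]
    exact hz
  haveI := hF.1
  have hlim : IsLimit ((KernelFork.ofι κ (kernel.condition ψ)).map (tens O F)) :=
    KernelFork.mapIsLimit _ (kernelIsKernel ψ) _
  obtain ⟨ω, hω⟩ := KernelFork.IsLimit.lift' hlim ζ hζ
  have hω' : ω ≫ (tens O F).map κ = ζ := hω
  let w : ((incl O).obj ((tens O F).obj (kernel ψ))).obj (op X) :=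
    ω.val.app (op X) (1 : (ModSite.ringSh O).obj.obj (op X))
  have hwz : ((incl O).map ((tens O F).map κ)).app (op X) w = z := by
    rw [← hζz, ← hω']
    rfl
  obtain ⟨S, hS, hloc⟩ := exists_local_pure w
  refine ⟨S, hS, fun W g hg => ?_⟩
  obtain ⟨l, x, t, hw⟩ := hloc g hg
  have hg' : g = hX.from W := hX.hom_ext _ _
  refine ⟨l, t, fun i k => ΓfreeEquiv (R := ModSite.ringSh O) (X := W) I
    ((underMap O κ).app (op W) (x k)) i, ?_, ?_⟩
  · intro i
    -- two computations of `Λ_i (z|_W)`
    have hZ1 : ((incl O).obj ((tens O F).obj Fr)).map g.op z =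
        ∑ j, pure O (bas (R := ModSite.ringSh O) (X := W) I j) ((under O F).map g.op (s j)) := by
      show ((incl O).obj ((tens O F).obj Fr)).map g.op
        (∑ j, pure O (bas (R := ModSite.ringSh O) (X := X) I j) (s j)) = _
      rw [map_sum]
      refine Finset.sum_congr rfl (fun j _ => ?_)
      rw [res_pure, res_bas]
    have hZ2 : ((incl O).obj ((tens O F).obj Fr)).map g.op z =
        ∑ k, pure O ((underMap O κ).app (op W) (x k)) (t k) := by
      rw [← hwz]
      have h1 := PresheafOfModules.naturality_apply ((incl O).map ((tens O F).map κ)) g.op w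
      refine h1.symm.trans ?_
      rw [hw, map_sum]
      exact Finset.sum_congr rfl (fun k _ => map_pure _ _ _)
    have hA := congrArg (((incl O).map (Λ hX F i)).app (op W)) hZ1
    rw [hZ2, map_sum, map_sum] at hA
    rw [Finset.sum_congr rfl (fun k _ => Λ_pure hX F i _ (t k))] at hA
    rw [Finset.sum_congr rfl (fun j _ => Λ_pure hX F i _ _)] at hA
    refine Eq.trans ?_ hA.symm
    rw [Finset.sum_eq_single i]
    · rw [ΓfreeEquiv_bas, if_pos rfl]
      exact (one_smul (O.obj.obj (op W))
        (show (under O F).obj (op W) from (under O F).map g.op (s i))).symm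
    · intro j _ hji
      rw [ΓfreeEquiv_bas, if_neg hji]
      exact zero_smul (O.obj.obj (op W))
        (show (under O F).obj (op W) from (under O F).map g.op (s j))
    · intro h
      exact absurd (Finset.mem_univ i) h
  · intro k
    have h1 := lin_apply hX f W ((underMap O κ).app (op W) (x k))
    rw [← hg'] at h1
    refine h1.symm.trans ?_
    have h2 : κ ≫ ψ = 0 := kernel.condition ψ
    have h3 := congrArg (fun φ => (underMap O φ).app (op W) (x k)) h2
    exact h3

end Terminal

/-- Equational criterion of flatness (one relation), on an arbitrary object of a ringed site. -/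
theorem eqCrit (F : ModSite.Mod O) (hF : ModSite.IsFlat F) (U : C) {I : Type u} [Fintype I]
    [DecidableEq I]
    (f : I → (ModSite.ringSh O).obj.obj (op U)) (s : I → (under O F).obj (op U))
    (hrel : ∑ i, (show O.obj.obj (op U) from f i) • s i = 0) :
    ∃ S ∈ J U, ∀ ⦃V : C⦄ (g : V ⟶ U), S g →
      ∃ (l : ℕ) (t : Fin l → (under O F).obj (op V))
        (a : I → Fin l → (ModSite.ringSh O).obj.obj (op V)),
        (∀ i, (under O F).map g.op (s i) = ∑ k, (show O.obj.obj (op V) from a i k) • t k) ∧
        (∀ k, ∑ i, a i k * (ModSite.ringSh O).obj.map g.op (f i) = 0) := by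
  have hF' := Groth.Agent.S6147.result O F hF U
  have hX : IsTerminal (Over.mk (𝟙 U)) := Over.mkIdTerminal
  obtain ⟨S, hS, h⟩ := eqCrit_terminal (O := O.over U) hX ((ModSite.restr O U).obj F) hF'
    (I := I) f s hrel
  refine ⟨Sieve.overEquiv _ S, (GrothendieckTopology.mem_over_iff J _).1 hS, ?_⟩
  intro V g hg
  rw [Sieve.overEquiv_iff] at hg
  obtain ⟨l, t, a, h1, h2⟩ := h _ hg
  exact ⟨l, t, a, h1, h2⟩

/-- Equational criterion of flatness (one relation), indexed by `Fin n`. -/
theorem eqCrit_fin (F : ModSite.Mod O) (hF : ModSite.IsFlat F) (U : C) {n : ℕ}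
    (f : Fin n → (ModSite.ringSh O).obj.obj (op U)) (s : Fin n → (under O F).obj (op U))
    (hrel : ∑ i, (show O.obj.obj (op U) from f i) • s i = 0) :
    ∃ S ∈ J U, ∀ ⦃V : C⦄ (g : V ⟶ U), S g →
      ∃ (l : ℕ) (t : Fin l → (under O F).obj (op V))
        (a : Fin n → Fin l → (ModSite.ringSh O).obj.obj (op V)),
        (∀ i, (under O F).map g.op (s i) = ∑ k, (show O.obj.obj (op V) from a i k) • t k) ∧
        (∀ k, ∑ i, a i k * (ModSite.ringSh O).obj.map g.op (f i) = 0) := by
  classical
  have hrel' : ∑ i : ULift.{u} (Fin n), (show O.obj.obj (op U) from f i.down) • s i.down = 0 := by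
    rw [← hrel]
    exact Fintype.sum_equiv Equiv.ulift _ _ (fun _ => rfl)
  obtain ⟨S, hS, h⟩ := eqCrit F hF U (I := ULift.{u} (Fin n)) (fun i => f i.down)
    (fun i => s i.down) hrel'
  refine ⟨S, hS, fun V g hg => ?_⟩
  obtain ⟨l, t, a, h1, h2⟩ := h g hg
  refine ⟨l, t, fun i k => a ⟨i⟩ k, fun i => h1 ⟨i⟩, fun k => ?_⟩
  rw [← h2 k]
  exact (Fintype.sum_equiv Equiv.ulift _ _ (fun _ => rfl)).symm

end Groth.Agent.Lib.Helper1.EqCrit
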