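import Groth.Agent.Lib.Helper1.StalkFlatConv2
import Mathlib.RingTheory.TensorProduct.DirectLimitFG

/-!
# Converse of the equational criterion of flatness on a ringed site
-/

set_option autoImplicit false
universe u
open CategoryTheory CategoryTheory.Limits MonoidalCategory Opposite TensorProduct

namespace Groth.Agent.Lib.Helper1.EqCritConv

open ModSite Groth.Agent.Lib.Helper1.EqCritMatrix Groth.Agent.Lib.Helper1.TensorAdj
  Groth.Agent.Lib.Helper1.EqCrit Groth.Agent.Lib.Helper1.StalkFlat Groth.Agent.Lib.Helper1.ModFlat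
  Groth.Agent.Lib.Helper1.StalkFlatConv

variable {C : Type u} [SmallCategory C] {J : GrothendieckTopology C} {O : Sheaf J CommRingCat.{u}}

/-- the (one relation) equational criterion -/
def HasEqCrit (F : ModSite.Mod O) : Prop :=
  ∀ (U : C) (n : ℕ) (f : Fin n → O.obj.obj (op U)) (s : Fin n → (under O F).obj (op U)),
    ∑ i, f i • s i = 0 →
    ∃ S ∈ J U, ∀ ⦃V : C⦄ (g : V ⟶ U), S g →
      ∃ (l : ℕ) (t : Fin l → (under O F).obj (op V)) (a : Fin n → Fin l → O.obj.obj (op V)),
        (∀ i, res F g (s i) = ∑ k, a i k • t k) ∧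
        (∀ k, ∑ i, a i k * O.obj.map g.op (f i) = 0)

theorem eqCrit_matrix' (F : ModSite.Mod O) (hF : HasEqCrit F) :
    ∀ (m : ℕ) (U : C) (n : ℕ) (f : Fin m → Fin n → O.obj.obj (op U))
      (s : Fin n → (under O F).obj (op U)),
      (∀ r, ∑ i, f r i • s i = 0) →
      ∃ S ∈ J U, ∀ ⦃V : C⦄ (g : V ⟶ U), S g →
        ∃ (l : ℕ) (t : Fin l → (under O F).obj (op V)) (a : Fin n → Fin l → O.obj.obj (op V)),
          (∀ i, res F g (s i) = ∑ k, a i k • t k) ∧
          (∀ r k, ∑ i, a i k * O.obj.map g.op (f r i) = 0) := by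
  intro m
  induction m with
  | zero =>
    intro U n f s _
    refine ⟨⊤, J.top_mem U, fun V g _ => ?_⟩
    refine ⟨n, fun k => res F g (s k),
      fun i k => if i = k then (1 : O.obj.obj (op V)) else 0, ?_, ?_⟩
    · intro i
      show res F g (s i) = ∑ k, (if i = k then (1 : O.obj.obj (op V)) else 0) • res F g (s k)
      rw [Finset.sum_eq_single i]
      · rw [if_pos rfl, one_smul]
      · intro k _ hki
        rw [if_neg (Ne.symm hki), zero_smul]
      · intro h
        exact absurd (Finset.mem_univ i) h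
    · intro r
      exact Fin.elim0 r
  | succ m ih =>
    intro U n f s hrel
    obtain ⟨S₁, hS₁, H₁⟩ := ih U n (fun r => f r.castSucc) s (fun r => hrel r.castSucc)
    choose l₁ t₁ a₁ h₁a h₁b using H₁
    -- the new relation on `t₁`
    have key : ∀ ⦃V₁ : C⦄ (g₁ : V₁ ⟶ U) (hg₁ : S₁ g₁),
        ∑ k, (∑ i, a₁ g₁ hg₁ i k * O.obj.map g₁.op (f (Fin.last m) i)) • t₁ g₁ hg₁ k = 0 := by
      intro V₁ g₁ hg₁
      have h0 := congrArg (res F g₁) (hrel (Fin.last m))
      rw [res_sum, res_zero] at h0
      rw [← h0]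
      simp only [Finset.sum_smul]
      rw [Finset.sum_comm]
      refine Finset.sum_congr rfl (fun i _ => ?_)
      rw [res_smul, h₁a g₁ hg₁ i, Finset.smul_sum]
      refine Finset.sum_congr rfl (fun k _ => ?_)
      rw [smul_smul, mul_comm]
    have H₂ := fun (V₁ : C) (g₁ : V₁ ⟶ U) (hg₁ : S₁ g₁) =>
      hF V₁ _ (fun k => ∑ i, a₁ g₁ hg₁ i k * O.obj.map g₁.op (f (Fin.last m) i))
        (t₁ g₁ hg₁) (key g₁ hg₁)
    choose S₂ hS₂ H₂' using H₂
    refine ⟨Sieve.bind S₁ (fun V₁ g₁ hg₁ => S₂ V₁ g₁ hg₁),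
      J.bind_covering hS₁ (fun V₁ g₁ hg₁ => hS₂ V₁ g₁ hg₁), ?_⟩
    rintro V g ⟨V₁, g₂, g₁, hg₁, hg₂, rfl⟩
    obtain ⟨l₂, t₂, a₂, h₂a, h₂b⟩ := H₂' V₁ g₁ hg₁ g₂ hg₂
    refine ⟨l₂, t₂, fun i p => ∑ k, O.obj.map g₂.op (a₁ g₁ hg₁ i k) * a₂ k p, ?_, ?_⟩
    · intro i
      rw [res_comp, h₁a g₁ hg₁ i, res_sum]
      simp only [res_smul, h₂a, Finset.smul_sum, smul_smul, Finset.sum_smul]
      rw [Finset.sum_comm]
    · intro r p
      have hcomp : ∀ x : O.obj.obj (op U), O.obj.map (g₂ ≫ g₁).op x =
          O.obj.map g₂.op (O.obj.map g₁.op x) := by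
        intro x
        rw [op_comp, Functor.map_comp]
        rfl
      have hgen : ∑ i, (∑ k, O.obj.map g₂.op (a₁ g₁ hg₁ i k) * a₂ k p) *
          O.obj.map (g₂ ≫ g₁).op (f r i) =
          ∑ k, a₂ k p * O.obj.map g₂.op (∑ i, a₁ g₁ hg₁ i k * O.obj.map g₁.op (f r i)) := by
        simp only [Finset.sum_mul, map_sum, map_mul, Finset.mul_sum, hcomp]
        rw [Finset.sum_comm]
        refine Finset.sum_congr rfl (fun k _ => Finset.sum_congr rfl (fun i _ => ?_))
        ring
      rw [hgen]
      induction r using Fin.lastCases with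
      | last => exact h₂b p
      | cast r' =>
        refine Finset.sum_eq_zero (fun k _ => ?_)
        rw [h₁b g₁ hg₁ r' k, map_zero, mul_zero]


section Algebra

variable {R : Type*} [CommRing R] {M N : Type*} [AddCommGroup M] [AddCommGroup N]
  [Module R M] [Module R N]

/-- vanishing of a sum of pure tensors, made explicit (without generation hypothesis) -/
theorem vanish_data {l : ℕ} (m : Fin l → M) (n : Fin l → N) (h : ∑ i, m i ⊗ₜ[R] n i = 0) :
    ∃ (e : ℕ) (m' : Fin e → M) (k : ℕ) (a : Fin l → Fin k → R) (a' : Fin e → Fin k → R)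
      (y : Fin k → N),
      (∀ i, n i = ∑ j, a i j • y j) ∧ (∀ r, ∑ j, a' r j • y j = 0) ∧
      (∀ j, ∑ i, a i j • m i + ∑ r, a' r j • m' r = 0) := by
  classical
  let P : Submodule R M := Submodule.span R (Set.range m)
  have hP : P.FG := Submodule.fg_span (Set.finite_range m)
  have hmem : ∀ i, m i ∈ P := fun i => Submodule.subset_span ⟨i, rfl⟩
  let t : P ⊗[R] N := ∑ i, (⟨m i, hmem i⟩ : P) ⊗ₜ[R] n i
  have ht : LinearMap.rTensor N P.subtype t = 0 := by
    rw [map_sum]
    exact h
  obtain ⟨Q, hPQ, hQ, hQ0⟩ := TensorProduct.eq_zero_of_fg_of_subtype_eq_zero hP ht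
  obtain ⟨e, q, hq⟩ := Submodule.fg_iff_exists_fin_generating_family.mp hQ
  have hqmem : ∀ r, q r ∈ Q := fun r => by
    have : q r ∈ Submodule.span R (Set.range q) := Submodule.subset_span ⟨r, rfl⟩
    rwa [hq] at this
  let mm : Fin l ⊕ Fin e → Q := Sum.elim (fun i => ⟨m i, hPQ (hmem i)⟩) (fun r => ⟨q r, hqmem r⟩)
  let nn : Fin l ⊕ Fin e → N := Sum.elim n (fun _ => 0)
  have hspan : Submodule.span R (Set.range mm) = ⊤ := by
    apply Submodule.map_injective_of_injective Q.injective_subtype
    rw [Submodule.map_span, Submodule.map_top, Submodule.range_subtype, ← Set.range_comp]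
    apply le_antisymm
    · rw [Submodule.span_le]
      rintro _ ⟨x, rfl⟩
      exact (mm x).2
    · calc Q = Submodule.span R (Set.range q) := hq.symm
        _ ≤ _ := Submodule.span_mono (by
          rintro _ ⟨r, rfl⟩
          exact ⟨Sum.inr r, rfl⟩)
  have hsum : ∑ x, mm x ⊗ₜ[R] nn x = 0 := by
    rw [Fintype.sum_sum_type]
    have e2 : ∑ r : Fin e, mm (Sum.inr r) ⊗ₜ[R] nn (Sum.inr r) = 0 :=
      Finset.sum_eq_zero (fun r _ => TensorProduct.tmul_zero _ _)
    rw [e2, add_zero]
    have e1 : LinearMap.rTensor N (Submodule.inclusion hPQ) t =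
        ∑ i : Fin l, mm (Sum.inl i) ⊗ₜ[R] nn (Sum.inl i) := by
      rw [map_sum]
      rfl
    rw [← e1]
    exact hQ0
  obtain ⟨k, a, y, h1, h2⟩ := TensorProduct.vanishesTrivially_of_sum_tmul_eq_zero R hspan hsum
  refine ⟨e, q, k, fun i => a (Sum.inl i), fun r => a (Sum.inr r), y, fun i => h1 (Sum.inl i),
    fun r => (h1 (Sum.inr r)).symm, fun j => ?_⟩
  have h3 := congrArg Q.subtype (h2 j)
  rw [Fintype.sum_sum_type, map_add, map_sum, map_sum, map_zero] at h3
  exact Eq.trans rfl h3

end Algebra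


section Main

variable {G G' F : ModSite.Mod O}

lemma zeroSieve_mem_of_local (M : PMod O) {U : C} (w : M.obj (op U)) (S : Sieve U) (hS : S ∈ J U)
    (h : ∀ ⦃V : C⦄ (g : V ⟶ U), S g → zeroSieve M (U := V) (M.map g.op w) ∈ J V) :
    zeroSieve M w ∈ J U := by
  refine J.transitive hS _ (fun V g hg => ?_)
  have e : (zeroSieve M w).pullback g = zeroSieve M (U := V) (M.map g.op w) := by
    ext W k
    show M.map (k ≫ g).op w = 0 ↔ M.map k.op (M.map g.op w) = 0
    have c : M.map (k ≫ g).op w = M.map k.op (M.map g.op w) := by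
      rw [op_comp, PresheafOfModules.map_comp]
      rfl
    rw [c]
    exact ⟨fun h => h, fun h => h⟩
  rw [e]
  exact h g hg

lemma res_add (F : ModSite.Mod O) {U V : C} (g : V ⟶ U) (s t : (under O F).obj (op U)) :
    res F g (s + t) = res F g s + res F g t :=
  map_add ((under O F).map g.op).hom s t

theorem zero_of_tensor_zero (hF : HasEqCrit F) (ι : G ⟶ G') [Mono ι] {W : C} {l : ℕ}
    (a : Fin l → (under O G).obj (op W)) (t : Fin l → (under O F).obj (op W))
    (h : ∑ k, ((underMap O ι).app (op W) (a k)) ⊗ₜ[O.obj.obj (op W)] (t k) = 0) :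
    ∃ S ∈ J W, ∀ ⦃V : C⦄ (g : V ⟶ W), S g →
      ∑ k, pure O (res G g (a k)) (res F g (t k)) = 0 := by
  obtain ⟨e, m', k, α, α', y, h1, h2, h3⟩ := vanish_data (R := O.obj.obj (op W))
    (fun i => (underMap O ι).app (op W) (a i)) t h
  obtain ⟨S, hS, H⟩ := eqCrit_matrix' F hF e W k α' y h2
  refine ⟨S, hS, fun V g hg => ?_⟩
  obtain ⟨l', z, b, hb1, hb2⟩ := H g hg
  refine pure_sum_zero_of_trivial _ _ (fun i p => ∑ j, O.obj.map g.op (α i j) * b j p) z ?_ ?_
  · intro i
    rw [h1 i, res_sum]
    simp only [res_smul, hb1, Finset.smul_sum, smul_smul, Finset.sum_smul]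
    rw [Finset.sum_comm]
  · intro p
    apply app_injective_of_mono ι V
    set x : Fin l → (under O G').obj (op W) := fun i => (underMap O ι).app (op W) (a i) with hx
    have nat : ∀ i, (underMap O ι).app (op V) (res G g (a i)) = res G' g (x i) := fun i =>
      (PresheafOfModules.naturality_apply (underMap O ι) g.op (a i))
    have k1 : ∀ j, ∑ i, O.obj.map g.op (α i j) • res G' g (x i) =
        - ∑ r, O.obj.map g.op (α' r j) • res G' g (m' r) := by
      intro j
      have e0 := congrArg (res G' g) (h3 j)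
      rw [res_zero, res_add] at e0
      have e1 : res G' g (∑ i, α i j • x i) = ∑ i, O.obj.map g.op (α i j) • res G' g (x i) := by
        refine (res_sum G' g _ _).trans ?_
        exact Finset.sum_congr rfl (fun i _ => res_smul G' g _ _)
      have e2 : res G' g (∑ r, α' r j • m' r) =
          ∑ r, O.obj.map g.op (α' r j) • res G' g (m' r) := by
        refine (res_sum G' g _ _).trans ?_
        exact Finset.sum_congr rfl (fun r _ => res_smul G' g _ _)
      rw [e1, e2] at e0
      exact eq_neg_of_add_eq_zero_left e0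
    have e3 : (underMap O ι).app (op V)
        (∑ i, (∑ j, O.obj.map g.op (α i j) * b j p) • res G g (a i)) =
        ∑ i, (∑ j, O.obj.map g.op (α i j) * b j p) • res G' g (x i) := by
      refine (map_sum ((underMap O ι).app (op V)).hom _ _).trans ?_
      refine Finset.sum_congr rfl (fun i _ => ?_)
      refine (map_smul ((underMap O ι).app (op V)).hom _ _).trans ?_
      rw [← nat i]
    refine e3.trans (Eq.trans ?_ (map_zero ((underMap O ι).app (op V)).hom).symm)
    have e4 : ∑ i, (∑ j, O.obj.map g.op (α i j) * b j p) • res G' g (x i) =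
        ∑ j, b j p • ∑ i, O.obj.map g.op (α i j) • res G' g (x i) := by
      simp only [Finset.sum_smul, Finset.smul_sum, smul_smul]
      rw [Finset.sum_comm]
      refine Finset.sum_congr rfl (fun j _ => Finset.sum_congr rfl (fun i _ => ?_))
      rw [mul_comm]
    rw [e4]
    simp only [k1, smul_neg, Finset.sum_neg_distrib, Finset.smul_sum, smul_smul]
    rw [neg_eq_zero, Finset.sum_comm]
    refine Finset.sum_eq_zero (fun r _ => ?_)
    rw [← Finset.sum_smul, hb2 r p, zero_smul]


lemma map_sum_pure {W V : C} (g : V ⟶ W) {l : ℕ} (a : Fin l → (under O G).obj (op W))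
    (t : Fin l → (under O F).obj (op W)) :
    ((incl O).obj ((tens O F).obj G)).map g.op (∑ k, pure O (a k) (t k)) =
      ∑ k, pure O (res G g (a k)) (res F g (t k)) := by
  refine (map_sum (((incl O).obj ((tens O F).obj G)).map g.op).hom _ _).trans ?_
  refine Finset.sum_congr rfl (fun k _ => ?_)
  exact res_pure g (a k) (t k)

theorem isFlat_of_hasEqCrit (F : ModSite.Mod O) (hF : HasEqCrit F) : ModSite.IsFlat F := by
  rw [ModFlat.isFlat_iff]
  constructor
  intro G G' ι _
  haveI : (incl O).ReflectsMonomorphisms := Functor.reflectsMonomorphisms_of_faithful _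
  apply (incl O).mono_of_mono_map
  apply PresheafOfModules.mono_of_injective
  intro X
  rw [injective_iff_map_eq_zero]
  intro w hw
  induction X using Opposite.rec with
  | op U =>
  have hS₀ : zeroSieve ((incl O).obj ((tens O F).obj G)) w ∈ J U := by
    obtain ⟨S, hS, hloc⟩ := exists_local_pure (G := G) (F := F) w
    refine zeroSieve_mem_of_local _ w S hS (fun V g hg => ?_)
    obtain ⟨l, a, t, hat⟩ := hloc g hg
    have h0 : ∑ k, pure O ((underMap O ι).app (op V) (a k)) (t k) = 0 := by
      have n := PresheafOfModules.naturality_apply ((incl O).map ((tens O F).map ι)) g.op w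
      rw [hw, hat] at n
      have e1 : ((incl O).map ((tens O F).map ι)).app (op V) (∑ k, pure O (a k) (t k)) =
          ∑ k, ((incl O).map ((tens O F).map ι)).app (op V) (pure O (a k) (t k)) :=
        map_sum (((incl O).map ((tens O F).map ι)).app (op V)).hom _ _
      rw [e1] at n
      have e2 : ((incl O).obj ((tens O F).obj G')).map g.op 0 = 0 :=
        map_zero (((incl O).obj ((tens O F).obj G')).map g.op).hom
      rw [e2] at n
      refine Eq.trans ?_ n
      refine Finset.sum_congr rfl (fun k _ => ?_)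
      exact (map_pure ι (a k) (t k)).symm
    obtain ⟨S', hS', hloc'⟩ := local_zero_of_pure_sum_zero (G := G') (F := F) _ t h0
    rw [hat]
    refine zeroSieve_mem_of_local _ _ S' hS' (fun W g' hg' => ?_)
    have h1 := hloc' g' hg'
    have h1' : ∑ k, ((underMap O ι).app (op W) (res G g' (a k))) ⊗ₜ[O.obj.obj (op W)]
        (res F g' (t k)) = 0 := by
      refine Eq.trans ?_ h1
      refine Finset.sum_congr rfl (fun k _ => ?_)
      congr 1
      exact (PresheafOfModules.naturality_apply (underMap O ι) g'.op (a k))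
    obtain ⟨S'', hS'', hloc''⟩ := zero_of_tensor_zero hF ι (fun k => res G g' (a k))
      (fun k => res F g' (t k)) h1'
    refine J.superset_covering ?_ hS''
    intro W' g'' hg''
    show ((incl O).obj ((tens O F).obj G)).map g''.op
      (((incl O).obj ((tens O F).obj G)).map g'.op (∑ k, pure O (a k) (t k))) = 0
    rw [map_sum_pure, map_sum_pure]
    exact hloc'' g'' hg''
  refine FreeOnMap.sec_ext O ((tens O F).obj G) _ hS₀ w 0 (fun V g hg => ?_)
  refine Eq.trans hg ?_
  exact (map_zero (((incl O).obj ((tens O F).obj G)).map g.op).hom).symm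

end Main

end Groth.Agent.Lib.Helper1.EqCritConv
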