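import Groth.Agent.Lib.Helper1.EqCrit

/-!
# Equational criterion of flatness: several relations at once
-/

set_option autoImplicit false
universe u
open CategoryTheory CategoryTheory.Limits MonoidalCategory Opposite TensorProduct

namespace Groth.Agent.Lib.Helper1.EqCritMatrix

open Groth.Agent.Lib.Helper1.TensorAdj Groth.Agent.Lib.Helper1.EqCrit

variable {C : Type u} [SmallCategory C] {J : GrothendieckTopology C} {O : Sheaf J CommRingCat.{u}}

/-- restriction of sections of a module -/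
noncomputable def res (F : ModSite.Mod O) {U V : C} (g : V ⟶ U) (t : (under O F).obj (op U)) :
    (under O F).obj (op V) :=
  (under O F).map g.op t

lemma res_smul (F : ModSite.Mod O) {U V : C} (g : V ⟶ U) (a : O.obj.obj (op U))
    (t : (under O F).obj (op U)) :
    res F g (a • t) = O.obj.map g.op a • res F g t :=
  PresheafOfModules.map_smul (under O F) g.op a t

lemma res_sum (F : ModSite.Mod O) {U V : C} (g : V ⟶ U) {κ : Type*} (σ : Finset κ)
    (t : κ → (under O F).obj (op U)) :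
    res F g (∑ k ∈ σ, t k) = ∑ k ∈ σ, res F g (t k) :=
  map_sum ((under O F).map g.op).hom t σ

lemma res_zero (F : ModSite.Mod O) {U V : C} (g : V ⟶ U) :
    res F g (0 : (under O F).obj (op U)) = 0 :=
  map_zero ((under O F).map g.op).hom

lemma res_comp (F : ModSite.Mod O) {U V W : C} (g : V ⟶ U) (g' : W ⟶ V)
    (t : (under O F).obj (op U)) :
    res F (g' ≫ g) t = res F g' (res F g t) := by
  unfold res
  rw [op_comp, PresheafOfModules.map_comp]
  rfl

/-- one relation, with everything typed over `O` -/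
theorem eqCrit_one (F : ModSite.Mod O) (hF : ModSite.IsFlat F) (U : C) {n : ℕ}
    (f : Fin n → O.obj.obj (op U)) (s : Fin n → (under O F).obj (op U))
    (hrel : ∑ i, f i • s i = 0) :
    ∃ S ∈ J U, ∀ ⦃V : C⦄ (g : V ⟶ U), S g →
      ∃ (l : ℕ) (t : Fin l → (under O F).obj (op V)) (a : Fin n → Fin l → O.obj.obj (op V)),
        (∀ i, res F g (s i) = ∑ k, a i k • t k) ∧
        (∀ k, ∑ i, a i k * O.obj.map g.op (f i) = 0) := by
  obtain ⟨S, hS, h⟩ := eqCrit_fin (O := O) F hF U f s hrel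
  refine ⟨S, hS, fun V g hg => ?_⟩
  obtain ⟨l, t, a, h1, h2⟩ := h g hg
  exact ⟨l, t, a, h1, h2⟩

theorem eqCrit_matrix (F : ModSite.Mod O) (hF : ModSite.IsFlat F) :
    ∀ (m : ℕ) (U : C) (n : ℕ) (f : Fin m → Fin n → O.obj.obj (op U))
      (s : Fin n → (under O F).obj (op U)),
      (∀ r, ∑ i, f r i • s i = 0) →
      ∃ S ∈ J U, ∀ ⦃V : C⦄ (g : V ⟶ U), S g →
        ∃ (l : ℕ) (t : Fin l → (under O F).obj (op V)) (a : Fin n → Fin l → O.obj.obj (op V)),
          (∀ i, res F g (s i) = ∑ k, a i k • t k) ∧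
          (∀ r k, ∑ i, a i k * O.obj.map g.op (f r i) = 0) := by
  intro m
  induction m with
  | zero =>
    intro U n f s _
    refine ⟨⊤, J.top_mem U, fun V g _ => ?_⟩
    refine ⟨n, fun k => res F g (s k),
      fun i k => if i = k then (1 : O.obj.obj (op V)) else 0, ?_, ?_⟩
    · intro i
      show res F g (s i) = ∑ k, (if i = k then (1 : O.obj.obj (op V)) else 0) • res F g (s k)
      rw [Finset.sum_eq_single i]
      · rw [if_pos rfl, one_smul]
      · intro k _ hki
        rw [if_neg (Ne.symm hki), zero_smul]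
      · intro h
        exact absurd (Finset.mem_univ i) h
    · intro r
      exact Fin.elim0 r
  | succ m ih =>
    intro U n f s hrel
    obtain ⟨S₁, hS₁, H₁⟩ := ih U n (fun r => f r.castSucc) s (fun r => hrel r.castSucc)
    choose l₁ t₁ a₁ h₁a h₁b using H₁
    -- the new relation on `t₁`
    have key : ∀ ⦃V₁ : C⦄ (g₁ : V₁ ⟶ U) (hg₁ : S₁ g₁),
        ∑ k, (∑ i, a₁ g₁ hg₁ i k * O.obj.map g₁.op (f (Fin.last m) i)) • t₁ g₁ hg₁ k = 0 := by
      intro V₁ g₁ hg₁
      have h0 := congrArg (res F g₁) (hrel (Fin.last m))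
      rw [res_sum, res_zero] at h0
      rw [← h0]
      simp only [Finset.sum_smul]
      rw [Finset.sum_comm]
      refine Finset.sum_congr rfl (fun i _ => ?_)
      rw [res_smul, h₁a g₁ hg₁ i, Finset.smul_sum]
      refine Finset.sum_congr rfl (fun k _ => ?_)
      rw [smul_smul, mul_comm]
    have H₂ := fun (V₁ : C) (g₁ : V₁ ⟶ U) (hg₁ : S₁ g₁) =>
      eqCrit_one F hF V₁ (fun k => ∑ i, a₁ g₁ hg₁ i k * O.obj.map g₁.op (f (Fin.last m) i))
        (t₁ g₁ hg₁) (key g₁ hg₁)
    choose S₂ hS₂ H₂' using H₂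
    refine ⟨Sieve.bind S₁ (fun V₁ g₁ hg₁ => S₂ V₁ g₁ hg₁),
      J.bind_covering hS₁ (fun V₁ g₁ hg₁ => hS₂ V₁ g₁ hg₁), ?_⟩
    rintro V g ⟨V₁, g₂, g₁, hg₁, hg₂, rfl⟩
    obtain ⟨l₂, t₂, a₂, h₂a, h₂b⟩ := H₂' V₁ g₁ hg₁ g₂ hg₂
    refine ⟨l₂, t₂, fun i p => ∑ k, O.obj.map g₂.op (a₁ g₁ hg₁ i k) * a₂ k p, ?_, ?_⟩
    · intro i
      rw [res_comp, h₁a g₁ hg₁ i, res_sum]
      simp only [res_smul, h₂a, Finset.smul_sum, smul_smul, Finset.sum_smul]
      rw [Finset.sum_comm]
    · intro r p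
      have hcomp : ∀ x : O.obj.obj (op U), O.obj.map (g₂ ≫ g₁).op x =
          O.obj.map g₂.op (O.obj.map g₁.op x) := by
        intro x
        rw [op_comp, Functor.map_comp]
        rfl
      have hgen : ∑ i, (∑ k, O.obj.map g₂.op (a₁ g₁ hg₁ i k) * a₂ k p) *
          O.obj.map (g₂ ≫ g₁).op (f r i) =
          ∑ k, a₂ k p * O.obj.map g₂.op (∑ i, a₁ g₁ hg₁ i k * O.obj.map g₁.op (f r i)) := by
        simp only [Finset.sum_mul, map_sum, map_mul, Finset.mul_sum, hcomp]
        rw [Finset.sum_comm]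
        refine Finset.sum_congr rfl (fun k _ => Finset.sum_congr rfl (fun i _ => ?_))
        ring
      rw [hgen]
      induction r using Fin.lastCases with
      | last => exact h₂b p
      | cast r' =>
        refine Finset.sum_eq_zero (fun k _ => ?_)
        rw [h₁b g₁ hg₁ r' k, map_zero, mul_zero]

end Groth.Agent.Lib.Helper1.EqCritMatrix
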