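import Mathlib.RingTheory.Etale.StandardEtale
import Mathlib.RingTheory.Etale.Kaehler
import Mathlib.RingTheory.Etale.Field
import Mathlib.FieldTheory.PrimitiveElement
import Mathlib.RingTheory.Smooth.Flat
import Mathlib.RingTheory.Kaehler.JacobiZariski
import Mathlib.RingTheory.Extension.Generators
import Mathlib.Algebra.MvPolynomial.Basic
import Mathlib.RingTheory.Smooth.Pi
import Mathlib.RingTheory.Smooth.Basic

set_option autoImplicit false
universe u

namespace Groth.Agent.Lib.Helper1.EtLift

open Polynomial

/-- A finite separable extension `L/K` of a residue field `K` of `R` lifts to a standard étale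
`R`-algebra whose fibre over `K` is `L`. -/
theorem exists_standardEtale_lift {R K L : Type u} [CommRing R] [Field K] [Field L]
    [Algebra R K] [Algebra K L] [Algebra R L] [IsScalarTower R K L]
    (hsurj : Function.Surjective (algebraMap R K)) [FiniteDimensional K L]
    [Algebra.IsSeparable K L] :
    ∃ (Pr : StandardEtalePair R) (φ : Pr.Ring →ₐ[R] L), Function.Surjective φ ∧
      RingHom.ker φ = Ideal.map (algebraMap R Pr.Ring) (RingHom.ker (algebraMap R K)) := by
  classical
  obtain ⟨α, hα⟩ := Field.exists_primitive_element K L
  have hint : IsIntegral K α := Algebra.IsIntegral.isIntegral α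
  have hmonic : (minpoly K α).Monic := minpoly.monic hint
  obtain ⟨p, hpmap, -, hpmonic⟩ := Polynomial.lifts_and_natDegree_eq_and_monic
    (f := algebraMap R K) (p := minpoly K α)
    ((Polynomial.mem_lifts _).2 (Polynomial.map_surjective _ hsurj _)) hmonic
  let Pr : StandardEtalePair R :=
    { f := p, monic_f := hpmonic, g := derivative p, cond := ⟨1, 0, 1, by simp⟩ }
  have haeval : ∀ q : R[X], aeval α q = aeval α (q.map (algebraMap R K)) := fun q =>
    (Polynomial.aeval_map_algebraMap K α q).symm
  have h1 : aeval α p = 0 := by rw [haeval, hpmap]; exact minpoly.aeval K α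
  have h2 : aeval α (derivative p) ≠ 0 := by
    rw [haeval, ← Polynomial.derivative_map, hpmap]
    exact (Algebra.IsSeparable.isSeparable K α).aeval_derivative_ne_zero (minpoly.aeval K α)
  have hmap : Pr.HasMap α := ⟨h1, isUnit_iff_ne_zero.2 h2⟩
  let φ : Pr.Ring →ₐ[R] L := Pr.lift α hmap
  have hφX : φ Pr.X = α := Pr.lift_X α hmap
  have hφq : ∀ q : R[X], φ (aeval Pr.X q) = aeval α q := fun q => by
    rw [← Polynomial.aeval_algHom_apply, hφX]
  have hsurjφ : Function.Surjective φ := by
    intro z
    have hz : z ∈ (IntermediateField.adjoin K {α}).toSubalgebra := by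
      rw [hα]; exact Algebra.mem_top
    rw [IntermediateField.adjoin_simple_toSubalgebra_of_isAlgebraic hint.isAlgebraic,
      Algebra.adjoin_singleton_eq_range_aeval] at hz
    obtain ⟨qbar, rfl⟩ := hz
    obtain ⟨q, rfl⟩ := Polynomial.map_surjective (algebraMap R K) hsurj qbar
    exact ⟨aeval Pr.X q, by rw [hφq, haeval]; rfl⟩
  refine ⟨Pr, φ, hsurjφ, le_antisymm ?_ ?_⟩
  · intro z hz
    have hz' : φ z = 0 := hz
    let PP : StandardEtalePresentation R Pr.Ring :=
      ⟨Pr, Pr.X, Pr.hasMap_X, by
        simpa [StandardEtalePair.lift_X_left] using Function.bijective_id⟩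
    obtain ⟨a, n, han⟩ := PP.exists_mul_aeval_x_g_pow_eq_aeval_x z
    have han' : z * aeval Pr.X (derivative p) ^ n = aeval Pr.X a := han
    -- a(α) = 0
    have ha0 : aeval α (a.map (algebraMap R K)) = 0 := by
      rw [← haeval, ← hφq, ← han', map_mul, hz', zero_mul]
    obtain ⟨sbar, hs⟩ := minpoly.dvd K α ha0
    obtain ⟨s, rfl⟩ := Polynomial.map_surjective (algebraMap R K) hsurj sbar
    -- r = a - p s has coefficients in the kernel
    have hr : (a - p * s).map (algebraMap R K) = 0 := by
      rw [Polynomial.map_sub, Polynomial.map_mul, hpmap, hs, sub_self]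
    have hcoeff : ∀ j, (a - p * s).coeff j ∈ RingHom.ker (algebraMap R K) := fun j => by
      have := congrArg (fun q => Polynomial.coeff q j) hr
      rw [RingHom.mem_ker]
      simpa only [Polynomial.coeff_map, Polynomial.coeff_zero] using this
    have hpX : aeval Pr.X p = 0 := Pr.hasMap_X.1
    have haX : aeval Pr.X a = aeval Pr.X (a - p * s) := by
      rw [map_sub, map_mul, hpX, zero_mul, sub_zero]
    have hmem : aeval Pr.X (a - p * s) ∈
        Ideal.map (algebraMap R Pr.Ring) (RingHom.ker (algebraMap R K)) := by
      rw [Polynomial.aeval_eq_sum_range]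
      refine Ideal.sum_mem _ (fun j _ => ?_)
      rw [Algebra.smul_def]
      exact Ideal.mul_mem_right _ _ (Ideal.mem_map_of_mem _ (hcoeff j))
    have hunit : IsUnit (aeval Pr.X (derivative p) ^ n) := (Pr.hasMap_X.2).pow n
    have : z * aeval Pr.X (derivative p) ^ n ∈
        Ideal.map (algebraMap R Pr.Ring) (RingHom.ker (algebraMap R K)) := by
      rw [han', haX]; exact hmem
    obtain ⟨w, hw⟩ := hunit.exists_right_inv
    have h3 := Ideal.mul_mem_right w _ this
    rwa [mul_assoc, hw, mul_one] at h3
  · rw [Ideal.map_le_iff_le_comap]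
    intro i hi
    rw [Ideal.mem_comap, RingHom.mem_ker]
    have h1 : φ (algebraMap R Pr.Ring i) = algebraMap R L i := φ.commutes i
    have h2 : algebraMap R L i = algebraMap K L (algebraMap R K i) :=
      IsScalarTower.algebraMap_apply R K L i
    change φ (algebraMap R Pr.Ring i) = 0
    rw [h1, h2, (RingHom.mem_ker).1 hi, map_zero]

section General

open Algebra TensorProduct

variable {R K L A : Type u} [CommRing R] [CommRing K] [Field L]
    [Algebra R K] [Algebra K L] [Algebra R L] [IsScalarTower R K L]
    [CommRing A] [Algebra R A]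
    (hsurj : Function.Surjective (algebraMap R K))
    (φ : A →ₐ[R] L) (hφ : Function.Surjective φ)

/-- the extension `R → K` -/
noncomputable def extP : Extension.{u} R K := .ofSurjective (Algebra.ofId R K) hsurj

/-- the extension `A → L` -/
noncomputable def extQ : Extension.{u} R L := .ofSurjective φ hφ

noncomputable instance algPQ : Algebra (extP hsurj).Ring (extQ φ hφ).Ring :=
  inferInstanceAs (Algebra R A)

/-- the morphism of extensions -/
noncomputable def homPQ : (extP hsurj).Hom (extQ φ hφ) :=
  { toRingHom := algebraMap R A
    toRingHom_algebraMap := fun x => rfl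
    algebraMap_toRingHom := fun x => by
      change φ (algebraMap R A x) = algebraMap K L (algebraMap R K x)
      rw [φ.commutes, IsScalarTower.algebraMap_apply R K L] }

lemma halg : algebraMap (extP hsurj).Ring (extQ φ hφ).Ring = (homPQ hsurj φ hφ).toRingHom := rfl

theorem bijective_ext [Algebra.FormallyEtale R A] [Module.Flat R A] [Module.Flat K L]
    (hker : RingHom.ker φ = Ideal.map (algebraMap R A) (RingHom.ker (algebraMap R K))) :
    Function.Bijective ((Extension.H1Cotangent.map (homPQ hsurj φ hφ)).liftBaseChange L) := by
  have H₁ : (homPQ hsurj φ hφ).toRingHom.FormallyEtale := by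
    change (algebraMap R A).FormallyEtale
    exact RingHom.formallyEtale_algebraMap.2 inferInstance
  have H₂ : Function.Bijective
      (((homPQ hsurj φ hφ).mapKer (halg hsurj φ hφ)).liftBaseChange (extQ φ hφ).Ring) := by
    set P := extP hsurj with hP
    set Q := extQ φ hφ with hQ
    set g := ((homPQ hsurj φ hφ).mapKer (halg hsurj φ hφ)).liftBaseChange Q.Ring with hg
    haveI : Module.Flat P.Ring Q.Ring := show Module.Flat R A from inferInstance
    have hinj0 : Function.Injective (LinearMap.lTensor Q.Ring (Submodule.subtype P.ker)) :=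
      Module.Flat.lTensor_preserves_injective_linearMap _ Subtype.val_injective
    have key : ∀ x : Q.Ring ⊗[P.Ring] P.ker, ((g x : Q.ker) : Q.Ring) =
        TensorProduct.rid P.Ring Q.Ring (LinearMap.lTensor Q.Ring (Submodule.subtype P.ker) x) := by
      intro x
      induction x using TensorProduct.induction_on with
      | zero => simp
      | tmul a i =>
        rw [hg, LinearMap.liftBaseChange_tmul, LinearMap.lTensor_tmul, TensorProduct.rid_tmul]
        rw [Submodule.coe_smul, smul_eq_mul, Extension.Hom.mapKer_apply_coe,
          Submodule.subtype_apply, Algebra.smul_def, halg hsurj φ hφ, mul_comm]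
      | add x y hx hy =>
        rw [map_add, map_add, map_add, ← hx, ← hy]; rfl
    constructor
    · rw [injective_iff_map_eq_zero]
      intro x hx
      have h0 : TensorProduct.rid P.Ring Q.Ring
          (LinearMap.lTensor Q.Ring (Submodule.subtype P.ker) x) = 0 := by
        rw [← key, hx]; rfl
      have h1 := (TensorProduct.rid P.Ring Q.Ring).injective (h0.trans (map_zero _).symm)
      exact hinj0 (h1.trans (map_zero _).symm)
    · intro z
      have hz : (z : Q.Ring) ∈ Ideal.map (algebraMap R A) (RingHom.ker (algebraMap R K)) := by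
        rw [← hker]; exact z.2
      have hex : ∀ w ∈ Ideal.map (algebraMap R A) (RingHom.ker (algebraMap R K)),
          ∃ x : Q.Ring ⊗[P.Ring] P.ker, ((g x : Q.ker) : Q.Ring) = w := by
        intro w hw
        refine Submodule.span_induction ?_ ?_ ?_ ?_ hw
        · rintro _ ⟨i, hi, rfl⟩
          refine ⟨(1 : Q.Ring) ⊗ₜ ⟨i, hi⟩, ?_⟩
          rw [key, LinearMap.lTensor_tmul, TensorProduct.rid_tmul, Submodule.subtype_apply,
            Algebra.smul_def, mul_one]
          rfl
        · exact ⟨0, by rw [map_zero]; rfl⟩
        · rintro w₁ w₂ _ _ ⟨x₁, h₁⟩ ⟨x₂, h₂⟩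
          exact ⟨x₁ + x₂, by rw [map_add, ← h₁, ← h₂]; rfl⟩
        · rintro a w _ ⟨x, hx⟩
          exact ⟨(show Q.Ring from a) • x, by rw [map_smul, ← hx]; rfl⟩
      obtain ⟨x, hx⟩ := hex _ hz
      exact ⟨x, Subtype.ext hx⟩
  exact (Extension.tensorH1CotangentOfFormallyEtale (homPQ hsurj φ hφ) (halg hsurj φ hφ)
    H₁ H₂).bijective

set_option backward.isDefEq.respectTransparency false in
/-- the canonical morphism from the standard presentation to any extension -/
noncomputable def selfHom {S : Type u} [CommRing S] [Algebra R S] (E : Extension.{u} R S) :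
    (Generators.self R S).toExtension.Hom E :=
  { toRingHom := (MvPolynomial.aeval E.σ).toRingHom
    toRingHom_algebraMap := (MvPolynomial.aeval E.σ).commutes
    algebraMap_toRingHom := by
      have : (IsScalarTower.toAlgHom R E.Ring S).comp (MvPolynomial.aeval E.σ) =
          IsScalarTower.toAlgHom _ (Generators.self R S).toExtension.Ring _ := by
        ext i
        change _ = algebraMap (Generators.self R S).Ring _ (.X i)
        simp
      exact DFunLike.congr_fun this }

include hsurj hφ in
set_option backward.isDefEq.respectTransparency false in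
theorem bijective_h1 [Algebra.FormallyEtale R A] [Module.Flat R A] [Module.Flat K L]
    (hker : RingHom.ker φ = Ideal.map (algebraMap R A) (RingHom.ker (algebraMap R K))) :
    Function.Bijective ((Algebra.H1Cotangent.map R R K L).liftBaseChange L) := by
  have hb := bijective_ext hsurj φ hφ hker
  set P := extP hsurj with hP
  set Q := extQ φ hφ with hQ
  set f := homPQ hsurj φ hφ with hf
  let G' : Extension.{u} R K := (Generators.self R K).toExtension
  let G : Extension.{u} R L := (Generators.self R L).toExtension
  let F₀ : G'.Hom G :=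
    (Generators.defaultHom (Generators.self R K) (Generators.self R L)).toExtensionHom
  let p₁ : G'.Hom P := selfHom P
  let q₂ : G.Hom Q := selfHom Q
  haveI : FormallySmooth R P.Ring := show FormallySmooth R R from inferInstance
  haveI : FormallySmooth R Q.Ring := show FormallySmooth R A from inferInstance
  haveI : FormallySmooth R G'.Ring := inferInstanceAs (FormallySmooth R (MvPolynomial _ _))
  haveI : FormallySmooth R G.Ring := inferInstanceAs (FormallySmooth R (MvPolynomial _ _))
  have hb1 : Function.Bijective (Extension.H1Cotangent.map p₁) := by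
    have := (Extension.H1Cotangent.equivOfFormallySmooth G' P).bijective
    rwa [← LinearEquiv.coe_coe, Extension.H1Cotangent.equivOfFormallySmooth_toLinearMap p₁] at this
  have hb2 : Function.Bijective (Extension.H1Cotangent.map q₂) := by
    have := (Extension.H1Cotangent.equivOfFormallySmooth G Q).bijective
    rwa [← LinearEquiv.coe_coe, Extension.H1Cotangent.equivOfFormallySmooth_toLinearMap q₂] at this
  have hcomm : ∀ x : G'.H1Cotangent,
      Extension.H1Cotangent.map q₂ (Extension.H1Cotangent.map F₀ x) =
        Extension.H1Cotangent.map f (Extension.H1Cotangent.map p₁ x) := by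
    intro x
    rw [← Extension.H1Cotangent.map_comp_apply, ← Extension.H1Cotangent.map_comp_apply,
      Extension.H1Cotangent.map_eq (q₂.comp F₀) (f.comp p₁)]
  have hΦ : (Algebra.H1Cotangent.map R R K L) = Extension.H1Cotangent.map F₀ := rfl
  have key : ∀ x : L ⊗[K] G'.H1Cotangent,
      Extension.H1Cotangent.map q₂ ((Algebra.H1Cotangent.map R R K L).liftBaseChange L x) =
        (Extension.H1Cotangent.map f).liftBaseChange L
          ((Extension.H1Cotangent.map p₁).baseChange L x) := by
    intro x
    induction x using TensorProduct.induction_on with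
    | zero => simp
    | tmul l y =>
      rw [LinearMap.liftBaseChange_tmul, map_smul, LinearMap.baseChange_tmul,
        LinearMap.liftBaseChange_tmul, hΦ, hcomm]
    | add x y hx hy => rw [map_add, map_add, map_add, map_add, hx, hy]
  have hb3 : Function.Bijective ((Extension.H1Cotangent.map p₁).baseChange L) :=
    (LinearEquiv.lTensor L (LinearEquiv.ofBijective _ hb1)).bijective
  constructor
  · intro x y hxy
    have := congrArg (Extension.H1Cotangent.map q₂) hxy
    rw [key, key] at this
    exact hb3.1 (hb.1 this)
  · intro y
    obtain ⟨z, hz⟩ := hb.2 (Extension.H1Cotangent.map q₂ y)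
    obtain ⟨x, rfl⟩ := hb3.2 z
    exact ⟨x, hb2.1 (by rw [key, hz])⟩

end General

/-- version of `exists_standardEtale_lift` with `K` a commutative ring that is a field -/
theorem exists_standardEtale_lift' {R K L : Type u} [CommRing R] [CommRing K] [Field L]
    [Algebra R K] [Algebra K L] [Algebra R L] [IsScalarTower R K L] (hK : IsField K)
    (hsurj : Function.Surjective (algebraMap R K)) [Module.Finite K L]
    [Algebra.IsSeparable K L] :
    ∃ (Pr : StandardEtalePair R) (φ : Pr.Ring →ₐ[R] L), Function.Surjective φ ∧
      RingHom.ker φ = Ideal.map (algebraMap R Pr.Ring) (RingHom.ker (algebraMap R K)) := by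
  letI : Field K := hK.toField
  exact exists_standardEtale_lift hsurj

open Algebra TensorProduct in
theorem bijective_liftBaseChange {R K L : Type u} [CommRing R] [CommRing K] [Field L]
    [Algebra R K] [Algebra K L] [Algebra R L] [IsScalarTower R K L] (hK : IsField K)
    (hsurj : Function.Surjective (algebraMap R K)) [Module.Finite K L]
    [Algebra.IsSeparable K L] :
    Function.Bijective ((Algebra.H1Cotangent.map R R K L).liftBaseChange L) := by
  obtain ⟨Pr, φ, hφ, hker⟩ := exists_standardEtale_lift' hK hsurj (L := L)
  haveI : Module.Flat R Pr.Ring := inferInstance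
  haveI : Module.Flat K L := by
    letI : Field K := hK.toField
    infer_instance
  exact bijective_h1 hsurj φ hφ hker

end Groth.Agent.Lib.Helper1.EtLift
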