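import Groth.Prelude.Def_Exal2
import Mathlib.RingTheory.Ideal.Quotient.Operations

set_option autoImplicit false
universe u v

namespace Groth.Agent.Lib.Helper1.ExalBaer

open Exal Exal.Ext

section Hom

variable {A : Type u} {B L : Type v} [CommRing A] [CommRing B] [Algebra A B] [AddCommGroup L]
  [Module B L] {Y Y' : Ext A B L}

lemma proj_incl (Y : Ext A B L) (z : L) : Y.proj (Y.incl z) = 0 :=
  (Y.isExtension.exact _).2 ⟨z, rfl⟩

/-- a ring map of extensions is bijective. -/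
lemma bijective_of_hom (f : Y.E →+* Y'.E) (hp : ∀ e, Y'.proj (f e) = Y.proj e)
    (hi : ∀ z, f (Y.incl z) = Y'.incl z) : Function.Bijective f := by
  constructor
  · rw [injective_iff_map_eq_zero]
    intro e he
    have h0 : Y.proj e = 0 := by rw [← hp, he, map_zero]
    obtain ⟨z, rfl⟩ := (Y.isExtension.exact _).1 h0
    rw [hi] at he
    have : z = 0 := Y'.isExtension.incl_injective (he.trans (map_zero _).symm)
    rw [this, map_zero]
  · intro e'
    obtain ⟨e, he⟩ := Y.isExtension.proj_surjective (Y'.proj e')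
    have h0 : Y'.proj (e' - f e) = 0 := by rw [map_sub, hp, he, sub_self]
    obtain ⟨z, hz⟩ := (Y'.isExtension.exact _).1 h0
    refine ⟨e + Y.incl z, ?_⟩
    rw [map_add, hi, hz]; ring

/-- an equivalence from an algebra map of extensions. -/
noncomputable def equivOfHom (f : Y.E →ₐ[A] Y'.E) (hp : ∀ e, Y'.proj (f e) = Y.proj e)
    (hi : ∀ z, f (Y.incl z) = Y'.incl z) : Y.Equiv Y' where
  toAlgEquiv := AlgEquiv.ofBijective f (bijective_of_hom (f : Y.E →+* Y'.E) hp hi)
  proj_apply := hp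
  apply_incl := hi

end Hom

section Baer

variable {k : Type u} {Λ R L : Type v} [CommRing k] [CommRing Λ] [CommRing R]
  [Algebra k Λ] [Algebra Λ R] [Algebra k R] [IsScalarTower k Λ R]
  [AddCommGroup L] [Module R L] [Module Λ L] [IsScalarTower Λ R L]
  (Y Y' : Ext k R L)

/-- the fibre product `E ×_R E'`. -/
def W : Subalgebra k (Y.E × Y'.E) :=
  AlgHom.equalizer (Y.proj.comp (AlgHom.fst k Y.E Y'.E)) (Y'.proj.comp (AlgHom.snd k Y.E Y'.E))

lemma mem_W (x : Y.E × Y'.E) : x ∈ W Y Y' ↔ Y.proj x.1 = Y'.proj x.2 := Iff.rfl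

/-- the diagonal copy of `L`. -/
def diag : Ideal (W Y Y') where
  carrier := {w | ∃ z : L, (w : Y.E × Y'.E) = (Y.incl z, Y'.incl z)}
  add_mem' := by
    rintro a b ⟨z, hz⟩ ⟨z', hz'⟩
    exact ⟨z + z', by rw [Subalgebra.coe_add, hz, hz', map_add, map_add]; rfl⟩
  zero_mem' := ⟨0, by rw [map_zero, map_zero]; rfl⟩
  smul_mem' := by
    rintro c a ⟨z, hz⟩
    refine ⟨Y.proj (c : Y.E × Y'.E).1 • z, ?_⟩
    rw [smul_eq_mul, Subalgebra.coe_mul, hz]
    refine Prod.ext ?_ ?_
    · exact Y.isExtension.mul_incl _ _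
    · change (c : Y.E × Y'.E).2 * Y'.incl z = _
      rw [Y'.isExtension.mul_incl, ← (mem_W Y Y' _).1 c.2]

lemma mem_diag (w : W Y Y') : w ∈ diag Y Y' ↔ ∃ z : L, (w : Y.E × Y'.E) = (Y.incl z, Y'.incl z) :=
  Iff.rfl

/-- the inclusion of the carrier of the pullback into the product. -/
noncomputable def valP (X : Ext k R L) : (X.pullback Λ).E →ₐ[k] X.E × Λ := (X.fiberProd Λ).val

lemma valP_mem (X : Ext k R L) (p : (X.pullback Λ).E) :
    X.proj (valP X p).1 = algebraMap Λ R (valP X p).2 := p.2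

lemma valP_snd (X : Ext k R L) (p : (X.pullback Λ).E) :
    (valP X p).2 = (X.pullback Λ).proj p := rfl

lemma valP_incl (X : Ext k R L) (z : L) :
    valP X ((X.pullback Λ).incl z) = (X.incl z, 0) := rfl

lemma valP_injective (X : Ext k R L) : Function.Injective (valP (Λ := Λ) X) :=
  Subtype.val_injective

lemma exists_valP (X : Ext k R L) (e : X.E) (a : Λ) (h : X.proj e = algebraMap Λ R a) :
    ∃ p : (X.pullback Λ).E, valP X p = (e, a) := ⟨⟨(e, a), h⟩, rfl⟩

variable {Y Y'} (θ : (Y.pullback Λ).Equiv (Y'.pullback Λ))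

/-- the map `P → W`. -/
noncomputable def gHom : (Y.pullback Λ).E →ₐ[k] W Y Y' :=
  AlgHom.codRestrict
    (AlgHom.prod ((AlgHom.fst k Y.E Λ).comp (valP Y))
      ((AlgHom.fst k Y'.E Λ).comp ((valP Y').comp θ.toAlgEquiv.toAlgHom)))
    (W Y Y') (by
      intro p
      rw [mem_W]
      change Y.proj (valP Y p).1 = Y'.proj (valP Y' (θ.toAlgEquiv p)).1
      rw [valP_mem, valP_mem, valP_snd, valP_snd, θ.proj_apply])

lemma gHom_val (p : (Y.pullback Λ).E) :
    ((gHom θ p : W Y Y') : Y.E × Y'.E) = ((valP Y p).1, (valP Y' (θ.toAlgEquiv p)).1) := rfl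

lemma gHom_incl (z : L) :
    ((gHom θ ((Y.pullback Λ).incl z) : W Y Y') : Y.E × Y'.E) = (Y.incl z, Y'.incl z) := by
  rw [gHom_val, θ.apply_incl, valP_incl, valP_incl]

/-- the structure map `Λ → Z`. -/
noncomputable def ρ : Λ →+* W Y Y' ⧸ diag Y Y' :=
  (Ideal.Quotient.lift (RingHom.ker ((Y.pullback Λ).proj : (Y.pullback Λ).E →+* Λ))
    ((Ideal.Quotient.mk (diag Y Y')).comp (gHom θ : (Y.pullback Λ).E →+* W Y Y')) (by
      intro p hp
      obtain ⟨z, rfl⟩ := ((Y.pullback Λ).isExtension.exact p).1 hp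
      change Ideal.Quotient.mk (diag Y Y') (gHom θ ((Y.pullback Λ).incl z)) = 0
      rw [Ideal.Quotient.eq_zero_iff_mem, mem_diag]
      exact ⟨z, gHom_incl θ z⟩)).comp
  (RingHom.quotientKerEquivOfSurjective
    (f := ((Y.pullback Λ).proj : (Y.pullback Λ).E →+* Λ))
    (Y.pullback Λ).isExtension.proj_surjective).symm.toRingHom

lemma ρ_proj (p : (Y.pullback Λ).E) :
    ρ θ ((Y.pullback Λ).proj p) = Ideal.Quotient.mk (diag Y Y') (gHom θ p) := by
  have : (RingHom.quotientKerEquivOfSurjective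
      (f := ((Y.pullback Λ).proj : (Y.pullback Λ).E →+* Λ))
      (Y.pullback Λ).isExtension.proj_surjective).symm ((Y.pullback Λ).proj p) =
      Ideal.Quotient.mk _ p := by
    rw [RingEquiv.symm_apply_eq]; rfl
  unfold ρ
  rw [RingHom.comp_apply]
  change Ideal.Quotient.lift _ _ _ ((RingHom.quotientKerEquivOfSurjective
      (f := ((Y.pullback Λ).proj : (Y.pullback Λ).E →+* Λ))
      (Y.pullback Λ).isExtension.proj_surjective).symm ((Y.pullback Λ).proj p)) = _
  rw [this]; rfl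

/-- the projection `W → R`. -/
def projW : W Y Y' →ₐ[k] R := Y.proj.comp ((AlgHom.fst k Y.E Y'.E).comp (W Y Y').val)

lemma projW_apply (w : W Y Y') : projW w = Y.proj (w : Y.E × Y'.E).1 := rfl

lemma projW_apply' (w : W Y Y') : projW w = Y'.proj (w : Y.E × Y'.E).2 := w.2

lemma projW_diag (w : W Y Y') (hw : w ∈ diag Y Y') : projW w = 0 := by
  obtain ⟨z, hz⟩ := hw
  rw [projW_apply, hz]
  exact proj_incl Y z

/-- the carrier of the Baer difference. -/
@[nolint unusedArguments]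
def ZC (_θ : (Y.pullback Λ).Equiv (Y'.pullback Λ)) : Type v := W Y Y' ⧸ diag Y Y'

instance : CommRing (ZC θ) := inferInstanceAs (CommRing (W Y Y' ⧸ diag Y Y'))

noncomputable instance : Algebra Λ (ZC θ) := (ρ θ : Λ →+* ZC θ).toAlgebra

/-- the quotient map. -/
def mkZ : W Y Y' →+* ZC θ := Ideal.Quotient.mk (diag Y Y')

lemma mkZ_surjective : Function.Surjective (mkZ θ) := Ideal.Quotient.mk_surjective

lemma mkZ_eq_zero_iff (w : W Y Y') : mkZ θ w = 0 ↔ w ∈ diag Y Y' := Ideal.Quotient.eq_zero_iff_mem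

lemma algebraMap_ZC (a : Λ) : algebraMap Λ (ZC θ) a = ρ θ a := rfl

lemma algebraMap_proj (p : (Y.pullback Λ).E) :
    algebraMap Λ (ZC θ) ((Y.pullback Λ).proj p) = mkZ θ (gHom θ p) := ρ_proj θ p

/-- the projection `Z → R` as a ring map. -/
def projZ' : ZC θ →+* R :=
  Ideal.Quotient.lift (diag Y Y') (projW (Y := Y) (Y' := Y')).toRingHom
    (fun w hw => projW_diag w hw)

lemma projZ'_mk (w : W Y Y') : projZ' θ (mkZ θ w) = projW w := rfl

lemma projZ'_algebraMap (a : Λ) : projZ' θ (algebraMap Λ (ZC θ) a) = algebraMap Λ R a := by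
  obtain ⟨p, rfl⟩ := (Y.pullback Λ).isExtension.proj_surjective a
  rw [algebraMap_proj, projZ'_mk, projW_apply, gHom_val, valP_mem, valP_snd]

/-- the projection `Z → R`. -/
def projZ : ZC θ →ₐ[Λ] R := { projZ' θ with commutes' := projZ'_algebraMap θ }

lemma projZ_mk (w : W Y Y') : projZ θ (mkZ θ w) = projW w := rfl

/-- `(ι z, 0)` as an element of `W`. -/
def inclW : L →+ W Y Y' where
  toFun z := ⟨(Y.incl z, 0), by
    rw [mem_W]; change Y.proj (Y.incl z) = Y'.proj 0; rw [proj_incl, map_zero]⟩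
  map_zero' := by apply Subtype.ext; simp
  map_add' z z' := by apply Subtype.ext; simp

lemma inclW_val (z : L) : ((inclW z : W Y Y') : Y.E × Y'.E) = (Y.incl z, 0) := rfl

/-- the inclusion `L → Z`. -/
def inclZ : L →+ ZC θ := (mkZ θ).toAddMonoidHom.comp inclW

lemma inclZ_apply (z : L) : inclZ θ z = mkZ θ (inclW z) := rfl

lemma isExtension_Z : Exal.IsExtension (projZ θ) (inclZ θ) := by
  refine ⟨?_, ?_, ?_, ?_⟩
  · intro r
    obtain ⟨e, he⟩ := Y.isExtension.proj_surjective r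
    obtain ⟨e', he'⟩ := Y'.isExtension.proj_surjective r
    refine ⟨mkZ θ ⟨(e, e'), ?_⟩, ?_⟩
    · rw [mem_W]; exact he.trans he'.symm
    · exact he
  · rw [injective_iff_map_eq_zero]
    intro z hz
    rw [inclZ_apply, mkZ_eq_zero_iff, mem_diag] at hz
    obtain ⟨z', hz'⟩ := hz
    rw [inclW_val] at hz'
    have h1 : Y'.incl z' = 0 := (congrArg Prod.snd hz').symm
    have h2 : z' = 0 := Y'.isExtension.incl_injective (h1.trans (map_zero _).symm)
    have h3 : Y.incl z = Y.incl z' := congrArg Prod.fst hz'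
    rw [Y.isExtension.incl_injective h3, h2]
  · intro x
    obtain ⟨w, rfl⟩ := mkZ_surjective θ x
    rw [projZ_mk]
    constructor
    · intro h0
      have h1 : Y.proj (w : Y.E × Y'.E).1 = 0 := h0
      have h2 : Y'.proj (w : Y.E × Y'.E).2 = 0 := by rw [← projW_apply', h0]
      obtain ⟨z, hz⟩ := (Y.isExtension.exact _).1 h1
      obtain ⟨z', hz'⟩ := (Y'.isExtension.exact _).1 h2
      refine ⟨z - z', ?_⟩
      rw [inclZ_apply, eq_comm, ← sub_eq_zero, ← map_sub, mkZ_eq_zero_iff, mem_diag]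
      refine ⟨z', ?_⟩
      rw [Subalgebra.coe_sub, inclW_val]
      refine Prod.ext ?_ ?_
      · change (w : Y.E × Y'.E).1 - Y.incl (z - z') = Y.incl z'
        rw [← hz, map_sub]; ring
      · change (w : Y.E × Y'.E).2 - 0 = Y'.incl z'
        rw [← hz', sub_zero]
    · rintro ⟨z, hz⟩
      have := congrArg (projZ θ) hz
      rw [inclZ_apply, projZ_mk, projZ_mk] at this
      rw [← this, projW_apply, inclW_val]
      exact proj_incl Y z
  · intro x z
    obtain ⟨w, rfl⟩ := mkZ_surjective θ x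
    rw [inclZ_apply, inclZ_apply, ← map_mul, projZ_mk]
    congr 1
    apply Subtype.ext
    rw [Subalgebra.coe_mul, inclW_val, inclW_val]
    refine Prod.ext ?_ ?_
    · change (w : Y.E × Y'.E).1 * Y.incl z = _
      rw [Y.isExtension.mul_incl]; rfl
    · change (w : Y.E × Y'.E).2 * 0 = 0
      rw [mul_zero]

/-- the Baer difference as a `Λ`-extension. -/
noncomputable def baer : Ext Λ R L where
  E := ZC θ
  proj := projZ θ
  incl := inclZ θ
  isExtension := isExtension_Z θ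

/-- `(ι z, ι' z)` as an element of `W`. -/
def diagW : L →+ W Y Y' where
  toFun z := ⟨(Y.incl z, Y'.incl z), by
    rw [mem_W]; change Y.proj (Y.incl z) = Y'.proj (Y'.incl z); rw [proj_incl, proj_incl]⟩
  map_zero' := by apply Subtype.ext; simp
  map_add' z z' := by apply Subtype.ext; simp

lemma diagW_val (z : L) : ((diagW z : W Y Y') : Y.E × Y'.E) = (Y.incl z, Y'.incl z) := rfl

lemma mkZ_diagW (z : L) : mkZ θ (diagW z) = 0 := by
  rw [mkZ_eq_zero_iff, mem_diag]; exact ⟨z, rfl⟩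

section Section

variable (σ : R →ₐ[Λ] ZC θ) (hσ : ∀ r, projZ θ (σ r) = r)

lemma σ_algebraMap (c : k) : σ (algebraMap k R c) = mkZ θ (algebraMap k (W Y Y') c) := by
  rw [IsScalarTower.algebraMap_apply k Λ R, σ.commutes]
  have : algebraMap k Λ c = (Y.pullback Λ).proj (algebraMap k (Y.pullback Λ).E c) := by
    rw [AlgHom.commutes]
  rw [this, algebraMap_proj, AlgHom.commutes]

/-- the graph of the isomorphism. -/
def W₀ : Subalgebra k (W Y Y') where
  carrier := {w | ∃ r, σ r = mkZ θ w}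
  mul_mem' := by
    rintro a b ⟨r, hr⟩ ⟨r', hr'⟩
    exact ⟨r * r', by rw [map_mul, map_mul, hr, hr']⟩
  add_mem' := by
    rintro a b ⟨r, hr⟩ ⟨r', hr'⟩
    exact ⟨r + r', by rw [map_add, map_add, hr, hr']⟩
  algebraMap_mem' c := ⟨algebraMap k R c, σ_algebraMap θ σ c⟩

lemma mem_W₀ (w : W Y Y') : w ∈ W₀ θ σ ↔ ∃ r, σ r = mkZ θ w := Iff.rfl

/-- first projection. -/
def j₁ : W₀ θ σ →ₐ[k] Y.E := ((AlgHom.fst k Y.E Y'.E).comp (W Y Y').val).comp (W₀ θ σ).val

/-- second projection. -/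
def j₂ : W₀ θ σ →ₐ[k] Y'.E := ((AlgHom.snd k Y.E Y'.E).comp (W Y Y').val).comp (W₀ θ σ).val

lemma j₁_apply (w : W₀ θ σ) : j₁ θ σ w = ((w : W Y Y') : Y.E × Y'.E).1 := rfl
lemma j₂_apply (w : W₀ θ σ) : j₂ θ σ w = ((w : W Y Y') : Y.E × Y'.E).2 := rfl

include hσ in
lemma j₁_bijective : Function.Bijective (j₁ θ σ) := by
  constructor
  · rw [injective_iff_map_eq_zero]
    rintro ⟨w, r, hr⟩ hw
    rw [j₁_apply] at hw
    change ((w : W Y Y') : Y.E × Y'.E).1 = 0 at hw
    have h1 : r = 0 := by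
      have := hσ r
      rw [hr, projZ_mk, projW_apply, hw, map_zero] at this
      exact this.symm
    rw [h1, map_zero, eq_comm, mkZ_eq_zero_iff, mem_diag] at hr
    obtain ⟨z, hz⟩ := hr
    have h2 : Y.incl z = 0 := by rw [← hw, hz]
    have h3 : z = 0 := Y.isExtension.incl_injective (h2.trans (map_zero _).symm)
    apply Subtype.ext
    apply Subtype.ext
    change (w : Y.E × Y'.E) = 0
    rw [hz, h3, map_zero, map_zero]; rfl
  · intro e
    obtain ⟨w₁, hw₁⟩ := mkZ_surjective θ (σ (Y.proj e))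
    have h1 : Y.proj e = Y.proj (w₁ : Y.E × Y'.E).1 := by
      have := hσ (Y.proj e)
      rw [← hw₁, projZ_mk, projW_apply] at this
      exact this.symm
    have h2 : Y.proj (e - (w₁ : Y.E × Y'.E).1) = 0 := by rw [map_sub, h1, sub_self]
    obtain ⟨z, hz⟩ := (Y.isExtension.exact _).1 h2
    refine ⟨⟨w₁ + diagW z, ⟨Y.proj e, ?_⟩⟩, ?_⟩
    · rw [map_add, mkZ_diagW, add_zero, hw₁]
    · rw [j₁_apply]
      change ((w₁ + diagW z : W Y Y') : Y.E × Y'.E).1 = e
      rw [Subalgebra.coe_add, diagW_val]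
      change (w₁ : Y.E × Y'.E).1 + Y.incl z = e
      rw [hz]; ring

/-- the map `E → E'`. -/
noncomputable def fHom : Y.E →ₐ[k] Y'.E :=
  (j₂ θ σ).comp (AlgEquiv.ofBijective (j₁ θ σ) (j₁_bijective θ σ hσ)).symm.toAlgHom

lemma fHom_j₁ (w : W₀ θ σ) : fHom θ σ hσ (j₁ θ σ w) = j₂ θ σ w := by
  change j₂ θ σ ((AlgEquiv.ofBijective (j₁ θ σ) (j₁_bijective θ σ hσ)).symm (j₁ θ σ w)) = _
  congr 1
  rw [AlgEquiv.symm_apply_eq]; rfl

include hσ in
lemma exists_j₁ (e : Y.E) : ∃ w : W₀ θ σ, j₁ θ σ w = e := (j₁_bijective θ σ hσ).2 e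

/-- the equivalence produced by a section of the Baer difference. -/
noncomputable def equivOfSection : Y.Equiv Y' :=
  equivOfHom (fHom θ σ hσ)
    (fun e => by
      obtain ⟨w, rfl⟩ := exists_j₁ θ σ hσ e
      rw [fHom_j₁, j₁_apply, j₂_apply]
      exact ((mem_W Y Y' _).1 (w : W Y Y').2).symm)
    (fun z => by
      have hmem : diagW z ∈ W₀ θ σ := ⟨0, by rw [map_zero, mkZ_diagW]⟩
      have := fHom_j₁ θ σ hσ ⟨diagW z, hmem⟩
      rw [j₁_apply, j₂_apply] at this
      exact this)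

end Section

theorem nonempty_equiv_of_isTrivial (h : (baer θ).IsTrivial) : Nonempty (Y.Equiv Y') := by
  obtain ⟨σ, hσ⟩ := h
  exact ⟨equivOfSection θ σ hσ⟩

end Baer

end Groth.Agent.Lib.Helper1.ExalBaer
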