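import Groth.Prelude.Def_Exal2
import Mathlib.RingTheory.Finiteness.Ideal
import Mathlib.RingTheory.Filtration
import Mathlib.RingTheory.HopkinsLevitzki
import Mathlib.RingTheory.LocalRing.ResidueField.Basic

set_option autoImplicit false
universe u

namespace Groth.Agent.Lib.Helper1.ExalLocal

open IsLocalRing

variable {A : Type u} {R : Type u} [CommRing A] [CommRing R] [Algebra A R] [IsLocalRing R]
  (X : Exal.Ext A R (ResidueField R))

lemma proj_incl (z : ResidueField R) : X.proj (X.incl z) = 0 :=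
  (X.isExtension.exact _).2 ⟨z, rfl⟩

lemma incl_mul_incl (z z' : ResidueField R) : X.incl z * X.incl z' = 0 := by
  rw [X.isExtension.mul_incl, proj_incl, zero_smul, map_zero]

lemma isUnit_iff (e : X.E) : IsUnit e ↔ IsUnit (X.proj e) := by
  constructor
  · intro h; exact h.map X.proj
  · intro h
    obtain ⟨r', hr'⟩ := h.exists_right_inv
    obtain ⟨e', rfl⟩ := X.isExtension.proj_surjective r'
    have h0 : X.proj (e * e' - 1) = 0 := by rw [map_sub, map_mul, hr', map_one, sub_self]
    obtain ⟨z, hz⟩ := (X.isExtension.exact _).1 h0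
    have hn : X.incl z * X.incl z = 0 := incl_mul_incl X z z
    refine IsUnit.of_mul_eq_one (e' * (1 - X.incl z)) ?_
    have : e * e' = 1 + X.incl z := by rw [hz]; ring
    calc e * (e' * (1 - X.incl z)) = (e * e') * (1 - X.incl z) := by ring
      _ = (1 + X.incl z) * (1 - X.incl z) := by rw [this]
      _ = 1 - X.incl z * X.incl z := by ring
      _ = 1 := by rw [hn, sub_zero]

instance isLocalRing : IsLocalRing X.E := by
  haveI : Nontrivial X.E := by
    refine ⟨⟨0, 1, fun h => ?_⟩⟩
    have := congrArg X.proj h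
    rw [map_zero, map_one] at this
    exact zero_ne_one this
  refine IsLocalRing.of_nonunits_add (fun a b ha hb => ?_)
  rw [mem_nonunits_iff, isUnit_iff] at ha hb ⊢
  rw [map_add]
  exact (IsLocalRing.maximalIdeal R).add_mem ((mem_maximalIdeal _).2 ha) ((mem_maximalIdeal _).2 hb)

lemma mem_maximalIdeal_iff (e : X.E) : e ∈ maximalIdeal X.E ↔ X.proj e ∈ maximalIdeal R := by
  rw [mem_maximalIdeal, mem_maximalIdeal, mem_nonunits_iff, mem_nonunits_iff, isUnit_iff]

lemma maximal_mul_incl {e : X.E} (he : e ∈ maximalIdeal X.E) (z : ResidueField R) :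
    e * X.incl z = 0 := by
  rw [X.isExtension.mul_incl, Algebra.smul_def]
  have : algebraMap R (ResidueField R) (X.proj e) = 0 :=
    (residue_eq_zero_iff _).2 ((mem_maximalIdeal_iff X e).1 he)
  rw [this, zero_mul, map_zero]

lemma incl_mem_maximalIdeal (z : ResidueField R) : X.incl z ∈ maximalIdeal X.E := by
  rw [mem_maximalIdeal_iff, proj_incl]; exact zero_mem _

lemma exists_mul_eq_incl {z : ResidueField R} (hz : z ≠ 0) (z' : ResidueField R) :
    ∃ e : X.E, e * X.incl z = X.incl z' := by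
  obtain ⟨r, hr⟩ := residue_surjective (z' * z⁻¹)
  obtain ⟨e, rfl⟩ := X.isExtension.proj_surjective r
  refine ⟨e, ?_⟩
  rw [X.isExtension.mul_incl, Algebra.smul_def]
  change X.incl (residue R (X.proj e) * z) = _
  rw [hr, mul_assoc, inv_mul_cancel₀ hz, mul_one]

lemma incl_one_ne_zero : X.incl 1 ≠ 0 := by
  intro h
  have := X.isExtension.incl_injective (h.trans (map_zero X.incl).symm)
  exact one_ne_zero this

lemma ker_proj_eq_span : RingHom.ker (X.proj : X.E →+* R) = Ideal.span {X.incl 1} := by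
  ext e
  rw [RingHom.mem_ker, Ideal.mem_span_singleton']
  constructor
  · intro h
    obtain ⟨z, rfl⟩ := (X.isExtension.exact _).1 h
    exact exists_mul_eq_incl X one_ne_zero z
  · rintro ⟨a, rfl⟩
    change X.proj (a * X.incl 1) = 0
    rw [map_mul, proj_incl, mul_zero]

lemma inf_ker_fg (I : Ideal X.E) : (I ⊓ RingHom.ker (X.proj : X.E →+* R)).FG := by
  by_cases h : ∃ z : ResidueField R, z ≠ 0 ∧ X.incl z ∈ I
  · obtain ⟨z, hz, hzI⟩ := h
    have : I ⊓ RingHom.ker (X.proj : X.E →+* R) = Ideal.span {X.incl 1} := by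
      rw [ker_proj_eq_span]
      refine le_antisymm inf_le_right (le_inf ?_ le_rfl)
      rw [Ideal.span_le, Set.singleton_subset_iff]
      obtain ⟨e, he⟩ := exists_mul_eq_incl X hz 1
      rw [← he]
      exact I.mul_mem_left e hzI
    rw [this]
    exact ⟨{X.incl 1}, by simp⟩
  · have : I ⊓ RingHom.ker (X.proj : X.E →+* R) = ⊥ := by
      rw [eq_bot_iff]
      rintro e ⟨heI, hek⟩
      obtain ⟨z, rfl⟩ := (X.isExtension.exact _).1 hek
      by_cases hz : z = 0
      · rw [hz, map_zero]; exact Ideal.zero_mem _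
      · exact absurd ⟨z, hz, heI⟩ h
    rw [this]
    exact Submodule.fg_bot

instance isNoetherianRing [IsNoetherianRing R] : IsNoetherianRing X.E := by
  rw [isNoetherianRing_iff_ideal_fg]
  intro I
  exact Ideal.fg_of_fg_map_of_fg_inf_ker_of_surjective (f := (X.proj : X.E →+* R))
    (IsNoetherian.noetherian _) (inf_ker_fg X I) X.isExtension.proj_surjective

lemma exists_incl_one_notMem_pow [IsNoetherianRing R] :
    ∃ n : ℕ, X.incl 1 ∉ maximalIdeal X.E ^ n := by
  by_contra h
  push Not at h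
  have h1 : X.incl 1 ∈ ⨅ i, maximalIdeal X.E ^ i := by
    rw [Ideal.mem_iInf]; exact h
  rw [Ideal.iInf_pow_eq_bot_of_isLocalRing _ (IsLocalRing.maximalIdeal.isMaximal _).ne_top] at h1
  exact incl_one_ne_zero X h1

lemma eq_zero_of_proj_eq_zero_of_mem {J : Ideal X.E} (hJ : X.incl 1 ∉ J) {e : X.E}
    (h0 : X.proj e = 0) (he : e ∈ J) : e = 0 := by
  obtain ⟨z, rfl⟩ := (X.isExtension.exact _).1 h0
  by_cases hz : z = 0
  · rw [hz, map_zero]
  · exfalso
    obtain ⟨e', he'⟩ := exists_mul_eq_incl X hz 1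
    exact hJ (he' ▸ J.mul_mem_left e' he)

end Groth.Agent.Lib.Helper1.ExalLocal
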