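import Groth.Prelude.Def_Exal
import Groth.Agent.Lib.Helper1.ExalBaer
import Mathlib.RingTheory.Ideal.Quotient.Operations
import Mathlib.RingTheory.Derivation.Basic
import Mathlib.Tactic.LinearCombination

set_option autoImplicit false
universe u v

namespace Groth.Agent.Lib.Helper1.ExalPres

open Exal Exal.Ext

attribute [local instance] Exal.opModule Exal.isCentralScalar_opModule

variable {A : Type u} {R B M : Type v} [CommRing A] [CommRing R] [CommRing B] [Algebra A R]
  [Algebra R B] [Algebra A B] [IsScalarTower A R B] [AddCommGroup M] [Module B M] [Module R M]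
  [IsScalarTower R B M]

section Construct

lemma smul_eq_zero_of_mem (r : R) (hr : r ∈ RingHom.ker (algebraMap R B)) (m : M) : r • m = 0 := by
  rw [← IsScalarTower.algebraMap_smul B r m, (RingHom.mem_ker).1 hr, zero_smul]

/-- The ideal of relations. -/
def relIdeal (φ : RingHom.ker (algebraMap R B) →ₗ[R] M) : Ideal (TrivSqZeroExt R M) where
  carrier := {t | ∃ hb : t.fst ∈ RingHom.ker (algebraMap R B), φ ⟨t.fst, hb⟩ = - t.snd}
  add_mem' := by
    rintro a b ⟨ha, ha'⟩ ⟨hb, hb'⟩
    have hab : (a + b).fst ∈ RingHom.ker (algebraMap R B) := by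
      rw [TrivSqZeroExt.fst_add]; exact Ideal.add_mem _ ha hb
    refine ⟨hab, ?_⟩
    have : (⟨(a + b).fst, hab⟩ : RingHom.ker (algebraMap R B)) = ⟨a.fst, ha⟩ + ⟨b.fst, hb⟩ := rfl
    rw [this, map_add, ha', hb', TrivSqZeroExt.snd_add, neg_add]
  zero_mem' := by
    have h0 : (0 : TrivSqZeroExt R M).fst ∈ RingHom.ker (algebraMap R B) := by
      rw [TrivSqZeroExt.fst_zero]; exact Ideal.zero_mem _
    refine ⟨h0, ?_⟩
    have : (⟨(0 : TrivSqZeroExt R M).fst, h0⟩ : RingHom.ker (algebraMap R B)) = 0 := rfl
    rw [this, map_zero, TrivSqZeroExt.snd_zero, neg_zero]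
  smul_mem' := by
    rintro c t ⟨ht, ht'⟩
    have hmem : (c • t).fst ∈ RingHom.ker (algebraMap R B) := by
      rw [smul_eq_mul, TrivSqZeroExt.fst_mul]
      exact Ideal.mul_mem_left _ _ ht
    refine ⟨hmem, ?_⟩
    have : (⟨(c • t).fst, hmem⟩ : RingHom.ker (algebraMap R B)) = c.fst • ⟨t.fst, ht⟩ := by
      apply Subtype.ext
      simp [TrivSqZeroExt.fst_mul]
    rw [this, map_smul, ht', smul_eq_mul, TrivSqZeroExt.snd_mul]
    have h0 : MulOpposite.op t.fst • c.snd = 0 := smul_eq_zero_of_mem t.fst ht c.snd
    rw [h0, add_zero, smul_neg]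

lemma mem_relIdeal (φ : RingHom.ker (algebraMap R B) →ₗ[R] M) (t : TrivSqZeroExt R M) :
    t ∈ relIdeal φ ↔ ∃ hb : t.fst ∈ RingHom.ker (algebraMap R B), φ ⟨t.fst, hb⟩ = - t.snd :=
  Iff.rfl

end Construct


section Carrier

/-- carrier of the extension attached to `φ : I → M`. -/
@[nolint unusedArguments]
def Carrier (_ : Type u) (φ : RingHom.ker (algebraMap R B) →ₗ[R] M) : Type v :=
  TrivSqZeroExt R M ⧸ relIdeal φ

variable (φ : RingHom.ker (algebraMap R B) →ₗ[R] M)

instance : CommRing (Carrier A φ) :=
  inferInstanceAs (CommRing (TrivSqZeroExt R M ⧸ relIdeal φ))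

variable (A) in
/-- quotient map -/
def qmk : TrivSqZeroExt R M →+* Carrier A φ := Ideal.Quotient.mk (relIdeal φ)

lemma qmk_surjective : Function.Surjective (qmk A φ) := Ideal.Quotient.mk_surjective

lemma qmk_eq_zero_iff (t : TrivSqZeroExt R M) : qmk A φ t = 0 ↔ t ∈ relIdeal φ :=
  Ideal.Quotient.eq_zero_iff_mem

noncomputable instance : Algebra A (Carrier A φ) :=
  (((qmk A φ).comp (TrivSqZeroExt.inlHom R M)).comp (algebraMap A R)).toAlgebra

lemma algebraMap_eq (a : A) :
    algebraMap A (Carrier A φ) a = qmk A φ (TrivSqZeroExt.inl (algebraMap A R a)) := rfl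

variable (A) in
/-- the canonical lift `R → E_φ`. -/
noncomputable def lift₀ : R →ₐ[A] Carrier A φ :=
  { (qmk A φ).comp (TrivSqZeroExt.inlHom R M) with
    commutes' := fun _ => rfl }

lemma lift₀_apply (r : R) : lift₀ A φ r = qmk A φ (TrivSqZeroExt.inl r) := rfl

variable (A) in
/-- projection ring hom -/
def projRingHom : Carrier A φ →+* B :=
  Ideal.Quotient.lift (relIdeal φ)
    ((algebraMap R B).comp (TrivSqZeroExt.fstHom R R M).toRingHom) (by
      rintro t ⟨ht, -⟩
      exact ht)

lemma projRingHom_qmk (t : TrivSqZeroExt R M) :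
    projRingHom A φ (qmk A φ t) = algebraMap R B t.fst := rfl

lemma qmk_inl_of_mem (r : R) (hr : r ∈ RingHom.ker (algebraMap R B)) :
    qmk A φ (TrivSqZeroExt.inl r) = qmk A φ (TrivSqZeroExt.inr (φ ⟨r, hr⟩)) := by
  rw [← sub_eq_zero, ← map_sub, qmk_eq_zero_iff, mem_relIdeal]
  have h1 : (TrivSqZeroExt.inl r - TrivSqZeroExt.inr (φ ⟨r, hr⟩) : TrivSqZeroExt R M).fst = r := by
    simp
  refine ⟨by rw [h1]; exact hr, ?_⟩
  have : (⟨(TrivSqZeroExt.inl r - TrivSqZeroExt.inr (φ ⟨r, hr⟩) : TrivSqZeroExt R M).fst,
      by rw [h1]; exact hr⟩ : RingHom.ker (algebraMap R B)) = ⟨r, hr⟩ := Subtype.ext h1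
  rw [this]
  simp

variable (A) in
/-- the extension with prescribed conormal map -/
noncomputable def ext (hsurj : Function.Surjective (algebraMap R B)) : Ext A B M where
  E := Carrier A φ
  proj :=
    { projRingHom A φ with
      commutes' := fun a => by
        show projRingHom A φ (qmk A φ (TrivSqZeroExt.inl (algebraMap A R a))) = _
        rw [projRingHom_qmk, TrivSqZeroExt.fst_inl, ← IsScalarTower.algebraMap_apply] }
  incl := (qmk A φ : TrivSqZeroExt R M →+ Carrier A φ).comp
    (TrivSqZeroExt.inrHom R M).toAddMonoidHom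
  isExtension :=
    { proj_surjective := by
        intro c
        obtain ⟨b, rfl⟩ := hsurj c
        exact ⟨qmk A φ (TrivSqZeroExt.inl b), rfl⟩
      incl_injective := by
        rw [injective_iff_map_eq_zero]
        intro m hm
        have hm' : qmk A φ (TrivSqZeroExt.inr m) = 0 := hm
        rw [qmk_eq_zero_iff, mem_relIdeal] at hm'
        obtain ⟨h0, h1⟩ := hm'
        have h2 : (⟨(TrivSqZeroExt.inr m : TrivSqZeroExt R M).fst, h0⟩ :
            RingHom.ker (algebraMap R B)) = 0 := by
          apply Subtype.ext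
          simp
        rw [h2, map_zero, TrivSqZeroExt.snd_inr] at h1
        exact neg_eq_zero.1 h1.symm
      exact := by
        intro x
        obtain ⟨t, rfl⟩ := qmk_surjective φ x
        constructor
        · intro hx
          have hx' : t.fst ∈ RingHom.ker (algebraMap R B) := hx
          refine ⟨t.snd + φ ⟨t.fst, hx'⟩, ?_⟩
          show qmk A φ (TrivSqZeroExt.inr (t.snd + φ ⟨t.fst, hx'⟩)) = qmk A φ t
          rw [TrivSqZeroExt.inr_add, map_add, ← qmk_inl_of_mem φ t.fst hx', ← map_add,
            add_comm, TrivSqZeroExt.inl_fst_add_inr_snd_eq]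
        · rintro ⟨m, hm⟩
          rw [← hm]
          show algebraMap R B (TrivSqZeroExt.inr m : TrivSqZeroExt R M).fst = 0
          simp
      mul_incl := by
        intro x z
        obtain ⟨t, rfl⟩ := qmk_surjective φ x
        show qmk A φ t * qmk A φ (TrivSqZeroExt.inr z) =
          qmk A φ (TrivSqZeroExt.inr (algebraMap R B t.fst • z))
        rw [← map_mul]
        congr 1
        refine TrivSqZeroExt.ext ?_ ?_
        · simp
        · rw [TrivSqZeroExt.snd_mul]
          simp only [TrivSqZeroExt.snd_inr, TrivSqZeroExt.fst_inr, MulOpposite.op_zero, zero_smul,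
            add_zero]
          rw [IsScalarTower.algebraMap_smul] }

end Carrier


section Lift

open Groth.Agent.Lib.Helper1.ExalBaer

variable {X : Ext A B M} (g : R →ₐ[A] X.E) (hg : ∀ r, X.proj (g r) = algebraMap R B r)

include hg in
lemma incl_smul (r : R) (m : M) : X.incl (r • m) = g r * X.incl m := by
  rw [X.isExtension.mul_incl, hg, IsScalarTower.algebraMap_smul]

omit [Module R M] [IsScalarTower R B M] in
lemma incl_mul_incl (X : Ext A B M) (m m' : M) : X.incl m * X.incl m' = 0 := by
  rw [X.isExtension.mul_incl, proj_incl, zero_smul, map_zero]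

/-- conormal map attached to a lift -/
noncomputable def conormal : RingHom.ker (algebraMap R B) →ₗ[R] M where
  toFun x := X.kerLift (g x) (by rw [hg]; exact x.2)
  map_add' x y := by
    apply X.isExtension.incl_injective
    rw [map_add, incl_kerLift, incl_kerLift, incl_kerLift]
    exact map_add g _ _
  map_smul' r x := by
    apply X.isExtension.incl_injective
    rw [incl_kerLift, RingHom.id_apply, incl_smul g hg, incl_kerLift]
    exact map_mul g _ _

lemma incl_conormal (x : RingHom.ker (algebraMap R B)) : X.incl (conormal g hg x) = g x :=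
  X.incl_kerLift (g x) (by rw [hg]; exact x.2)

/-- the ring map `R ⊕ M → E`. -/
noncomputable def theta : TrivSqZeroExt R M →+* X.E where
  toFun t := g t.fst + X.incl t.snd
  map_one' := by simp
  map_mul' s t := by
    rw [TrivSqZeroExt.fst_mul, TrivSqZeroExt.snd_mul, map_mul, map_add]
    have h1 : X.incl (s.fst • t.snd) = g s.fst * X.incl t.snd := incl_smul g hg _ _
    have h2 : X.incl (MulOpposite.op t.fst • s.snd) = g t.fst * X.incl s.snd := incl_smul g hg _ _
    rw [h1, h2]
    have h3 := incl_mul_incl X s.snd t.snd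
    linear_combination -h3
  map_zero' := by simp
  map_add' s t := by
    rw [TrivSqZeroExt.fst_add, TrivSqZeroExt.snd_add, map_add, map_add]; abel

lemma theta_apply (t : TrivSqZeroExt R M) : theta g hg t = g t.fst + X.incl t.snd := rfl

/-- the algebra map `E_φ → E`. -/
noncomputable def thetaBar : Carrier A (conormal g hg) →ₐ[A] X.E :=
  { Ideal.Quotient.lift (relIdeal (conormal g hg)) (theta g hg) (by
      rintro t ⟨ht, ht'⟩
      rw [theta_apply]
      have := incl_conormal g hg ⟨t.fst, ht⟩
      rw [ht', map_neg] at this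
      rw [← this]; simp) with
    commutes' := fun a => by
      show theta g hg (TrivSqZeroExt.inl (algebraMap A R a)) = _
      rw [theta_apply]
      simp }

lemma thetaBar_qmk (t : TrivSqZeroExt R M) :
    thetaBar g hg (qmk A (conormal g hg) t) = g t.fst + X.incl t.snd := rfl

/-- an extension with a lift is equivalent to the standard one on its conormal map. -/
noncomputable def equivOfLift (hsurj : Function.Surjective (algebraMap R B)) :
    (ext A (conormal g hg) hsurj).Equiv X :=
  equivOfHom (thetaBar g hg)
    (fun e => by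
      obtain ⟨t, rfl⟩ := qmk_surjective (A := A) (conormal g hg) e
      change X.proj (g t.fst + X.incl t.snd) = algebraMap R B t.fst
      rw [map_add, proj_incl, add_zero, hg])
    (fun z => by
      change g (TrivSqZeroExt.inr z : TrivSqZeroExt R M).fst +
        X.incl (TrivSqZeroExt.inr z : TrivSqZeroExt R M).snd = _
      simp)

end Lift


section Der

open Groth.Agent.Lib.Helper1.ExalBaer

variable [Module A M] [IsScalarTower A R M]

variable {X : Ext A B M} (g : R →ₐ[A] X.E) (hg : ∀ r, X.proj (g r) = algebraMap R B r)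
  (g' : R →ₐ[A] X.E) (hg' : ∀ r, X.proj (g' r) = algebraMap R B r)

include hg in
lemma incl_smul_base (a : A) (m : M) : X.incl (a • m) = a • X.incl m := by
  rw [← IsScalarTower.algebraMap_smul R a m, incl_smul g hg, AlgHom.commutes, Algebra.smul_def]

/-- the function `g - g'` with values in `M`. -/
noncomputable def dfun (r : R) : M := X.kerLift (g r - g' r) (by rw [map_sub, hg, hg', sub_self])

lemma incl_dfun (r : R) : X.incl (dfun g hg g' hg' r) = g r - g' r :=
  X.incl_kerLift _ (by rw [map_sub, hg, hg', sub_self])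

/-- the derivation `g - g'`. -/
noncomputable def diffDer : Derivation A R M :=
  Derivation.mk'
    { toFun := dfun g hg g' hg'
      map_add' := fun r s => by
        apply X.isExtension.incl_injective
        rw [map_add, incl_dfun, incl_dfun, incl_dfun, map_add, map_add]; abel
      map_smul' := fun a r => by
        apply X.isExtension.incl_injective
        rw [RingHom.id_apply, incl_smul_base g hg, incl_dfun, incl_dfun, map_smul, map_smul,
          smul_sub] }
    (fun r s => by
      apply X.isExtension.incl_injective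
      change X.incl (dfun g hg g' hg' (r * s)) =
        X.incl (r • dfun g hg g' hg' s + s • dfun g hg g' hg' r)
      rw [map_add, incl_smul g hg, incl_smul g' hg', incl_dfun, incl_dfun, incl_dfun,
        map_mul, map_mul]
      ring)

lemma incl_diffDer (r : R) : X.incl (diffDer g hg g' hg' r) = g r - g' r :=
  incl_dfun g hg g' hg' r

lemma diffDer_apply (x : RingHom.ker (algebraMap R B)) :
    diffDer g hg g' hg' x = conormal g hg x - conormal g' hg' x := by
  apply X.isExtension.incl_injective
  rw [incl_diffDer, map_sub, incl_conormal, incl_conormal]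

/-- the lift `g + incl ∘ D`. -/
noncomputable def addDer (D : Derivation A R M) : R →ₐ[A] X.E where
  toFun r := g r + X.incl (D r)
  map_one' := by rw [map_one, Derivation.map_one_eq_zero, map_zero, add_zero]
  map_mul' r s := by
    rw [map_mul, Derivation.leibniz, map_add, incl_smul g hg, incl_smul g hg]
    have := incl_mul_incl X (D r) (D s)
    linear_combination -this
  map_zero' := by rw [map_zero, map_zero, map_zero, add_zero]
  map_add' r s := by rw [map_add, map_add, map_add]; abel
  commutes' a := by rw [AlgHom.commutes, Derivation.map_algebraMap, map_zero, add_zero]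

lemma addDer_apply (D : Derivation A R M) (r : R) : addDer g hg D r = g r + X.incl (D r) := rfl

include hg in
lemma proj_addDer (D : Derivation A R M) (r : R) : X.proj (addDer g hg D r) = algebraMap R B r := by
  rw [addDer_apply, map_add, proj_incl, add_zero, hg]

lemma conormal_addDer (D : Derivation A R M) (x : RingHom.ker (algebraMap R B)) :
    conormal (addDer g hg D) (proj_addDer g hg D) x = conormal g hg x + D x := by
  apply X.isExtension.incl_injective
  rw [incl_conormal, map_add, incl_conormal, addDer_apply]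

end Der


section Classify

open Groth.Agent.Lib.Helper1.ExalBaer

variable (hsurj : Function.Surjective (algebraMap R B))

lemma proj_lift₀ (φ : RingHom.ker (algebraMap R B) →ₗ[R] M) (r : R) :
    (ext A φ hsurj).proj (lift₀ A φ r) = algebraMap R B r := rfl

lemma conormal_lift₀ (φ : RingHom.ker (algebraMap R B) →ₗ[R] M) :
    conormal (X := ext A φ hsurj) (lift₀ A φ) (proj_lift₀ hsurj φ) = φ := by
  ext x
  apply (ext A φ hsurj).isExtension.incl_injective
  rw [incl_conormal (X := ext A φ hsurj) (lift₀ A φ) (proj_lift₀ hsurj φ)]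
  exact qmk_inl_of_mem (A := A) φ x.1 x.2

/-- every extension with a lift is in the image. -/
lemma cl_ext_conormal {X : Ext A B M} (g : R →ₐ[A] X.E)
    (hg : ∀ r, X.proj (g r) = algebraMap R B r) :
    (ext A (conormal g hg) hsurj).cl = X.cl :=
  Quotient.sound ⟨equivOfLift g hg hsurj⟩

/-- the trivial extension corresponds to `0`. -/
lemma cl_ext_zero :
    (ext A (0 : RingHom.ker (algebraMap R B) →ₗ[R] M) hsurj).cl = (0 : Exalcom A B M) := by
  let g : R →ₐ[A] (Ext.trivial A B M).E :=
    { (TrivSqZeroExt.inlHom B M).comp (algebraMap R B) with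
      commutes' := fun a => by
        change TrivSqZeroExt.inl (algebraMap R B (algebraMap A R a)) = _
        rw [← IsScalarTower.algebraMap_apply]
        rfl }
  have hg : ∀ r, (Ext.trivial A B M).proj (g r) = algebraMap R B r := fun r => rfl
  have h0 : conormal g hg = 0 := by
    ext x
    apply (Ext.trivial A B M).isExtension.incl_injective
    rw [incl_conormal, LinearMap.zero_apply, map_zero]
    change TrivSqZeroExt.inl (algebraMap R B x.1) = _
    rw [(RingHom.mem_ker).1 x.2, TrivSqZeroExt.inl_zero]
    rfl
  rw [← h0]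
  exact cl_ext_conormal hsurj g hg

variable [Module A M] [IsScalarTower A R M]

theorem cl_eq_iff (φ φ' : RingHom.ker (algebraMap R B) →ₗ[R] M) :
    (ext A φ hsurj).cl = (ext A φ' hsurj).cl ↔
      ∃ D : Derivation A R M, ∀ x : RingHom.ker (algebraMap R B), φ x = φ' x + D x := by
  constructor
  · intro h
    obtain ⟨e⟩ := Quotient.exact h
    let l₀ : R →ₐ[A] (ext A φ hsurj).E := lift₀ A φ
    let g₁ : R →ₐ[A] (ext A φ' hsurj).E := e.toAlgEquiv.toAlgHom.comp l₀
    have hg₁ : ∀ r, (ext A φ' hsurj).proj (g₁ r) = algebraMap R B r := fun r => by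
      change (ext A φ' hsurj).proj (e.toAlgEquiv (lift₀ A φ r)) = _
      rw [e.proj_apply]
      rfl
    have hc₁ : conormal g₁ hg₁ = φ := by
      ext x
      apply (ext A φ' hsurj).isExtension.incl_injective
      rw [incl_conormal, ← e.apply_incl]
      change e.toAlgEquiv (lift₀ A φ x) = _
      congr 1
      exact qmk_inl_of_mem (A := A) φ x.1 x.2
    refine ⟨diffDer g₁ hg₁ (lift₀ A φ') (proj_lift₀ hsurj φ'), fun x => ?_⟩
    rw [diffDer_apply, hc₁, conormal_lift₀]
    abel
  · rintro ⟨D, hD⟩
    have hc : conormal (X := ext A φ' hsurj) (addDer (X := ext A φ' hsurj) (lift₀ A φ')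
        (proj_lift₀ hsurj φ') D)
        (proj_addDer (X := ext A φ' hsurj) (lift₀ A φ') (proj_lift₀ hsurj φ') D) = φ := by
      ext x
      rw [conormal_addDer, conormal_lift₀, hD]
    rw [← hc]
    exact cl_ext_conormal hsurj _ _

end Classify

end Groth.Agent.Lib.Helper1.ExalPres
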