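import Groth.Agent.Lib.Helper1.ExalPres
import Groth.Prelude.Def_CotT
import Mathlib.RingTheory.Extension.Cotangent.Basic

set_option autoImplicit false
universe u v

namespace Groth.Agent.Lib.Helper1.ExalPresT1

open Exal Exal.Ext Groth.Agent.Lib.Helper1.ExalPres
open scoped TensorProduct

variable {A : Type u} {B M : Type v} [CommRing A] [CommRing B] [Algebra A B] [AddCommGroup M]
  [Module B M] (Q : Algebra.Extension.{v} A B)
  [Module Q.Ring M] [IsScalarTower Q.Ring B M]

/-- restriction of a `B`-linear map on the cotangent module to the ideal. -/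
noncomputable def toI (φ' : Q.Cotangent →ₗ[B] M) : Q.ker →ₗ[Q.Ring] M :=
  (φ'.restrictScalars Q.Ring) ∘ₗ Algebra.Extension.Cotangent.mk

lemma toI_apply (φ' : Q.Cotangent →ₗ[B] M) (x : Q.ker) :
    toI Q φ' x = φ' (Algebra.Extension.Cotangent.mk x) := rfl

lemma exists_cot (halg : Function.Surjective (algebraMap Q.Ring B)) (φ : Q.ker →ₗ[Q.Ring] M) :
    ∃ φ' : Q.Cotangent →ₗ[B] M, toI Q φ' = φ := by
  have hsurj : Function.Surjective (Algebra.Extension.Cotangent.mk (P := Q)) :=
    Algebra.Extension.Cotangent.mk_surjective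
  have hle : LinearMap.ker (Algebra.Extension.Cotangent.mk (P := Q)) ≤ LinearMap.ker φ := by
    rw [Algebra.Extension.Cotangent.ker_mk]
    intro x hx
    refine Submodule.smul_induction_on hx (fun a ha y _ => ?_) (fun x y hx hy => ?_)
    · rw [LinearMap.mem_ker, map_smul]
      exact smul_eq_zero_of_mem (B := B) a ha _
    · exact Submodule.add_mem _ hx hy
  let e := (Algebra.Extension.Cotangent.mk (P := Q)).quotKerEquivOfSurjective hsurj
  let ψ : Q.Cotangent →ₗ[Q.Ring] M :=
    ((LinearMap.ker (Algebra.Extension.Cotangent.mk (P := Q))).liftQ φ hle) ∘ₗ e.symm.toLinearMap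
  have hψ : ∀ x, ψ (Algebra.Extension.Cotangent.mk x) = φ x := by
    intro x
    change ((LinearMap.ker (Algebra.Extension.Cotangent.mk (P := Q))).liftQ φ hle)
      (e.symm (Algebra.Extension.Cotangent.mk x)) = φ x
    rw [LinearMap.quotKerEquivOfSurjective_symm_apply, Submodule.liftQ_apply]
  refine ⟨{ toFun := ψ, map_add' := ψ.map_add, map_smul' := fun b c => ?_ }, ?_⟩
  · obtain ⟨r, rfl⟩ := halg b
    rw [RingHom.id_apply, IsScalarTower.algebraMap_smul, IsScalarTower.algebraMap_smul, map_smul]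
  · ext x
    exact hψ x


section Der

variable [Module A M] [IsScalarTower A Q.Ring M]

/-- derivation to a map on the cotangent space -/
noncomputable def psiOfDer (D : Derivation A Q.Ring M) : Q.CotangentSpace →ₗ[B] M :=
  LinearMap.liftBaseChange B D.liftKaehlerDifferential

lemma psiOfDer_cc (D : Derivation A Q.Ring M) (x : Q.ker) :
    psiOfDer Q D (Q.cotangentComplex (Algebra.Extension.Cotangent.mk x)) = D x := by
  rw [Algebra.Extension.cotangentComplex_mk, psiOfDer, LinearMap.liftBaseChange_tmul, one_smul,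
    Derivation.liftKaehlerDifferential_comp_D]

/-- map on the cotangent space to a derivation -/
noncomputable def derOfPsi (ψ : Q.CotangentSpace →ₗ[B] M) : Derivation A Q.Ring M :=
  ((ψ.restrictScalars Q.Ring) ∘ₗ (TensorProduct.mk Q.Ring B Ω[Q.Ring⁄A] 1)).compDer
    (KaehlerDifferential.D A Q.Ring)

lemma derOfPsi_apply (ψ : Q.CotangentSpace →ₗ[B] M) (x : Q.ker) :
    derOfPsi Q ψ x = ψ (Q.cotangentComplex (Algebra.Extension.Cotangent.mk x)) := by
  rw [Algebra.Extension.cotangentComplex_mk]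
  rfl

lemma exists_der_iff (φ₁ φ₂ : Q.Cotangent →ₗ[B] M) :
    (∃ D : Derivation A Q.Ring M, ∀ x : Q.ker, toI Q φ₁ x = toI Q φ₂ x + D x) ↔
      φ₁ - φ₂ ∈ LinearMap.range (LinearMap.lcomp B M Q.cotangentComplex) := by
  constructor
  · rintro ⟨D, hD⟩
    refine ⟨psiOfDer Q D, ?_⟩
    ext c
    obtain ⟨x, rfl⟩ := Algebra.Extension.Cotangent.mk_surjective c
    rw [LinearMap.lcomp_apply, psiOfDer_cc, LinearMap.sub_apply]
    have := hD x
    rw [toI_apply, toI_apply] at this
    rw [this]; abel
  · rintro ⟨ψ, hψ⟩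
    refine ⟨derOfPsi Q ψ, fun x => ?_⟩
    rw [derOfPsi_apply, toI_apply, toI_apply]
    have := LinearMap.congr_fun hψ (Algebra.Extension.Cotangent.mk x)
    rw [LinearMap.lcomp_apply, LinearMap.sub_apply] at this
    rw [this]; abel

end Der


section Main

variable [Module A M] [IsScalarTower A Q.Ring M]

theorem classify (halg : Function.Surjective (algebraMap Q.Ring B))
    (hlift : ∀ X : Ext A B M, ∃ g : Q.Ring →ₐ[A] X.E, ∀ r, X.proj (g r) = algebraMap Q.Ring B r)
    {T : Type*} [AddCommGroup T] [Module B T] (h : (Q.Cotangent →ₗ[B] M) →ₗ[B] T)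
    (hsurj : Function.Surjective h)
    (hker : LinearMap.ker h = LinearMap.range (LinearMap.lcomp B M Q.cotangentComplex)) :
    ∃ e : Exalcom A B M ≃ T, e 0 = 0 := by
  let F : (Q.Cotangent →ₗ[B] M) → Exalcom A B M := fun φ' => (ext A (toI Q φ') halg).cl
  have hF : ∀ φ₁ φ₂, F φ₁ = F φ₂ ↔ h φ₁ = h φ₂ := by
    intro φ₁ φ₂
    change (ext A (toI Q φ₁) halg).cl = (ext A (toI Q φ₂) halg).cl ↔ _
    rw [cl_eq_iff, exists_der_iff, ← hker, LinearMap.mem_ker, map_sub, sub_eq_zero]
  have hFsurj : Function.Surjective F := by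
    intro c
    obtain ⟨X, rfl⟩ := Quotient.exists_rep c
    obtain ⟨g, hg⟩ := hlift X
    obtain ⟨φ', hφ'⟩ := exists_cot Q halg (conormal g hg)
    refine ⟨φ', ?_⟩
    change (ext A (toI Q φ') halg).cl = _
    rw [hφ']
    exact cl_ext_conormal halg g hg
  let G : T → Exalcom A B M := fun t => F (Function.surjInv hsurj t)
  have hG : Function.Bijective G := by
    constructor
    · intro t t' htt
      have := (hF _ _).1 htt
      rwa [Function.surjInv_eq hsurj, Function.surjInv_eq hsurj] at this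
    · intro c
      obtain ⟨φ', rfl⟩ := hFsurj c
      refine ⟨h φ', ?_⟩
      change F (Function.surjInv hsurj (h φ')) = F φ'
      rw [hF, Function.surjInv_eq hsurj]
  refine ⟨(Equiv.ofBijective G hG).symm, ?_⟩
  rw [Equiv.symm_apply_eq]
  change (0 : Exalcom A B M) = F (Function.surjInv hsurj 0)
  have h0 : F (Function.surjInv hsurj 0) = F 0 := by
    rw [hF, Function.surjInv_eq hsurj, map_zero]
  rw [h0]
  change _ = (ext A (toI Q 0) halg).cl
  have : toI Q (0 : Q.Cotangent →ₗ[B] M) = 0 := by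
    ext x
    rfl
  rw [this]
  exact (cl_ext_zero halg).symm

end Main

end Groth.Agent.Lib.Helper1.ExalPresT1
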