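import Groth.Prelude.Def_Exal2
import Mathlib.RingTheory.Finiteness.Ideal
import Mathlib.RingTheory.Filtration
import Mathlib.RingTheory.HopkinsLevitzki
import Mathlib.RingTheory.LocalRing.ResidueField.Basic
import Mathlib.RingTheory.SimpleModule.Basic

set_option autoImplicit false
universe u

namespace Groth.Agent.Lib.Helper1.ExalSimple

open IsLocalRing

variable {A : Type u} {R L : Type u} [CommRing A] [CommRing R] [Algebra A R] [IsLocalRing R]
  [AddCommGroup L] [Module R L] [IsSimpleModule R L]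
  (X : Exal.Ext A R L)

omit [Algebra A R] in
lemma smul_eq_zero_of_mem_maximalIdeal {a : R} (ha : a ∈ maximalIdeal R) (l : L) : a • l = 0 := by
  have h1 : (Module.annihilator R L).IsMaximal := IsSimpleModule.annihilator_isMaximal
  have h2 : Module.annihilator R L = maximalIdeal R := IsLocalRing.eq_maximalIdeal h1
  rw [← h2] at ha
  exact Module.mem_annihilator.1 ha l

lemma proj_incl (z : L) : X.proj (X.incl z) = 0 :=
  (X.isExtension.exact _).2 ⟨z, rfl⟩

lemma incl_mul_incl (z z' : L) : X.incl z * X.incl z' = 0 := by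
  rw [X.isExtension.mul_incl, proj_incl, zero_smul, map_zero]

lemma isUnit_iff (e : X.E) : IsUnit e ↔ IsUnit (X.proj e) := by
  constructor
  · intro h; exact h.map X.proj
  · intro h
    obtain ⟨r', hr'⟩ := h.exists_right_inv
    obtain ⟨e', rfl⟩ := X.isExtension.proj_surjective r'
    have h0 : X.proj (e * e' - 1) = 0 := by rw [map_sub, map_mul, hr', map_one, sub_self]
    obtain ⟨z, hz⟩ := (X.isExtension.exact _).1 h0
    have hn : X.incl z * X.incl z = 0 := incl_mul_incl X z z
    refine IsUnit.of_mul_eq_one (e' * (1 - X.incl z)) ?_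
    have : e * e' = 1 + X.incl z := by rw [hz]; ring
    calc e * (e' * (1 - X.incl z)) = (e * e') * (1 - X.incl z) := by ring
      _ = (1 + X.incl z) * (1 - X.incl z) := by rw [this]
      _ = 1 - X.incl z * X.incl z := by ring
      _ = 1 := by rw [hn, sub_zero]

instance isLocalRing : IsLocalRing X.E := by
  haveI : Nontrivial X.E := by
    refine ⟨⟨0, 1, fun h => ?_⟩⟩
    have := congrArg X.proj h
    rw [map_zero, map_one] at this
    exact zero_ne_one this
  refine IsLocalRing.of_nonunits_add (fun a b ha hb => ?_)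
  rw [mem_nonunits_iff, isUnit_iff] at ha hb ⊢
  rw [map_add]
  exact (IsLocalRing.maximalIdeal R).add_mem ((mem_maximalIdeal _).2 ha) ((mem_maximalIdeal _).2 hb)

lemma mem_maximalIdeal_iff (e : X.E) : e ∈ maximalIdeal X.E ↔ X.proj e ∈ maximalIdeal R := by
  rw [mem_maximalIdeal, mem_maximalIdeal, mem_nonunits_iff, mem_nonunits_iff, isUnit_iff]

lemma maximal_mul_incl {e : X.E} (he : e ∈ maximalIdeal X.E) (z : L) :
    e * X.incl z = 0 := by
  rw [X.isExtension.mul_incl,
    smul_eq_zero_of_mem_maximalIdeal ((mem_maximalIdeal_iff X e).1 he), map_zero]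

lemma incl_mem_maximalIdeal (z : L) : X.incl z ∈ maximalIdeal X.E := by
  rw [mem_maximalIdeal_iff, proj_incl]; exact zero_mem _

lemma exists_mul_eq_incl {z : L} (hz : z ≠ 0) (z' : L) :
    ∃ e : X.E, e * X.incl z = X.incl z' := by
  obtain ⟨r, hr⟩ := IsSimpleModule.toSpanSingleton_surjective R hz z'
  obtain ⟨e, rfl⟩ := X.isExtension.proj_surjective r
  refine ⟨e, ?_⟩
  rw [X.isExtension.mul_incl]
  exact congrArg X.incl hr

variable {l₀ : L} (hl₀ : l₀ ≠ 0)

include hl₀ in
lemma incl_ne_zero : X.incl l₀ ≠ 0 := by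
  intro h
  exact hl₀ (X.isExtension.incl_injective (h.trans (map_zero X.incl).symm))

include hl₀ in
lemma ker_proj_eq_span : RingHom.ker (X.proj : X.E →+* R) = Ideal.span {X.incl l₀} := by
  ext e
  rw [RingHom.mem_ker, Ideal.mem_span_singleton']
  constructor
  · intro h
    obtain ⟨z, rfl⟩ := (X.isExtension.exact _).1 h
    exact exists_mul_eq_incl X hl₀ z
  · rintro ⟨a, rfl⟩
    change X.proj (a * X.incl l₀) = 0
    rw [map_mul, proj_incl, mul_zero]

lemma inf_ker_fg (I : Ideal X.E) : (I ⊓ RingHom.ker (X.proj : X.E →+* R)).FG := by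
  haveI := IsSimpleModule.nontrivial R L
  obtain ⟨l₀, hl₀⟩ := exists_ne (0 : L)
  by_cases h : ∃ z : L, z ≠ 0 ∧ X.incl z ∈ I
  · obtain ⟨z, hz, hzI⟩ := h
    have : I ⊓ RingHom.ker (X.proj : X.E →+* R) = Ideal.span {X.incl l₀} := by
      rw [ker_proj_eq_span X hl₀]
      refine le_antisymm inf_le_right (le_inf ?_ le_rfl)
      rw [Ideal.span_le, Set.singleton_subset_iff]
      obtain ⟨e, he⟩ := exists_mul_eq_incl X hz l₀
      rw [← he]
      exact I.mul_mem_left e hzI
    rw [this]
    exact ⟨{X.incl l₀}, by simp⟩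
  · have : I ⊓ RingHom.ker (X.proj : X.E →+* R) = ⊥ := by
      rw [eq_bot_iff]
      rintro e ⟨heI, hek⟩
      obtain ⟨z, rfl⟩ := (X.isExtension.exact _).1 hek
      by_cases hz : z = 0
      · rw [hz, map_zero]; exact Ideal.zero_mem _
      · exact absurd ⟨z, hz, heI⟩ h
    rw [this]
    exact Submodule.fg_bot

instance isNoetherianRing [IsNoetherianRing R] : IsNoetherianRing X.E := by
  rw [isNoetherianRing_iff_ideal_fg]
  intro I
  exact Ideal.fg_of_fg_map_of_fg_inf_ker_of_surjective (f := (X.proj : X.E →+* R))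
    (IsNoetherian.noetherian _) (inf_ker_fg X I) X.isExtension.proj_surjective

include hl₀ in
lemma exists_incl_notMem_pow [IsNoetherianRing R] :
    ∃ n : ℕ, X.incl l₀ ∉ maximalIdeal X.E ^ n := by
  by_contra h
  push Not at h
  have h1 : X.incl l₀ ∈ ⨅ i, maximalIdeal X.E ^ i := by
    rw [Ideal.mem_iInf]; exact h
  rw [Ideal.iInf_pow_eq_bot_of_isLocalRing _ (IsLocalRing.maximalIdeal.isMaximal _).ne_top] at h1
  exact incl_ne_zero X hl₀ h1

include hl₀ in
lemma eq_zero_of_proj_eq_zero_of_mem {J : Ideal X.E} (hJ : X.incl l₀ ∉ J) {e : X.E}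
    (h0 : X.proj e = 0) (he : e ∈ J) : e = 0 := by
  obtain ⟨z, rfl⟩ := (X.isExtension.exact _).1 h0
  by_cases hz : z = 0
  · rw [hz, map_zero]
  · exfalso
    obtain ⟨e', he'⟩ := exists_mul_eq_incl X hz l₀
    exact hJ (he' ▸ J.mul_mem_left e' he)

/-- Krull: some power of the maximal ideal meets the kernel trivially. -/
lemma exists_pow_inf_ker_eq_bot [IsNoetherianRing R] :
    ∃ n : ℕ, ∀ e ∈ maximalIdeal X.E ^ n, X.proj e = 0 → e = 0 := by
  haveI := IsSimpleModule.nontrivial R L
  obtain ⟨l₀, hl₀⟩ := exists_ne (0 : L)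
  obtain ⟨n, hn⟩ := exists_incl_notMem_pow X hl₀
  exact ⟨n, fun e he h0 => eq_zero_of_proj_eq_zero_of_mem X hl₀ hn h0 he⟩

lemma map_maximalIdeal : (maximalIdeal X.E).map (X.proj : X.E →+* R) = maximalIdeal R := by
  apply le_antisymm
  · rw [Ideal.map_le_iff_le_comap]
    intro e he
    exact (mem_maximalIdeal_iff X e).1 he
  · intro r hr
    obtain ⟨e, rfl⟩ := X.isExtension.proj_surjective r
    exact Ideal.mem_map_of_mem _ ((mem_maximalIdeal_iff X e).2 hr)

lemma map_maximalIdeal_pow (n : ℕ) :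
    (maximalIdeal X.E ^ n).map (X.proj : X.E →+* R) = maximalIdeal R ^ n := by
  rw [Ideal.map_pow, map_maximalIdeal]

end Groth.Agent.Lib.Helper1.ExalSimple
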