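import Groth.Agent.Lib.Helper1.ClosedAlong2

/-!
# Sections of the sheaf Hom from compatible families; Hartogs for `homSh D G`, `D` arbitrary (helper1)

* `SecFamily D G V`: maps `Γ(D, V') → Γ(G, V')` for all opens `V' ≤ V`, additive, semilinear and
  compatible with restriction.
* `SecFamily.sec`: the section of `homSh D G` over `V` it defines, with `app_sec`.
* `isClosedAlong_homSh_gen`: if `G` is closed along `U` (every section over `V ⊓ U` extends uniquely to
  `V`) then so is `homSh D G`, for an arbitrary module `D`.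
-/

set_option autoImplicit false
universe u
open CategoryTheory CategoryTheory.Limits AlgebraicGeometry Opposite TopologicalSpace
open RefHull

namespace Groth.Agent.Lib.Helper1.HomShGen

open Groth.Agent.Lib.Helper28.QCohLoc Groth.Agent.Lib.Helper29.QCohStalk
open Groth.Agent.Lib.Helper1.RefHullLib Groth.Agent.Lib.Helper1.ClosedAlong

variable {X : Scheme.{u}}

/-- a compatible family of maps on sections over the opens contained in `V`. -/
structure SecFamily (D G : X.Modules) (V : X.Opens) where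
  a : ∀ V' : X.Opens, V' ≤ V → Γ(D, V') → Γ(G, V')
  a_res : ∀ (V' V'' : X.Opens) (h' : V' ≤ V) (h'' : V'' ≤ V') (m : Γ(D, V')),
    res G h'' (a V' h' m) = a V'' (h''.trans h') (res D h'' m)
  a_add : ∀ (V' : X.Opens) (h' : V' ≤ V) (m m' : Γ(D, V')), a V' h' (m + m') = a V' h' m + a V' h' m'
  a_smul : ∀ (V' : X.Opens) (h' : V' ≤ V) (r : Γ(X, V')) (m : Γ(D, V')),
    a V' h' (r • m) = r • a V' h' m

namespace SecFamily

variable {D G : X.Modules} {V : X.Opens} (A : SecFamily D G V)

/-- the map on stalks, as a function. -/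
noncomputable def stalkFun (z : X) (hz : z ∈ V) (ξ : D.presheaf.stalk z) : G.presheaf.stalk z :=
  let h := TopCat.Presheaf.exists_germ_eq D.presheaf ξ
  gm G (h.choose ⊓ V) z ⟨h.choose_spec.choose, hz⟩
    (A.a (h.choose ⊓ V) inf_le_right (res D inf_le_left h.choose_spec.choose_spec.choose))

theorem stalkFun_gm (z : X) (hz : z ∈ V) {V' : X.Opens} (h' : V' ≤ V) (hz' : z ∈ V') (m : Γ(D, V')) :
    A.stalkFun z hz (gm D V' z hz' m) = gm G V' z hz' (A.a V' h' m) := by
  have h := TopCat.Presheaf.exists_germ_eq D.presheaf (gm D V' z hz' m)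
  set W := h.choose with hW
  have hzW : z ∈ W := h.choose_spec.choose
  set m0 := h.choose_spec.choose_spec.choose with hm0
  have hm : gm D W z hzW m0 = gm D V' z hz' m := h.choose_spec.choose_spec.choose_spec
  show gm G (W ⊓ V) z ⟨hzW, hz⟩ (A.a (W ⊓ V) inf_le_right (res D inf_le_left m0)) = _
  obtain ⟨W'', hz'', iU, iV, heq⟩ := TopCat.Presheaf.germ_eq D.presheaf z hzW hz' m0 m hm
  have heq' : res D iU.le m0 = res D iV.le m := heq
  have hW''V : W'' ≤ W ⊓ V := le_inf iU.le (iV.le.trans h')
  rw [← gm_res G hW''V z hz'', A.a_res, res_res, heq', ← gm_res G iV.le z hz'', A.a_res]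

/-- the map on stalks. -/
noncomputable def stalkHom (z : X) (hz : z ∈ V) : StalkHom D G z where
  toFun := A.stalkFun z hz
  map_add' ξ ξ' := by
    obtain ⟨W, hzW, m, rfl⟩ := TopCat.Presheaf.exists_germ_eq D.presheaf ξ
    obtain ⟨W', hzW', m', rfl⟩ := TopCat.Presheaf.exists_germ_eq D.presheaf ξ'
    have hz0 : z ∈ W ⊓ W' ⊓ V := ⟨⟨hzW, hzW'⟩, hz⟩
    have e1 : D.presheaf.germ W z hzW m =
        gm D (W ⊓ W' ⊓ V) z hz0 (res D (inf_le_left.trans inf_le_left) m) :=
      (gm_res D (inf_le_left.trans inf_le_left : W ⊓ W' ⊓ V ≤ W) z hz0 m).symm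
    have e2 : D.presheaf.germ W' z hzW' m' =
        gm D (W ⊓ W' ⊓ V) z hz0 (res D (inf_le_left.trans inf_le_right) m') :=
      (gm_res D (inf_le_left.trans inf_le_right : W ⊓ W' ⊓ V ≤ W') z hz0 m').symm
    rw [e1, e2, ← map_add, A.stalkFun_gm z hz inf_le_right hz0, A.stalkFun_gm z hz inf_le_right hz0,
      A.stalkFun_gm z hz inf_le_right hz0, A.a_add]
    exact map_add _ _ _
  map_smul' a ξ := by
    obtain ⟨W, hzW, m, rfl⟩ := TopCat.Presheaf.exists_germ_eq D.presheaf ξ
    obtain ⟨W', hzW', r, rfl⟩ := TopCat.Presheaf.exists_germ_eq X.presheaf a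
    have hz0 : z ∈ W ⊓ W' ⊓ V := ⟨⟨hzW, hzW'⟩, hz⟩
    have e1 : D.presheaf.germ W z hzW m =
        gm D (W ⊓ W' ⊓ V) z hz0 (res D (inf_le_left.trans inf_le_left) m) :=
      (gm_res D (inf_le_left.trans inf_le_left : W ⊓ W' ⊓ V ≤ W) z hz0 m).symm
    have e2 : X.presheaf.germ W' z hzW' r =
        X.presheaf.germ (W ⊓ W' ⊓ V) z hz0 (resO (inf_le_left.trans inf_le_right) r) :=
      (germ_resO (inf_le_left.trans inf_le_right : W ⊓ W' ⊓ V ≤ W') z hz0 r).symm
    rw [e1, e2, ← gm_smul, RingHom.id_apply, A.stalkFun_gm z hz inf_le_right hz0,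
      A.stalkFun_gm z hz inf_le_right hz0, A.a_smul, gm_smul]

theorem stalkHom_gm (z : X) (hz : z ∈ V) {V' : X.Opens} (h' : V' ≤ V) (hz' : z ∈ V') (m : Γ(D, V')) :
    A.stalkHom z hz (gm D V' z hz' m) = gm G V' z hz' (A.a V' h' m) :=
  A.stalkFun_gm z hz h' hz' m

/-- the section of the sheaf Hom defined by a compatible family. -/
noncomputable def sec : Γ(homSh D G, V) :=
  ⟨fun z => A.stalkHom z.1 z.2, fun V' i m x =>
    ⟨V', x.2, 𝟙 V', A.a V' i.le m, fun y => A.stalkHom_gm y.1 (i.le y.2) i.le y.2 m⟩⟩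

theorem app_sec {V' : X.Opens} (h' : V' ≤ V) (m : Γ(D, V')) : app A.sec h' m = A.a V' h' m :=
  app_eq_of_gm _ h' _ _ fun y hy => (A.stalkHom_gm y (h' hy) h' hy m).symm

end SecFamily

/-- **Hartogs for the sheaf Hom, arbitrary source**: if `G` is closed along `U` then so is `homSh D G`. -/
theorem isClosedAlong_homSh_gen (U : X.Opens) (D G : X.Modules) (hG : IsClosedAlong U G) :
    IsClosedAlong U (homSh D G) := by
  intro V
  constructor
  · intro y y' hyy
    apply ext_of_app
    intro V' hV' m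
    apply (hG V').1
    rw [res_app, res_app]
    have h1 : app (res (homSh D G) (inf_le_left : V ⊓ U ≤ V) y) (inf_le_inf_right U hV')
        (res D (inf_le_left : V' ⊓ U ≤ V') m) =
        app (res (homSh D G) (inf_le_left : V ⊓ U ≤ V) y') (inf_le_inf_right U hV')
          (res D (inf_le_left : V' ⊓ U ≤ V') m) := by rw [hyy]
    rw [RefHullLib.app_res, RefHullLib.app_res] at h1
    exact h1
  · intro t
    have hex : ∀ (V' : X.Opens) (h' : V' ≤ V) (m : Γ(D, V')), ∃ n : Γ(G, V'),
        res G (inf_le_left : V' ⊓ U ≤ V') n =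
          app t (inf_le_inf_right U h') (res D (inf_le_left : V' ⊓ U ≤ V') m) :=
      fun V' h' m => (hG V').2 _
    choose a ha using hex
    let A : SecFamily D G V :=
      { a := a
        a_res := fun V' V'' h' h'' m => by
          apply (hG V'').1
          rw [ha, res_res, res_res]
          have h1 : res G (inf_le_inf_right U h'' : V'' ⊓ U ≤ V' ⊓ U)
              (res G (inf_le_left : V' ⊓ U ≤ V') (a V' h' m)) =
              res G ((inf_le_left : V'' ⊓ U ≤ V'').trans h'') (a V' h' m) := res_res G _ _ _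
          rw [← h1, ha, res_app, res_res]
        a_add := fun V' h' m m' => by
          apply (hG V').1
          rw [res_add, ha, ha, ha, res_add, app_add_right]
        a_smul := fun V' h' r m => by
          apply (hG V').1
          rw [res_smul, ha, ha, res_smul, app_smul_right] }
    refine ⟨A.sec, ?_⟩
    apply ext_of_app
    intro V' hV' m
    rw [RefHullLib.app_res, A.app_sec]
    apply (hG V').1
    show res G (inf_le_left : V' ⊓ U ≤ V') (a V' _ m) = _
    rw [ha, res_app]

end Groth.Agent.Lib.Helper1.HomShGen
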