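import Groth.Agent.Lib.Helper1.UfdExt3
import Groth.Agent.Lib.Helper17.GlueDisc
import Groth.Agent.Lib.Helper28.TensorPowGen
import Groth.Agent.Lib.Helper28.RestrictGen
import Groth.Agent.S2252

/-!
# Extending an invertible module across points with factorial local rings (helper1)
-/

set_option autoImplicit false
set_option backward.isDefEq.respectTransparency.types false
universe u
open CategoryTheory CategoryTheory.Limits AlgebraicGeometry Opposite TopologicalSpace

namespace Groth.Agent.Lib.Helper1.UfdExt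

open RefHull
open Groth.Agent.Lib.Helper28 Groth.Agent.Lib.Helper28.QCohLoc Groth.Agent.Lib.Helper28.GenLocus
open Groth.Agent.Lib.Helper29.QCohStalk Groth.Agent.Lib.Helper17.ModStalk
open Groth.Agent.Lib.Helper1.RefHullLib

variable {X : Scheme.{u}}

/-- **the bidual of a coherent module is invertible near a factorial point in the closure of an open where the
module is invertible** -/
theorem exists_isGen_ddual_of_ufd [IsLocallyNoetherian X] (G : X.Modules) (hG : Coh.IsCoh G) (W : X.Opens)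
    (hW : ∀ y ∈ W, ∃ (W' : X.Opens) (g : Γ(G, W')), y ∈ W' ∧ IsGen G W' g)
    (x : X) (hx : x ∈ closure (W : Set X)) [IsDomain (X.presheaf.stalk x)]
    [UniqueFactorizationMonoid (X.presheaf.stalk x)] :
    ∃ (V : X.Opens) (g : Γ(ddual G, V)), x ∈ V ∧ (V : Set X) ⊆ closure (W : Set X) ∧
      IsGen (ddual G) V g := by
  haveI : G.IsQuasicoherent := hG.1
  obtain ⟨V₀, hV₀, hxV₀, hdom, hirr⟩ := exists_affine_domain_nhd x
  haveI := hdom
  obtain ⟨y, hyV₀, hyW⟩ := mem_closure_iff.1 hx (V₀ : Set X) V₀.isOpen hxV₀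
  obtain ⟨W', g, hyW', hg⟩ := hW y hyW
  obtain ⟨f, hfW', hyf⟩ := hV₀.exists_basicOpen_le ⟨y, hyW'⟩ hyV₀
  have hf : f ≠ 0 := by
    rintro rfl
    rw [Scheme.basicOpen_zero] at hyf
    exact hyf
  obtain ⟨m₀, ha, hb⟩ := exists_rankOne_stalk G hV₀ f hf _ (hg.res hfW') x hxV₀
  haveI : Module.Finite (X.presheaf.stalk x) (G.presheaf.stalk x) :=
    Groth.Agent.Lib.Helper7.StalkFree.finite_stalk_of_isCoh X G hG x
  obtain ⟨e₁⟩ := nonempty_ddual_equiv m₀ ha hb
  obtain ⟨e₂⟩ := nonempty_stalk_ddual_equiv G hG x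
  haveI : SheafOfModules.IsFinitePresentation.{u} (R := X.ringCatSheaf) (ddual G) :=
    Groth.Agent.S16240.isFinitePresentation_of_isCoh _ (isCoh_dual _ (isCoh_dual G hG))
  obtain ⟨V', g', hxV', hg'⟩ := exists_isGen_of_stalk_equiv (ddual G) x (e₂.trans e₁)
  refine ⟨V' ⊓ V₀, res (ddual G) inf_le_left g', ⟨hxV', hxV₀⟩, ?_, hg'.res inf_le_left⟩
  intro z hz
  rw [mem_closure_iff]
  intro O hO hzO
  obtain ⟨w, hw1, hw2, hw3⟩ := hirr O (W : Set X) hO W.isOpen ⟨z, hz.2, hzO⟩ ⟨y, hyV₀, hyW⟩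
  exact ⟨w, hw2, hw3⟩

/-- every section over the empty open is a generator -/
theorem isGen_of_eq_bot (F : X.Modules) (V : X.Opens) (hV : V = ⊥) (s : Γ(F, V)) : IsGen F V s := by
  intro W' hW'
  have hW'bot : W' = ⊥ := by rw [hV] at hW'; exact le_bot_iff.1 hW'
  haveI : Subsingleton Γ(X, W') := by rw [hW'bot]; infer_instance
  have hzero : ∀ m : Γ(F, W'), m = 0 := by
    intro m
    have h1 : ((1 : Γ(X, W')) • m : Γ(F, W')) = ((0 : Γ(X, W')) • m : Γ(F, W')) := by
      rw [Subsingleton.elim (1 : Γ(X, W')) 0]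
    rwa [one_smul, zero_smul] at h1
  refine ⟨fun a b _ => Subsingleton.elim a b, fun m => ⟨0, ?_⟩⟩
  show ((0 : Γ(X, W')) • res F hW' s : Γ(F, W')) = m
  rw [zero_smul, hzero m]

/-- a module on `X` whose restriction to `U` is invertible has local generators at the points of `U` -/
theorem exists_isGen_of_restrict_iso (G : X.Modules) (U : X.Opens) (L : (U : Scheme.{u}).Modules)
    (hL : PicF.IsInvertible L) (e : G.restrict U.ι ≅ L) (y : X) (hy : y ∈ U) :
    ∃ (W' : X.Opens) (g : Γ(G, W')), y ∈ W' ∧ W' ≤ U ∧ IsGen G W' g := by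
  have hinv : PicF.IsInvertible (G.restrict U.ι) := by
    intro z
    obtain ⟨T, hzT, ⟨i⟩⟩ := hL z
    exact ⟨T, hzT, ⟨(Scheme.Modules.restrictFunctor T.ι).mapIso e ≪≫ i⟩⟩
  obtain ⟨T, g, hyT, hg⟩ := exists_isGen (G.restrict U.ι) hinv ⟨y, hy⟩
  exact ⟨U.ι ''ᵁ T, g, ⟨⟨y, hy⟩, hyT, rfl⟩, U.ι_image_le T, isGen_of_isGen_restrict G U g hg⟩

/-- the biduality map of a coherent module is an isomorphism over an open where the module is invertible -/
theorem isIso_restrict_bidualMap [IsLocallyNoetherian X] (G : X.Modules) (hG : Coh.IsCoh G) (U : X.Opens)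
    (hU : ∀ y ∈ U, ∃ (W' : X.Opens) (g : Γ(G, W')), y ∈ W' ∧ IsGen G W' g) :
    IsIso ((Scheme.Modules.restrictFunctor U.ι).map (bidualMap G)) := by
  rw [isIso_restrict_iff]
  intro W hW
  refine bijective_app_of_stalkMapₗ (bidualMap G) W fun z hz => ?_
  rw [bijective_stalkMapₗ_bidualMap_iff G hG z]
  obtain ⟨W', g, hzW', hg⟩ := hU z (hW hz)
  exact Module.equiv (stalkCoord hg z hzW').symm

end Groth.Agent.Lib.Helper1.UfdExt
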