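import Groth.Agent.Lib.Helper1.ExtPowGen
import Groth.Agent.Lib.Helper1.HomShGen
import Groth.Agent.Lib.Helper1.UfdExt4
import Groth.Agent.Lib.Helper29.ZeroMul
import Groth.Agent.Lib.Helper25.RefBigOpen

/-!
# The biduality map at a local generator (helper1)

* `app_bidualMap`: the biduality map is evaluation.
* `bijective_stalkMapₗ_bidualMap_of_isGen`: the biduality map is bijective on the stalks at the points
  where the module has a local generator (no coherence hypothesis).
* `isIso_restrict_bidualMap_of_isGen`.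
* `exists_isGen_of_isExtPow_of_isFinLocFreeOfRank`: a top exterior power of a module that is locally free of
  rank `n` on `U` has local generators at the points of `U`.
-/

set_option autoImplicit false
universe u
open CategoryTheory CategoryTheory.Limits AlgebraicGeometry Opposite TopologicalSpace
open RefHull

namespace Groth.Agent.Lib.Helper1.ExtPowGen

open Groth.Agent.Lib.Helper28 Groth.Agent.Lib.Helper28.QCohLoc Groth.Agent.Lib.Helper28.GenLocus
open Groth.Agent.Lib.Helper29.QCohStalk
open Groth.Agent.Lib.Helper1.RefHullLib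

variable {X : Scheme.{u}}

/-- the biduality map is evaluation. -/
theorem app_bidualMap (F : X.Modules) {U : X.Opens} (s : Γ(F, U)) {V' : X.Opens} (h : V' ≤ U)
    (ψ : Γ(dual F, V')) :
    app ((bidualMap F).app U s) h ψ = app ψ le_rfl (res F h s) :=
  app_eq_of_gm _ h _ _ fun y hy => by
    rw [gm_app, gm_res]
    show _ = bidualAt F y (F.presheaf.germ U y (h hy) s) ((dual F).presheaf.germ V' y hy ψ)
    rw [bidualAt_apply, evalStalk_germ]

variable {L : X.Modules} {U : X.Opens} {g : Γ(L, U)}

/-- the biduality map carries a generator to the double dual generator. -/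
theorem bidualMap_app_isGen (hg : IsGen L U g) :
    (bidualMap L).app U g = dualGen (isGen_dualGen hg) := by
  apply ext_of_app
  intro V' hV' ψ
  rw [app_bidualMap, app_dualGen]
  have h1 : ψ = ((isGen_dualGen hg).coef hV' ψ • res (dual L) hV' (dualGen hg) : Γ(dual L, V')) :=
    ((isGen_dualGen hg).coef_smul hV' ψ).symm
  conv_lhs => rw [h1]
  rw [app_smul_left, RefHullLib.app_res, app_dualGen, hg.coef_res_self, resO_self, smul_toO, mul_one]

/-- the biduality map is bijective on the stalks at the points where the module has a local generator. -/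
theorem bijective_stalkMapₗ_bidualMap_of_isGen (hg : IsGen L U g) (z : X) (hz : z ∈ U) :
    Function.Bijective (stalkMapₗ (bidualMap L) z) := by
  have hdd : IsGen (ddual L) U (dualGen (isGen_dualGen hg)) := isGen_dualGen (isGen_dualGen hg)
  have hα := bijective_smul_gm_of_isGen hg z hz
  have hβ := bijective_smul_gm_of_isGen hdd z hz
  have hcomp : (stalkMapₗ (bidualMap L) z) ∘ (fun a : X.presheaf.stalk z => a • gm L U z hz g) =
      fun a : X.presheaf.stalk z => a • gm (ddual L) U z hz (dualGen (isGen_dualGen hg)) := by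
    funext a
    show stalkMapₗ (bidualMap L) z (a • gm L U z hz g) = _
    rw [map_smul, stalkMapₗ_germ, bidualMap_app_isGen hg]
  refine (Function.Bijective.of_comp_iff (⇑(stalkMapₗ (bidualMap L) z)) hα).1 ?_
  rw [hcomp]
  exact hβ

/-- the biduality map is an isomorphism over an open where the module has local generators. -/
theorem isIso_restrict_bidualMap_of_isGen (G : X.Modules) (U : X.Opens)
    (hU : ∀ y ∈ U, ∃ (W' : X.Opens) (g : Γ(G, W')), y ∈ W' ∧ IsGen G W' g) :
    IsIso ((Scheme.Modules.restrictFunctor U.ι).map (bidualMap G)) := by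
  rw [isIso_restrict_iff]
  intro W hW
  refine bijective_app_of_stalkMapₗ (bidualMap G) W fun z hz => ?_
  obtain ⟨W', g, hzW', hg⟩ := hU z (hW hz)
  exact bijective_stalkMapₗ_bidualMap_of_isGen hg z hzW'

open Groth.Agent.Lib.Helper1.LocFree Groth.Agent.Lib.Helper16.RS Groth.Agent.Lib.Helper29.FreeIso in
/-- a top exterior power of a module that is locally free of rank `n` on `U` has local generators at the
points of `U`. -/
theorem exists_isGen_of_isExtPow_of_isFinLocFreeOfRank {n : ℕ} {E L : X.Modules}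
    (hL : ExtPow.IsExtPow n E L) (U : X.Opens) (hE : FlatMod.IsFinLocFreeOfRank n (E.restrict U.ι))
    (y : X) (hy : y ∈ U) : ∃ (W' : X.Opens) (g : Γ(L, W')), y ∈ W' ∧ IsGen L W' g := by
  obtain ⟨W, hyW, ⟨e⟩⟩ := hE ⟨y, hy⟩
  have hk : (U.ι.isoImage W).inv ≫ W.ι ≫ U.ι = (U.ι ''ᵁ W).ι := by simp
  let e' : E.restrict (U.ι ''ᵁ W).ι ≅ FlatMod.freeMod (↑(U.ι ''ᵁ W)) n :=
    (restrictFacIso (W.ι ≫ U.ι) (U.ι.isoImage W).inv (U.ι ''ᵁ W).ι hk E).symm ≪≫
    (Scheme.Modules.restrictFunctor (U.ι.isoImage W).inv).mapIso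
      ((restrictFacIso U.ι W.ι (W.ι ≫ U.ι) rfl E).symm ≪≫ e) ≪≫
    restrictFreeModIso (U.ι.isoImage W).inv n
  have hyW' : y ∈ U.ι ''ᵁ W := ⟨⟨y, hy⟩, hyW, rfl⟩
  obtain ⟨V, hV, hyV, hVW⟩ := (Opens.isBasis_iff_nbhd.1 X.isBasis_affineOpens) hyW'
  obtain ⟨e''⟩ := nonempty_iso_freeMod_of_le E hVW n e'
  obtain ⟨g, hg⟩ := exists_isGen_of_isExtPow hL V hV e''
  exact ⟨V, g, hyV, Groth.Agent.Lib.Helper29.ZeroSch.isGen28_of_isGen hg⟩

end Groth.Agent.Lib.Helper1.ExtPowGen
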