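import Groth.Agent.Lib.Helper1.RefHull12
import Groth.Agent.Lib.Helper29.FreeIso2
import Groth.Prelude.Def_ExtPow2
import Mathlib.LinearAlgebra.ExteriorPower.Basis
import Mathlib.Order.Hom.PowersetCard

/-!
# Exterior powers (as a predicate): the top exterior power of a free module has a generator (helper1)
-/

set_option autoImplicit false
universe u
open CategoryTheory CategoryTheory.Limits AlgebraicGeometry Opposite TopologicalSpace
open Module Set.powersetCard

namespace Groth.Agent.Lib.Helper1.ExtPowGen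

/-- the top subset of `Fin n`. -/
def topSet (n : ℕ) : Set.powersetCard (Fin n) n := ⟨Finset.univ, by simp [Set.powersetCard]⟩

instance (n : ℕ) : Unique (Set.powersetCard (Fin n) n) where
  default := topSet n
  uniq s := by
    apply Subtype.ext
    show s.1 = Finset.univ
    apply Finset.eq_univ_of_card
    rw [Set.powersetCard.card_eq]
    simp

/-- the fixed ordering of `Fin n`. -/
noncomputable def σ (n : ℕ) : Fin n → Fin n := fun i => (ofFinEmbEquiv.symm (topSet n)) i

section Alg

variable {R M : Type*} [CommRing R] [AddCommGroup M] [Module R M]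

theorem exists_eq_smul (n : ℕ) (b : Basis (Fin n) R M) (x : ⋀[R]^n M) :
    ∃ c : R, x = c • exteriorPower.ιMulti R n (b ∘ σ n) := by
  refine ⟨(b.exteriorPower n).repr x (topSet n), ?_⟩
  conv_lhs => rw [← (b.exteriorPower n).sum_repr x]
  rw [Fintype.sum_unique]
  rw [exteriorPower.basis_apply]
  rfl

theorem eq_zero_of_smul_eq_zero (n : ℕ) (b : Basis (Fin n) R M) (c : R)
    (h : c • exteriorPower.ιMulti R n (b ∘ σ n) = 0) : c = 0 := by
  have h1 : exteriorPower.ιMulti R n (b ∘ σ n) = b.exteriorPower n (topSet n) := by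
    rw [exteriorPower.basis_apply]
    rfl
  rw [h1] at h
  have h2 := congrArg (fun y => (b.exteriorPower n).repr y (topSet n)) h
  simpa using h2

end Alg

open Groth.Agent.Lib.Helper28.QCohLoc Groth.Agent.Lib.Helper29.QCohStalk
open Groth.Agent.Lib.Helper29.FreeIso Groth.Agent.Lib.Helper29.MeroGen

variable {X : Scheme.{u}}

/-- the basis of sections over an open `T ≤ W` defined by a basis of sections over `W` that generates globally. -/
noncomputable def secBasis (E : X.Modules) {W : X.Opens} {n : ℕ} (τ : Fin n → Γ(E, W))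
    (hτ : IsBasisOn E W τ)
    (hgen : ∀ (T : X.Opens) (hT : T ≤ W) (t : Γ(E, T)), ∃ c : Fin n → Γ(X, T),
      t = ∑ j, c j • res E hT (τ j)) (T : X.Opens) (hT : T ≤ W) :
    Basis (Fin n) Γ(X, T) Γ(E, T) :=
  Basis.mk (v := fun j => res E hT (τ j))
    (Fintype.linearIndependent_iff.2 fun c hc => hτ.1 T hT c hc)
    (fun t _ => by
      obtain ⟨c, hc⟩ := hgen T hT t
      rw [hc]
      exact Submodule.sum_mem _ fun j _ => Submodule.smul_mem _ _ (Submodule.subset_span ⟨j, rfl⟩))

theorem secBasis_apply (E : X.Modules) {W : X.Opens} {n : ℕ} (τ : Fin n → Γ(E, W))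
    (hτ : IsBasisOn E W τ)
    (hgen : ∀ (T : X.Opens) (hT : T ≤ W) (t : Γ(E, T)), ∃ c : Fin n → Γ(X, T),
      t = ∑ j, c j • res E hT (τ j)) (T : X.Opens) (hT : T ≤ W) (j : Fin n) :
    secBasis E τ hτ hgen T hT j = res E hT (τ j) := by
  unfold secBasis
  rw [Basis.mk_apply]

/-- **local generator of a top exterior power**: if `E` is free of rank `n` over the affine open `W`
then an `n`-th exterior power of `E` has a generator over `W`. -/
theorem exists_isGen_of_isExtPow {n : ℕ} {E L : X.Modules} (hL : ExtPow.IsExtPow n E L) (W : X.Opens)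
    (hW : IsAffineOpen W) (e : E.restrict W.ι ≅ FlatMod.freeMod (↑W) n) :
    ∃ g : Γ(L, W), IsGen L W g := by
  obtain ⟨τ, hτ, hgen⟩ := exists_isBasisOn_of_iso' E W n e
  obtain ⟨φ, hφ⟩ := hL
  let g : Γ(L, W) := (φ ⟨W, hW⟩).symm (exteriorPower.ιMulti _ n (fun j => τ (σ n j)))
  -- restriction of the generator to affine opens
  have hres : ∀ (T : X.Opens) (hTa : IsAffineOpen T) (hT : T ≤ W),
      res L hT g = (φ ⟨T, hTa⟩).symm
        (exteriorPower.ιMulti _ n (secBasis E τ hτ hgen T hT ∘ σ n)) := by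
    intro T hTa hT
    have h1 := hφ ⟨W, hW⟩ ⟨T, hTa⟩ hT (fun j => τ (σ n j))
    refine h1.trans ?_
    congr 2
    funext j
    exact (secBasis_apply E τ hτ hgen T hT (σ n j)).symm
  refine ⟨g, isGen_of_indep_gen ?_ ?_⟩
  · intro T hT c hc
    -- check on affine opens
    apply TopCat.Sheaf.eq_of_locally_eq' X.sheaf
      (fun V : {V : X.affineOpens // (V : X.Opens) ≤ T} => (V.1 : X.Opens)) T (fun V => homOfLE V.2)
    · intro x hx
      obtain ⟨V, hV, hxV, hVT⟩ := (Opens.isBasis_iff_nbhd.1 X.isBasis_affineOpens) hx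
      exact Opens.mem_iSup.2 ⟨⟨⟨V, hV⟩, hVT⟩, hxV⟩
    · intro V
      show resO V.2 c = resO V.2 0
      rw [Groth.Agent.S16485.resO_zero]
      have h2 := congrArg (res L V.2) hc
      rw [res_smul, res_res, res_zero, hres V.1.1 V.1.2 (V.2.trans hT)] at h2
      have h3 := (congrArg (φ V.1) h2).trans (map_zero _)
      have h4 := (φ V.1).map_smul (resO V.2 c) ((φ V.1).symm
        (exteriorPower.ιMulti _ n (secBasis E τ hτ hgen V.1.1 (V.2.trans hT) ∘ σ n)))
      rw [LinearEquiv.apply_symm_apply] at h4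
      exact eq_zero_of_smul_eq_zero n (secBasis E τ hτ hgen V.1.1 (V.2.trans hT)) _ (h4.symm.trans h3)
  · intro T hT t pt hpt
    obtain ⟨V, hV, hxV, hVT⟩ := (Opens.isBasis_iff_nbhd.1 X.isBasis_affineOpens) hpt
    have hV : IsAffineOpen V := hV
    refine ⟨V, hVT, hxV, ?_⟩
    obtain ⟨c, hc⟩ := exists_eq_smul n (secBasis E τ hτ hgen V (hVT.trans hT)) (φ ⟨V, hV⟩ (res L hVT t))
    refine ⟨c, ?_⟩
    rw [hres V hV (hVT.trans hT)]
    apply (φ ⟨V, hV⟩).injective
    have h4 := (φ ⟨V, hV⟩).map_smul c ((φ ⟨V, hV⟩).symm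
        (exteriorPower.ιMulti _ n (secBasis E τ hτ hgen V (hVT.trans hT) ∘ σ n)))
    rw [LinearEquiv.apply_symm_apply] at h4
    exact hc.trans h4.symm

end Groth.Agent.Lib.Helper1.ExtPowGen
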