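import Groth.Agent.Lib.Helper1.ShriekProj
import Mathlib.Algebra.Homology.ShortComplex.ExactFunctor

/-!
# Exactness properties of extension by zero (the chosen left adjoint `ModSite.extZero`)
-/

set_option autoImplicit false
universe u
open CategoryTheory CategoryTheory.Limits

namespace Groth.Agent.Lib.Helper1.ExtZeroExact

open Groth.Agent.Lib.Helper1.ShriekProj Groth.Agent.Lib.Helper1.ShriekSheaf

variable {C : Type u} [SmallCategory C] {J : GrothendieckTopology C}
  (O : Sheaf J CommRingCat.{u}) (U : C)

instance preservesFiniteLimits_ez' : PreservesFiniteLimits (ez' O U) :=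
  inferInstanceAs (PreservesFiniteLimits (extZero' (ModSite.ringSh O) U))

instance faithful_ez' : (ez' O U).Faithful :=
  inferInstanceAs (extZero' (ModSite.ringSh O) U).Faithful

instance preservesFiniteLimits_extZero : PreservesFiniteLimits (ModSite.extZero O U) :=
  preservesFiniteLimits_of_natIso (extZeroIso O U).symm

instance isLeftAdjoint_extZero : (ModSite.extZero O U).IsLeftAdjoint :=
  (ModSite.extZeroAdj O U).isLeftAdjoint

instance preservesFiniteColimits_extZero : PreservesFiniteColimits (ModSite.extZero O U) :=
  inferInstance

instance faithful_extZero : (ModSite.extZero O U).Faithful :=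
  Functor.Faithful.of_iso (extZeroIso O U).symm

instance additive_extZero : (ModSite.extZero O U).Additive := by
  have h : rightExactFunctor _ _ (ModSite.extZero O U) := by
    rw [rightExactFunctor_iff]
    infer_instance
  exact rightExactFunctor_le_additiveFunctor _ _ _ h

instance preservesHomology_extZero : (ModSite.extZero O U).PreservesHomology := inferInstance

/-- extension by zero reflects exactness -/
theorem exact_of_exact_map (S : ShortComplex (ModSite.Mod (O.over U)))
    (h : (S.map (ModSite.extZero O U)).Exact) : S.Exact :=
  (ShortComplex.exact_map_iff_of_faithful S (ModSite.extZero O U)).1 h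

end Groth.Agent.Lib.Helper1.ExtZeroExact
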