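import Mathlib

/-!
# Factorization of an element along a finite set of primes (helper1)
-/

namespace Groth.Agent.Lib.Helper1.FibFact

/-- an element of a UFD whose prime divisors are, up to associates, the pairwise non-associated primes `q i`
(`i ∈ S`), occurring with exact multiplicity `m i`, is associated to `∏ q i ^ m i`. -/
theorem associated_prod_pow {B : Type*} [CommRing B] [IsDomain B] [UniqueFactorizationMonoid B]
    {ι : Type*} [DecidableEq ι] (S : Finset ι) (q : ι → B) (m : ι → ℕ) (π : B) (hπ : π ≠ 0)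
    (hq : ∀ i ∈ S, Prime (q i))
    (hdiv : ∀ i ∈ S, q i ^ m i ∣ π) (hndiv : ∀ i ∈ S, ¬ q i ^ (m i + 1) ∣ π)
    (hne : ∀ i ∈ S, ∀ j ∈ S, i ≠ j → ¬ q i ∣ q j)
    (hall : ∀ p : B, Prime p → p ∣ π → ∃ i ∈ S, Associated p (q i)) :
    Associated π (∏ i ∈ S, q i ^ m i) := by
  classical
  -- step 1: partial products divide `π`
  have h1 : ∀ T : Finset ι, T ⊆ S → (∏ i ∈ T, q i ^ m i) ∣ π := by
    intro T
    induction T using Finset.induction_on with
    | empty => intro _; simp
    | insert j T hjT ih =>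
      intro hTS
      have hjS : j ∈ S := hTS (Finset.mem_insert_self j T)
      have hT : T ⊆ S := fun i hi => hTS (Finset.mem_insert_of_mem hi)
      obtain ⟨c, hc⟩ := ih hT
      have hnd : ¬ q j ∣ ∏ i ∈ T, q i ^ m i := by
        intro hd
        obtain ⟨i, hiT, hi⟩ := (hq j hjS).exists_mem_finset_dvd hd
        have hij : j ≠ i := fun h => hjT (h ▸ hiT)
        exact hne j hjS i (hT hiT) hij ((hq j hjS).dvd_of_dvd_pow hi)
      have h2 : q j ^ m j ∣ c := by
        apply (hq j hjS).pow_dvd_of_dvd_mul_left (m j) hnd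
        rw [← hc]
        exact hdiv j hjS
      rw [Finset.prod_insert hjT, hc, mul_comm]
      exact mul_dvd_mul_left _ h2
  obtain ⟨c, hc⟩ := h1 S (Finset.Subset.refl S)
  have hc0 : c ≠ 0 := by
    rintro rfl
    exact hπ (by rw [hc, mul_zero])
  have hcu : IsUnit c := by
    by_contra hcu
    obtain ⟨p, hp, hpc⟩ := WfDvdMonoid.exists_irreducible_factor hcu hc0
    have hpp : Prime p := UniqueFactorizationMonoid.irreducible_iff_prime.1 hp
    have hpπ : p ∣ π := by rw [hc]; exact Dvd.dvd.mul_left hpc _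
    obtain ⟨i, hiS, hi⟩ := hall p hpp hpπ
    have hqc : q i ∣ c := hi.symm.dvd.trans hpc
    apply hndiv i hiS
    rw [hc, ← Finset.mul_prod_erase S _ hiS, pow_succ, mul_assoc]
    apply mul_dvd_mul_left
    obtain ⟨d, hd⟩ := hqc
    rw [hd]
    exact ⟨(∏ x ∈ S.erase i, q x ^ m x) * d, by ring⟩
  rw [hc]
  exact (associated_mul_unit_left _ c hcu)

end Groth.Agent.Lib.Helper1.FibFact
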