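import Mathlib
import Groth.Agent.Lib.Helper1.FibFact1

/-!
# Factorization of a principal ideal of a UFD along its minimal primes (helper1)
-/

set_option autoImplicit false

namespace Groth.Agent.Lib.Helper1.FibFact

open IsLocalRing

variable {B : Type*} [CommRing B] [IsDomain B] [UniqueFactorizationMonoid B]

omit [IsDomain B] in
/-- in a UFD a minimal prime over a nonzero principal ideal `(ϖ)` is generated by a prime factor of `ϖ`. -/
theorem exists_prime_of_mem_minimalPrimes {ϖ : B} (hϖ : ϖ ≠ 0) {P : Ideal B}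
    (hP : P ∈ (Ideal.span {ϖ}).minimalPrimes) :
    ∃ q : B, Prime q ∧ q ∣ ϖ ∧ P = Ideal.span {q} := by
  haveI hPp : P.IsPrime := hP.1.1
  have hmem : ϖ ∈ P := hP.1.2 (Ideal.subset_span rfl)
  have hnu : ¬ IsUnit ϖ := fun hu => hPp.ne_top (Ideal.eq_top_of_isUnit_mem _ hmem hu)
  obtain ⟨f, hf, hfa⟩ := UniqueFactorizationMonoid.exists_prime_factors ϖ hϖ
  have hfP : f.prod ∈ P := by
    obtain ⟨u, hu⟩ := hfa.symm
    rw [← hu]
    exact P.mul_mem_right _ hmem
  obtain ⟨q, hqf, hqP⟩ := (Ideal.IsPrime.multiset_prod_mem_iff_exists_mem hPp f).mp hfP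
  have hqprime : Prime q := hf q hqf
  have hqdvd : q ∣ ϖ := (Multiset.dvd_prod hqf).trans hfa.dvd
  refine ⟨q, hqprime, hqdvd, ?_⟩
  haveI : (Ideal.span {q}).IsPrime := (Ideal.span_singleton_prime hqprime.ne_zero).mpr hqprime
  have hle : Ideal.span {q} ≤ P := (Ideal.span_singleton_le_iff_mem P).mpr hqP
  have hϖq : Ideal.span {ϖ} ≤ Ideal.span {q} :=
    Ideal.span_singleton_le_span_singleton.mpr hqdvd
  exact le_antisymm (hP.2 ⟨inferInstance, hϖq⟩ hle) hle

/-- in a UFD the ideal generated by a prime factor of `ϖ` is a minimal prime over `(ϖ)`. -/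
theorem span_mem_minimalPrimes_of_prime_dvd {ϖ : B} (hϖ : ϖ ≠ 0) {q : B} (hq : Prime q)
    (hqd : q ∣ ϖ) : Ideal.span {q} ∈ (Ideal.span {ϖ}).minimalPrimes := by
  haveI : (Ideal.span {q}).IsPrime := (Ideal.span_singleton_prime hq.ne_zero).mpr hq
  refine ⟨⟨inferInstance, Ideal.span_singleton_le_span_singleton.mpr hqd⟩, ?_⟩
  rintro Q ⟨hQp, hQ⟩ hQle
  have hmem : ϖ ∈ Q := hQ (Ideal.subset_span rfl)
  obtain ⟨f, hf, hfa⟩ := UniqueFactorizationMonoid.exists_prime_factors ϖ hϖ
  have hfQ : f.prod ∈ Q := by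
    obtain ⟨u, hu⟩ := hfa.symm
    rw [← hu]
    exact Q.mul_mem_right _ hmem
  obtain ⟨q', hq'f, hq'Q⟩ := (Ideal.IsPrime.multiset_prod_mem_iff_exists_mem hQp f).mp hfQ
  have hq'prime : Prime q' := hf q' hq'f
  have h1 : q' ∈ Ideal.span {q} := hQle hq'Q
  have h2 : q ∣ q' := Ideal.mem_span_singleton.mp h1
  have h3 : Associated q q' := hq.irreducible.associated_of_dvd hq'prime.irreducible h2
  rw [Ideal.span_singleton_le_iff_mem]
  obtain ⟨u, hu⟩ := h3.symm
  rw [← hu]
  exact Q.mul_mem_right _ hq'Q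

/-- the exact power of the prime element `q` dividing `ϖ` is the length of `O/ϖO`, for `O` the localization of `B`
at `(q)`. -/
theorem pow_dvd_and_not_of_length {ϖ : B} (hϖ : ϖ ≠ 0) (P : Ideal B) [P.IsPrime]
    (O : Type*) [CommRing O] [Algebra B O] [IsLocalization.AtPrime O P]
    {q : B} (hq : Prime q) (hP : P = Ideal.span {q}) :
    q ^ (Module.length O (O ⧸ Ideal.span {algebraMap B O ϖ})).toNat ∣ ϖ ∧
      ¬ q ^ ((Module.length O (O ⧸ Ideal.span {algebraMap B O ϖ})).toNat + 1) ∣ ϖ := by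
  obtain ⟨n, c, hc, hϖc⟩ := WfDvdMonoid.max_power_factor hϖ hq.irreducible
  haveI : IsLocalRing O := IsLocalization.AtPrime.isLocalRing O P
  have hle : P.primeCompl ≤ nonZeroDivisors B := P.primeCompl_le_nonZeroDivisors
  haveI : IsDomain O := IsLocalization.isDomain_of_le_nonZeroDivisors (M := P.primeCompl) O hle
  have hinj : Function.Injective (algebraMap B O) := IsLocalization.injective O hle
  set t := algebraMap B O q with ht
  have ht0 : t ≠ 0 := by
    intro h
    exact hq.ne_zero (hinj (by rw [map_zero]; exact h))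
  have htm : Ideal.span {t} = maximalIdeal O := by
    rw [← IsLocalization.AtPrime.map_eq_maximalIdeal P O, hP, Ideal.map_span, Set.image_singleton]
  have hcu : IsUnit (algebraMap B O c) := by
    apply IsLocalization.map_units O (⟨c, ?_⟩ : P.primeCompl)
    intro hmem
    have hmem' : c ∈ P := hmem
    rw [hP, Ideal.mem_span_singleton] at hmem'
    exact hc hmem'
  have hord1 : Ring.ord O t = 1 := by
    rw [Ring.ord, htm, Module.length_eq_one_iff, isSimpleModule_iff_isCoatom, ← Ideal.isMaximal_def]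
    infer_instance
  have hlen : Module.length O (O ⧸ Ideal.span {algebraMap B O ϖ}) = n := by
    change Ring.ord O (algebraMap B O ϖ) = n
    rw [hϖc, map_mul, map_pow, Ring.ord_mul_of_isUnit_right hcu,
      Ring.ord_pow (mem_nonZeroDivisors_of_ne_zero ht0), hord1]
    simp
  rw [hlen]
  simp only [ENat.toNat_natCast]
  refine ⟨⟨c, hϖc⟩, ?_⟩
  intro hd
  rw [hϖc, pow_succ] at hd
  exact hc ((mul_dvd_mul_iff_left (pow_ne_zero n hq.ne_zero)).mp hd)

/-- **Factorization of a principal ideal of a UFD along its minimal primes.** -/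
theorem span_eq_prod_pow {ι : Type*} [DecidableEq ι] (S : Finset ι) (P : ι → Ideal B) (m : ι → ℕ)
    {ϖ : B} (hϖ : ϖ ≠ 0)
    (h1 : ∀ i ∈ S, P i ∈ (Ideal.span {ϖ}).minimalPrimes)
    (h2 : ∀ Q ∈ (Ideal.span {ϖ}).minimalPrimes, ∃ i ∈ S, Q = P i)
    (h3 : ∀ i ∈ S, ∀ j ∈ S, i ≠ j → P i ≠ P j)
    (h4 : ∀ i ∈ S, ∀ q : B, Prime q → P i = Ideal.span {q} →
      q ^ m i ∣ ϖ ∧ ¬ q ^ (m i + 1) ∣ ϖ) :
    Ideal.span {ϖ} = ∏ i ∈ S, P i ^ m i := by
  classical
  have hex : ∀ i, ∃ q : B, i ∈ S → (Prime q ∧ q ∣ ϖ ∧ P i = Ideal.span {q}) := by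
    intro i
    by_cases hi : i ∈ S
    · obtain ⟨q, hq1, hq2, hq3⟩ := exists_prime_of_mem_minimalPrimes hϖ (h1 i hi)
      exact ⟨q, fun _ => ⟨hq1, hq2, hq3⟩⟩
    · exact ⟨0, fun h => (hi h).elim⟩
  choose q hq using hex
  have hassoc : Associated ϖ (∏ i ∈ S, q i ^ m i) := by
    apply associated_prod_pow S q m ϖ hϖ
    · intro i hi; exact (hq i hi).1
    · intro i hi; exact (h4 i hi (q i) (hq i hi).1 (hq i hi).2.2).1
    · intro i hi; exact (h4 i hi (q i) (hq i hi).1 (hq i hi).2.2).2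
    · intro i hi j hj hij hdvd
      apply h3 i hi j hj hij
      have hass : Associated (q i) (q j) :=
        (hq i hi).1.irreducible.associated_of_dvd (hq j hj).1.irreducible hdvd
      rw [(hq i hi).2.2, (hq j hj).2.2]
      exact Ideal.span_singleton_eq_span_singleton.mpr hass
    · intro p hp hpd
      obtain ⟨i, hi, hPi⟩ := h2 _ (span_mem_minimalPrimes_of_prime_dvd hϖ hp hpd)
      refine ⟨i, hi, ?_⟩
      rw [(hq i hi).2.2] at hPi
      exact Ideal.span_singleton_eq_span_singleton.mp hPi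
  rw [Ideal.span_singleton_eq_span_singleton.mpr hassoc, ← Ideal.prod_span_singleton]
  apply Finset.prod_congr rfl
  intro i hi
  rw [(hq i hi).2.2, Ideal.span_singleton_pow]

end Groth.Agent.Lib.Helper1.FibFact
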