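import Mathlib

/-!
# Spreading out a principal generator of `J A_𝔭` to a basic open neighbourhood (helper1)

(the spreading-out half of helper13's `CartierCompl.exists_away_principal`, with the principal generator at the
local ring as a hypothesis.)
-/

set_option autoImplicit false
universe u

namespace Groth.Agent.Lib.Helper1.FibFact

theorem exists_away_principal_of_map_eq_span {A : Type u} [CommRing A] [IsNoetherianRing A] (𝔭 : Ideal A)
    [𝔭.IsPrime] (R : Type u) [CommRing R] [Algebra A R] [IsLocalization.AtPrime R 𝔭] [IsDomain R]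
    (J : Ideal A) (g : R) (hg0 : g ≠ 0) (hg : J.map (algebraMap A R) = Ideal.span {g}) :
    ∃ (h : A) (a : A), h ∉ 𝔭 ∧ ∀ (S : Type u) [CommRing S] [Algebra A S]
      [IsLocalization.Away h S],
      J.map (algebraMap A S) = Ideal.span {algebraMap A S a} ∧
        algebraMap A S a ∈ nonZeroDivisors S := by
  classical
  set J' := J.map (algebraMap A R) with hJ'
  -- write `g = a / s` with `a ∈ J`
  have hgJ : g ∈ J' := by rw [hg]; exact Ideal.subset_span rfl
  obtain ⟨⟨⟨a, haJ⟩, s⟩, has⟩ := (IsLocalization.mem_map_algebraMap_iff 𝔭.primeCompl R).mp hgJ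
  simp only at has
  have hsu : IsUnit (algebraMap A R (s : A)) := IsLocalization.map_units R s
  have ha0 : algebraMap A R a ≠ 0 := by
    rw [← has]
    exact mul_ne_zero hg0 hsu.ne_zero
  have hspan : J' = Ideal.span {algebraMap A R a} := by
    rw [hg, ← has]
    exact (Ideal.span_singleton_mul_right_unit hsu g).symm
  -- generators of `J`
  obtain ⟨F, hF⟩ := (isNoetherianRing_iff_ideal_fg A).mp inferInstance J
  have hgen : ∀ j ∈ F, ∃ hj : A, hj ∉ 𝔭 ∧ hj * j ∈ Ideal.span {a} := by
    intro j hj
    have hjJ : j ∈ J := by rw [← hF]; exact Ideal.subset_span hj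
    have : algebraMap A R j ∈ Ideal.span {algebraMap A R a} := by
      rw [← hspan]; exact Ideal.mem_map_of_mem _ hjJ
    obtain ⟨r, hr⟩ := Ideal.mem_span_singleton'.mp this
    obtain ⟨b, t, rfl⟩ := IsLocalization.exists_mk'_eq 𝔭.primeCompl r
    have h1 : algebraMap A R (j * t) = algebraMap A R (b * a) := by
      rw [map_mul, map_mul, ← hr, mul_assoc, mul_comm _ (algebraMap A R (t : A)),
        ← mul_assoc, mul_comm _ (algebraMap A R (t : A)), IsLocalization.mk'_spec']
    obtain ⟨c, hc⟩ := (IsLocalization.eq_iff_exists 𝔭.primeCompl R).mp h1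
    refine ⟨c * t, fun h => (Ideal.IsPrime.mem_or_mem inferInstance h).elim c.2 t.2, ?_⟩
    rw [Ideal.mem_span_singleton']
    refine ⟨c * b, ?_⟩
    rw [mul_assoc, ← hc]
    ring
  choose! hh hhp hhJ using hgen
  -- annihilator of `a`
  set N : Ideal A := LinearMap.ker (LinearMap.toSpanSingleton A A a) with hN
  obtain ⟨G, hG⟩ := (isNoetherianRing_iff_ideal_fg A).mp inferInstance N
  have hann : ∀ n ∈ G, ∃ v : A, v ∉ 𝔭 ∧ v * n = 0 := by
    intro n hn
    have hnN : n ∈ N := by rw [← hG]; exact Ideal.subset_span hn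
    have hna : n * a = 0 := by
      have := LinearMap.mem_ker.mp hnN
      simpa [LinearMap.toSpanSingleton_apply] using this
    have h0 : algebraMap A R n = 0 := by
      have : algebraMap A R n * algebraMap A R a = 0 := by rw [← map_mul, hna, map_zero]
      exact (mul_eq_zero.mp this).resolve_right ha0
    obtain ⟨v, hv⟩ := (IsLocalization.map_eq_zero_iff 𝔭.primeCompl R n).mp h0
    exact ⟨v, v.2, hv⟩
  choose! vv hvp hvn using hann
  set h1 := ∏ j ∈ F, hh j with hh1
  set h2 := ∏ n ∈ G, vv n with hh2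
  have hh1p : h1 ∉ 𝔭 := by
    intro hmem
    obtain ⟨j, hj, hjp⟩ := (Ideal.IsPrime.prod_mem_iff (hp := inferInstance)).mp hmem
    exact hhp j hj hjp
  have hh2p : h2 ∉ 𝔭 := by
    intro hmem
    obtain ⟨n, hn, hnp⟩ := (Ideal.IsPrime.prod_mem_iff (hp := inferInstance)).mp hmem
    exact hvp n hn hnp
  have hh2N : ∀ n ∈ N, h2 * n = 0 := by
    intro n hn
    rw [← hG] at hn
    induction hn using Submodule.span_induction with
    | mem n hn =>
      obtain ⟨c, hc⟩ := Finset.dvd_prod_of_mem vv hn
      rw [hh2, hc, mul_comm (vv n) c, mul_assoc, hvn n hn, mul_zero]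
    | zero => simp
    | add x y _ _ hx hy => rw [mul_add, hx, hy, add_zero]
    | smul c x _ hx => rw [smul_eq_mul, mul_left_comm, hx, mul_zero]
  refine ⟨h1 * h2, a, fun h => (Ideal.IsPrime.mem_or_mem inferInstance h).elim hh1p hh2p, ?_⟩
  intro S _ _ _
  have hunit : ∀ c : A, c ∣ h1 * h2 → IsUnit (algebraMap A S c) := by
    intro c hc
    have hu : IsUnit (algebraMap A S (h1 * h2)) := IsLocalization.Away.algebraMap_isUnit _
    obtain ⟨d, hd⟩ := hc
    rw [hd, map_mul] at hu
    exact isUnit_of_mul_isUnit_left hu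
  constructor
  · apply le_antisymm
    · rw [← hF, Ideal.map_span, Ideal.span_le]
      rintro _ ⟨j, hj, rfl⟩
      have hu := hunit (hh j) ((Finset.dvd_prod_of_mem hh hj).mul_right h2)
      obtain ⟨c, hc⟩ := Ideal.mem_span_singleton'.mp (hhJ j hj)
      have : algebraMap A S (hh j) * algebraMap A S j ∈ Ideal.span {algebraMap A S a} := by
        rw [← map_mul, ← hc, map_mul]
        exact Ideal.mul_mem_left _ _ (Ideal.subset_span rfl)
      exact (Ideal.unit_mul_mem_iff_mem _ hu).mp this
    · rw [Ideal.span_le, Set.singleton_subset_iff]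
      exact Ideal.mem_map_of_mem _ haJ
  · rw [mem_nonZeroDivisors_iff_right]
    intro x hx
    obtain ⟨c, m, rfl⟩ := IsLocalization.exists_mk'_eq (Submonoid.powers (h1 * h2)) x
    have hc0 : algebraMap A S (c * a) = 0 := by
      have := congrArg (fun z => z * algebraMap A S (m : A)) hx
      simp only [zero_mul] at this
      rw [mul_right_comm, IsLocalization.mk'_spec] at this
      rw [map_mul]; exact this
    obtain ⟨⟨_, l, rfl⟩, hl⟩ := (IsLocalization.map_eq_zero_iff (Submonoid.powers (h1 * h2)) S _).mp hc0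
    simp only at hl
    have hmemN : (h1 * h2) ^ l * c ∈ N := by
      rw [hN, LinearMap.mem_ker, LinearMap.toSpanSingleton_apply, smul_eq_mul, mul_assoc]
      exact hl
    have hkill := hh2N _ hmemN
    have hc1 : algebraMap A S (h2 * ((h1 * h2) ^ l * c)) = 0 := by rw [hkill, map_zero]
    rw [map_mul, map_mul, map_pow] at hc1
    have hu1 := hunit h2 (Dvd.intro_left h1 rfl)
    have hu2 : IsUnit (algebraMap A S (h1 * h2) ^ l) :=
      (IsLocalization.Away.algebraMap_isUnit (h1 * h2)).pow l
    have hc2 : algebraMap A S c = 0 := by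
      have := (hu1.mul_right_eq_zero).mp hc1
      exact (hu2.mul_right_eq_zero).mp this
    rw [IsLocalization.mk'_eq_zero_iff]
    exact (IsLocalization.map_eq_zero_iff (Submonoid.powers (h1 * h2)) S c).mp hc2

end Groth.Agent.Lib.Helper1.FibFact
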