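import Mathlib
import Groth.Agent.Lib.Helper1.FibFact2

/-!
# Factorization of a divisor of a power of `ϖ` along the minimal primes over `ϖ` (helper1)
-/

set_option autoImplicit false

namespace Groth.Agent.Lib.Helper1.FibFact

variable {B : Type*} [CommRing B] [IsDomain B] [UniqueFactorizationMonoid B]

/-- **Factorization of a divisor `g` of `ϖ ^ k` along the minimal primes over `ϖ`.** -/
theorem span_eq_prod_pow_of_dvd_pow {ι : Type*} [DecidableEq ι] (S : Finset ι) (P : ι → Ideal B)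
    (c : ι → ℕ) {ϖ g : B} (hϖ : ϖ ≠ 0) (k : ℕ) (hg : g ∣ ϖ ^ k)
    (h1 : ∀ i ∈ S, P i ∈ (Ideal.span {ϖ}).minimalPrimes)
    (h2 : ∀ Q ∈ (Ideal.span {ϖ}).minimalPrimes, ∃ i ∈ S, Q = P i)
    (h3 : ∀ i ∈ S, ∀ j ∈ S, i ≠ j → P i ≠ P j)
    (h4 : ∀ i ∈ S, ∀ q : B, Prime q → P i = Ideal.span {q} →
      q ^ c i ∣ g ∧ ¬ q ^ (c i + 1) ∣ g) :
    Ideal.span {g} = ∏ i ∈ S, P i ^ c i := by
  classical
  have hg0 : g ≠ 0 := by
    rintro rfl
    exact pow_ne_zero k hϖ (zero_dvd_iff.mp hg)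
  have hex : ∀ i, ∃ q : B, i ∈ S → (Prime q ∧ q ∣ ϖ ∧ P i = Ideal.span {q}) := by
    intro i
    by_cases hi : i ∈ S
    · obtain ⟨q, hq1, hq2, hq3⟩ := exists_prime_of_mem_minimalPrimes hϖ (h1 i hi)
      exact ⟨q, fun _ => ⟨hq1, hq2, hq3⟩⟩
    · exact ⟨0, fun h => (hi h).elim⟩
  choose q hq using hex
  have hassoc : Associated g (∏ i ∈ S, q i ^ c i) := by
    apply associated_prod_pow S q c g hg0
    · intro i hi; exact (hq i hi).1
    · intro i hi; exact (h4 i hi (q i) (hq i hi).1 (hq i hi).2.2).1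
    · intro i hi; exact (h4 i hi (q i) (hq i hi).1 (hq i hi).2.2).2
    · intro i hi j hj hij hdvd
      apply h3 i hi j hj hij
      have hass : Associated (q i) (q j) :=
        (hq i hi).1.irreducible.associated_of_dvd (hq j hj).1.irreducible hdvd
      rw [(hq i hi).2.2, (hq j hj).2.2]
      exact Ideal.span_singleton_eq_span_singleton.mpr hass
    · intro p hp hpd
      have hpϖ : p ∣ ϖ := hp.dvd_of_dvd_pow (hpd.trans hg)
      obtain ⟨i, hi, hPi⟩ := h2 _ (span_mem_minimalPrimes_of_prime_dvd hϖ hp hpϖ)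
      refine ⟨i, hi, ?_⟩
      rw [(hq i hi).2.2] at hPi
      exact Ideal.span_singleton_eq_span_singleton.mp hPi
  rw [Ideal.span_singleton_eq_span_singleton.mpr hassoc, ← Ideal.prod_span_singleton]
  apply Finset.prod_congr rfl
  intro i hi
  rw [(hq i hi).2.2, Ideal.span_singleton_pow]

end Groth.Agent.Lib.Helper1.FibFact
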