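import Mathlib
import Groth.Agent.Lib.Helper13.StalkSpecLoc

/-!
# The ideal of an integral subscheme, affine-locally and at stalks (helper1)
-/

set_option autoImplicit false
universe u

open CategoryTheory AlgebraicGeometry TopologicalSpace IsLocalRing

namespace Groth.Agent.Lib.Helper1.FibGeom

open Groth.Agent.Lib.Helper13.StalkSpecLoc

variable {X Z : Scheme.{u}} (ι : Z ⟶ X) [IsIntegral Z] [QuasiCompact ι]

/-- a section over an affine open lies in the kernel ideal of an integral `Z → X` iff it vanishes at the image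
of the generic point. -/
theorem mem_ker_ideal_iff (U : X.affineOpens) (a : Γ(X, U.1)) :
    a ∈ ι.ker.ideal U ↔ ι (genericPoint Z) ∉ X.basicOpen a := by
  rw [Scheme.Hom.ker_apply, RingHom.mem_ker, ← AlgebraicGeometry.basicOpen_eq_bot_iff,
    ← Scheme.preimage_basicOpen]
  have hgen := genericPoint_spec Z
  constructor
  · intro h hmem
    have : genericPoint Z ∈ ι ⁻¹ᵁ X.basicOpen a := hmem
    rw [h] at this
    exact this
  · intro h
    by_contra hne
    apply h
    have hne' : ((ι ⁻¹ᵁ X.basicOpen a : Z.Opens) : Set Z).Nonempty := by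
      rw [Set.nonempty_iff_ne_empty]
      intro h0
      exact hne (Opens.ext h0)
    have := (hgen.mem_open_set_iff (ι ⁻¹ᵁ X.basicOpen a).2).mpr (by simpa using hne')
    exact this

/-- at a specialization `x` of the generic point, the kernel ideal is the contraction of `primeOf`. -/
theorem ker_ideal_eq_comap_primeOf (U : X.affineOpens) {x : X} (hx : x ∈ U.1)
    (h : ι (genericPoint Z) ⤳ x) :
    ι.ker.ideal U = (primeOf h).comap (X.presheaf.germ U.1 x hx).hom := by
  ext a
  have hξU : ι (genericPoint Z) ∈ U.1 := h.mem_open U.1.2 hx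
  rw [mem_ker_ideal_iff, Ideal.mem_comap, primeOf, Ideal.mem_comap, mem_maximalIdeal,
    mem_nonunits_iff, Scheme.mem_basicOpen X a _ hξU]
  have := TopCat.Presheaf.germ_stalkSpecializes_apply X.presheaf (U := U.1) (hy := hx) h a
  rw [← this]

/-- at a specialization `x` of the generic point, the kernel ideal generates `primeOf` in the stalk. -/
theorem map_ker_ideal_germ_of_specializes (U : X.affineOpens) {x : X} (hx : x ∈ U.1)
    (h : ι (genericPoint Z) ⤳ x) :
    (ι.ker.ideal U).map (X.presheaf.germ U.1 x hx).hom = primeOf h := by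
  rw [ker_ideal_eq_comap_primeOf ι U hx h]
  letI := X.presheaf.algebra_section_stalk (⟨x, hx⟩ : U.1)
  haveI := U.2.isLocalization_stalk ⟨x, hx⟩
  exact IsLocalization.map_under (U.2.primeIdealOf ⟨x, hx⟩).asIdeal.primeCompl
    (X.presheaf.stalk x) (primeOf h)

/-- away from the closure of the generic point, the kernel ideal generates the unit ideal in the stalk. -/
theorem map_ker_ideal_germ_of_not_specializes (U : X.affineOpens) {x : X} (hx : x ∈ U.1)
    (h : ¬ ι (genericPoint Z) ⤳ x) :
    (ι.ker.ideal U).map (X.presheaf.germ U.1 x hx).hom = ⊤ := by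
  set ξ := ι (genericPoint Z) with hξ
  have hxc : x ∉ closure ({ξ} : Set X) := fun hmem => h (specializes_iff_mem_closure.mpr hmem)
  let V : X.Opens := ⟨(closure ({ξ} : Set X))ᶜ, isClosed_closure.isOpen_compl⟩
  obtain ⟨f, hfV, hxf⟩ := U.2.exists_basicOpen_le (V := V) ⟨x, hxc⟩ hx
  have hξf : ξ ∉ X.basicOpen f := fun hmem => (hfV hmem) (subset_closure rfl)
  have hfker : f ∈ ι.ker.ideal U := (mem_ker_ideal_iff ι U f).mpr hξf
  have hu : IsUnit ((X.presheaf.germ U.1 x hx).hom f) := (Scheme.mem_basicOpen X f x hx).mp hxf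
  exact Ideal.eq_top_of_isUnit_mem _ (Ideal.mem_map_of_mem _ hfker) hu

end Groth.Agent.Lib.Helper1.FibGeom
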