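import Mathlib
import Groth.Agent.Lib.Helper13.StalkSpecLoc

/-!
# Minimal primes of the stalk over the ideal of a closed set, and irreducible components through the point (helper1)
-/

set_option autoImplicit false
universe u

open CategoryTheory AlgebraicGeometry TopologicalSpace IsLocalRing

namespace Groth.Agent.Lib.Helper1.FibGeom

open Groth.Agent.Lib.Helper13.StalkSpecLoc

/-- the image of an integral scheme under a closed immersion is the closure of the image of the generic point. -/
theorem range_eq_closure_genericPoint {X Z : Scheme.{u}} (ι : Z ⟶ X) [IsIntegral Z]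
    [IsClosedImmersion ι] :
    Set.range ι = closure {ι (genericPoint Z)} := by
  have h1 : IsGenericPoint (genericPoint Z) (⊤ : Set Z) := genericPoint_spec _
  have h2 := h1.image ι.continuous
  have h3 : closure (ι '' (⊤ : Set Z)) = Set.range ι := by
    rw [Set.top_eq_univ, Set.image_univ]
    exact ι.isClosedEmbedding.isClosed_range.closure_eq
  rw [h3] at h2
  exact h2.symm

variable {X : Scheme.{u}} (x : X) (F : Set X) (hFc : IsClosed F)
  (I : Ideal (X.presheaf.stalk x))
  (hF : ∀ a : Spec (X.presheaf.stalk x), (X.fromSpecStalk x) a ∈ F ↔ I ≤ a.asIdeal)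

theorem primeOf_injective {ζ ζ' : X} (h : ζ ⤳ x) (h' : ζ' ⤳ x) (he : primeOf h = primeOf h') :
    ζ = ζ' := by
  have h1 := fromSpecStalk_primeOf h
  have h2 := fromSpecStalk_primeOf h'
  rw [← h1, ← h2]
  congr 1
  exact PrimeSpectrum.ext he

theorem primeOf_le_iff {ζ ζ' : X} (h : ζ ⤳ x) (h' : ζ' ⤳ x) :
    primeOf h ≤ primeOf h' ↔ ζ ⤳ ζ' := by
  have h1 := fromSpecStalk_primeOf h
  have h2 := fromSpecStalk_primeOf h'
  have h3 : ζ ⤳ ζ' ↔ (X.fromSpecStalk x) (⟨primeOf h, inferInstance⟩ : PrimeSpectrum (X.presheaf.stalk x)) ⤳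
      (X.fromSpecStalk x) (⟨primeOf h', inferInstance⟩ : PrimeSpectrum (X.presheaf.stalk x)) := by
    rw [h1, h2]
  rw [h3, (X.fromSpecStalk x).isEmbedding.isInducing.specializes_iff]
  exact PrimeSpectrum.le_iff_specializes
    (⟨primeOf h, inferInstance⟩ : PrimeSpectrum (X.presheaf.stalk x)) ⟨primeOf h', inferInstance⟩

include hF in
theorem mem_iff_le_primeOf {ζ : X} (h : ζ ⤳ x) : ζ ∈ F ↔ I ≤ primeOf h := by
  have h1 := fromSpecStalk_primeOf h
  rw [← hF ⟨primeOf h, inferInstance⟩, h1]

include hFc hF in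
/-- a generization `ξ` of `x` whose closure is an irreducible component of `F` gives a minimal prime over `I`. -/
theorem primeOf_mem_minimalPrimes {ξ : X} (h : ξ ⤳ x)
    (hmax : Maximal (fun S : Set X => IsIrreducible S ∧ S ⊆ F) (closure {ξ})) :
    primeOf h ∈ I.minimalPrimes := by
  have hξF : ξ ∈ F := hmax.1.2 (subset_closure rfl)
  refine ⟨⟨inferInstance, (mem_iff_le_primeOf x F I hF h).mp hξF⟩, ?_⟩
  rintro Q ⟨hQp, hIQ⟩ hQle
  haveI := hQp
  obtain ⟨ζ, hζ, rfl⟩ := exists_primeOf_eq x Q
  have hζξ : ζ ⤳ ξ := (primeOf_le_iff x hζ h).mp hQle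
  have hζF : ζ ∈ F := (mem_iff_le_primeOf x F I hF hζ).mpr hIQ
  have h1 : closure ({ξ} : Set X) ≤ closure {ζ} := by
    apply closure_minimal _ isClosed_closure
    rw [Set.singleton_subset_iff]
    exact specializes_iff_mem_closure.mp hζξ
  have h2 : closure ({ζ} : Set X) ≤ closure {ξ} :=
    hmax.2 ⟨isIrreducible_singleton.closure,
      closure_minimal (Set.singleton_subset_iff.mpr hζF) hFc⟩ h1
  have h3 : ξ ⤳ ζ := specializes_iff_mem_closure.mpr (h2 (subset_closure rfl))
  exact (primeOf_le_iff x h hζ).mpr h3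

include hFc hF in
/-- a minimal prime over `I` gives an irreducible component of `F` through `x`. -/
theorem maximal_closure_of_mem_minimalPrimes {ζ : X} (h : ζ ⤳ x)
    (hmin : primeOf h ∈ I.minimalPrimes) :
    Maximal (fun S : Set X => IsIrreducible S ∧ S ⊆ F) (closure {ζ}) := by
  have hζF : ζ ∈ F := (mem_iff_le_primeOf x F I hF h).mpr hmin.1.2
  refine ⟨⟨isIrreducible_singleton.closure,
    closure_minimal (Set.singleton_subset_iff.mpr hζF) hFc⟩, ?_⟩
  rintro S ⟨hS, hSF⟩ hle
  have hTF : closure S ⊆ F := closure_minimal hSF hFc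
  have hgen := hS.isGenericPoint_genericPoint_closure
  set ξ := hS.genericPoint with hξdef
  have hcl : closure {ξ} = closure S := hgen
  have hξT : ξ ∈ closure S := by rw [← hcl]; exact subset_closure rfl
  have hζS : ζ ∈ closure {ξ} := by
    rw [hcl]; exact subset_closure (hle (subset_closure rfl))
  have h1 : ξ ⤳ ζ := specializes_iff_mem_closure.mpr hζS
  have hξx : ξ ⤳ x := h1.trans h
  have h2 : I ≤ primeOf hξx := (mem_iff_le_primeOf x F I hF hξx).mp (hTF hξT)
  have h3 : primeOf hξx ≤ primeOf h := (primeOf_le_iff x hξx h).mpr h1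
  have h4 : primeOf h ≤ primeOf hξx := hmin.2 ⟨inferInstance, h2⟩ h3
  have h5 : ζ ⤳ ξ := (primeOf_le_iff x h hξx).mp h4
  intro y hy
  have : y ∈ closure S := subset_closure hy
  rw [← hcl] at this
  exact closure_minimal (Set.singleton_subset_iff.mpr (specializes_iff_mem_closure.mp h5))
    isClosed_closure this

end Groth.Agent.Lib.Helper1.FibGeom
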