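import Mathlib
import Groth.Prelude.Def_ModelsG
import Groth.Agent.Lib.Helper29.IdealComap
import Groth.Agent.Lib.helper19.ArSec3

/-!
# The ideal of the special fibre on affine opens and at stalks (helper1)
-/

set_option autoImplicit false
universe u

open CategoryTheory AlgebraicGeometry TopologicalSpace IsLocalRing

namespace Groth.Agent.Lib.Helper1.FibGeom

variable (R : Type u) [CommRing R] [IsDomain R] [IsDiscreteValuationRing R]
  (X : Over (Spec (CommRingCat.of R)))

/-- the ring map `R → Γ(X, U)`. -/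
noncomputable def secHom (U : X.left.Opens) : R →+* Γ(X.left, U) :=
  (X.left.presheaf.map (homOfLE (le_top : U ≤ ⊤)).op).hom.comp (Coh.toGlobal X.hom)

omit [IsDomain R] [IsDiscreteValuationRing R] in
theorem germ_secHom (U : X.left.Opens) (x : X.left) (hx : x ∈ U) (r : R) :
    (X.left.presheaf.germ U x hx).hom (secHom R X U r) = Models.stalkHom R X x r := by
  unfold secHom Models.stalkHom
  simp only [RingHom.comp_apply]
  exact TopCat.Presheaf.germ_res_apply X.left.presheaf (homOfLE (le_top : U ≤ ⊤)) x hx _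

theorem specialFibreIdeal_ideal (U : X.left.affineOpens) :
    (Models.specialFibreIdeal R X).ideal U = Ideal.map (secHom R X U.1) (maximalIdeal R) := by
  unfold Models.specialFibreIdeal
  have e : U.1 ≤ X.hom ⁻¹ᵁ (⊤ : (Spec (CommRingCat.of R)).Opens) := fun _ _ => trivial
  rw [Groth.Agent.Lib.Helper29.EffCart.ideal_comap_eq_map _ X.hom
    ⟨⊤, isAffineOpen_top _⟩ U e]
  unfold Curv2.idealSheaf
  rw [Scheme.IdealSheafData.ofIdealTop_ideal, Ideal.map_map, Ideal.map_map]
  congr 1

omit [IsDomain R] [IsDiscreteValuationRing R] in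
theorem secHom_flat (hflat : Flat X.hom) (V : X.left.affineOpens) : (secHom R X V.1).Flat := by
  have e : V.1 ≤ X.hom ⁻¹ᵁ (⊤ : (Spec (CommRingCat.of R)).Opens) := fun _ _ => trivial
  have h1 : RingHom.Flat (X.hom.appLE ⊤ V.1 e).hom :=
    HasRingHomProperty.appLE @Flat X.hom hflat ⟨⊤, isAffineOpen_top _⟩ V e
  have h2 : RingHom.Flat (Scheme.ΓSpecIso (CommRingCat.of R)).inv.hom :=
    RingHom.Flat.of_bijective ((ConcreteCategory.isIso_iff_bijective _).1 inferInstance)
  exact h2.comp h1

/-- on a flat `X` over `Spec R`, nonzero elements of `R` stay nonzero in every stalk. -/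
theorem stalkHom_ne_zero (hflat : Flat X.hom) (x : X.left) {r : R} (hr : r ≠ 0) :
    Models.stalkHom R X x r ≠ 0 := by
  obtain ⟨_, ⟨(V : X.left.Opens), hV, rfl⟩, hxV, -⟩ :=
    X.left.isBasis_affineOpens.exists_subset_of_mem_open (Set.mem_univ x) isOpen_univ
  have hfl := secHom_flat R X hflat ⟨V, hV⟩
  letI := (secHom R X V).toAlgebra
  haveI : Module.Flat R Γ(X.left, V) := hfl
  have hreg : IsSMulRegular Γ(X.left, V) r :=
    Module.Flat.isSMulRegular_of_nonZeroDivisors (mem_nonZeroDivisors_of_ne_zero hr)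
  letI ax := X.left.presheaf.algebra_section_stalk (⟨x, hxV⟩ : V)
  haveI := hV.isLocalization_stalk ⟨x, hxV⟩
  rw [← germ_secHom R X V x hxV r]
  intro h0
  obtain ⟨m, hm⟩ := (IsLocalization.map_eq_zero_iff
    (hV.primeIdealOf ⟨x, hxV⟩).asIdeal.primeCompl (X.left.presheaf.stalk x) (secHom R X V r)).mp h0
  have h1 : r • (m : Γ(X.left, V)) = r • (0 : Γ(X.left, V)) := by
    rw [smul_zero, Algebra.smul_def, mul_comm]
    exact hm
  have h2 : (m : Γ(X.left, V)) = 0 := hreg h1
  exact m.2 (by rw [h2]; exact Ideal.zero_mem _)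

end Groth.Agent.Lib.Helper1.FibGeom
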