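import Mathlib
import Groth.Prelude.Def_ModelsG
import Groth.Agent.Lib.Helper1.FibFact2
import Groth.Agent.Lib.Helper1.FibGeom1
import Groth.Agent.Lib.Helper1.FibGeom2
import Groth.Agent.Lib.Helper1.FibGeom3
import Groth.Agent.Lib.helper11.RegularUFD

/-!
# The special fibre of a regular model is `Σ mᵢ Γᵢ`, stalkwise (helper1)
-/

set_option autoImplicit false
universe u

open CategoryTheory AlgebraicGeometry TopologicalSpace IsLocalRing

namespace Groth.Agent.Lib.Helper1.FibGeom

open Groth.Agent.Lib.Helper13.StalkSpecLoc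

variable (R : Type u) [CommRing R] [IsDomain R] [IsDiscreteValuationRing R]
  (X : Over (Spec (CommRingCat.of R)))

/-- the generic point of a vertical component. -/
theorem genPtOf_def (Γ : ArSurf.VertComp R X) :
    Models.genPtOf R X Γ = Γ.ι (genericPoint Γ.curve.left) := rfl

theorem range_eq_closure_genPtOf (Γ : ArSurf.VertComp R X) :
    Set.range (Γ.ι.base : Γ.curve.left → X.left) = closure {Models.genPtOf R X Γ} :=
  range_eq_closure_genericPoint Γ.ι

/-- the prime of `O_{X,x}` attached to the `i`-th component (`⊤` if it does not pass through `x`). -/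
noncomputable def compPrime (x : X.left) (Γ : ArSurf.VertComp R X) : Ideal (X.left.presheaf.stalk x) :=
  open Classical in
  if h : Models.genPtOf R X Γ ⤳ x then primeOf h else ⊤

theorem compPrime_of_specializes (x : X.left) (Γ : ArSurf.VertComp R X)
    (h : Models.genPtOf R X Γ ⤳ x) : compPrime R X x Γ = primeOf h := by
  unfold compPrime
  rw [dif_pos h]

theorem compPrime_of_not_specializes (x : X.left) (Γ : ArSurf.VertComp R X)
    (h : ¬ Models.genPtOf R X Γ ⤳ x) : compPrime R X x Γ = ⊤ := by
  unfold compPrime
  rw [dif_neg h]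

/-- the ideal of a vertical component generates `compPrime` in the stalk. -/
theorem map_ker_ideal_germ (Γ : ArSurf.VertComp R X) (U : X.left.affineOpens) (x : X.left)
    (hx : x ∈ U.1) :
    (Γ.ι.ker.ideal U).map (X.left.presheaf.germ U.1 x hx).hom = compPrime R X x Γ := by
  by_cases h : Models.genPtOf R X Γ ⤳ x
  · rw [compPrime_of_specializes R X x Γ h]
    exact map_ker_ideal_germ_of_specializes Γ.ι U hx h
  · rw [compPrime_of_not_specializes R X x Γ h]
    exact map_ker_ideal_germ_of_not_specializes Γ.ι U hx h

theorem map_stalkHom_maximalIdeal (x : X.left) {π : R} (hπ : Irreducible π) :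
    Ideal.map (Models.stalkHom R X x) (maximalIdeal R) = Ideal.span {Models.stalkHom R X x π} := by
  rw [hπ.maximalIdeal_eq, Ideal.map_span, Set.image_singleton]

theorem mem_fibreComponents (hn : ℕ) (Γ : Fin hn → ArSurf.VertComp R X)
    (hΓ : Models.IsComponentList R X Γ) (i : Fin hn) :
    Maximal (fun S : Set X.left => IsIrreducible S ∧ S ⊆ Models.specialFibreSet R X)
      (closure {Models.genPtOf R X (Γ i)}) := by
  have h1 : Set.range ((Γ i).ι.base : (Γ i).curve.left → X.left) ∈ Models.fibreComponents R X := by
    rw [← hΓ.2]; exact ⟨i, rfl⟩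
  rw [range_eq_closure_genPtOf] at h1
  exact h1

/-- **the local factorization**: in the (factorial) local ring at `x`, `𝔪_R O_{X,x} = ∏ 𝔭ᵢ ^ mᵢ`. -/
theorem map_stalkHom_eq_prod (hflat : Flat X.hom)
    (hreg : ∀ x : X.left, IsRegularLocalRing (X.left.presheaf.stalk x))
    {n : ℕ} (Γ : Fin n → ArSurf.VertComp R X) (hΓ : Models.IsComponentList R X Γ) (x : X.left) :
    Ideal.map (Models.stalkHom R X x) (maximalIdeal R) =
      ∏ i, compPrime R X x (Γ i) ^ Models.mult R X (Γ i) := by
  classical
  haveI := hreg x
  haveI : IsDomain (X.left.presheaf.stalk x) :=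
    Groth.Agent.Lib.helper19.isDomain_of_isRegularLocalRing _
  haveI : UniqueFactorizationMonoid (X.left.presheaf.stalk x) :=
    Groth.Agent.Lib.helper11.RegularUFD.ufd _
  obtain ⟨π, hπ⟩ := IsDiscreteValuationRing.exists_irreducible R
  set ϖ := Models.stalkHom R X x π with hϖdef
  have hϖ : ϖ ≠ 0 := stalkHom_ne_zero R X hflat x hπ.ne_zero
  have hI : Ideal.map (Models.stalkHom R X x) (maximalIdeal R) = Ideal.span {ϖ} :=
    map_stalkHom_maximalIdeal R X x hπ
  have hFc := Models.isClosed_specialFibreSet R X
  have hF : ∀ a : Spec (X.left.presheaf.stalk x),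
      (X.left.fromSpecStalk x) a ∈ Models.specialFibreSet R X ↔ Ideal.span {ϖ} ≤ a.asIdeal := by
    intro a
    rw [← hI]
    exact Groth.Agent.Lib.Helper19.ArSec1.mem_specialFibre_iff R X x a
  set S : Finset (Fin n) := Finset.univ.filter (fun i => Models.genPtOf R X (Γ i) ⤳ x) with hS
  have hmemS : ∀ i, i ∈ S ↔ Models.genPtOf R X (Γ i) ⤳ x := by
    intro i
    rw [hS, Finset.mem_filter]
    simp
  rw [hI]
  have key : Ideal.span {ϖ} = ∏ i ∈ S, compPrime R X x (Γ i) ^ Models.mult R X (Γ i) := by
    apply FibFact.span_eq_prod_pow S _ _ hϖ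
    · -- h1
      intro i hi
      have h := (hmemS i).mp hi
      rw [compPrime_of_specializes R X x (Γ i) h]
      exact primeOf_mem_minimalPrimes x _ hFc _ hF h (mem_fibreComponents R X n Γ hΓ i)
    · -- h2
      intro Q hQ
      haveI : Q.IsPrime := hQ.1.1
      obtain ⟨ζ, hζ, rfl⟩ := exists_primeOf_eq x Q
      have hmax := maximal_closure_of_mem_minimalPrimes x _ hFc _ hF hζ hQ
      have hmem : closure {ζ} ∈ Models.fibreComponents R X := hmax
      rw [← hΓ.2] at hmem
      obtain ⟨i, hi⟩ := hmem
      have hi' : Set.range ((Γ i).ι.base : (Γ i).curve.left → X.left) = closure {ζ} := hi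
      rw [range_eq_closure_genPtOf] at hi'
      have h1 : IsGenericPoint (Models.genPtOf R X (Γ i)) (closure {ζ}) := hi'
      have h2 : IsGenericPoint ζ (closure {ζ}) := rfl
      have h3 : Models.genPtOf R X (Γ i) = ζ := h1.eq h2
      have h4 : Models.genPtOf R X (Γ i) ⤳ x := h3 ▸ hζ
      refine ⟨i, (hmemS i).mpr h4, ?_⟩
      rw [compPrime_of_specializes R X x (Γ i) h4]
      congr 1
      exact h3.symm
    · -- h3
      intro i hi j hj hij he
      have h := (hmemS i).mp hi
      have h' := (hmemS j).mp hj
      rw [compPrime_of_specializes R X x (Γ i) h, compPrime_of_specializes R X x (Γ j) h'] at he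
      have h1 := primeOf_injective x h h' he
      apply hij
      apply hΓ.1
      change Set.range ((Γ i).ι.base : (Γ i).curve.left → X.left) =
        Set.range ((Γ j).ι.base : (Γ j).curve.left → X.left)
      rw [range_eq_closure_genPtOf, range_eq_closure_genPtOf, h1]
    · -- h4
      intro i hi q hq hP
      have h := (hmemS i).mp hi
      rw [compPrime_of_specializes R X x (Γ i) h] at hP
      letI := (X.left.presheaf.stalkSpecializes h).hom.toAlgebra
      haveI := isLocalization_stalkSpecializes h
      have hlen := FibFact.pow_dvd_and_not_of_length hϖ (primeOf h)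
        (X.left.presheaf.stalk (Models.genPtOf R X (Γ i))) hq hP
      have hm : Models.mult R X (Γ i) =
          (Module.length (X.left.presheaf.stalk (Models.genPtOf R X (Γ i)))
            (X.left.presheaf.stalk (Models.genPtOf R X (Γ i)) ⧸
              Ideal.span {algebraMap (X.left.presheaf.stalk x)
                (X.left.presheaf.stalk (Models.genPtOf R X (Γ i))) ϖ})).toNat := by
        unfold Models.mult
        rw [map_stalkHom_maximalIdeal R X _ hπ]
        have : Models.stalkHom R X (Models.genPtOf R X (Γ i)) π =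
            algebraMap (X.left.presheaf.stalk x)
              (X.left.presheaf.stalk (Models.genPtOf R X (Γ i))) ϖ :=
          (Groth.Agent.Lib.Helper19.ArSec3.stalkHom_specializes R X h π).symm
        rw [this]
      rw [hm]
      exact hlen
  rw [key]
  apply Finset.prod_subset (Finset.subset_univ S)
  intro i _ hi
  have h : ¬ Models.genPtOf R X (Γ i) ⤳ x := fun h => hi ((hmemS i).mpr h)
  rw [compPrime_of_not_specializes R X x (Γ i) h, ← Ideal.one_eq_top, one_pow]

end Groth.Agent.Lib.Helper1.FibGeom
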