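import Mathlib
import Groth.Prelude.Def_ModelsG
import Groth.Agent.Lib.Helper1.FibFact3
import Groth.Agent.Lib.Helper1.FibGeom4

/-!
# The special fibre of a regular model is `Σ mᵢ Γᵢ` (helper1)
-/

set_option autoImplicit false
universe u

open CategoryTheory AlgebraicGeometry TopologicalSpace IsLocalRing

namespace Groth.Agent.Lib.Helper1.FibGeom

open Groth.Agent.Lib.Helper13.StalkSpecLoc

theorem ideal_finset_prod {X : Scheme.{u}} {α : Type*} (s : Finset α) (I : α → X.IdealSheafData)
    (U : X.affineOpens) : (∏ i ∈ s, I i).ideal U = ∏ i ∈ s, (I i).ideal U := by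
  classical
  induction s using Finset.induction_on with
  | empty => simp [Ideal.one_eq_top]
  | insert j T hjT ih =>
    rw [Finset.prod_insert hjT, Finset.prod_insert hjT, ← ih]
    rfl

variable (R : Type u) [CommRing R] [IsDomain R] [IsDiscreteValuationRing R]
  (X : Over (Spec (CommRingCat.of R)))

/-- **The closed fibre of a regular model is `Σ mᵢ Γᵢ`.** -/
theorem specialFibreIdeal_eq_prod (hflat : Flat X.hom)
    (hreg : ∀ x : X.left, IsRegularLocalRing (X.left.presheaf.stalk x))
    {n : ℕ} (Γ : Fin n → ArSurf.VertComp R X) (hΓ : Models.IsComponentList R X Γ) :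
    Models.specialFibreIdeal R X = ∏ i, (Γ i).ι.ker ^ Models.mult R X (Γ i) := by
  apply Scheme.IdealSheafData.ext
  funext U
  rw [U.2.ideal_ext_iff]
  intro x hx
  rw [ideal_finset_prod, specialFibreIdeal_ideal, Ideal.map_map]
  have h1 : (X.left.presheaf.germ U.1 x hx).hom.comp (secHom R X U.1) = Models.stalkHom R X x :=
    RingHom.ext (germ_secHom R X U.1 x hx)
  rw [h1, map_stalkHom_eq_prod R X hflat hreg Γ hΓ x, ← Ideal.mapHom_apply, map_prod]
  apply Finset.prod_congr rfl
  intro i _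
  rw [Ideal.mapHom_apply]
  change _ = Ideal.map _ (((Γ i).ι.ker.ideal U) ^ Models.mult R X (Γ i))
  rw [Ideal.map_pow, map_ker_ideal_germ]

/-- in the stalk at `x`, the ideal of a vertical component is generated by one nonzero element. -/
theorem exists_compPrime_eq_span (hflat : Flat X.hom)
    (hreg : ∀ x : X.left, IsRegularLocalRing (X.left.presheaf.stalk x))
    {n : ℕ} (Γ : Fin n → ArSurf.VertComp R X) (hΓ : Models.IsComponentList R X Γ) (x : X.left)
    (i : Fin n) :
    ∃ g : X.left.presheaf.stalk x, g ≠ 0 ∧ compPrime R X x (Γ i) = Ideal.span {g} := by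
  haveI := hreg x
  haveI : IsDomain (X.left.presheaf.stalk x) :=
    Groth.Agent.Lib.helper19.isDomain_of_isRegularLocalRing _
  haveI : UniqueFactorizationMonoid (X.left.presheaf.stalk x) :=
    Groth.Agent.Lib.helper11.RegularUFD.ufd _
  by_cases h : Models.genPtOf R X (Γ i) ⤳ x
  · obtain ⟨π, hπ⟩ := IsDiscreteValuationRing.exists_irreducible R
    set ϖ := Models.stalkHom R X x π with hϖdef
    have hϖ : ϖ ≠ 0 := stalkHom_ne_zero R X hflat x hπ.ne_zero
    have hI : Ideal.map (Models.stalkHom R X x) (maximalIdeal R) = Ideal.span {ϖ} :=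
      map_stalkHom_maximalIdeal R X x hπ
    have hFc := Models.isClosed_specialFibreSet R X
    have hF : ∀ a : Spec (X.left.presheaf.stalk x),
        (X.left.fromSpecStalk x) a ∈ Models.specialFibreSet R X ↔ Ideal.span {ϖ} ≤ a.asIdeal := by
      intro a
      rw [← hI]
      exact Groth.Agent.Lib.Helper19.ArSec1.mem_specialFibre_iff R X x a
    have hmin := primeOf_mem_minimalPrimes x _ hFc _ hF h (mem_fibreComponents R X n Γ hΓ i)
    obtain ⟨q, hq, -, hPq⟩ := FibFact.exists_prime_of_mem_minimalPrimes hϖ hmin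
    exact ⟨q, hq.ne_zero, by rw [compPrime_of_specializes R X x (Γ i) h, hPq]⟩
  · exact ⟨1, one_ne_zero, by
      rw [compPrime_of_not_specializes R X x (Γ i) h, Ideal.span_singleton_one]⟩

/-- **Each component of the closed fibre of a regular model is an effective Cartier divisor.** -/
theorem isEffCartierIdeal_ker (hflat : Flat X.hom) (hft : LocallyOfFiniteType X.hom)
    (hreg : ∀ x : X.left, IsRegularLocalRing (X.left.presheaf.stalk x))
    {n : ℕ} (Γ : Fin n → ArSurf.VertComp R X) (hΓ : Models.IsComponentList R X Γ) (i : Fin n) :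
    BlowUp.IsEffCartierIdeal (Γ i).ι.ker := by
  intro x
  haveI : IsLocallyNoetherian X.left := LocallyOfFiniteType.isLocallyNoetherian X.hom
  obtain ⟨_, ⟨(V : X.left.Opens), hV, rfl⟩, hxV, -⟩ :=
    X.left.isBasis_affineOpens.exists_subset_of_mem_open (Set.mem_univ x) isOpen_univ
  haveI : IsNoetherianRing Γ(X.left, V) := IsLocallyNoetherian.component_noetherian ⟨V, hV⟩
  haveI := hreg x
  haveI : IsDomain (X.left.presheaf.stalk x) :=
    Groth.Agent.Lib.helper19.isDomain_of_isRegularLocalRing _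
  letI ax := X.left.presheaf.algebra_section_stalk (⟨x, hxV⟩ : V)
  haveI := hV.isLocalization_stalk ⟨x, hxV⟩
  obtain ⟨g, hg0, hg⟩ := exists_compPrime_eq_span R X hflat hreg Γ hΓ x i
  have hmap : ((Γ i).ι.ker.ideal ⟨V, hV⟩).map (algebraMap Γ(X.left, V) (X.left.presheaf.stalk x)) =
      Ideal.span {g} := by
    rw [← hg]
    exact map_ker_ideal_germ R X (Γ i) ⟨V, hV⟩ x hxV
  obtain ⟨h, a, hh, hS⟩ := FibFact.exists_away_principal_of_map_eq_span
    (hV.primeIdealOf ⟨x, hxV⟩).asIdeal (X.left.presheaf.stalk x)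
    ((Γ i).ι.ker.ideal ⟨V, hV⟩) g hg0 hmap
  have hxh : x ∈ X.left.basicOpen h := by
    rw [Scheme.mem_basicOpen X.left h x hxV]
    exact IsLocalization.map_units (X.left.presheaf.stalk x)
      (⟨h, hh⟩ : (hV.primeIdealOf ⟨x, hxV⟩).asIdeal.primeCompl)
  haveI := hV.isLocalization_basicOpen h
  obtain ⟨h1, h2⟩ := hS Γ(X.left, X.left.basicOpen h)
  refine ⟨X.left.affineBasicOpen (U := ⟨V, hV⟩) h, hxh,
    algebraMap Γ(X.left, V) Γ(X.left, X.left.basicOpen h) a, h2, ?_⟩
  exact ((Γ i).ι.ker.map_ideal_basicOpen ⟨V, hV⟩ h).symm.trans h1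

end Groth.Agent.Lib.Helper1.FibGeom
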