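import Groth.Agent.Lib.Helper1.FibGeom5
import Groth.Agent.Lib.Helper1.CartCl3

/-!
# The ideal module of the special fibre is trivial; classes of vertical divisors (helper1)
-/

set_option autoImplicit false
universe u

open CategoryTheory AlgebraicGeometry TopologicalSpace IsLocalRing

namespace Groth.Agent.Lib.Helper1.FibGeom

open Groth.Agent.Lib.Helper28.QCohLoc Groth.Agent.Lib.Helper8.PicCl Groth.Agent.Lib.Helper1.CartCl

attribute [local instance] Groth.Agent.Lib.Helper8.PicCl.commMonoid

variable (R : Type u) [CommRing R] [IsDomain R] [IsDiscreteValuationRing R]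
  (X : Over (Spec (CommRingCat.of R)))

theorem secHom_mem_nonZeroDivisors (hflat : Flat X.hom) (V : X.left.affineOpens) {r : R}
    (hr : r ≠ 0) : secHom R X V.1 r ∈ nonZeroDivisors Γ(X.left, V.1) := by
  have hfl := secHom_flat R X hflat V
  letI := (secHom R X V.1).toAlgebra
  haveI : Module.Flat R Γ(X.left, V.1) := hfl
  have hreg : IsSMulRegular Γ(X.left, V.1) r :=
    Module.Flat.isSMulRegular_of_nonZeroDivisors (mem_nonZeroDivisors_of_ne_zero hr)
  rw [mem_nonZeroDivisors_iff_right]
  intro s hs
  apply hreg
  show r • s = r • (0 : Γ(X.left, V.1))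
  rw [smul_zero, Algebra.smul_def, mul_comm]
  exact hs

omit [IsDomain R] [IsDiscreteValuationRing R] in
theorem resO_toGlobal (U : X.left.Opens) (r : R) :
    resO (le_top : U ≤ ⊤) (Coh.toGlobal X.hom r) = secHom R X U r := rfl

/-- the ideal module of the closed fibre of a flat `X` over a discrete valuation ring is trivial. -/
theorem cl_idealMod_specialFibreIdeal (hflat : Flat X.hom) :
    PicF.cl (ClSub.idealMod (Models.specialFibreIdeal R X)) = 1 := by
  obtain ⟨π, hπ⟩ := IsDiscreteValuationRing.exists_irreducible R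
  rw [one_def, cl_eq_iff]
  refine nonempty_idealMod_iso_of_principal _ (Coh.toGlobal X.hom π) fun U => ⟨?_, ?_⟩
  · rw [resO_toGlobal]
    exact secHom_mem_nonZeroDivisors R X hflat U hπ.ne_zero
  · rw [resO_toGlobal, specialFibreIdeal_ideal, hπ.maximalIdeal_eq, Ideal.map_span,
      Set.image_singleton]

end Groth.Agent.Lib.Helper1.FibGeom
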