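import Groth.Prelude.Def_ModelsG
import Groth.Agent.Lib.Helper1.FibGeom6
import Groth.Agent.Lib.Helper28.PullbackInv2
import Groth.Agent.Lib.Helper16.RS6

set_option autoImplicit false
universe u
open CategoryTheory CategoryTheory.Limits AlgebraicGeometry
open Models

namespace Groth.Agent.Lib.Helper1.FibGeom7

open Groth.Agent.Lib.Helper8.PicCl Groth.Agent.Lib.Helper1.CartCl Groth.Agent.Lib.Helper1.FibGeom

attribute [local instance] Groth.Agent.Lib.Helper8.PicCl.commMonoid

theorem order_dvd_gcd (R : Type u) [CommRing R] [IsDomain R] [IsDiscreteValuationRing R]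
    (X : Scheme.{u}) (p : X ⟶ Spec (CommRingCat.of R))
    (hflat : Flat p) (hft : LocallyOfFiniteType p) (hreg : Models.IsRegularScheme X)
    {n : ℕ} (Γ : Fin n → ArSurf.VertComp R (Over.mk p)) (hΓ : Models.IsComponentList R (Over.mk p) Γ)
    (L : X.Modules)
    (hL : ClSub.IsInverseOf L (ClSub.idealMod (∏ i, (Γ i).ι.ker ^ (Models.mult R (Over.mk p) (Γ i) / Models.multGcd R (Over.mk p) Γ)))) :
    Nonempty (CohB1.tensorPow L (Models.multGcd R (Over.mk p) Γ) ≅ Coh.structureModule X) ∧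
      Nonempty (CohB1.tensorPow ((Scheme.Modules.pullback
          (∏ i, (Γ i).ι.ker ^ (Models.mult R (Over.mk p) (Γ i) / Models.multGcd R (Over.mk p) Γ)).subschemeι).obj
          (ClSub.idealMod (∏ i, (Γ i).ι.ker ^ (Models.mult R (Over.mk p) (Γ i) / Models.multGcd R (Over.mk p) Γ))))
          (Models.multGcd R (Over.mk p) Γ) ≅
        Coh.structureModule (∏ i, (Γ i).ι.ker ^ (Models.mult R (Over.mk p) (Γ i) / Models.multGcd R (Over.mk p) Γ)).subscheme) := by
  set d := Models.multGcd R (Over.mk p) Γ with hd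
  set ID : X.IdealSheafData := ∏ i, (Γ i).ι.ker ^ (Models.mult R (Over.mk p) (Γ i) / d) with hID
  have hEC : ∀ i, BlowUp.IsEffCartierIdeal (Γ i).ι.ker := fun i =>
    isEffCartierIdeal_ker R (Over.mk p) hflat hft hreg Γ hΓ i
  have hIDc : BlowUp.IsEffCartierIdeal ID :=
    isEffCartierIdeal_prod _ _ fun i _ => isEffCartierIdeal_pow (hEC i) _
  have hinv : PicF.IsInvertible (ClSub.idealMod ID) :=
    Groth.Agent.Lib.Helper28.IdealDual.isInvertible_idealMod ID hIDc
  -- the `d`-th power of the class of `I_D` is trivial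
  have hpow : PicF.cl (ClSub.idealMod ID) ^ d = 1 := by
    by_cases hd0 : d = 0
    · rw [hd0, pow_zero]
    rw [← cl_idealMod_pow hIDc d]
    have h1 : ID ^ d = Models.specialFibreIdeal R (Over.mk p) := by
      rw [specialFibreIdeal_eq_prod R (Over.mk p) hflat hreg Γ hΓ, hID, ← Finset.prod_pow]
      apply Finset.prod_congr rfl
      intro i _
      rw [← pow_mul]
      congr 1
      apply Nat.div_mul_cancel
      exact Finset.gcd_dvd (Finset.mem_univ i)
    rw [h1]
    exact cl_idealMod_specialFibreIdeal R (Over.mk p) hflat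
  refine ⟨?_, ?_⟩
  · rw [← cl_eq_iff, ← one_def, cl_tensorPow]
    have h2 : PicF.cl L * PicF.cl (ClSub.idealMod ID) = 1 := (isInverseOf_iff _ _).mp hL
    calc PicF.cl L ^ d = PicF.cl L ^ d * PicF.cl (ClSub.idealMod ID) ^ d := by rw [hpow, mul_one]
      _ = (PicF.cl L * PicF.cl (ClSub.idealMod ID)) ^ d := (mul_pow _ _ _).symm
      _ = 1 := by rw [h2, one_pow]
  · obtain ⟨ψ, -⟩ := Groth.Agent.Lib.Helper28.PullbackInv.exists_pullback_tensorPow_iso ID.subschemeι hinv d
    have h3 : Nonempty (CohB1.tensorPow (ClSub.idealMod ID) d ≅ Coh.structureModule X) := by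
      rw [← cl_eq_iff, ← one_def, cl_tensorPow]
      exact hpow
    obtain ⟨e⟩ := h3
    exact ⟨ψ.symm ≪≫ (Scheme.Modules.pullback ID.subschemeι).mapIso e ≪≫
      Groth.Agent.Lib.Helper16.RS.pullbackUnitIso ID.subschemeι⟩

end Groth.Agent.Lib.Helper1.FibGeom7
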