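import Groth.Prelude.Def_ArtFun2
import Mathlib.Algebra.Group.MinimalAxioms

set_option autoImplicit false
universe u v

open CategoryTheory

namespace Groth.Agent.Lib.Helper1.TangentCons

open ArtFun ArtFun.Art

variable {Λ : Type u} {k : Type u} [CommRing Λ] [Field k] [Algebra Λ k]

section Obj

variable (Λ k)
variable (M : Type u) [AddCommGroup M] [Module k M] [Module kᵐᵒᵖ M] [SMulCommClass k kᵐᵒᵖ M]
  [IsCentralScalar k M] [Module Λ M] [IsScalarTower Λ k M] [IsScalarTower Λ kᵐᵒᵖ M]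
  [Module.Finite k M]

/-- The object `k ⊕ M`. -/
abbrev tz : Art Λ k :=
  { carrier := TrivSqZeroExt k M
    isLocalRing := isLocalRing_tsze k M
    isArtinianRing := isArtinianRing_tsze k M
    res := TrivSqZeroExt.fstHom Λ k M
    res_surjective := fun a => ⟨TrivSqZeroExt.inl a, rfl⟩ }

example : tz Λ k k = dual Λ k := rfl
example : tz Λ k (k × k) = dual2 Λ k := rfl

end Obj

section Mor

variable {M N P : Type u} [AddCommGroup M] [Module k M] [Module kᵐᵒᵖ M] [SMulCommClass k kᵐᵒᵖ M]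
  [IsCentralScalar k M] [Module Λ M] [IsScalarTower Λ k M] [IsScalarTower Λ kᵐᵒᵖ M]
  [Module.Finite k M]
  [AddCommGroup N] [Module k N] [Module kᵐᵒᵖ N] [SMulCommClass k kᵐᵒᵖ N]
  [IsCentralScalar k N] [Module Λ N] [IsScalarTower Λ k N] [IsScalarTower Λ kᵐᵒᵖ N]
  [Module.Finite k N]
  [AddCommGroup P] [Module k P] [Module kᵐᵒᵖ P] [SMulCommClass k kᵐᵒᵖ P]
  [IsCentralScalar k P] [Module Λ P] [IsScalarTower Λ k P] [IsScalarTower Λ kᵐᵒᵖ P]
  [Module.Finite k P]

/-- The morphism induced by a linear map. -/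
def tm (f : M →ₗ[k] N) : tz Λ k M ⟶ tz Λ k N := ⟨tszeMap f, AlgHom.ext fun _ => rfl⟩

lemma tm_comp (f : M →ₗ[k] N) (g : N →ₗ[k] P) :
    tm (Λ := Λ) f ≫ tm g = tm (g.comp f) := hom_ext (AlgHom.ext fun _ => rfl)

lemma tm_id : tm (Λ := Λ) (LinearMap.id : M →ₗ[k] M) = 𝟙 _ := hom_ext (AlgHom.ext fun _ => rfl)

example (c : k) : (tm (c • LinearMap.id) : dual Λ k ⟶ dual Λ k) = scale c := rfl
example : (tm (LinearMap.fst k k k) : dual2 Λ k ⟶ dual Λ k) = pr₁ := rfl
example : (tm (LinearMap.snd k k k) : dual2 Λ k ⟶ dual Λ k) = pr₂ := rfl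
example : (tm (LinearMap.fst k k k + LinearMap.snd k k k) : dual2 Λ k ⟶ dual Λ k) = plus := rfl

/-- The structure map `k → k ⊕ N`. -/
def ofBase (N : Type u) [AddCommGroup N] [Module k N] [Module kᵐᵒᵖ N] [SMulCommClass k kᵐᵒᵖ N]
    [IsCentralScalar k N] [Module Λ N] [IsScalarTower Λ k N] [IsScalarTower Λ kᵐᵒᵖ N]
    [Module.Finite k N] : base Λ k ⟶ tz Λ k N :=
  ⟨(Algebra.ofId k (TrivSqZeroExt k N)).restrictScalars Λ, AlgHom.ext fun _ => rfl⟩

example : (ofBase k : base Λ k ⟶ dual Λ k) = baseToDual := rfl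

lemma tm_zero : tm (Λ := Λ) (0 : M →ₗ[k] N) = toBase _ ≫ ofBase N := by
  apply hom_ext
  apply AlgHom.ext
  intro x
  refine TrivSqZeroExt.ext rfl ?_
  change (0 : N) = (algebraMap k (TrivSqZeroExt k N) x.fst).snd
  rw [TrivSqZeroExt.algebraMap_eq_inl, TrivSqZeroExt.snd_inl]

lemma ofBase_tm (f : M →ₗ[k] N) : ofBase (Λ := Λ) M ≫ tm f = ofBase N := by
  apply hom_ext
  apply AlgHom.ext
  intro x
  refine TrivSqZeroExt.ext rfl ?_
  change f (algebraMap k (TrivSqZeroExt k M) x).snd = (algebraMap k (TrivSqZeroExt k N) x).snd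
  rw [TrivSqZeroExt.algebraMap_eq_inl, TrivSqZeroExt.snd_inl, TrivSqZeroExt.algebraMap_eq_inl,
    TrivSqZeroExt.snd_inl, map_zero]

theorem isFibreProd_prod :
    IsFibreProd (tm (Λ := Λ) (LinearMap.fst k M N)) (tm (LinearMap.snd k M N)) (toBase _) (toBase _) where
  w := by rw [eq_toBase (tm _ ≫ toBase _), eq_toBase (tm _ ≫ toBase _)]
  inj b₁ b₂ h₁ h₂ := by
    have e₁ : b₁.fst = b₂.fst := by have e := congrArg TrivSqZeroExt.fst h₁; exact e
    have e₂ : b₁.snd.1 = b₂.snd.1 := by have e := congrArg TrivSqZeroExt.snd h₁; exact e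
    have e₃ : b₁.snd.2 = b₂.snd.2 := by have e := congrArg TrivSqZeroExt.snd h₂; exact e
    exact TrivSqZeroExt.ext e₁ (Prod.ext e₂ e₃)
  surj a' a'' h := by
    have h' : a'.fst = a''.fst := h
    exact ⟨(a'.fst, (a'.snd, a''.snd)), TrivSqZeroExt.ext rfl rfl, TrivSqZeroExt.ext h' rfl⟩

end Mor

section Fun

variable {F : Art Λ k ⥤ Type v}
variable (M : Type u) [AddCommGroup M] [Module k M] [Module kᵐᵒᵖ M] [SMulCommClass k kᵐᵒᵖ M]
  [IsCentralScalar k M] [Module Λ M] [IsScalarTower Λ k M] [IsScalarTower Λ kᵐᵒᵖ M]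
  [Module.Finite k M]

theorem pair_bijective (h0 : H0 F) (h2 : Heps F) :
    Function.Bijective (fun z : F.obj (tz Λ k (M × k)) =>
      (F.map (tm (LinearMap.fst k M k)) z, F.map (tm (LinearMap.snd k M k)) z)) := by
  have hb : Function.Bijective (cmp F (isFibreProd_prod (Λ := Λ) (M := M) (N := k))) :=
    h2 _ _ isFibreProd_prod
  haveI := h0.2
  constructor
  · intro z z' h
    apply hb.1
    apply Subtype.ext
    exact h
  · rintro ⟨x, y⟩
    obtain ⟨z, hz⟩ := hb.2 ⟨(x, y), Subsingleton.elim _ _⟩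
    exact ⟨z, congrArg Subtype.val hz⟩

/-- The element with given components. -/
noncomputable def pairInv (h0 : H0 F) (h2 : Heps F) (x : F.obj (tz Λ k M)) (y : F.obj (dual Λ k)) :
    F.obj (tz Λ k (M × k)) := ((pair_bijective M h0 h2).2 (x, y)).choose

lemma fst_pairInv (h0 : H0 F) (h2 : Heps F) (x : F.obj (tz Λ k M)) (y : F.obj (dual Λ k)) :
    F.map (tm (LinearMap.fst k M k)) (pairInv M h0 h2 x y) = x :=
  congrArg Prod.fst ((pair_bijective M h0 h2).2 (x, y)).choose_spec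

lemma snd_pairInv (h0 : H0 F) (h2 : Heps F) (x : F.obj (tz Λ k M)) (y : F.obj (dual Λ k)) :
    F.map (tm (LinearMap.snd k M k)) (pairInv M h0 h2 x y) = y :=
  congrArg Prod.snd ((pair_bijective M h0 h2).2 (x, y)).choose_spec

variable {M}

lemma pair_ext (h0 : H0 F) (h2 : Heps F) {z z' : F.obj (tz Λ k (M × k))}
    (h₁ : F.map (tm (LinearMap.fst k M k)) z = F.map (tm (LinearMap.fst k M k)) z')
    (h₂ : F.map (tm (LinearMap.snd k M k)) z = F.map (tm (LinearMap.snd k M k)) z') : z = z' :=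
  (pair_bijective M h0 h2).1 (Prod.ext h₁ h₂)

lemma map_tm_tm {N P : Type u} [AddCommGroup N] [Module k N] [Module kᵐᵒᵖ N] [SMulCommClass k kᵐᵒᵖ N]
    [IsCentralScalar k N] [Module Λ N] [IsScalarTower Λ k N] [IsScalarTower Λ kᵐᵒᵖ N]
    [Module.Finite k N]
    [AddCommGroup P] [Module k P] [Module kᵐᵒᵖ P] [SMulCommClass k kᵐᵒᵖ P]
    [IsCentralScalar k P] [Module Λ P] [IsScalarTower Λ k P] [IsScalarTower Λ kᵐᵒᵖ P]
    [Module.Finite k P] (f : M →ₗ[k] N) (g : N →ₗ[k] P) (x : F.obj (tz Λ k M)) :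
    F.map (tm g) (F.map (tm f) x) = F.map (tm (g.comp f)) x := by
  rw [← tm_comp, Functor.map_comp_apply]

/-- Addition on the tangent space. -/
noncomputable def tAdd (h0 : H0 F) (h2 : Heps F) (x y : F.obj (dual Λ k)) : F.obj (dual Λ k) :=
  F.map plus (pairInv k h0 h2 x y)

/-- Zero of the tangent space. -/
noncomputable def tZero (h0 : H0 F) : F.obj (dual Λ k) :=
  F.map baseToDual h0.1.some

/-- Scalar multiplication on the tangent space. -/
def tSmul (c : k) (x : F.obj (dual Λ k)) : F.obj (dual Λ k) := F.map (scale c) x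

theorem tAdd_tm (h0 : H0 F) (h2 : Heps F) (f g : M →ₗ[k] k) (x : F.obj (tz Λ k M)) :
    tAdd h0 h2 (F.map (tm f) x) (F.map (tm g) x) = F.map (tm (f + g)) x := by
  have hz : pairInv k h0 h2 (F.map (tm f) x) (F.map (tm g) x) = F.map (tm (f.prod g)) x := by
    apply pair_ext h0 h2
    · rw [fst_pairInv, map_tm_tm]
      rfl
    · rw [snd_pairInv, map_tm_tm]
      rfl
  unfold tAdd
  rw [hz]
  change F.map (tm (LinearMap.fst k k k + LinearMap.snd k k k)) _ = _
  rw [map_tm_tm]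
  congr 2

theorem tSmul_tm (c : k) (f : M →ₗ[k] k) (x : F.obj (tz Λ k M)) :
    tSmul c (F.map (tm f) x) = F.map (tm (c • f)) x := by
  unfold tSmul
  change F.map (tm (c • LinearMap.id)) _ = _
  rw [map_tm_tm]
  rfl

theorem tZero_eq (h0 : H0 F) (x : F.obj (tz Λ k M)) :
    tZero h0 = F.map (tm (0 : M →ₗ[k] k)) x := by
  haveI := h0.2
  rw [tm_zero, Functor.map_comp_apply]
  unfold tZero
  congr 1
  exact Subsingleton.elim _ _

end Fun

section Str

variable {F : Art Λ k ⥤ Type v} (h0 : H0 F) (h2 : Heps F)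

local notation "P₁" => LinearMap.comp (LinearMap.fst k k k) (LinearMap.fst k (k × k) k)
local notation "P₂" => LinearMap.comp (LinearMap.snd k k k) (LinearMap.fst k (k × k) k)
local notation "P₃" => LinearMap.snd k (k × k) k

include h0 h2

lemma exists_pair (x y : F.obj (dual Λ k)) : ∃ w : F.obj (dual2 Λ k),
    F.map (tm (LinearMap.fst k k k)) w = x ∧ F.map (tm (LinearMap.snd k k k)) w = y :=
  ⟨pairInv k h0 h2 x y, fst_pairInv k h0 h2 x y, snd_pairInv k h0 h2 x y⟩

lemma exists_triple (x y z : F.obj (dual Λ k)) : ∃ w : F.obj (tz Λ k ((k × k) × k)),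
    F.map (tm P₁) w = x ∧ F.map (tm P₂) w = y ∧ F.map (tm P₃) w = z := by
  refine ⟨pairInv (k × k) h0 h2 (pairInv k h0 h2 x y) z, ?_, ?_, ?_⟩
  · rw [← map_tm_tm, fst_pairInv, fst_pairInv]
  · rw [← map_tm_tm, fst_pairInv, snd_pairInv]
  · rw [snd_pairInv]

omit h0 h2 in
lemma map_tm_id (x : F.obj (dual Λ k)) : F.map (tm (LinearMap.id : k →ₗ[k] k)) x = x := by
  rw [tm_id]; exact Functor.map_id_apply F _ x

theorem tAdd_assoc (x y z : F.obj (dual Λ k)) :
    tAdd h0 h2 (tAdd h0 h2 x y) z = tAdd h0 h2 x (tAdd h0 h2 y z) := by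
  obtain ⟨w, rfl, rfl, rfl⟩ := exists_triple h0 h2 x y z
  rw [tAdd_tm, tAdd_tm, tAdd_tm, tAdd_tm, add_assoc]

theorem tAdd_comm (x y : F.obj (dual Λ k)) : tAdd h0 h2 x y = tAdd h0 h2 y x := by
  obtain ⟨w, rfl, rfl⟩ := exists_pair h0 h2 x y
  rw [tAdd_tm, tAdd_tm, add_comm]

theorem tZero_tAdd (x : F.obj (dual Λ k)) : tAdd h0 h2 (tZero h0) x = x := by
  conv_lhs => rw [tZero_eq h0 x]
  conv_lhs => arg 4; rw [← map_tm_id x]
  rw [tAdd_tm, zero_add, map_tm_id]

theorem tNeg_tAdd (x : F.obj (dual Λ k)) : tAdd h0 h2 (tSmul (-1) x) x = tZero h0 := by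
  have h1 : tSmul (-1 : k) x = F.map (tm ((-1 : k) • (LinearMap.id : k →ₗ[k] k))) x := rfl
  rw [h1]
  conv_lhs => arg 4; rw [← map_tm_id x]
  rw [tAdd_tm, tZero_eq h0 x]
  have e : ((-1 : k) • (LinearMap.id : k →ₗ[k] k) + LinearMap.id) = 0 := by
    ext; simp
  rw [e]

omit h0 h2 in
/-- The group structure on the tangent space. -/
@[reducible] noncomputable def addCommGroup (h0 : H0 F) (h2 : Heps F) : AddCommGroup (F.obj (dual Λ k)) :=
  letI : Add (F.obj (dual Λ k)) := ⟨tAdd h0 h2⟩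
  letI : Zero (F.obj (dual Λ k)) := ⟨tZero h0⟩
  letI : Neg (F.obj (dual Λ k)) := ⟨tSmul (-1)⟩
  letI : AddGroup (F.obj (dual Λ k)) :=
    AddGroup.ofLeftAxioms (tAdd_assoc h0 h2) (tZero_tAdd h0 h2) (tNeg_tAdd h0 h2)
  { add_comm := tAdd_comm h0 h2 }

omit h0 h2 in
/-- The module structure on the tangent space. -/
@[reducible] noncomputable def module (h0 : H0 F) (h2 : Heps F) : @Module k (F.obj (dual Λ k)) _ (addCommGroup h0 h2).toAddCommMonoid :=
  letI := addCommGroup h0 h2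
  { smul := tSmul
    one_smul := fun x => by
      change tSmul (1 : k) x = x
      have : tSmul (1 : k) x = F.map (tm ((1 : k) • (LinearMap.id : k →ₗ[k] k))) x := rfl
      rw [this, one_smul, map_tm_id]
    mul_smul := fun c d x => by
      change tSmul (c * d) x = tSmul c (tSmul d x)
      have e : ∀ (c : k) (y : F.obj (dual Λ k)),
          tSmul c y = F.map (tm (c • (LinearMap.id : k →ₗ[k] k))) y := fun _ _ => rfl
      rw [e d x, tSmul_tm, e (c * d) x, smul_smul]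
    smul_zero := fun c => by
      change tSmul c (tZero h0) = tZero h0
      rw [tZero_eq h0 (tZero h0), tSmul_tm, smul_zero]
    smul_add := fun c x y => by
      change tSmul c (tAdd h0 h2 x y) = tAdd h0 h2 (tSmul c x) (tSmul c y)
      obtain ⟨w, rfl, rfl⟩ := exists_pair h0 h2 x y
      rw [tAdd_tm, tSmul_tm, tSmul_tm, tSmul_tm, tAdd_tm, smul_add]
    add_smul := fun c d x => by
      change tSmul (c + d) x = tAdd h0 h2 (tSmul c x) (tSmul d x)
      have e : ∀ (c : k) (y : F.obj (dual Λ k)),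
          tSmul c y = F.map (tm (c • (LinearMap.id : k →ₗ[k] k))) y := fun _ _ => rfl
      rw [e c x, e d x, tAdd_tm, e (c + d) x, add_smul]
    zero_smul := fun x => by
      change tSmul (0 : k) x = tZero h0
      have : tSmul (0 : k) x = F.map (tm ((0 : k) • (LinearMap.id : k →ₗ[k] k))) x := rfl
      rw [this, zero_smul, ← tZero_eq] }

omit h0 h2 in
/-- The tangent structure. -/
@[reducible] noncomputable def tangentStr (h0 : H0 F) (h2 : Heps F) : TangentStr F where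
  addCommGroup := addCommGroup h0 h2
  module := module h0 h2
  smul_eq := fun _ _ => rfl
  add_eq := fun z => by
    change tAdd h0 h2 (F.map (tm (LinearMap.fst k k k)) z) (F.map (tm (LinearMap.snd k k k)) z) = _
    rw [tAdd_tm]
    rfl

end Str

end Groth.Agent.Lib.Helper1.TangentCons
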