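import Groth.Agent.Lib.Helper1.ArtFunGenProrep
import Groth.Agent.Lib.Helper1.ArtFunPS
import Groth.Agent.Lib.Helper1.ArtFunProrepUnique
import Groth.Agent.Lib.Helper1.TangentCons
import Groth.Agent.S12736

set_option autoImplicit false
universe u v

open CategoryTheory

namespace Groth.Agent.Lib.Helper1.FibHom

open ArtFun ArtFun.Art Groth.Agent.Lib.Helper1.ArtFunBasic Groth.Agent.Lib.Helper1.ArtFunCRing

variable {Λ : Type u} {k : Type u} [CommRing Λ] [Field k] [Algebra Λ k]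

section Functor

variable {R S₁ S₂ : Type u} [CommRing R] [Algebra Λ R] [CommRing S₁] [Algebra Λ S₁]
  [CommRing S₂] [Algebra Λ S₂] (res₁ : S₁ →ₐ[Λ] k) (res₂ : S₂ →ₐ[Λ] k)
  (f₁ : R →ₐ[Λ] S₁) (f₂ : R →ₐ[Λ] S₂)

/-- Values of the fibre product functor. -/
def FibObj (A : Art Λ k) : Type u :=
  {g : HomSet S₁ res₁ A × HomSet S₂ res₂ A // g.1.1.comp f₁ = g.2.1.comp f₂}

variable {res₁ res₂ f₁ f₂} in
/-- Functoriality. -/
def FibObj.map {A B : Art Λ k} (f : A ⟶ B) (g : FibObj res₁ res₂ f₁ f₂ A) :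
    FibObj res₁ res₂ f₁ f₂ B :=
  ⟨(HomSet.map f g.1.1, HomSet.map f g.1.2), by
    change (f.toAlgHom.comp g.1.1.1).comp f₁ = (f.toAlgHom.comp g.1.2.1).comp f₂
    rw [AlgHom.comp_assoc, AlgHom.comp_assoc, g.2]⟩

/-- The fibre product functor `h_{S₁} ×_{h_R} h_{S₂}`. -/
def fibF : Art Λ k ⥤ Type u where
  obj A := FibObj res₁ res₂ f₁ f₂ A
  map {A B} f := ↾fun (g : FibObj res₁ res₂ f₁ f₂ A) => (FibObj.map f g : FibObj res₁ res₂ f₁ f₂ B)
  map_id A := ConcreteCategory.hom_ext _ _ fun g =>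
    show FibObj.map (𝟙 A) g = g from Subtype.ext (Prod.ext (Subtype.ext (AlgHom.ext fun _ => rfl))
      (Subtype.ext (AlgHom.ext fun _ => rfl)))
  map_comp f g := ConcreteCategory.hom_ext _ _ fun φ =>
    show FibObj.map (f ≫ g) φ = FibObj.map g (FibObj.map f φ) from
      Subtype.ext (Prod.ext (Subtype.ext (AlgHom.ext fun _ => rfl))
      (Subtype.ext (AlgHom.ext fun _ => rfl)))

/-- First projection. -/
def proj₁ : fibF res₁ res₂ f₁ f₂ ⟶ hR S₁ res₁ where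
  app A := ↾fun (g : FibObj res₁ res₂ f₁ f₂ A) => (g.1.1 : HomSet S₁ res₁ A)
  naturality A B f := ConcreteCategory.hom_ext _ _ fun _ => rfl

/-- Second projection. -/
def proj₂ : fibF res₁ res₂ f₁ f₂ ⟶ hR S₂ res₂ where
  app A := ↾fun (g : FibObj res₁ res₂ f₁ f₂ A) => (g.1.2 : HomSet S₂ res₂ A)
  naturality A B f := ConcreteCategory.hom_ext _ _ fun _ => rfl

end Functor

section Conditions

variable [IsNoetherianRing Λ] [Module.Finite Λ k]
variable {R S₁ S₂ : Type u} [CommRing R] [Algebra Λ R] [CommRing S₁] [Algebra Λ S₁]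
  [CommRing S₂] [Algebra Λ S₂] (res₁ : S₁ →ₐ[Λ] k) (res₂ : S₂ →ₐ[Λ] k)
  (f₁ : R →ₐ[Λ] S₁) (f₂ : R →ₐ[Λ] S₂)

open Groth.Agent.Lib.Helper1.ArtFunAction Groth.Agent.Lib.Helper1.ArtFunPS

omit [IsNoetherianRing Λ] [Module.Finite Λ k] in
lemma fibObj_ext {A : Art Λ k} {g g' : FibObj res₁ res₂ f₁ f₂ A} (h₁ : g.1.1 = g'.1.1)
    (h₂ : g.1.2 = g'.1.2) : g = g' := Subtype.ext (Prod.ext h₁ h₂)

theorem rs_fibF : RS (fibF res₁ res₂ f₁ f₂) := by
  intro B A A' A'' p' p'' f' f'' h hs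
  have hb₁ := rs_hR res₁ p' p'' f' f'' h hs
  have hb₂ := rs_hR res₂ p' p'' f' f'' h hs
  constructor
  · intro z z' hz
    have e₁ : FibObj.map p' z = FibObj.map p' z' := congrArg (fun t => t.1.1) hz
    have e₂ : FibObj.map p'' z = FibObj.map p'' z' := congrArg (fun t => t.1.2) hz
    apply fibObj_ext
    · apply hb₁.1
      apply Subtype.ext
      exact Prod.ext (congrArg (fun t => t.1.1) e₁) (congrArg (fun t => t.1.1) e₂)
    · apply hb₂.1
      apply Subtype.ext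
      exact Prod.ext (congrArg (fun t => t.1.2) e₁) (congrArg (fun t => t.1.2) e₂)
  · rintro ⟨⟨a', a''⟩, ha⟩
    have ha' : FibObj.map f' a' = FibObj.map f'' a'' := ha
    obtain ⟨b₁, hb₁'⟩ := hb₁.2 ⟨(a'.1.1, a''.1.1), congrArg (fun t => t.1.1) ha'⟩
    obtain ⟨b₂, hb₂'⟩ := hb₂.2 ⟨(a'.1.2, a''.1.2), congrArg (fun t => t.1.2) ha'⟩
    have h1' : HomSet.map p' b₁ = a'.1.1 := congrArg (fun t => t.1.1) hb₁'
    have h1'' : HomSet.map p'' b₁ = a''.1.1 := congrArg (fun t => t.1.2) hb₁'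
    have h2' : HomSet.map p' b₂ = a'.1.2 := congrArg (fun t => t.1.1) hb₂'
    have h2'' : HomSet.map p'' b₂ = a''.1.2 := congrArg (fun t => t.1.2) hb₂'
    have hcomp : b₁.1.comp f₁ = b₂.1.comp f₂ := by
      apply AlgHom.ext
      intro r
      apply h.inj
      · have e1 : p' (b₁.1 (f₁ r)) = (a'.1.1.1.comp f₁) r :=
          congrArg (fun t : HomSet S₁ res₁ A' => t.1 (f₁ r)) h1'
        have e2 : p' (b₂.1 (f₂ r)) = (a'.1.2.1.comp f₂) r :=
          congrArg (fun t : HomSet S₂ res₂ A' => t.1 (f₂ r)) h2'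
        change p' (b₁.1 (f₁ r)) = p' (b₂.1 (f₂ r))
        rw [e1, e2, a'.2]
      · have e1 : p'' (b₁.1 (f₁ r)) = (a''.1.1.1.comp f₁) r :=
          congrArg (fun t : HomSet S₁ res₁ A'' => t.1 (f₁ r)) h1''
        have e2 : p'' (b₂.1 (f₂ r)) = (a''.1.2.1.comp f₂) r :=
          congrArg (fun t : HomSet S₂ res₂ A'' => t.1 (f₂ r)) h2''
        change p'' (b₁.1 (f₁ r)) = p'' (b₂.1 (f₂ r))
        rw [e1, e2, a''.2]
    refine ⟨⟨(b₁, b₂), hcomp⟩, ?_⟩
    apply Subtype.ext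
    apply Prod.ext
    · exact fibObj_ext _ _ _ _ h1' h2'
    · exact fibObj_ext _ _ _ _ h1'' h2''

theorem h0_fibF (hf : res₁.comp f₁ = res₂.comp f₂) : H0 (fibF res₁ res₂ f₁ f₂) := by
  haveI : Subsingleton (HomSet S₁ res₁ (base Λ k)) := (h0_hR res₁).2
  haveI : Subsingleton (HomSet S₂ res₂ (base Λ k)) := (h0_hR res₂).2
  let x₁ : HomSet S₁ res₁ (base Λ k) := ⟨res₁, AlgHom.id_comp _⟩
  let x₂ : HomSet S₂ res₂ (base Λ k) := ⟨res₂, AlgHom.id_comp _⟩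
  refine ⟨⟨⟨(x₁, x₂), hf⟩⟩, ⟨fun a b => ?_⟩⟩
  exact fibObj_ext _ _ _ _ (Subsingleton.elim _ _) (Subsingleton.elim _ _)

omit [IsNoetherianRing Λ] [Module.Finite Λ k] in
theorem hc_fibF (hs : Function.Surjective res₁) (x₀ : (fibF res₁ res₂ f₁ f₂).obj (base Λ k)) :
    Function.Injective (fun σ : base Λ k ⟶ dual Λ k => (fibF res₁ res₂ f₁ f₂).map σ x₀) := by
  intro σ σ' h
  have h' : FibObj.map σ x₀ = FibObj.map σ' x₀ := h
  have h1 : HomSet.map σ x₀.1.1 = HomSet.map σ' x₀.1.1 := congrArg (fun t => t.1.1) h'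
  have e1 : x₀.1.1.1 = res₁ := x₀.1.1.2
  apply hom_ext
  apply AlgHom.ext
  intro c
  obtain ⟨s, rfl⟩ := hs c
  have := congrArg (fun t : HomSet S₁ res₁ (dual Λ k) => t.1 s) h1
  change σ.toAlgHom (x₀.1.1.1 s) = σ'.toAlgHom (x₀.1.1.1 s) at this
  rw [e1] at this
  exact this

end Conditions

section Fin

variable [IsNoetherianRing Λ] [Module.Finite Λ k]
variable {R : Type u} [CommRing R] [Algebra Λ R] (S₁ S₂ : CRing Λ k)
  (f₁ : R →ₐ[Λ] S₁.carrier) (f₂ : R →ₐ[Λ] S₂.carrier)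

open Groth.Agent.Lib.Helper1.ArtFunAction Groth.Agent.Lib.Helper1.ArtFunPS
  Groth.Agent.Lib.Helper1.TangentCons

lemma heps_of_rs {F : Art Λ k ⥤ Type v} (hF : RS F) : Heps F :=
  fun _ _ p' p'' h => hF p' p'' _ _ h (dual Λ k).res_surjective

theorem hfin_fibF (hf : S₁.res.comp f₁ = S₂.res.comp f₂) :
    @Hfin Λ k _ _ _ (fibF S₁.res S₂.res f₁ f₂)
      (tangentStr (h0_fibF S₁.res S₂.res f₁ f₂ hf) (heps_of_rs (rs_fibF S₁.res S₂.res f₁ f₂))) := by
  letI T : TangentStr (fibF S₁.res S₂.res f₁ f₂) :=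
    tangentStr (h0_fibF S₁.res S₂.res f₁ f₂ hf) (heps_of_rs (rs_fibF S₁.res S₂.res f₁ f₂))
  letI T₁ : TangentStr (hR S₁.carrier S₁.res) :=
    tangentStr (h0_hR S₁.res) (heps_of_rs (rs_hR S₁.res))
  letI T₂ : TangentStr (hR S₂.carrier S₂.res) :=
    tangentStr (h0_hR S₂.res) (heps_of_rs (rs_hR S₂.res))
  have hfin₁ : Hfin (hR S₁.carrier S₁.res) :=
    Groth.Agent.Lib.Helper1.ArtFunSchlessinger.hfin_of_isProrepresentable
      ⟨⟨S₁, Family.self _ _, isUniversal_self S₁.res⟩⟩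
  have hfin₂ : Hfin (hR S₂.carrier S₂.res) :=
    Groth.Agent.Lib.Helper1.ArtFunSchlessinger.hfin_of_isProrepresentable
      ⟨⟨S₂, Family.self _ _, isUniversal_self S₂.res⟩⟩
  haveI : Module.Finite k (TangentSpace (hR S₁.carrier S₁.res)) := hfin₁
  haveI : Module.Finite k (TangentSpace (hR S₂.carrier S₂.res)) := hfin₂
  obtain ⟨L₁, hL₁⟩ := Groth.Agent.S12736.result (h0_fibF S₁.res S₂.res f₁ f₂ hf)
    (heps_of_rs (rs_fibF S₁.res S₂.res f₁ f₂)) (h0_hR S₁.res) (heps_of_rs (rs_hR S₁.res))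
    (proj₁ S₁.res S₂.res f₁ f₂)
  obtain ⟨L₂, hL₂⟩ := Groth.Agent.S12736.result (h0_fibF S₁.res S₂.res f₁ f₂ hf)
    (heps_of_rs (rs_fibF S₁.res S₂.res f₁ f₂)) (h0_hR S₂.res) (heps_of_rs (rs_hR S₂.res))
    (proj₂ S₁.res S₂.res f₁ f₂)
  have hinj : Function.Injective (L₁.prod L₂) := by
    intro x y hxy
    have h1 : L₁ x = L₁ y := congrArg Prod.fst hxy
    have h2 : L₂ x = L₂ y := congrArg Prod.snd hxy
    rw [hL₁] at h1
    rw [hL₂] at h2
    exact fibObj_ext _ _ _ _ h1 h2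
  exact Module.Finite.of_injective (L₁.prod L₂) hinj

end Fin

section Main

variable [IsNoetherianRing Λ] [Module.Finite Λ k]
variable {R : Type u} [CommRing R] [Algebra Λ R] (S₁ S₂ : CRing Λ k)
  (f₁ : R →ₐ[Λ] S₁.carrier) (f₂ : R →ₐ[Λ] S₂.carrier)

open Groth.Agent.Lib.Helper1.ArtFunAction Groth.Agent.Lib.Helper1.ArtFunPS
  Groth.Agent.Lib.Helper1.TangentCons Groth.Agent.Lib.Helper1.ArtFunProrepUnique

theorem isProrepresentable_fibF (hf : S₁.res.comp f₁ = S₂.res.comp f₂) :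
    IsProrepresentable (fibF S₁.res S₂.res f₁ f₂) := by
  letI T : TangentStr (fibF S₁.res S₂.res f₁ f₂) :=
    tangentStr (h0_fibF S₁.res S₂.res f₁ f₂ hf) (heps_of_rs (rs_fibF S₁.res S₂.res f₁ f₂))
  exact Groth.Agent.Lib.Helper1.ArtFunGenProrep.isProrepresentable_of_rs
    (h0_fibF S₁.res S₂.res f₁ f₂ hf) (rs_fibF S₁.res S₂.res f₁ f₂) (hfin_fibF S₁ S₂ f₁ f₂ hf)
    (hc_fibF S₁.res S₂.res f₁ f₂ S₁.res_surjective)

/-- The family over `P` defined by a compatible pair of maps. -/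
def pairFamily (P : CRing Λ k) (i₁ : S₁.carrier →ₐ[Λ] P.carrier) (i₂ : S₂.carrier →ₐ[Λ] P.carrier)
    (h₁ : P.res.comp i₁ = S₁.res) (h₂ : P.res.comp i₂ = S₂.res) (hc : i₁.comp f₁ = i₂.comp f₂) :
    Family P.carrier P.res (fibF S₁.res S₂.res f₁ f₂) where
  app A φ := ⟨(⟨φ.1.comp i₁, by rw [← AlgHom.comp_assoc, φ.2, h₁]⟩,
      ⟨φ.1.comp i₂, by rw [← AlgHom.comp_assoc, φ.2, h₂]⟩), by
    change (φ.1.comp i₁).comp f₁ = (φ.1.comp i₂).comp f₂
    rw [AlgHom.comp_assoc, AlgHom.comp_assoc, hc]⟩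
  natural f φ := fibObj_ext _ _ _ _ (Subtype.ext (AlgHom.ext fun _ => rfl))
    (Subtype.ext (AlgHom.ext fun _ => rfl))

theorem exists_pushout (hf : S₁.res.comp f₁ = S₂.res.comp f₂) :
    ∃ (P : CRing Λ k) (i₁ : S₁.carrier →ₐ[Λ] P.carrier) (i₂ : S₂.carrier →ₐ[Λ] P.carrier),
      P.res.comp i₁ = S₁.res ∧ P.res.comp i₂ = S₂.res ∧ i₁.comp f₁ = i₂.comp f₂ ∧
      ∀ (T : CRing Λ k) (g₁ : S₁.carrier →ₐ[Λ] T.carrier) (g₂ : S₂.carrier →ₐ[Λ] T.carrier),
        T.res.comp g₁ = S₁.res → T.res.comp g₂ = S₂.res → g₁.comp f₁ = g₂.comp f₂ →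
          ∃! h : P.carrier →ₐ[Λ] T.carrier,
            T.res.comp h = P.res ∧ h.comp i₁ = g₁ ∧ h.comp i₂ = g₂ := by
  obtain ⟨⟨P, ξ, hξ⟩⟩ := isProrepresentable_fibF S₁ S₂ f₁ f₂ hf
  -- the universal pair
  let u : ∀ n, FibObj S₁.res S₂.res f₁ f₂ (P.trunc n) := fun n => ξ.app _ (P.truncHom n)
  have hu : ∀ n, FibObj.map (P.truncMap n) (u (n + 1)) = u n := by
    intro n
    have := ξ.natural (P.truncMap n) (P.truncHom (n + 1))
    rw [CRing.truncMap_truncHom] at this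
    exact this.symm
  obtain ⟨i₁, hi₁, hi₁'⟩ := exists_lift_of_compat P (fun n => (u n).1.1)
    (fun n => congrArg (fun t => t.1.1) (hu n))
  obtain ⟨i₂, hi₂, hi₂'⟩ := exists_lift_of_compat P (fun n => (u n).1.2)
    (fun n => congrArg (fun t => t.1.2) (hu n))
  have hcomp : i₁.comp f₁ = i₂.comp f₂ := by
    apply algHom_ext_trunc P
    intro n
    rw [← AlgHom.comp_assoc, ← AlgHom.comp_assoc, hi₁', hi₂']
    exact (u n).2
  let ζ := pairFamily S₁ S₂ f₁ f₂ P i₁ i₂ hi₁ hi₂ hcomp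
  have hζ : ∀ (A : Art Λ k) (φ : HomSet P.carrier P.res A), ζ.app A φ = ξ.app A φ := by
    apply family_app_eq_of_toFormalElt_eq
    apply FormalElt.ext'
    intro n
    change ζ.app _ (P.truncHom n) = u n
    exact fibObj_ext _ _ _ _ (Subtype.ext (hi₁' n)) (Subtype.ext (hi₂' n))
  refine ⟨P, i₁, i₂, hi₁, hi₂, hcomp, ?_⟩
  intro T g₁ g₂ hg₁ hg₂ hg
  -- the compatible system of maps
  let v : ∀ n, FibObj S₁.res S₂.res f₁ f₂ (T.trunc n) := fun n =>
    ⟨(⟨(T.truncHom n).1.comp g₁, by rw [← AlgHom.comp_assoc, (T.truncHom n).2, hg₁]⟩,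
      ⟨(T.truncHom n).1.comp g₂, by rw [← AlgHom.comp_assoc, (T.truncHom n).2, hg₂]⟩), by
      change ((T.truncHom n).1.comp g₁).comp f₁ = ((T.truncHom n).1.comp g₂).comp f₂
      rw [AlgHom.comp_assoc, AlgHom.comp_assoc, hg]⟩
  have hv : ∀ n, FibObj.map (T.truncMap n) (v (n + 1)) = v n := by
    intro n
    have e := CRing.truncMap_truncHom T n
    have e' : (T.truncMap n).toAlgHom.comp (T.truncHom (n + 1)).1 = (T.truncHom n).1 :=
      congrArg Subtype.val e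
    apply fibObj_ext
    · apply Subtype.ext
      change (T.truncMap n).toAlgHom.comp ((T.truncHom (n + 1)).1.comp g₁) = (T.truncHom n).1.comp g₁
      rw [← AlgHom.comp_assoc, e']
    · apply Subtype.ext
      change (T.truncMap n).toAlgHom.comp ((T.truncHom (n + 1)).1.comp g₂) = (T.truncHom n).1.comp g₂
      rw [← AlgHom.comp_assoc, e']
  have hex : ∀ n, ∃ h : HomSet P.carrier P.res (T.trunc n), ξ.app _ h = v n := fun n => (hξ _).2 (v n)
  choose hn hhn using hex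
  have hcompat : ∀ n, HomSet.map (T.truncMap n) (hn (n + 1)) = hn n := by
    intro n
    apply (hξ _).1
    rw [ξ.natural, hhn, hhn]
    exact hv n
  obtain ⟨h, hh, hh'⟩ := exists_lift_of_compat T hn hcompat
  have key : ∀ n, (hn n).1.comp i₁ = (T.truncHom n).1.comp g₁ ∧
      (hn n).1.comp i₂ = (T.truncHom n).1.comp g₂ := by
    intro n
    have e := (hζ _ (hn n)).trans (hhn n)
    exact ⟨congrArg (fun t : FibObj S₁.res S₂.res f₁ f₂ (T.trunc n) => t.1.1.1) e,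
      congrArg (fun t : FibObj S₁.res S₂.res f₁ f₂ (T.trunc n) => t.1.2.1) e⟩
  refine ⟨h, ⟨hh, ?_, ?_⟩, ?_⟩
  · apply algHom_ext_trunc T
    intro n
    rw [← AlgHom.comp_assoc, hh', (key n).1]
  · apply algHom_ext_trunc T
    intro n
    rw [← AlgHom.comp_assoc, hh', (key n).2]
  · rintro h' ⟨hh'res, hh'1, hh'2⟩
    apply algHom_ext_trunc T
    intro n
    rw [hh']
    let w : HomSet P.carrier P.res (T.trunc n) :=
      ⟨(T.truncHom n).1.comp h', by rw [← AlgHom.comp_assoc, (T.truncHom n).2, hh'res]⟩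
    have hw : w = hn n := by
      apply (hξ _).1
      rw [hhn, ← hζ]
      apply fibObj_ext
      · apply Subtype.ext
        change ((T.truncHom n).1.comp h').comp i₁ = (T.truncHom n).1.comp g₁
        rw [AlgHom.comp_assoc, hh'1]
      · apply Subtype.ext
        change ((T.truncHom n).1.comp h').comp i₂ = (T.truncHom n).1.comp g₂
        rw [AlgHom.comp_assoc, hh'2]
    exact congrArg Subtype.val hw

end Main

end Groth.Agent.Lib.Helper1.FibHom
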