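import Groth.Agent.Lib.Helper1.FilCxPage

set_option autoImplicit false
open CategoryTheory CategoryTheory.Limits
universe v u

namespace Groth.Agent.Lib.Helper1.FilCxAbut

open SpSeq SpSeq.FilCx Groth.Agent.Lib.Helper8.SubLat1 Groth.Agent.Lib.Helper1.FilCxBasic
  Groth.Agent.Lib.Helper1.FilCxElem Groth.Agent.Lib.Helper1.Subquot

variable {A : Type u} [Category.{v} A] [Abelian A]

section Homology

variable (L : CochainComplex A ℤ) (n : ℤ)

/-- cocycles as a subobject -/
noncomputable abbrev kerd : Subobject (L.X n) := kernelSubobject (L.d n (n + 1))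

/-- coboundaries as a subobject -/
noncomputable abbrev imd : Subobject (L.X n) := imageSubobject (L.d (n - 1) n)

lemma imd_le_kerd : imd L n ≤ kerd L n :=
  le_kernelSubobject _ _ (imageSubobject_arrow_comp_eq_zero (by simp))

lemma isIso_cokernel_π_of_isZero {X Y : A} (f : X ⟶ Y) (h : IsZero X) : IsIso (cokernel.π f) :=
  isIso_cokernel_π_of_eq_zero f (h.eq_of_src _ _)

lemma nonempty_iso_subquot_top_bot (Y : A) :
    Nonempty (subquot (⊤ : Subobject Y) ⊥ bot_le ≅ Y) := by
  have hz : IsZero ((⊥ : Subobject Y) : A) := IsZero.of_iso (isZero_zero A) Subobject.botCoeIsoZero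
  have := isIso_cokernel_π_of_isZero ((⊥ : Subobject Y).ofLE ⊤ bot_le) hz
  exact ⟨(asIso (cokernel.π ((⊥ : Subobject Y).ofLE ⊤ bot_le))).symm ≪≫
    asIso (⊤ : Subobject Y).arrow⟩

theorem nonempty_iso_homology :
    Nonempty (subquot (kerd L n) (imd L n) (imd_le_kerd L n) ≅ L.homology n) := by
  obtain ⟨e0⟩ := nonempty_iso_subquot_top_bot (L.homology n)
  suffices h : Nonempty (subquot (kerd L n) (imd L n) (imd_le_kerd L n) ≅
      subquot (⊤ : Subobject (L.homology n)) ⊥ bot_le) by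
    obtain ⟨e1⟩ := h
    exact ⟨e1 ≪≫ e0⟩
  have hk : (kerd L n).arrow ≫ L.d n (n + 1) = 0 := kernelSubobject_arrow_comp _
  refine subquot_iso_of (imd_le_kerd L n) bot_le
    (L.liftCycles (kerd L n).arrow (n + 1) (by simp) hk ≫ L.homologyπ n) ?_ ?_ ?_ ?_
  · exact Subobject.top_factors _
  · rw [Subobject.bot_factors_iff_zero, HomologicalComplex.comp_liftCycles_assoc,
      ← cancel_epi (factorThruImageSubobject (L.d (n - 1) n)),
      HomologicalComplex.comp_liftCycles_assoc, comp_zero]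
    exact L.liftCycles_homologyπ_eq_zero_of_boundary _ (n + 1) (by simp) (𝟙 _) (by simp)
  · intro T x hx
    rw [Subobject.bot_factors_iff_zero, HomologicalComplex.comp_liftCycles_assoc,
      L.liftCycles_comp_homologyπ_eq_zero_iff_up_to_refinements (n - 1) n (n + 1) (by simp)
        (by simp)] at hx
    obtain ⟨T', π, hπ, y, hy⟩ := hx
    apply factors_of_epi_comp π
    rw [hy]
    exact imageSubobject_factors_comp_self (f := L.d (n - 1) n) y
  · intro T y _
    obtain ⟨T', π, hπ, z, hz, hy⟩ :=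
      L.eq_liftCycles_homologyπ_up_to_refinements y (n + 1) (by simp)
    refine ⟨T', π, hπ, (kerd L n).factorThru z (kernelSubobject_factors _ z hz), ?_⟩
    rw [Subobject.bot_factors_iff_zero, HomologicalComplex.comp_liftCycles_assoc, hy, sub_eq_zero]
    congr 1
    simp

end Homology

section Chain

variable (K : FilCx A) (n : ℤ)

/-- `V^p = (F^p ⊓ ker d) ⊔ im d`, the preimage in `K^n` of `F^p H^n`. -/
noncomputable def V (p : ℤ) : Subobject (K.obj.X n) :=
  (K.filX p n ⊓ kerd K.obj n) ⊔ imd K.obj n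

lemma imd_le_V (p : ℤ) : imd K.obj n ≤ V K n p := le_sup_right

lemma V_anti {p q : ℤ} (h : p ≤ q) : V K n q ≤ V K n p :=
  sup_le_sup_right (inf_le_inf_right _ (K.filX_anti n h)) _

lemma V_eq_imd (p : ℤ) (h : K.filX p n = ⊥) : V K n p = imd K.obj n := by
  unfold V; rw [h, bot_inf_eq, bot_sup_eq]

lemma V_eq_kerd (p : ℤ) (h : K.filX p n = ⊤) : V K n p = kerd K.obj n := by
  unfold V; rw [h, top_inf_eq]; exact sup_eq_left.2 (imd_le_kerd K.obj n)

lemma BBot_le_ZTop (p : ℤ) : K.BBot p n ≤ K.ZTop p n :=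
  sup_le_sup_right (inf_le_inf_left _ (imd_le_kerd K.obj n)) _

theorem nonempty_iso_gr (p q : ℤ) (hq : p + 1 = q) :
    Nonempty (subquot (V K n p) (V K n q) (V_anti K n (by omega)) ≅
      subquot (K.ZTop p n) (K.BBot p n) (BBot_le_ZTop K n p)) := by
  subst hq
  set W := K.filX p n ⊓ kerd K.obj n with hW
  set W' := K.filX (p + 1) n ⊓ kerd K.obj n with hW'
  set I := imd K.obj n with hI
  have hIk : I ≤ kerd K.obj n := imd_le_kerd K.obj n
  have hW'W : W' ≤ W := inf_le_inf_right _ (K.filX_anti n (by omega))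
  have hIpW : K.filX p n ⊓ I ≤ W := inf_le_inf_left _ hIk
  have hV : V K n p = V K n (p + 1) ⊔ W := by
    unfold V
    apply le_antisymm
    · exact sup_le le_sup_right (le_sup_right.trans le_sup_left)
    · exact sup_le (sup_le (hW'W.trans le_sup_left) le_sup_right) le_sup_left
  have hZ : K.ZTop p n = K.BBot p n ⊔ W := by
    unfold ZTop BBot
    apply le_antisymm
    · exact sup_le le_sup_right (le_sup_right.trans le_sup_left)
    · exact sup_le (sup_le (hIpW.trans le_sup_left) le_sup_right) le_sup_left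
  have hmeet : V K n (p + 1) ⊓ W = K.BBot p n ⊓ W := by
    have h1 : V K n (p + 1) ⊓ W = W' ⊔ I ⊓ W := sup_inf_assoc_of_le I hW'W
    have h2 : K.BBot p n ⊓ W = K.filX p n ⊓ I ⊔ K.filX (p + 1) n ⊓ W :=
      sup_inf_assoc_of_le (K.filX (p + 1) n) hIpW
    have h3 : I ⊓ W = K.filX p n ⊓ I := by
      apply le_antisymm
      · exact le_inf (inf_le_right.trans inf_le_left) inf_le_left
      · exact le_inf inf_le_right (le_inf inf_le_left (inf_le_right.trans hIk))
    have h4 : K.filX (p + 1) n ⊓ W = W' := by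
      apply le_antisymm
      · exact le_inf inf_le_left (inf_le_right.trans inf_le_right)
      · exact le_inf inf_le_left (le_inf (inf_le_left.trans (K.filX_anti n (by omega))) inf_le_right)
    rw [h1, h2, h3, h4, sup_comm]
  obtain ⟨e1⟩ := subquot_congr (V_anti K n (by omega : p ≤ p + 1))
    (le_sup_left : V K n (p + 1) ≤ V K n (p + 1) ⊔ W) hV rfl
  obtain ⟨e2⟩ := subquot_secondIso (V K n (p + 1)) W
  obtain ⟨e3⟩ := subquot_congr (inf_le_right : V K n (p + 1) ⊓ W ≤ W)
    (inf_le_right : K.BBot p n ⊓ W ≤ W) rfl hmeet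
  obtain ⟨e4⟩ := subquot_secondIso (K.BBot p n) W
  obtain ⟨e5⟩ := subquot_congr (BBot_le_ZTop K n p)
    (le_sup_left : K.BBot p n ≤ K.BBot p n ⊔ W) hZ rfl
  exact ⟨e1 ≪≫ e2 ≪≫ e3 ≪≫ e4.symm ≪≫ e5.symm⟩

variable {K n} {P : ObjectProperty A} [P.IsClosedUnderIsomorphisms]

theorem homology_mem (hW : IsWeakSerre P) (hfin : (K.XFil n).IsFinite)
    (hgr : ∀ p : ℤ, P (subquot (K.ZTop p n) (K.BBot p n) (BBot_le_ZTop K n p))) :
    P (K.obj.homology n) := by
  obtain ⟨⟨a, ha⟩, ⟨b, hb⟩⟩ := hfin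
  change K.filX a n = ⊤ at ha
  change K.filX b n = ⊥ at hb
  have key : ∀ k : ℕ, P (subquot (V K n (b - k)) (imd K.obj n) (imd_le_V K n _)) := by
    intro k
    induction k with
    | zero =>
      apply hW.of_isZero
      apply subquot_isZero_of_eq
      rw [V_eq_imd K n _ (by simpa using hb)]
    | succ k ih =>
      have h1 : V K n (b - k) ≤ V K n (b - (k + 1 : ℕ)) := V_anti K n (by push_cast; omega)
      obtain ⟨e⟩ := nonempty_iso_gr K n (b - (k + 1 : ℕ)) (b - k) (by push_cast; omega)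
      exact hW.of_shortExact _ (subquot_shortExact (imd_le_V K n (b - k)) h1) ih
        (P.prop_of_iso e.symm (hgr _))
  have hk := key (b - min a b).toNat
  have htop : K.filX (b - ((b - min a b).toNat : ℕ)) n = ⊤ :=
    filX_eq_top_of_le K n ha (by omega)
  obtain ⟨e1⟩ := subquot_congr (imd_le_V K n (b - ((b - min a b).toNat : ℕ)))
    (imd_le_kerd K.obj n) (V_eq_kerd K n _ htop) rfl
  obtain ⟨e2⟩ := nonempty_iso_homology K.obj n
  exact P.prop_of_iso (e1 ≪≫ e2) hk

end Chain

end Groth.Agent.Lib.Helper1.FilCxAbut
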