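import Groth.Prelude.Def_SpSeq
import Mathlib.Algebra.Homology.Refinements
import Mathlib.Order.Interval.Finset.Basic
import Mathlib.Data.Int.Interval

set_option autoImplicit false
open CategoryTheory CategoryTheory.Limits
universe v u

namespace Groth.Agent.Lib.Helper1.FilCxBasic

open SpSeq SpSeq.FilCx

variable {A : Type u} [Category.{v} A] [Abelian A]

lemma pullback_bot {X Y : A} (f : X ⟶ Y) :
    (Subobject.pullback f).obj ⊥ = kernelSubobject f := by
  refine le_antisymm ?_ (kernelSubobject_le_pullback f ⊥)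
  refine le_kernelSubobject _ _ ?_
  rw [Subobject.pullback_obj]
  have h : (Subobject.mk (pullback.snd (⊥ : Subobject Y).arrow f)).arrow
      = (Subobject.underlyingIso _).hom ≫ pullback.snd (⊥ : Subobject Y).arrow f := by
    simp
  rw [h, Category.assoc, ← pullback.condition]
  exact (congrArg (fun t => (Subobject.underlyingIso _).hom ≫ pullback.fst _ _ ≫ t)
    Subobject.bot_arrow).trans (by simp)

lemma image_arrow_comp_of_eq_top {X Y : A} (S : Subobject X) (hS : S = ⊤) (g : X ⟶ Y) :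
    imageSubobject (S.arrow ≫ g) = imageSubobject g := by
  subst hS
  exact imageSubobject_iso_comp _ _

lemma subquot_isZero_of_eq {X : A} (Z B : Subobject X) (h : B ≤ Z) (e : B = Z) :
    IsZero (subquot Z B h) := by
  subst e
  unfold subquot
  have : IsIso (B.ofLE B h) := by
    rw [Subobject.ofLE_refl]; infer_instance
  exact isZero_cokernel_of_epi _

variable (K : FilCx A)

lemma filX_eq_bot_of_le (n : ℤ) {b p : ℤ} (hb : K.filX b n = ⊥) (h : b ≤ p) :
    K.filX p n = ⊥ :=
  le_bot_iff.mp (hb ▸ K.filX_anti n h)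

lemma filX_eq_top_of_le (n : ℤ) {a p : ℤ} (ha : K.filX a n = ⊤) (h : p ≤ a) :
    K.filX p n = ⊤ :=
  top_le_iff.mp (ha ▸ K.filX_anti n h)

lemma ZTop_le_ZSub (r : ℕ) (p n : ℤ) : K.ZTop p n ≤ K.ZSub r p n :=
  sup_le_sup_right (inf_le_inf_left _ (kernelSubobject_le_pullback _ _)) _

lemma ZSub_eq_ZTop (r : ℕ) (p n : ℤ) (h : K.filX (p + r) (n + 1) = ⊥) :
    K.ZSub r p n = K.ZTop p n := by
  unfold ZSub ZTop
  rw [h, pullback_bot]

lemma BSub_le_BBot (r : ℕ) (p n : ℤ) : K.BSub r p n ≤ K.BBot p n :=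
  sup_le_sup_right (inf_le_inf_left _ (imageSubobject_comp_le _ _)) _

lemma BSub_eq_BBot (r : ℕ) (p n : ℤ) (h : K.filX (p - r + 1) (n - 1) = ⊤) :
    K.BSub r p n = K.BBot p n := by
  unfold BSub BBot
  rw [image_arrow_comp_of_eq_top _ h]

lemma imageSubobject_eq_top_of_epi {X Y : A} (f : X ⟶ Y) [Epi f] : imageSubobject f = ⊤ := by
  have h1 : Epi (imageSubobject f).arrow := by
    have : Epi (factorThruImageSubobject f ≫ (imageSubobject f).arrow) := by
      rw [imageSubobject_arrow_comp]; infer_instance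
    exact epi_of_epi (factorThruImageSubobject f) _
  have : IsIso (imageSubobject f).arrow := isIso_of_mono_of_epi _
  exact Subobject.eq_top_of_isIso_arrow _

lemma filX_eq_bot_iff (p n : ℤ) : K.filX p n = ⊥ ↔ (K.fil p).arrow.f n = 0 :=
  Subobject.mk_eq_bot_iff_zero

lemma filX_eq_top_iff (p n : ℤ) : K.filX p n = ⊤ ↔ IsIso ((K.fil p).arrow.f n) :=
  (Subobject.isIso_iff_mk_eq_top _).symm

lemma filH_eq_bot (p n : ℤ) (h : K.filX p n = ⊥) : K.filH p n = ⊥ := by
  rw [filX_eq_bot_iff] at h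
  have hz : IsZero ((K.fil p : CochainComplex A ℤ).X n) := IsZero.of_mono_eq_zero _ h
  have hH : IsZero ((K.fil p : CochainComplex A ℤ).homology n) := by
    rw [← HomologicalComplex.exactAt_iff_isZero_homology]
    exact ShortComplex.exact_of_isZero_X₂ _ hz
  unfold filH
  have key : ∀ {X Y : A} (f : X ⟶ Y), f = 0 → imageSubobject f = ⊥ := by
    intro X Y f hf; subst hf; exact imageSubobject_zero
  exact key _ (hH.eq_of_src _ _)

lemma epi_homologyMap_of_isIso_of_mono {F L : CochainComplex A ℤ} (φ : F ⟶ L) (n : ℤ)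
    [IsIso (φ.f n)] [Mono (φ.f (n + 1))] : Epi (HomologicalComplex.homologyMap φ n) := by
  rw [HomologicalComplex.epi_homologyMap_iff_up_to_refinements φ (n - 1) n (n + 1)
    (by simp) (by simp)]
  intro T y₂ hy₂
  refine ⟨T, 𝟙 T, inferInstance, y₂ ≫ inv (φ.f n), ?_, 0, by simp⟩
  rw [← cancel_mono (φ.f (n + 1))]
  rw [Category.assoc, Category.assoc, ← φ.comm n (n + 1), IsIso.inv_hom_id_assoc, hy₂, zero_comp]

lemma filH_eq_top (p n : ℤ) (h : K.filX p n = ⊤) : K.filH p n = ⊤ := by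
  rw [filX_eq_top_iff] at h
  have := epi_homologyMap_of_isIso_of_mono (K.fil p).arrow n
  exact imageSubobject_eq_top_of_epi _

lemma isIso_cokernel_π_of_eq_zero {X Y : A} (f : X ⟶ Y) (h : f = 0) : IsIso (cokernel.π f) := by
  subst h; infer_instance

lemma quot_π_quotMap (L : FilObj A) {p q : ℤ} (h : p ≤ q) :
    cokernel.π (L.fil q).arrow ≫ L.quotMap h = cokernel.π (L.fil p).arrow := by
  unfold FilObj.quotMap
  exact cokernel.π_desc _ _ _

lemma isComplete_of_discrete (L : FilObj A) (h : L.IsDiscrete) : L.IsComplete := by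
  obtain ⟨b, hb⟩ := h
  intro T f hf
  have hiso : ∀ p, b ≤ p → IsIso (cokernel.π (L.fil p).arrow) := by
    intro p hp
    have hp' : L.fil p = ⊥ := le_bot_iff.mp (hb ▸ L.anti hp)
    apply isIso_cokernel_π_of_eq_zero
    rw [← Subobject.mk_eq_bot_iff_zero (f := (L.fil p).arrow), Subobject.mk_arrow, hp']
  have := hiso b le_rfl
  refine ⟨f b ≫ inv (cokernel.π (L.fil b).arrow), fun p => ?_⟩
  rcases le_total p b with hp | hp
  · rw [← hf p b hp, ← quot_π_quotMap L hp]; simp
  · have := hiso p hp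
    have hq : IsIso (L.quotMap hp) := IsIso.of_isIso_fac_left (quot_π_quotMap L hp)
    rw [← cancel_mono (L.quotMap hp), Category.assoc, Category.assoc, quot_π_quotMap L hp,
      hf b p hp]
    simp

lemma isSeparated_of_discrete (L : FilObj A) (h : L.IsDiscrete) : L.IsSeparated := by
  obtain ⟨b, hb⟩ := h
  exact IsLeast.isGLB ⟨⟨b, hb⟩, fun _ _ => bot_le⟩

lemma isExhaustive_of_codiscrete (L : FilObj A) (h : L.IsCodiscrete) : L.IsExhaustive := by
  obtain ⟨a, ha⟩ := h
  exact IsGreatest.isLUB ⟨⟨a, ha⟩, fun _ _ => le_top⟩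

end Groth.Agent.Lib.Helper1.FilCxBasic
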