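import Groth.Agent.Lib.Helper1.FilCxBasic
import Groth.Agent.Lib.Helper8.SubLat1
import Mathlib.CategoryTheory.Abelian.Refinements

set_option autoImplicit false
open CategoryTheory CategoryTheory.Limits
universe v u

namespace Groth.Agent.Lib.Helper1.FilCxElem

open SpSeq SpSeq.FilCx Groth.Agent.Lib.Helper8.SubLat1 Groth.Agent.Lib.Helper1.FilCxBasic

variable {A : Type u} [Category.{v} A] [Abelian A]

lemma image_factors_iff {X Y : A} (g : X ⟶ Y) {Z : A} (f : Z ⟶ Y) :
    (imageSubobject g).Factors f ↔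
      ∃ (Z' : A) (π : Z' ⟶ Z) (_ : Epi π) (c : Z' ⟶ X), π ≫ f = c ≫ g := by
  constructor
  · intro h
    obtain ⟨Z', π, hπ, c, hc⟩ := surjective_up_to_refinements_of_epi
      (factorThruImageSubobject g) ((imageSubobject g).factorThru f h)
    refine ⟨Z', π, hπ, c, ?_⟩
    have := congrArg (fun k => k ≫ (imageSubobject g).arrow) hc
    simpa only [Category.assoc, Subobject.factorThru_arrow, imageSubobject_arrow_comp] using this
  · rintro ⟨Z', π, hπ, c, hc⟩
    apply factors_of_epi_comp π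
    rw [hc]
    exact imageSubobject_factors_comp_self (f := g) c

lemma image_arrow_comp_factors_iff {X Y : A} (S : Subobject X) (g : X ⟶ Y) {Z : A} (f : Z ⟶ Y) :
    (imageSubobject (S.arrow ≫ g)).Factors f ↔
      ∃ (Z' : A) (π : Z' ⟶ Z) (_ : Epi π) (c : Z' ⟶ X), S.Factors c ∧ π ≫ f = c ≫ g := by
  rw [image_factors_iff]
  constructor
  · rintro ⟨Z', π, hπ, c, hc⟩
    exact ⟨Z', π, hπ, c ≫ S.arrow, Subobject.factors_comp_arrow c, by rw [hc, Category.assoc]⟩
  · rintro ⟨Z', π, hπ, c, hS, hc⟩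
    exact ⟨Z', π, hπ, S.factorThru c hS, by rw [hc, ← Category.assoc, Subobject.factorThru_arrow]⟩

lemma factors_sub {X : A} (P : Subobject X) {Z : A} (f g : Z ⟶ X) (hf : P.Factors f)
    (hg : P.Factors g) : P.Factors (f - g) := by
  rw [factors_iff_comp_cokernel] at *
  rw [Preadditive.sub_comp, hf, hg, sub_zero]

variable (K : FilCx A)

lemma filX_factors_iff (p n : ℤ) {T : A} (x : T ⟶ K.obj.X n) :
    (K.filX p n).Factors x ↔
      ∃ x' : T ⟶ (K.fil p : CochainComplex A ℤ).X n, x' ≫ (K.fil p).arrow.f n = x :=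
  Subobject.mk_factors_iff _ _

lemma filX_factors_of_le {p q : ℤ} (h : p ≤ q) (n : ℤ) {T : A} (x : T ⟶ K.obj.X n)
    (hx : (K.filX q n).Factors x) : (K.filX p n).Factors x :=
  Subobject.factors_of_le _ (K.filX_anti n h) hx

/-- A coboundary of `K` lying in `F^s` is (up to refinement) a coboundary of `F^s`, when
`H^j(F^s) → H^j(K)` is mono. -/
lemma exists_of_mono_homologyMap (s i j k : ℤ) (hij : i + 1 = j) (hjk : j + 1 = k)
    (h : Mono (HomologicalComplex.homologyMap (K.fil s).arrow j))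
    {T : A} (u : T ⟶ K.obj.X j) (hu : (K.filX s j).Factors u) (z₀ : T ⟶ K.obj.X i)
    (hz : u = z₀ ≫ K.obj.d i j) :
    ∃ (T' : A) (π : T' ⟶ T) (_ : Epi π) (z : T' ⟶ K.obj.X i),
      (K.filX s i).Factors z ∧ π ≫ u = z ≫ K.obj.d i j := by
  rw [HomologicalComplex.mono_homologyMap_iff_up_to_refinements (K.fil s).arrow i j k
    (by subst hij; simp) (by subst hjk; simp)] at h
  obtain ⟨u', hu'⟩ := (filX_factors_iff K s j u).1 hu
  have hcoc : u' ≫ (K.fil s : CochainComplex A ℤ).d j k = 0 := by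
    rw [← cancel_mono ((K.fil s).arrow.f k), Category.assoc, ← (K.fil s).arrow.comm j k,
      ← Category.assoc, hu', hz, Category.assoc, K.obj.d_comp_d, comp_zero, zero_comp]
  obtain ⟨T', π, hπ, x₁, hx₁⟩ := h u' hcoc z₀ (by rw [hu', hz])
  refine ⟨T', π, hπ, x₁ ≫ (K.fil s).arrow.f i, (filX_factors_iff K s i _).2 ⟨x₁, rfl⟩, ?_⟩
  rw [← hu', ← Category.assoc, hx₁, Category.assoc, Category.assoc, (K.fil s).arrow.comm i j]

/-- A cocycle of `K` is (up to refinement) a cocycle of `F^s` plus a coboundary, when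
`H^j(F^s) → H^j(K)` is epi. -/
lemma exists_of_epi_homologyMap (s i j k : ℤ) (hij : i + 1 = j) (hjk : j + 1 = k)
    (h : Epi (HomologicalComplex.homologyMap (K.fil s).arrow j))
    {T : A} (u : T ⟶ K.obj.X j) (hd : u ≫ K.obj.d j k = 0) :
    ∃ (T' : A) (π : T' ⟶ T) (_ : Epi π) (v : T' ⟶ K.obj.X j) (z : T' ⟶ K.obj.X i),
      (K.filX s j).Factors v ∧ v ≫ K.obj.d j k = 0 ∧ π ≫ u = v + z ≫ K.obj.d i j := by
  rw [HomologicalComplex.epi_homologyMap_iff_up_to_refinements (K.fil s).arrow i j k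
    (by subst hij; simp) (by subst hjk; simp)] at h
  obtain ⟨T', π, hπ, x₂, hx₂, y₁, hy⟩ := h u hd
  refine ⟨T', π, hπ, x₂ ≫ (K.fil s).arrow.f j, y₁, (filX_factors_iff K s j _).2 ⟨x₂, rfl⟩, ?_, hy⟩
  rw [Category.assoc, (K.fil s).arrow.comm j k, ← Category.assoc, hx₂, zero_comp]

/-- A cocycle of `K` lying in `F^s` is (up to refinement) a coboundary of `F^s`, when
`H^j(F^s) = 0`. -/
lemma exists_of_isZero_homology (s i j k : ℤ) (hij : i + 1 = j) (hjk : j + 1 = k)
    (h : IsZero ((K.fil s : CochainComplex A ℤ).homology j))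
    {T : A} (u : T ⟶ K.obj.X j) (hu : (K.filX s j).Factors u) (hd : u ≫ K.obj.d j k = 0) :
    ∃ (T' : A) (π : T' ⟶ T) (_ : Epi π) (z : T' ⟶ K.obj.X i),
      (K.filX s i).Factors z ∧ π ≫ u = z ≫ K.obj.d i j := by
  rw [← HomologicalComplex.exactAt_iff_isZero_homology,
    HomologicalComplex.exactAt_iff' _ i j k (by subst hij; simp) (by subst hjk; simp),
    ShortComplex.exact_iff_exact_up_to_refinements] at h
  obtain ⟨u', hu'⟩ := (filX_factors_iff K s j u).1 hu
  have hcoc : u' ≫ (K.fil s : CochainComplex A ℤ).d j k = 0 := by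
    rw [← cancel_mono ((K.fil s).arrow.f k), Category.assoc, ← (K.fil s).arrow.comm j k,
      ← Category.assoc, hu', hd, zero_comp]
  obtain ⟨T', π, hπ, (x₁ : T' ⟶ (K.fil s : CochainComplex A ℤ).X i), hx₁⟩ := h u' hcoc
  replace hx₁ : π ≫ u' = x₁ ≫ (K.fil s : CochainComplex A ℤ).d i j := hx₁
  refine ⟨T', π, hπ, x₁ ≫ (K.fil s).arrow.f i, (filX_factors_iff K s i _).2 ⟨x₁, rfl⟩, ?_⟩
  rw [← hu', ← Category.assoc, hx₁, Category.assoc, Category.assoc, (K.fil s).arrow.comm i j]

lemma mono_homologyMap_of_isZero (s j : ℤ)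
    (h : IsZero ((K.fil s : CochainComplex A ℤ).homology j)) :
    Mono (HomologicalComplex.homologyMap (K.fil s).arrow j) :=
  ⟨fun _ _ _ => h.eq_of_tgt _ _⟩

lemma ZSubCore_le_ZTop (p q n : ℤ) (hq : p + 1 ≤ q)
    (h : Mono (HomologicalComplex.homologyMap (K.fil q).arrow (n + 1))) :
    K.filX p n ⊓ (Subobject.pullback (K.obj.d n (n + 1))).obj (K.filX q (n + 1)) ≤ K.ZTop p n := by
  apply Subobject.le_of_factors
  set Z := K.filX p n ⊓ (Subobject.pullback (K.obj.d n (n + 1))).obj (K.filX q (n + 1)) with hZ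
  have h1 : (K.filX p n).Factors Z.arrow := Subobject.inf_arrow_factors_left _ _
  have h2 : (K.filX q (n + 1)).Factors (Z.arrow ≫ K.obj.d n (n + 1)) := by
    rw [← pullback_factors_iff]; exact Subobject.inf_arrow_factors_right _ _
  obtain ⟨T', π, hπ, z, hz, hzd⟩ :=
    exists_of_mono_homologyMap K q n (n + 1) (n + 1 + 1) rfl rfl h _ h2 Z.arrow rfl
  apply factors_of_epi_comp π
  have : π ≫ Z.arrow = (π ≫ Z.arrow - z) + z := by abel
  rw [this]
  unfold ZTop
  apply Subobject.factors_add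
  · apply Subobject.sup_factors_of_factors_left
    rw [Subobject.inf_factors]
    refine ⟨factors_sub _ _ _ (Subobject.factors_of_factors_right _ h1)
      (filX_factors_of_le K (by omega) n z hz), ?_⟩
    rw [kernelSubobject_factors_iff, Preadditive.sub_comp, Category.assoc, hzd, sub_self]
  · apply Subobject.sup_factors_of_factors_right
    exact filX_factors_of_le K hq n z hz

lemma BBotCore_le (p s n : ℤ) (hs : s ≤ p)
    (h : Mono (HomologicalComplex.homologyMap (K.fil s).arrow n)) :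
    K.filX p n ⊓ imageSubobject (K.obj.d (n - 1) n) ≤
      K.filX p n ⊓ imageSubobject ((K.filX s (n - 1)).arrow ≫ K.obj.d (n - 1) n) := by
  refine le_inf inf_le_left ?_
  apply Subobject.le_of_factors
  set Z := K.filX p n ⊓ imageSubobject (K.obj.d (n - 1) n) with hZ
  have h1 : (K.filX p n).Factors Z.arrow := Subobject.inf_arrow_factors_left _ _
  have h2 : (imageSubobject (K.obj.d (n - 1) n)).Factors Z.arrow :=
    Subobject.inf_arrow_factors_right _ _
  obtain ⟨T', π, hπ, c, hc⟩ := (image_factors_iff _ _).1 h2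
  obtain ⟨T'', π', hπ', z, hz, hzd⟩ :=
    exists_of_mono_homologyMap K s (n - 1) n (n + 1) (by omega) rfl h (π ≫ Z.arrow)
      (filX_factors_of_le K hs n _ (Subobject.factors_of_factors_right _ h1)) c hc
  rw [image_arrow_comp_factors_iff]
  exact ⟨T'', π' ≫ π, epi_comp _ _, z, hz, by rw [Category.assoc, hzd]⟩

lemma ZTopCore_le_of_isZero (p s n : ℤ) (hs : s ≤ p)
    (h : IsZero ((K.fil s : CochainComplex A ℤ).homology n)) :
    K.filX p n ⊓ kernelSubobject (K.obj.d n (n + 1)) ≤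
      K.filX p n ⊓ imageSubobject ((K.filX s (n - 1)).arrow ≫ K.obj.d (n - 1) n) := by
  refine le_inf inf_le_left ?_
  apply Subobject.le_of_factors
  set Z := K.filX p n ⊓ kernelSubobject (K.obj.d n (n + 1)) with hZ
  have h1 : (K.filX p n).Factors Z.arrow := Subobject.inf_arrow_factors_left _ _
  have h2 : Z.arrow ≫ K.obj.d n (n + 1) = 0 := by
    rw [← kernelSubobject_factors_iff]; exact Subobject.inf_arrow_factors_right _ _
  obtain ⟨T', π, hπ, z, hz, hzd⟩ :=
    exists_of_isZero_homology K s (n - 1) n (n + 1) (by omega) rfl h Z.arrow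
      (filX_factors_of_le K hs n _ h1) h2
  rw [image_arrow_comp_factors_iff]
  exact ⟨T', π, hπ, z, hz, hzd⟩

lemma ZTopCore_le_of_epi_of_mono (p s n : ℤ) (hs : s ≤ p)
    (hm : Mono (HomologicalComplex.homologyMap (K.fil s).arrow n))
    (he : Epi (HomologicalComplex.homologyMap (K.fil (p + 1)).arrow n)) :
    K.filX p n ⊓ kernelSubobject (K.obj.d n (n + 1)) ≤
      (K.filX p n ⊓ imageSubobject ((K.filX s (n - 1)).arrow ≫ K.obj.d (n - 1) n)) ⊔
        K.filX (p + 1) n := by
  apply Subobject.le_of_factors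
  set Z := K.filX p n ⊓ kernelSubobject (K.obj.d n (n + 1)) with hZ
  have h1 : (K.filX p n).Factors Z.arrow := Subobject.inf_arrow_factors_left _ _
  have h2 : Z.arrow ≫ K.obj.d n (n + 1) = 0 := by
    rw [← kernelSubobject_factors_iff]; exact Subobject.inf_arrow_factors_right _ _
  obtain ⟨T', π, hπ, v, z, hv, hvd, hvz⟩ :=
    exists_of_epi_homologyMap K (p + 1) (n - 1) n (n + 1) (by omega) rfl he Z.arrow h2
  have hzd : z ≫ K.obj.d (n - 1) n = π ≫ Z.arrow - v := by rw [hvz]; abel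
  have hzF : (K.filX p n).Factors (z ≫ K.obj.d (n - 1) n) := by
    rw [hzd]
    exact factors_sub _ _ _ (Subobject.factors_of_factors_right _ h1)
      (filX_factors_of_le K (by omega) n v hv)
  obtain ⟨T'', π', hπ', z', hz', hzd'⟩ :=
    exists_of_mono_homologyMap K s (n - 1) n (n + 1) (by omega) rfl hm _
      (filX_factors_of_le K hs n _ hzF) z rfl
  apply factors_of_epi_comp (π' ≫ π)
  have : (π' ≫ π) ≫ Z.arrow = z' ≫ K.obj.d (n - 1) n + π' ≫ v := by
    rw [Category.assoc, hvz, Preadditive.comp_add, hzd']; abel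
  rw [this]
  apply Subobject.factors_add
  · apply Subobject.sup_factors_of_factors_left
    rw [Subobject.inf_factors]
    refine ⟨?_, ?_⟩
    · rw [← hzd']; exact Subobject.factors_of_factors_right _ hzF
    · rw [image_arrow_comp_factors_iff]
      exact ⟨T'', 𝟙 _, inferInstance, z', hz', by simp⟩
  · apply Subobject.sup_factors_of_factors_right
    exact Subobject.factors_of_factors_right _ hv

lemma ZSub_eq_ZTop_of_mono (r : ℕ) (hr : 1 ≤ r) (p n : ℤ)
    (h : Mono (HomologicalComplex.homologyMap (K.fil (p + r)).arrow (n + 1))) :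
    K.ZSub r p n = K.ZTop p n := by
  refine le_antisymm ?_ (ZTop_le_ZSub K r p n)
  unfold ZSub
  refine sup_le (ZSubCore_le_ZTop K p (p + r) n (by omega) h) ?_
  unfold ZTop
  exact le_sup_right

lemma BSub_eq_BBot_of_mono (r : ℕ) (hr : 1 ≤ r) (p n : ℤ)
    (h : Mono (HomologicalComplex.homologyMap (K.fil (p - r + 1)).arrow n)) :
    K.BSub r p n = K.BBot p n := by
  refine le_antisymm (BSub_le_BBot K r p n) ?_
  unfold BBot BSub
  exact sup_le_sup_right (BBotCore_le K p (p - r + 1) n (by omega) h) _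

lemma filH_eq_bot_of_isZero (p n : ℤ)
    (h : IsZero ((K.fil p : CochainComplex A ℤ).homology n)) : K.filH p n = ⊥ := by
  unfold filH
  have key : ∀ {X Y : A} (f : X ⟶ Y), f = 0 → imageSubobject f = ⊥ := by
    intro X Y f hf; subst hf; exact imageSubobject_zero
  exact key _ (h.eq_of_src _ _)

lemma filH_eq_top_of_epi (p n : ℤ)
    (h : Epi (HomologicalComplex.homologyMap (K.fil p).arrow n)) : K.filH p n = ⊤ :=
  imageSubobject_eq_top_of_epi _

lemma E_one_isZero_of_isZero (p n : ℤ)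
    (h1 : IsZero ((K.fil (p + 1) : CochainComplex A ℤ).homology (n + 1)))
    (h2 : IsZero ((K.fil p : CochainComplex A ℤ).homology n)) : IsZero (K.E 1 p n) := by
  apply subquot_isZero_of_eq
  refine le_antisymm (K.BSub_le_ZSub 1 p n) ?_
  have e1 : p + ((1 : ℕ) : ℤ) = p + 1 := by simp
  have e2 : p - ((1 : ℕ) : ℤ) + 1 = p := by simp
  rw [ZSub_eq_ZTop_of_mono K 1 le_rfl p n (mono_homologyMap_of_isZero K _ _ (e1 ▸ h1))]
  unfold ZTop BSub
  exact sup_le_sup_right (ZTopCore_le_of_isZero K p _ n (by omega) (e2.symm ▸ h2)) _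

lemma E_one_isZero_of_iso (p n : ℤ)
    (h1 : Mono (HomologicalComplex.homologyMap (K.fil (p + 1)).arrow (n + 1)))
    (h2 : Epi (HomologicalComplex.homologyMap (K.fil (p + 1)).arrow n))
    (h3 : Mono (HomologicalComplex.homologyMap (K.fil p).arrow n)) : IsZero (K.E 1 p n) := by
  apply subquot_isZero_of_eq
  refine le_antisymm (K.BSub_le_ZSub 1 p n) ?_
  have e1 : p + ((1 : ℕ) : ℤ) = p + 1 := by simp
  have e2 : p - ((1 : ℕ) : ℤ) + 1 = p := by simp
  rw [ZSub_eq_ZTop_of_mono K 1 le_rfl p n (e1 ▸ h1)]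
  unfold ZTop BSub
  exact sup_le (ZTopCore_le_of_epi_of_mono K p _ n (by omega) (e2.symm ▸ h3) h2) le_sup_right

end Groth.Agent.Lib.Helper1.FilCxElem
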