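import Groth.Prelude.Def_SpSeq
import Groth.Agent.Lib.Helper8.SubLat1
import Groth.Agent.Lib.Helper8.SubLat2
import Mathlib.Algebra.Homology.ExactSequence
import Mathlib.CategoryTheory.Abelian.Refinements

set_option autoImplicit false
open CategoryTheory CategoryTheory.Limits
universe v u

namespace Groth.Agent.Lib.Helper1.Subquot

open SpSeq Groth.Agent.Lib.Helper8.SubLat1

variable {A : Type u} [Category.{v} A] [Abelian A]

section WeakSerre

/-- The weak Serre hypotheses as used in the statements. -/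
def IsWeakSerre (P : ObjectProperty A) : Prop :=
  (∃ Z : A, IsZero Z ∧ P Z) ∧
    ∀ S : ComposableArrows A 4, S.Exact → P (S.obj 0) → P (S.obj 1) → P (S.obj 3) →
      P (S.obj 4) → P (S.obj 2)

variable {P : ObjectProperty A} [P.IsClosedUnderIsomorphisms]

lemma IsWeakSerre.of_isZero (h : IsWeakSerre P) {X : A} (hX : IsZero X) : P X := by
  obtain ⟨⟨Z, hZ, hPZ⟩, _⟩ := h
  exact P.prop_of_iso (hZ.iso hX) hPZ

lemma IsWeakSerre.of_mono_exact (h : IsWeakSerre P) (S : ShortComplex A) (hS : S.Exact)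
    (hm : Mono S.f) (h2 : P S.X₂) (h3 : P S.X₃) : P S.X₁ := by
  obtain ⟨⟨Z, hZ, hPZ⟩, hP⟩ := h
  let T : ComposableArrows A 4 := ComposableArrows.mk₄ (0 : Z ⟶ Z) (0 : Z ⟶ S.X₁) S.f S.g
  have hT : T.Exact := by
    refine ComposableArrows.exact_of_δ₀ ?_ (ComposableArrows.exact_of_δ₀ ?_ ?_)
    · exact ComposableArrows.exact₂_mk _ zero_comp (ShortComplex.exact_of_isZero_X₂ _ hZ)
    · exact ComposableArrows.exact₂_mk _ zero_comp ((ShortComplex.exact_iff_mono _ (by rfl)).2 hm)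
    · exact ComposableArrows.exact₂_mk _ S.zero hS
  exact hP T hT hPZ hPZ h2 h3

lemma IsWeakSerre.of_epi_exact (h : IsWeakSerre P) (S : ShortComplex A) (hS : S.Exact)
    (he : Epi S.g) (h1 : P S.X₁) (h2 : P S.X₂) : P S.X₃ := by
  obtain ⟨⟨Z, hZ, hPZ⟩, hP⟩ := h
  let T : ComposableArrows A 4 := ComposableArrows.mk₄ S.f S.g (0 : S.X₃ ⟶ Z) (0 : Z ⟶ Z)
  have hT : T.Exact := by
    refine ComposableArrows.exact_of_δ₀ ?_ (ComposableArrows.exact_of_δ₀ ?_ ?_)
    · exact ComposableArrows.exact₂_mk _ S.zero hS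
    · exact ComposableArrows.exact₂_mk _ comp_zero ((ShortComplex.exact_iff_epi _ (by rfl)).2 he)
    · exact ComposableArrows.exact₂_mk _ zero_comp (ShortComplex.exact_of_isZero_X₂ _ hZ)
  exact hP T hT h1 h2 hPZ hPZ

lemma IsWeakSerre.of_shortExact (h : IsWeakSerre P) (S : ShortComplex A) (hS : S.ShortExact)
    (h1 : P S.X₁) (h3 : P S.X₃) : P S.X₂ := by
  obtain ⟨⟨Z, hZ, hPZ⟩, hP⟩ := h
  let T : ComposableArrows A 4 := ComposableArrows.mk₄ (0 : Z ⟶ S.X₁) S.f S.g (0 : S.X₃ ⟶ Z)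
  have hT : T.Exact := by
    refine ComposableArrows.exact_of_δ₀ ?_ (ComposableArrows.exact_of_δ₀ ?_ ?_)
    · exact ComposableArrows.exact₂_mk _ zero_comp
        ((ShortComplex.exact_iff_mono _ (by rfl)).2 hS.mono_f)
    · exact ComposableArrows.exact₂_mk _ S.zero hS.exact
    · exact ComposableArrows.exact₂_mk _ comp_zero
        ((ShortComplex.exact_iff_epi _ (by rfl)).2 hS.epi_g)
  exact hP T hT hPZ h1 h3 hPZ

end WeakSerre

section Api

variable {X : A} {Z B : Subobject X} (h : B ≤ Z)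

/-- The projection `Z ⟶ Z/B`. -/
noncomputable def sqπ : (Z : A) ⟶ subquot Z B h := cokernel.π _

@[reassoc (attr := simp)]
lemma sq_condition : B.ofLE Z h ≫ sqπ h = 0 := cokernel.condition _

/-- Descent from `Z/B`. -/
noncomputable def sqDesc {T : A} (f : (Z : A) ⟶ T) (w : B.ofLE Z h ≫ f = 0) : subquot Z B h ⟶ T :=
  cokernel.desc _ f w

@[reassoc (attr := simp)]
lemma sqπ_desc {T : A} (f : (Z : A) ⟶ T) (w : B.ofLE Z h ≫ f = 0) : sqπ h ≫ sqDesc h f w = f :=
  cokernel.π_desc _ _ _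

instance : Epi (sqπ h) := inferInstanceAs (Epi (cokernel.π (B.ofLE Z h)))

lemma sq_exists_lift {T : A} (x : T ⟶ (Z : A)) (hx : x ≫ sqπ h = 0) :
    ∃ (T' : A) (π : T' ⟶ T) (_ : Epi π) (y : T' ⟶ (B : A)), π ≫ x = y ≫ B.ofLE Z h := by
  have hex : (ShortComplex.mk (B.ofLE Z h) (cokernel.π (B.ofLE Z h))
      (cokernel.condition _)).Exact :=
    ShortComplex.exact_of_g_is_cokernel _ (cokernelIsCokernel _)
  rw [ShortComplex.exact_iff_exact_up_to_refinements] at hex
  exact hex x hx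

end Api

section Third

variable {X : A} {U V W : Subobject X} (hUV : U ≤ V) (hVW : V ≤ W)

/-- `V/U ⟶ W/U`. -/
noncomputable def subquotι : subquot V U hUV ⟶ subquot W U (hUV.trans hVW) :=
  sqDesc hUV (Subobject.ofLE V W hVW ≫ sqπ (hUV.trans hVW)) (by
    rw [← Category.assoc, Subobject.ofLE_comp_ofLE, sq_condition])

/-- `W/U ⟶ W/V`. -/
noncomputable def subquotπ : subquot W U (hUV.trans hVW) ⟶ subquot W V hVW :=
  sqDesc (hUV.trans hVW) (sqπ hVW) (by
    rw [← Subobject.ofLE_comp_ofLE U V W hUV hVW, Category.assoc, sq_condition, comp_zero])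

@[reassoc (attr := simp)]
lemma π_subquotι : sqπ hUV ≫ subquotι hUV hVW =
    Subobject.ofLE V W hVW ≫ sqπ (hUV.trans hVW) := by
  unfold subquotι; exact sqπ_desc _ _ _

@[reassoc (attr := simp)]
lemma π_subquotπ : sqπ (hUV.trans hVW) ≫ subquotπ hUV hVW = sqπ hVW := by
  unfold subquotπ; exact sqπ_desc _ _ _

@[reassoc (attr := simp)]
lemma subquotι_π : subquotι hUV hVW ≫ subquotπ hUV hVW = 0 := by
  rw [← cancel_epi (sqπ hUV), π_subquotι_assoc, π_subquotπ, sq_condition, comp_zero]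

instance : Epi (subquotπ hUV hVW) :=
  epi_of_epi_fac (π_subquotπ hUV hVW)

instance : Mono (subquotι hUV hVW) := by
  apply Preadditive.mono_of_cancel_zero
  intro T a ha
  obtain ⟨T₁, π₁, hπ₁, v, hv⟩ := surjective_up_to_refinements_of_epi (sqπ hUV) a
  have h1 : (v ≫ Subobject.ofLE V W hVW) ≫ sqπ (hUV.trans hVW) = 0 := by
    rw [Category.assoc, ← π_subquotι hUV hVW, ← Category.assoc, ← hv, Category.assoc, ha,
      comp_zero]
  obtain ⟨T₂, π₂, hπ₂, u, hu⟩ := sq_exists_lift _ _ h1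
  have h2 : π₂ ≫ v = u ≫ Subobject.ofLE U V hUV := by
    rw [← cancel_mono (Subobject.ofLE V W hVW), Category.assoc, Category.assoc,
      Subobject.ofLE_comp_ofLE]
    simpa only [Category.assoc] using hu
  rw [← cancel_epi π₁, ← cancel_epi π₂, comp_zero, comp_zero, hv, ← Category.assoc, h2,
    Category.assoc, sq_condition, comp_zero]

lemma subquot_exact :
    (ShortComplex.mk (subquotι hUV hVW) (subquotπ hUV hVW) (subquotι_π hUV hVW)).Exact := by
  rw [ShortComplex.exact_iff_exact_up_to_refinements]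
  intro T x hx
  dsimp only at x hx
  obtain ⟨T₁, π₁, hπ₁, w, hw⟩ := surjective_up_to_refinements_of_epi
    (sqπ (hUV.trans hVW)) x
  have h1 : w ≫ sqπ hVW = 0 := by
    rw [← π_subquotπ hUV hVW, ← Category.assoc, ← hw, Category.assoc, hx, comp_zero]
  obtain ⟨T₂, π₂, hπ₂, v, hv⟩ := sq_exists_lift _ _ h1
  refine ⟨T₂, π₂ ≫ π₁, epi_comp _ _, v ≫ sqπ hUV, ?_⟩
  dsimp only
  rw [Category.assoc, hw, ← Category.assoc, hv, Category.assoc, Category.assoc, π_subquotι]

lemma subquot_shortExact :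
    (ShortComplex.mk (subquotι hUV hVW) (subquotπ hUV hVW) (subquotι_π hUV hVW)).ShortExact where
  exact := subquot_exact hUV hVW
  mono_f := by dsimp; infer_instance
  epi_g := by dsimp; infer_instance

end Third

section Congr

variable {X : A}

lemma subquot_congr {Z Z' B B' : Subobject X} (h : B ≤ Z) (h' : B' ≤ Z') (hZ : Z = Z')
    (hB : B = B') : Nonempty (subquot Z B h ≅ subquot Z' B' h') := by
  subst hZ hB
  exact ⟨Iso.refl _⟩

lemma subquot_secondIso (x y : Subobject X) :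
    Nonempty (subquot (x ⊔ y) x le_sup_left ≅ subquot y (x ⊓ y) inf_le_right) :=
  ⟨Groth.Agent.Lib.Helper8.SubLat2.secondIso x y⟩

end Congr

section GL

variable {X Y : A} {Z Z' : Subobject X} {B B' : Subobject Y} (hZ : Z' ≤ Z) (hB : B ≤ B')
  (g : (Z : A) ⟶ Y)

/-- A subquotient `Z/Z'` of `X` is isomorphic to a subquotient `B'/B` of `Y` as soon as a map
`g : Z ⟶ Y` has the four expected properties. -/
theorem subquot_iso_of (h1 : B'.Factors g) (h2 : B.Factors (Z'.ofLE Z hZ ≫ g))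
    (h3 : ∀ {T : A} (x : T ⟶ (Z : A)), B.Factors (x ≫ g) → Z'.Factors (x ≫ Z.arrow))
    (h4 : ∀ {T : A} (y : T ⟶ Y), B'.Factors y →
      ∃ (T' : A) (π : T' ⟶ T) (_ : Epi π) (x : T' ⟶ (Z : A)), B.Factors (π ≫ y - x ≫ g)) :
    Nonempty (subquot Z Z' hZ ≅ subquot B' B hB) := by
  let g' : (Z : A) ⟶ (B' : A) := B'.factorThru g h1
  have hg' : g' ≫ B'.arrow = g := B'.factorThru_arrow g h1
  let φ : (Z : A) ⟶ subquot B' B hB := g' ≫ sqπ hB
  have hφ : Z'.ofLE Z hZ ≫ φ = 0 := by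
    have : Z'.ofLE Z hZ ≫ g' = B.factorThru _ h2 ≫ B.ofLE B' hB := by
      rw [← cancel_mono B'.arrow, Category.assoc, Category.assoc, hg', Subobject.ofLE_arrow,
        Subobject.factorThru_arrow]
    rw [← Category.assoc, this, Category.assoc, sq_condition, comp_zero]
  let ψ := sqDesc hZ φ hφ
  have hepi : Epi ψ := by
    have : Epi φ := by
      rw [epi_iff_surjective_up_to_refinements]
      intro T y
      obtain ⟨T₁, π₁, hπ₁, y', hy'⟩ := surjective_up_to_refinements_of_epi (sqπ hB) y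
      obtain ⟨T₂, π₂, hπ₂, x, hx⟩ := h4 (y' ≫ B'.arrow) (B'.factors_comp_arrow y')
      refine ⟨T₂, π₂ ≫ π₁, epi_comp _ _, x, ?_⟩
      have hb : π₂ ≫ y' - x ≫ g' = B.factorThru _ hx ≫ B.ofLE B' hB := by
        rw [← cancel_mono B'.arrow, Preadditive.sub_comp, Category.assoc, Category.assoc,
          Category.assoc, hg', Subobject.ofLE_arrow, Subobject.factorThru_arrow]
      have : (π₂ ≫ y') ≫ sqπ hB = (x ≫ g') ≫ sqπ hB := by
        rw [← sub_eq_zero, ← Preadditive.sub_comp, hb, Category.assoc, sq_condition, comp_zero]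
      rw [Category.assoc, hy', ← Category.assoc, this, Category.assoc]
    exact epi_of_epi_fac (sqπ_desc hZ φ hφ)
  have hmono : Mono ψ := by
    apply Preadditive.mono_of_cancel_zero
    intro T a ha
    obtain ⟨T₁, π₁, hπ₁, x, hx⟩ := surjective_up_to_refinements_of_epi (sqπ hZ) a
    have h5 : (x ≫ g') ≫ sqπ hB = 0 := by
      rw [Category.assoc]
      change x ≫ φ = 0
      rw [← sqπ_desc hZ φ hφ, ← Category.assoc, ← hx, Category.assoc]
      exact (congrArg (fun t => π₁ ≫ t) ha).trans comp_zero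
    obtain ⟨T₂, π₂, hπ₂, b, hb⟩ := sq_exists_lift _ _ h5
    have h6 : B.Factors ((π₂ ≫ x) ≫ g) := by
      have : (π₂ ≫ x) ≫ g = b ≫ B.arrow := by
        rw [← hg', Category.assoc, ← Category.assoc x, ← Category.assoc, hb, Category.assoc,
          Subobject.ofLE_arrow]
      rw [this]
      exact B.factors_comp_arrow b
    have h7 := h3 (π₂ ≫ x) h6
    have h8 : π₂ ≫ x = Z'.factorThru _ h7 ≫ Z'.ofLE Z hZ := by
      rw [← cancel_mono Z.arrow]
      exact ((Category.assoc _ _ _).trans ((congrArg (fun t => _ ≫ t)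
        (Subobject.ofLE_arrow hZ)).trans (Subobject.factorThru_arrow _ _ h7))).symm
    rw [← cancel_epi π₁, ← cancel_epi π₂, comp_zero, comp_zero, hx, ← Category.assoc, h8,
      Category.assoc, sq_condition, comp_zero]
  have := isIso_of_mono_of_epi ψ
  exact ⟨asIso ψ⟩

end GL

end Groth.Agent.Lib.Helper1.Subquot
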