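import Groth.Agent.Lib.Helper1.FilCxElem
import Groth.Agent.Lib.Helper1.Subquot

set_option autoImplicit false
open CategoryTheory CategoryTheory.Limits
universe v u

namespace Groth.Agent.Lib.Helper1.FilCxPage

open SpSeq SpSeq.FilCx Groth.Agent.Lib.Helper8.SubLat1 Groth.Agent.Lib.Helper1.FilCxBasic
  Groth.Agent.Lib.Helper1.FilCxElem Groth.Agent.Lib.Helper1.Subquot

variable {A : Type u} [Category.{v} A] [Abelian A]

lemma sup_factors_iff' {X : A} (P Q : Subobject X) {T : A} (f : T ⟶ X) :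
    (P ⊔ Q).Factors f ↔ ∃ (T' : A) (π : T' ⟶ T) (_ : Epi π) (a b : T' ⟶ X),
      P.Factors a ∧ Q.Factors b ∧ π ≫ f = a + b := by
  rw [sup_factors_iff]
  constructor
  · rintro ⟨T', π, hπ, a, b, hab⟩
    exact ⟨T', π, hπ, a ≫ P.arrow, b ≫ Q.arrow, P.factors_comp_arrow a, Q.factors_comp_arrow b, hab⟩
  · rintro ⟨T', π, hπ, a, b, ha, hb, hab⟩
    exact ⟨T', π, hπ, P.factorThru a ha, Q.factorThru b hb, by
      rw [Subobject.factorThru_arrow, Subobject.factorThru_arrow, hab]⟩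

variable (K : FilCx A)

/-- `Z̃_s^{p,n} = F^p K^n ⊓ d⁻¹ F^{p+s} K^{n+1}`. -/
noncomputable def Zt (s : ℕ) (p n : ℤ) : Subobject (K.obj.X n) :=
  K.filX p n ⊓ (Subobject.pullback (K.obj.d n (n + 1))).obj (K.filX (p + s) (n + 1))

lemma ZSub_eq (s : ℕ) (p n : ℤ) : K.ZSub s p n = Zt K s p n ⊔ K.filX (p + 1) n := rfl

lemma Zt_factors_iff (s : ℕ) (p n : ℤ) {T : A} (x : T ⟶ K.obj.X n) :
    (Zt K s p n).Factors x ↔
      (K.filX p n).Factors x ∧ (K.filX (p + s) (n + 1)).Factors (x ≫ K.obj.d n (n + 1)) := by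
  unfold Zt
  rw [Subobject.inf_factors, pullback_factors_iff]

lemma ZSub_factors_iff (s : ℕ) (p n : ℤ) {T : A} (x : T ⟶ K.obj.X n) :
    (K.ZSub s p n).Factors x ↔ ∃ (T' : A) (π : T' ⟶ T) (_ : Epi π) (a b : T' ⟶ K.obj.X n),
      (K.filX p n).Factors a ∧ (K.filX (p + s) (n + 1)).Factors (a ≫ K.obj.d n (n + 1)) ∧
      (K.filX (p + 1) n).Factors b ∧ π ≫ x = a + b := by
  rw [ZSub_eq, sup_factors_iff']
  constructor
  · rintro ⟨T', π, hπ, a, b, ha, hb, hab⟩
    rw [Zt_factors_iff] at ha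
    exact ⟨T', π, hπ, a, b, ha.1, ha.2, hb, hab⟩
  · rintro ⟨T', π, hπ, a, b, ha1, ha2, hb, hab⟩
    exact ⟨T', π, hπ, a, b, (Zt_factors_iff K s p n a).2 ⟨ha1, ha2⟩, hb, hab⟩

lemma BSub_factors_iff (s : ℕ) (q n m : ℤ) (hnm : n + 1 = m) {T : A} (y : T ⟶ K.obj.X m) :
    (K.BSub s q m).Factors y ↔ ∃ (T' : A) (π : T' ⟶ T) (_ : Epi π) (c : T' ⟶ K.obj.X n)
      (b : T' ⟶ K.obj.X m),
      (K.filX (q - s + 1) n).Factors c ∧ (K.filX q m).Factors (c ≫ K.obj.d n m) ∧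
      (K.filX (q + 1) m).Factors b ∧ π ≫ y = c ≫ K.obj.d n m + b := by
  obtain rfl : n = m - 1 := by omega
  unfold BSub
  rw [sup_factors_iff']
  constructor
  · rintro ⟨T', π, hπ, a, b, ha, hb, hab⟩
    rw [Subobject.inf_factors, image_arrow_comp_factors_iff] at ha
    obtain ⟨ha1, T'', π', hπ', c, hc, hca⟩ := ha
    refine ⟨T'', π' ≫ π, epi_comp _ _, c, π' ≫ b, hc, ?_, Subobject.factors_of_factors_right _ hb, ?_⟩
    · rw [← hca]; exact Subobject.factors_of_factors_right _ ha1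
    · rw [Category.assoc, hab, Preadditive.comp_add, hca]
  · rintro ⟨T', π, hπ, c, b, hc, hcd, hb, hy⟩
    refine ⟨T', π, hπ, c ≫ K.obj.d (m - 1) m, b, ?_, hb, hy⟩
    rw [Subobject.inf_factors, image_arrow_comp_factors_iff]
    exact ⟨hcd, T', 𝟙 _, inferInstance, c, hc, by simp⟩

lemma Zt_anti (s : ℕ) (p n : ℤ) : Zt K (s + 1) p n ≤ Zt K s p n := by
  apply Subobject.le_of_factors
  have h := (Zt_factors_iff K (s + 1) p n _).1 (Subobject.factors_self (Zt K (s + 1) p n))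
  rw [Zt_factors_iff]
  exact ⟨h.1, filX_factors_of_le K (by push_cast; omega) _ _ h.2⟩

lemma ZSub_anti (s : ℕ) (p n : ℤ) : K.ZSub (s + 1) p n ≤ K.ZSub s p n := by
  rw [ZSub_eq, ZSub_eq]
  exact sup_le_sup_right (Zt_anti K s p n) _

lemma BSub_mono (s : ℕ) (q m : ℤ) : K.BSub s q m ≤ K.BSub (s + 1) q m := by
  apply Subobject.le_of_factors
  have h := (BSub_factors_iff K s q (m - 1) m (by omega) _).1
    (Subobject.factors_self (K.BSub s q m))
  obtain ⟨T', π, hπ, c, b, hc, hcd, hb, hy⟩ := h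
  apply factors_of_epi_comp π
  rw [BSub_factors_iff K (s + 1) q (m - 1) m (by omega)]
  exact ⟨T', 𝟙 _, inferInstance, c, b, filX_factors_of_le K (by push_cast; omega) _ _ hc, hcd, hb,
    by rw [Category.id_comp, hy]⟩

lemma BSub_succ_le_ZSub (s : ℕ) (p n : ℤ) : K.BSub (s + 1) p n ≤ K.ZSub s p n :=
  (K.BSub_le_ZSub (s + 1) p n).trans (ZSub_anti K s p n)

lemma BSub_le_ZSub_succ (s : ℕ) (p n : ℤ) : K.BSub s p n ≤ K.ZSub (s + 1) p n :=
  (BSub_mono K s p n).trans (K.BSub_le_ZSub (s + 1) p n)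

lemma ZSub_eq_sup (s : ℕ) (p n : ℤ) : K.ZSub s p n = K.ZSub (s + 1) p n ⊔ Zt K s p n := by
  rw [ZSub_eq, ZSub_eq]
  apply le_antisymm
  · exact sup_le le_sup_right (le_sup_left.trans' le_sup_right)
  · exact sup_le (sup_le ((Zt_anti K s p n).trans le_sup_left) le_sup_right) le_sup_left

/-- The key isomorphism `Z_s^{p,n}/Z_{s+1}^{p,n} ≅ B_{s+1}^{p+s,n+1}/B_s^{p+s,n+1}` induced by `d`. -/
theorem nonempty_iso_Z_B (s : ℕ) (p n : ℤ) :
    Nonempty (subquot (K.ZSub s p n) (K.ZSub (s + 1) p n) (ZSub_anti K s p n) ≅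
      subquot (K.BSub (s + 1) (p + s) (n + 1)) (K.BSub s (p + s) (n + 1))
        (BSub_mono K s (p + s) (n + 1))) := by
  obtain ⟨e1⟩ := subquot_congr (ZSub_anti K s p n)
    (le_sup_left : K.ZSub (s + 1) p n ≤ K.ZSub (s + 1) p n ⊔ Zt K s p n) (ZSub_eq_sup K s p n) rfl
  obtain ⟨e2⟩ := subquot_secondIso (K.ZSub (s + 1) p n) (Zt K s p n)
  suffices h : Nonempty (subquot (Zt K s p n) (K.ZSub (s + 1) p n ⊓ Zt K s p n) inf_le_right ≅
      subquot (K.BSub (s + 1) (p + s) (n + 1)) (K.BSub s (p + s) (n + 1))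
        (BSub_mono K s (p + s) (n + 1))) by
    obtain ⟨e3⟩ := h
    exact ⟨e1 ≪≫ e2 ≪≫ e3⟩
  refine subquot_iso_of inf_le_right (BSub_mono K s (p + s) (n + 1))
    ((Zt K s p n).arrow ≫ K.obj.d n (n + 1)) ?_ ?_ ?_ ?_
  · -- (i)
    have hZ := (Zt_factors_iff K s p n _).1 (Subobject.factors_self (Zt K s p n))
    rw [BSub_factors_iff K (s + 1) (p + s) n (n + 1) rfl]
    exact ⟨_, 𝟙 _, inferInstance, (Zt K s p n).arrow, 0,
      filX_factors_of_le K (by push_cast; omega) _ _ hZ.1, hZ.2, Subobject.factors_zero, by simp⟩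
  · -- (ii)
    rw [← Category.assoc, Subobject.ofLE_arrow]
    set Z' := K.ZSub (s + 1) p n ⊓ Zt K s p n with hZ'
    have h1 : (K.ZSub (s + 1) p n).Factors Z'.arrow := Subobject.inf_arrow_factors_left _ _
    have h2 := (Zt_factors_iff K s p n _).1 (Subobject.inf_arrow_factors_right
      (K.ZSub (s + 1) p n) (Zt K s p n))
    obtain ⟨T', π, hπ, a, b, ha1, ha2, hb, hab⟩ := (ZSub_factors_iff K (s + 1) p n _).1 h1
    apply factors_of_epi_comp π
    rw [BSub_factors_iff K s (p + s) n (n + 1) rfl]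
    refine ⟨T', 𝟙 _, inferInstance, b, a ≫ K.obj.d n (n + 1),
      filX_factors_of_le K (by omega) _ _ hb, ?_,
      filX_factors_of_le K (by push_cast; omega) _ _ ha2, ?_⟩
    · have : b ≫ K.obj.d n (n + 1) = π ≫ Z'.arrow ≫ K.obj.d n (n + 1) - a ≫ K.obj.d n (n + 1) := by
        rw [← Category.assoc, hab, Preadditive.add_comp]; abel
      rw [this]
      exact factors_sub _ _ _ (Subobject.factors_of_factors_right _ h2.2)
        (filX_factors_of_le K (by push_cast; omega) _ _ ha2)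
    · rw [Category.id_comp, ← Category.assoc, hab, Preadditive.add_comp]; abel
  · -- (iii)
    intro T x hx
    have hu := (Zt_factors_iff K s p n _).1 (Subobject.factors_comp_arrow x)
    rw [Subobject.inf_factors]
    refine ⟨?_, Subobject.factors_comp_arrow x⟩
    rw [← Category.assoc, BSub_factors_iff K s (p + s) n (n + 1) rfl] at hx
    obtain ⟨T', π, hπ, c, b, hc, hcd, hb, hy⟩ := hx
    apply factors_of_epi_comp π
    rw [ZSub_factors_iff]
    have hc' : (K.filX (p + 1) n).Factors c := filX_factors_of_le K (by omega) _ _ hc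
    refine ⟨T', 𝟙 _, inferInstance, π ≫ x ≫ (Zt K s p n).arrow - c, c, ?_, ?_, hc', by simp⟩
    · exact factors_sub _ _ _ (Subobject.factors_of_factors_right _ hu.1)
        (filX_factors_of_le K (by omega) _ _ hc')
    · have : (π ≫ x ≫ (Zt K s p n).arrow - c) ≫ K.obj.d n (n + 1) = b := by
        rw [Preadditive.sub_comp, Category.assoc, Category.assoc, ← Category.assoc x, hy]; abel
      rw [this]
      exact filX_factors_of_le K (by push_cast; omega) _ _ hb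
  · -- (iv)
    intro T y hy
    rw [BSub_factors_iff K (s + 1) (p + s) n (n + 1) rfl] at hy
    obtain ⟨T', π, hπ, c, b, hc, hcd, hb, hy⟩ := hy
    have hcZ : (Zt K s p n).Factors c :=
      (Zt_factors_iff K s p n c).2 ⟨filX_factors_of_le K (by push_cast; omega) _ _ hc, hcd⟩
    refine ⟨T', π, hπ, (Zt K s p n).factorThru c hcZ, ?_⟩
    have : π ≫ y - (Zt K s p n).factorThru c hcZ ≫ (Zt K s p n).arrow ≫ K.obj.d n (n + 1) = b := by
      rw [← Category.assoc, Subobject.factorThru_arrow, hy]; abel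
    rw [this]
    unfold BSub
    exact Subobject.sup_factors_of_factors_right hb

lemma exact_of_epi_comp {X' X₁ X₂ X₃ : A} (e : X' ⟶ X₁) [Epi e] (f : X₁ ⟶ X₂) (g : X₂ ⟶ X₃)
    (w : f ≫ g = 0) (h : (ShortComplex.mk f g w).Exact) :
    (ShortComplex.mk (e ≫ f) g (by rw [Category.assoc, w, comp_zero])).Exact := by
  rw [ShortComplex.exact_iff_exact_up_to_refinements] at h ⊢
  intro T x hx
  obtain ⟨T₁, π₁, hπ₁, y, hy⟩ := h x hx
  obtain ⟨T₂, π₂, hπ₂, z, hz⟩ := surjective_up_to_refinements_of_epi e y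
  refine ⟨T₂, π₂ ≫ π₁, epi_comp _ _, z, ?_⟩
  dsimp only at hy ⊢
  rw [Category.assoc, hy, ← Category.assoc, hz, Category.assoc]

/-- `B_{s+1}^{p,n}/B_s^{p,n}`. -/
noncomputable def Jobj (s : ℕ) (p n : ℤ) : A :=
  subquot (K.BSub (s + 1) p n) (K.BSub s p n) (BSub_mono K s p n)

variable {K} {P : ObjectProperty A} [P.IsClosedUnderIsomorphisms]

lemma Jobj_mem (hW : IsWeakSerre P) (s : ℕ) (hs : ∀ p n : ℤ, P (K.E s p n)) (p n : ℤ) :
    P (Jobj K s p n) := by
  suffices h : ∀ p n : ℤ, P (Jobj K s (p + s) (n + 1)) by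
    have := h (p - s) (n - 1)
    have e1 : p - (s : ℤ) + s = p := by omega
    have e2 : n - 1 + 1 = n := by omega
    rw [e1, e2] at this
    exact this
  intro p n
  obtain ⟨e⟩ := nonempty_iso_Z_B K s p n
  -- position (p, n)
  have hBZ : K.BSub s p n ≤ K.ZSub (s + 1) p n := BSub_le_ZSub_succ K s p n
  have hZZ : K.ZSub (s + 1) p n ≤ K.ZSub s p n := ZSub_anti K s p n
  -- position (p + s, n + 1)
  have hBB' : K.BSub s (p + s) (n + 1) ≤ K.BSub (s + 1) (p + s) (n + 1) := BSub_mono K s _ _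
  have hBZ' : K.BSub (s + 1) (p + s) (n + 1) ≤ K.ZSub s (p + s) (n + 1) :=
    BSub_succ_le_ZSub K s _ _
  let δ : K.E s p n ⟶ K.E s (p + s) (n + 1) :=
    subquotπ hBZ hZZ ≫ e.hom ≫ subquotι hBB' hBZ'
  have hex := exact_of_epi_comp (subquotπ hBZ hZZ ≫ e.hom) (subquotι hBB' hBZ')
    (subquotπ hBB' hBZ') (subquotι_π hBB' hBZ') (subquot_exact hBB' hBZ')
  have h1 : P (subquot (K.ZSub s (p + s) (n + 1)) (K.BSub (s + 1) (p + s) (n + 1)) hBZ') :=
    hW.of_epi_exact _ hex (by dsimp; infer_instance) (hs p n) (hs (p + s) (n + 1))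
  exact hW.of_mono_exact _ (subquot_exact hBB' hBZ') (by dsimp; infer_instance)
    (hs (p + s) (n + 1)) h1

theorem page_succ_mem (hW : IsWeakSerre P) (s : ℕ) (hs : ∀ p n : ℤ, P (K.E s p n)) (p n : ℤ) :
    P (K.E (s + 1) p n) := by
  obtain ⟨e⟩ := nonempty_iso_Z_B K s p n
  have hBB : K.BSub s p n ≤ K.BSub (s + 1) p n := BSub_mono K s p n
  have hBZ1 : K.BSub (s + 1) p n ≤ K.ZSub (s + 1) p n := K.BSub_le_ZSub (s + 1) p n
  have hBZ : K.BSub s p n ≤ K.ZSub (s + 1) p n := BSub_le_ZSub_succ K s p n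
  have hZZ : K.ZSub (s + 1) p n ≤ K.ZSub s p n := ZSub_anti K s p n
  have hJ' : P (subquot (K.ZSub s p n) (K.ZSub (s + 1) p n) hZZ) :=
    P.prop_of_iso e.symm (Jobj_mem hW s hs (p + s) (n + 1))
  have h1 : P (subquot (K.ZSub (s + 1) p n) (K.BSub s p n) hBZ) :=
    hW.of_mono_exact _ (subquot_exact hBZ hZZ) (by dsimp; infer_instance) (hs p n) hJ'
  exact hW.of_epi_exact _ (subquot_exact hBB hBZ1) (by dsimp; infer_instance)
    (Jobj_mem hW s hs p n) h1

theorem page_mem_of_le (hW : IsWeakSerre P) (r : ℕ) (hr : ∀ p n : ℤ, P (K.E r p n)) (s : ℕ)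
    (hrs : r ≤ s) (p n : ℤ) : P (K.E s p n) := by
  induction s, hrs using Nat.le_induction generalizing p n with
  | base => exact hr p n
  | succ s _ ih => exact page_succ_mem hW s ih p n

end Groth.Agent.Lib.Helper1.FilCxPage
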