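import Mathlib

set_option autoImplicit false
open CategoryTheory CategoryTheory.Limits Opposite

namespace Groth.Agent.Lib.Helper1.FilteredSheaf

universe u v w

section Common

variable {I : Type*} [Category I] [IsFiltered I]

/-- Finitely many "eventually true" upward closed conditions hold simultaneously. -/
theorem exists_common {α : Type*} [Finite α] (i₀ : I)
    (Q : α → ∀ j : I, (i₀ ⟶ j) → Prop)
    (hQ : ∀ a j (f : i₀ ⟶ j) j' (g : j ⟶ j'), Q a j f → Q a j' (f ≫ g))
    (h : ∀ a, ∃ j f, Q a j f) : ∃ j f, ∀ a, Q a j f := by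
  classical
  cases nonempty_fintype α
  suffices H : ∀ s : Finset α, ∃ j f, ∀ a ∈ s, Q a j f by
    obtain ⟨j, f, hf⟩ := H Finset.univ
    exact ⟨j, f, fun a => hf a (Finset.mem_univ a)⟩
  intro s
  induction s using Finset.induction_on with
  | empty => exact ⟨i₀, 𝟙 _, fun a ha => by simp at ha⟩
  | insert a s _ ih =>
    obtain ⟨j₁, f₁, h₁⟩ := ih
    obtain ⟨j₂, f₂, h₂⟩ := h a
    let j₃ := IsFiltered.max j₁ j₂
    let l : j₁ ⟶ j₃ := IsFiltered.leftToMax j₁ j₂
    let r : j₂ ⟶ j₃ := IsFiltered.rightToMax j₁ j₂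
    let k := IsFiltered.coeq (f₁ ≫ l) (f₂ ≫ r)
    let e : j₃ ⟶ k := IsFiltered.coeqHom (f₁ ≫ l) (f₂ ≫ r)
    have he : (f₁ ≫ l) ≫ e = (f₂ ≫ r) ≫ e := IsFiltered.coeq_condition _ _
    refine ⟨k, (f₁ ≫ l) ≫ e, fun b hb => ?_⟩
    rcases Finset.mem_insert.1 hb with rfl | hb
    · rw [he, Category.assoc]
      exact hQ _ _ _ _ _ h₂
    · rw [Category.assoc]
      exact hQ _ _ _ _ _ (h₁ b hb)

end Common

section Main

variable {C : Type u} [Category.{v} C] {I : Type w} [Category.{w} I]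
  {F : I ⥤ Cᵒᵖ ⥤ Type w} {c : Cocone F} (hc : IsColimit c)

include hc

theorem rep (Y : C) (x : c.pt.obj (op Y)) :
    ∃ (i : I) (y : (F.obj i).obj (op Y)), (c.ι.app i).app (op Y) y = x :=
  Types.jointly_surjective_of_isColimit
    (isColimitOfPreserves ((evaluation Cᵒᵖ (Type w)).obj (op Y)) hc) x

theorem eq_imp [IsFiltered I] (Y : C) {i : I} (y y' : (F.obj i).obj (op Y))
    (h : (c.ι.app i).app (op Y) y = (c.ι.app i).app (op Y) y') :
    ∃ (j : I) (f : i ⟶ j), (F.map f).app (op Y) y = (F.map f).app (op Y) y' :=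
  (Types.FilteredColimit.isColimit_eq_iff'
    (isColimitOfPreserves ((evaluation Cᵒᵖ (Type w)).obj (op Y)) hc) y y').1 h

omit hc in
theorem ι_map (Y : C) {i j : I} (f : i ⟶ j) (y : (F.obj i).obj (op Y)) :
    (c.ι.app j).app (op Y) ((F.map f).app (op Y) y) = (c.ι.app i).app (op Y) y := by
  have := c.w f
  exact ConcreteCategory.congr_hom (NatTrans.congr_app this (op Y)) y

omit hc in
theorem ι_nat {Y Y' : C} (h : Y' ⟶ Y) {i : I} (y : (F.obj i).obj (op Y)) :
    c.pt.map h.op ((c.ι.app i).app (op Y) y) = (c.ι.app i).app (op Y') ((F.obj i).map h.op y) :=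
  (NatTrans.naturality_apply (c.ι.app i) h.op y).symm

omit hc in
theorem map_nat {Y Y' : C} (h : Y' ⟶ Y) {i j : I} (f : i ⟶ j) (y : (F.obj i).obj (op Y)) :
    (F.obj j).map h.op ((F.map f).app (op Y) y) = (F.map f).app (op Y') ((F.obj i).map h.op y) :=
  (NatTrans.naturality_apply (F.map f) h.op y).symm

omit hc in
theorem map_comp_app (Y : C) {i j k : I} (f : i ⟶ j) (f' : j ⟶ k) (y : (F.obj i).obj (op Y)) :
    (F.map (f ≫ f')).app (op Y) y = (F.map f').app (op Y) ((F.map f).app (op Y) y) := by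
  rw [F.map_comp]
  rfl

variable [IsFiltered I]

/-- Two elements at the same stage. -/
theorem rep₂ (Y : C) (x x' : c.pt.obj (op Y)) :
    ∃ (i : I) (y y' : (F.obj i).obj (op Y)), (c.ι.app i).app (op Y) y = x ∧
      (c.ι.app i).app (op Y) y' = x' := by
  obtain ⟨i, y, rfl⟩ := rep hc Y x
  obtain ⟨i', y', rfl⟩ := rep hc Y x'
  refine ⟨IsFiltered.max i i', (F.map (IsFiltered.leftToMax i i')).app (op Y) y,
    (F.map (IsFiltered.rightToMax i i')).app (op Y) y', ι_map _ _ _, ι_map _ _ _⟩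

/-- A finite family of elements at the same stage. -/
theorem repFin {α : Type*} [Finite α] (V : α → C) (x : ∀ a, c.pt.obj (op (V a))) :
    ∃ (i : I) (y : ∀ a, (F.obj i).obj (op (V a))), ∀ a, (c.ι.app i).app (op (V a)) (y a) = x a := by
  classical
  cases nonempty_fintype α
  choose i y hy using fun a => rep hc (V a) (x a)
  obtain ⟨i₀, hi₀⟩ := IsFiltered.sup_objs_exists (Finset.univ.image i)
  have f : ∀ a, i a ⟶ i₀ := fun a =>
    (hi₀ (Finset.mem_image_of_mem i (Finset.mem_univ a))).some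
  exact ⟨i₀, fun a => (F.map (f a)).app (op (V a)) (y a), fun a => by rw [ι_map, hy]⟩

variable {X : C} {α : Type*} [Finite α] (V : α → C) (g : ∀ a, V a ⟶ X)

theorem sepFin (hF : ∀ i, Presieve.IsSeparatedFor (F.obj i) (Presieve.ofArrows V g)) :
    Presieve.IsSeparatedFor c.pt (Presieve.ofArrows V g) := by
  intro x t t' ht ht'
  obtain ⟨i₀, s, s', rfl, rfl⟩ := rep₂ hc X t t'
  have key : ∀ a, ∃ (j : I) (f : i₀ ⟶ j), (F.obj j).map (g a).op ((F.map f).app (op X) s) =
      (F.obj j).map (g a).op ((F.map f).app (op X) s') := by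
    intro a
    have h1 := ht (g a) (Presieve.ofArrows.mk a)
    have h2 := ht' (g a) (Presieve.ofArrows.mk a)
    rw [ι_nat] at h1 h2
    obtain ⟨j, f, hf⟩ := eq_imp hc (V a) _ _ (h1.trans h2.symm)
    exact ⟨j, f, by rw [map_nat, map_nat, hf]⟩
  obtain ⟨j, f, hf⟩ := exists_common i₀
    (fun a j f => (F.obj j).map (g a).op ((F.map f).app (op X) s) =
      (F.obj j).map (g a).op ((F.map f).app (op X) s'))
    (fun a j f j' f' h => by
      rw [map_comp_app, map_comp_app, map_nat (g a) f' ((F.map f).app (op X) s),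
        map_nat (g a) f' ((F.map f).app (op X) s'), h]) key
  have : (F.map f).app (op X) s = (F.map f).app (op X) s' := by
    apply (hF j).ext
    rintro _ _ ⟨a⟩
    exact hf a
  rw [← ι_map X f s, ← ι_map X f s', this]

theorem shFin [HasPullbacks C]
    (hF : ∀ i, Presieve.IsSheafFor (F.obj i) (Presieve.ofArrows V g)) :
    Presieve.IsSheafFor c.pt (Presieve.ofArrows V g) := by
  rw [Presieve.isSheafFor_arrows_iff_pullbacks]
  intro x hx
  have huniq : ∀ t t', (∀ a, c.pt.map (g a).op t = x a) → (∀ a, c.pt.map (g a).op t' = x a) →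
      t = t' := by
    intro t t' ht ht'
    apply (sepFin hc V g (fun i => (hF i).isSeparatedFor)).ext
    rintro _ _ ⟨a⟩
    rw [ht, ht']
  obtain ⟨i₀, y, hy⟩ := repFin hc V x
  have key : ∀ ab : α × α, ∃ (j : I) (f : i₀ ⟶ j),
      (F.obj j).map (pullback.fst (g ab.1) (g ab.2)).op ((F.map f).app _ (y ab.1)) =
        (F.obj j).map (pullback.snd (g ab.1) (g ab.2)).op ((F.map f).app _ (y ab.2)) := by
    rintro ⟨a, b⟩
    have h := hx a b
    rw [← hy a, ← hy b, ι_nat, ι_nat] at h
    obtain ⟨j, f, hf⟩ := eq_imp hc _ _ _ h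
    exact ⟨j, f, by rw [map_nat, map_nat, hf]⟩
  obtain ⟨j, f, hf⟩ := exists_common i₀
    (fun (ab : α × α) j f =>
      (F.obj j).map (pullback.fst (g ab.1) (g ab.2)).op ((F.map f).app _ (y ab.1)) =
        (F.obj j).map (pullback.snd (g ab.1) (g ab.2)).op ((F.map f).app _ (y ab.2)))
    (fun ab j f j' f' h => by
      rw [map_comp_app, map_comp_app, map_nat _ f' ((F.map f).app _ (y ab.1)),
        map_nat _ f' ((F.map f).app _ (y ab.2)), h]) key
  obtain ⟨t, ht, -⟩ := (Presieve.isSheafFor_arrows_iff_pullbacks (F.obj j) g).1 (hF j)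
    (fun a => (F.map f).app _ (y a)) (fun a b => hf (a, b))
  refine ⟨(c.ι.app j).app (op X) t, fun a => ?_, fun t' ht' => huniq _ _ ht' fun a => ?_⟩
  · rw [ι_nat, ht a, ι_map, hy]
  · rw [ι_nat, ht a, ι_map, hy]

omit [Finite α] in
theorem isSheaf_of_qc [HasPullbacks C] (J : GrothendieckTopology C)
    (hJ : ∀ (X : C), ∀ S ∈ J X, ∃ (n : ℕ) (V : Fin n → C) (g : ∀ k, V k ⟶ X),
      (∀ k, S (g k)) ∧ Sieve.ofArrows V g ∈ J X)
    (hF : ∀ i, Presieve.IsSheaf J (F.obj i)) : Presieve.IsSheaf J c.pt := by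
  have hfin : ∀ (X : C) (n : ℕ) (V : Fin n → C) (g : ∀ k, V k ⟶ X), Sieve.ofArrows V g ∈ J X →
      Presieve.IsSheafFor c.pt (Presieve.ofArrows V g) := by
    intro X n V g hg
    apply shFin hc V g
    intro i
    rw [Presieve.isSheafFor_iff_generate]
    exact hF i _ hg
  have hsep : ∀ (X : C) (S : Sieve X), S ∈ J X → Presieve.IsSeparatedFor c.pt S.arrows := by
    intro X S hS
    obtain ⟨n, V, g, hgS, hg⟩ := hJ X S hS
    have h1 := (hfin X n V g hg).isSeparatedFor
    intro x t t' ht ht'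
    have hle : Presieve.ofArrows V g ≤ S.arrows := by
      rintro _ _ ⟨k⟩
      exact hgS k
    exact h1 (x.restrict hle) t t' (Presieve.isAmalgamation_restrict hle x t ht)
      (Presieve.isAmalgamation_restrict hle x t' ht')
  intro X S hS
  obtain ⟨n, V, g, hgS, hg⟩ := hJ X S hS
  have hle : ((Sieve.ofArrows V g : Sieve X) : Presieve X) ≤ S.arrows := by
    have : Sieve.ofArrows V g ≤ S := by
      rw [Sieve.ofArrows, Sieve.generate_le_iff]
      rintro _ _ ⟨k⟩
      exact hgS k
    exact this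
  refine Presieve.isSheafFor_subsieve_aux c.pt hle
    ((Presieve.isSheafFor_iff_generate _).1 (hfin X n V g hg)) ?_
  intro Y f hf
  exact hsep Y _ (J.pullback_stable f hg)

end Main

section Final

variable {C : Type u} [SmallCategory C] [HasPullbacks C] (J : GrothendieckTopology C)

theorem preservesColimitsOfShape_sheafToPresheaf
    (hJ : ∀ (X : C), ∀ S ∈ J X, ∃ (n : ℕ) (V : Fin n → C) (g : ∀ k, V k ⟶ X),
      (∀ k, S (g k)) ∧ Sieve.ofArrows V g ∈ J X)
    (I : Type u) [SmallCategory I] [IsFiltered I] :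
    PreservesColimitsOfShape I (sheafToPresheaf J (Type u)) := by
  constructor
  intro D
  let F := D ⋙ sheafToPresheaf J (Type u)
  let c := colimit.cocone F
  have hc : IsColimit c := colimit.isColimit F
  have hsh : Presheaf.IsSheaf J c.pt := by
    rw [isSheaf_iff_isSheaf_of_type]
    exact isSheaf_of_qc hc J hJ (fun i => (isSheaf_iff_isSheaf_of_type _ _).1 (D.obj i).property)
  let c' : Cocone D :=
    { pt := ⟨c.pt, hsh⟩
      ι := { app := fun i => ObjectProperty.homMk (c.ι.app i)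
             naturality := fun i j f => by
              ext : 1
              exact c.ι.naturality f } }
  have e : (sheafToPresheaf J (Type u)).mapCocone c' ≅ c := Cocone.ext (Iso.refl _) (fun i => by
    simp [c'])
  have hc' : IsColimit c' :=
    isColimitOfReflects (sheafToPresheaf J (Type u)) (hc.ofIsoColimit e.symm)
  exact preservesColimit_of_preserves_colimit_cocone hc' (hc.ofIsoColimit e.symm)

end Final

end Groth.Agent.Lib.Helper1.FilteredSheaf
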