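import Groth.Agent.Lib.Helper1.FlatSES
import Mathlib.Algebra.Homology.ShortComplex.HomologicalComplex
import Mathlib.Algebra.Homology.Additive

/-!
# Bounded below acyclic complexes of flat modules stay acyclic after tensoring
-/

set_option autoImplicit false
universe u
open CategoryTheory CategoryTheory.Limits

namespace Groth.Agent.Lib.Helper1.FlatAcyclic

section Abstract

variable {𝒜 ℬ : Type*} [Category 𝒜] [Category ℬ] [Abelian 𝒜] [Abelian ℬ]

/-- exactness of the image of `A → B → C` under a right exact functor, given a factorisation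
through the kernel and the image whose pieces are well-behaved -/
lemma exact_map_of_factor (Φ : 𝒜 ⥤ ℬ) [Φ.Additive] [PreservesFiniteColimits Φ]
    {A B C' Z Z' : 𝒜} (f : A ⟶ B) (g : B ⟶ C') (ι : Z ⟶ B) (e' : A ⟶ Z) (e : B ⟶ Z')
    (m : Z' ⟶ C') (hf : e' ≫ ι = f) (hg : e ≫ m = g) [Epi e'] (w : ι ≫ e = 0)
    (hses : (ShortComplex.mk (Φ.map ι) (Φ.map e)
      (by rw [← Φ.map_comp, w, Φ.map_zero])).Exact) [Mono (Φ.map m)]
    (wfg : Φ.map f ≫ Φ.map g = 0) :
    (ShortComplex.mk (Φ.map f) (Φ.map g) wfg).Exact := by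
  have w' : Φ.map ι ≫ Φ.map g = 0 := by
    rw [← hg, Φ.map_comp, ← Category.assoc, ← Φ.map_comp, w, Φ.map_zero, zero_comp]
  let S₂ : ShortComplex ℬ := ShortComplex.mk (Φ.map ι) (Φ.map e)
      (by rw [← Φ.map_comp, w, Φ.map_zero])
  let S₁' : ShortComplex ℬ := ShortComplex.mk (Φ.map ι) (Φ.map g) w'
  let S₁ : ShortComplex ℬ := ShortComplex.mk (Φ.map f) (Φ.map g) wfg
  let φ : S₂ ⟶ S₁' :=
    { τ₁ := 𝟙 _
      τ₂ := 𝟙 _
      τ₃ := Φ.map m
      comm₁₂ := by simp [S₂, S₁']
      comm₂₃ := by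
        show 𝟙 _ ≫ Φ.map g = Φ.map e ≫ Φ.map m
        rw [← Φ.map_comp, hg, Category.id_comp] }
  let ψ : S₁ ⟶ S₁' :=
    { τ₁ := Φ.map e'
      τ₂ := 𝟙 _
      τ₃ := 𝟙 _
      comm₁₂ := by
        show Φ.map e' ≫ Φ.map ι = Φ.map f ≫ 𝟙 _
        rw [← Φ.map_comp, hf, Category.comp_id]
      comm₂₃ := by simp [S₁, S₁'] }
  haveI : Epi φ.τ₁ := inferInstanceAs (Epi (𝟙 _))
  haveI : IsIso φ.τ₂ := inferInstanceAs (IsIso (𝟙 _))
  haveI : Mono φ.τ₃ := inferInstanceAs (Mono (Φ.map m))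
  haveI : Epi ψ.τ₁ := inferInstanceAs (Epi (Φ.map e'))
  haveI : IsIso ψ.τ₂ := inferInstanceAs (IsIso (𝟙 _))
  haveI : Mono ψ.τ₃ := inferInstanceAs (Mono (𝟙 _))
  have h1 : S₁'.Exact := (ShortComplex.exact_iff_of_epi_of_isIso_of_mono φ).1 hses
  exact (ShortComplex.exact_iff_of_epi_of_isIso_of_mono ψ).2 h1

end Abstract

open Groth.Agent.Lib.Helper1.TensorAdj Groth.Agent.Lib.Helper1.ModFlat
  Groth.Agent.Lib.Helper1.ModFlatMore Groth.Agent.Lib.Helper1.FlatSES

variable {C : Type u} [SmallCategory C] {J : GrothendieckTopology C}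
  {O : Sheaf J CommRingCat.{u}}

/-- a zero module is flat -/
theorem isFlat_of_isZero (Z : ModSite.Mod O) (h : IsZero Z) : ModSite.IsFlat Z := by
  apply isFlat_of_preservesMono_tensL
  constructor
  intro G' G u hu
  have hz : IsZero ((tensL O Z).obj G') := (tens O G').map_isZero h
  exact ⟨fun a b _ => hz.eq_of_tgt a b⟩

variable (M : ChainComplex (ModSite.Mod O) ℤ)

/-- cycles -/
noncomputable abbrev Z (j k : ℤ) : ModSite.Mod O := kernel (M.d j k)

/-- inclusion of cycles -/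
noncomputable abbrev ι (j k : ℤ) : Z M j k ⟶ M.X j := kernel.ι _

/-- the differential, corestricted to cycles -/
noncomputable abbrev e (i j k : ℤ) : M.X i ⟶ Z M j k :=
  kernel.lift (M.d j k) (M.d i j) (M.d_comp_d i j k)

lemma ι_e (j k l : ℤ) : ι M j k ≫ e M j k l = 0 := by
  rw [← cancel_mono (ι M k l), Category.assoc, kernel.lift_ι, kernel.condition, zero_comp]

/-- the short complex `Z_j → M_j → Z_k` -/
noncomputable def ses (j k l : ℤ) : ShortComplex (ModSite.Mod O) :=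
  ShortComplex.mk (ι M j k) (e M j k l) (ι_e M j k l)

lemma ses_shortExact (j k l : ℤ) (hex : (M.sc' j k l).Exact) : (ses M j k l).ShortExact where
  exact := by
    let S' : ShortComplex (ModSite.Mod O) :=
      ShortComplex.mk (ι M j k) (M.d j k) (kernel.condition _)
    have hS' : S'.Exact := ShortComplex.exact_of_f_is_kernel _ (kernelIsKernel _)
    let φ : ses M j k l ⟶ S' :=
      { τ₁ := 𝟙 _
        τ₂ := 𝟙 _
        τ₃ := ι M k l
        comm₁₂ := by simp [ses, S']
        comm₂₃ := by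
          show 𝟙 _ ≫ M.d j k = e M j k l ≫ ι M k l
          rw [kernel.lift_ι, Category.id_comp] }
    haveI : Epi φ.τ₁ := inferInstanceAs (Epi (𝟙 _))
    haveI : IsIso φ.τ₂ := inferInstanceAs (IsIso (𝟙 _))
    haveI : Mono φ.τ₃ := inferInstanceAs (Mono (ι M k l))
    exact (ShortComplex.exact_iff_of_epi_of_isIso_of_mono φ).2 hS'
  mono_f := inferInstanceAs (Mono (ι M j k))
  epi_g := (ShortComplex.exact_iff_epi_kernel_lift (M.sc' j k l)).1 hex

lemma exact_sc' (hac : M.Acyclic) (k : ℤ) : (M.sc' (k + 1) k (k - 1)).Exact :=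
  (M.exactAt_iff' (k + 1) k (k - 1) (ChainComplex.prev ℤ k) (ChainComplex.next ℤ k)).1 (hac k)

/-- cycles of a bounded below acyclic complex of flat modules are flat -/
theorem isFlat_Z (i₀ : ℤ) (hb : ∀ i, i < i₀ → IsZero (M.X i))
    (hM : ∀ i, ModSite.IsFlat (M.X i)) (hac : M.Acyclic) :
    ∀ k : ℤ, ModSite.IsFlat (Z M k (k - 1)) := by
  have key : ∀ n : ℕ, ∀ k : ℤ, k < i₀ + n → ModSite.IsFlat (Z M k (k - 1)) := by
    intro n
    induction n with
    | zero =>
      intro k hk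
      apply isFlat_of_isZero
      have h0 : IsZero (M.X k) := hb k (by simpa using hk)
      exact IsZero.of_mono (ι M k (k - 1)) h0
    | succ n ih =>
      intro k hk
      have h1 : ModSite.IsFlat (Z M (k - 1) (k - 1 - 1)) := ih (k - 1) (by push_cast at hk; omega)
      have hex : (M.sc' k (k - 1) (k - 1 - 1)).Exact := by
        have := exact_sc' M hac (k - 1)
        rwa [sub_add_cancel] at this
      exact isFlat_X₁ O (ses M k (k - 1) (k - 1 - 1)) (ses_shortExact M k (k - 1) (k - 1 - 1) hex)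
        (hM k) h1
  intro k
  exact key (k - i₀ + 1).toNat k (by omega)

/-- a bounded below acyclic complex of flat modules stays acyclic after tensoring -/
theorem acyclic_map_tens (F : ModSite.Mod O) [(tens O F).PreservesZeroMorphisms]
    (i₀ : ℤ) (hb : ∀ i, i < i₀ → IsZero (M.X i))
    (hM : ∀ i, ModSite.IsFlat (M.X i)) (hac : M.Acyclic) :
    (((tens O F).mapHomologicalComplex (ComplexShape.down ℤ)).obj M).Acyclic := by
  intro j
  rw [HomologicalComplex.exactAt_iff' _ (j + 1) j (j - 1) (ChainComplex.prev ℤ j)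
    (ChainComplex.next ℤ j)]
  have hflat := isFlat_Z M i₀ hb hM hac
  haveI hA : Epi (e M (j + 1) j (j - 1)) :=
    (ShortComplex.exact_iff_epi_kernel_lift (M.sc' (j + 1) j (j - 1))).1 (exact_sc' M hac j)
  have hex1 : (M.sc' j (j - 1) (j - 1 - 1)).Exact := by
    have := exact_sc' M hac (j - 1)
    rwa [sub_add_cancel] at this
  have hex2 : (M.sc' (j - 1) (j - 1 - 1) (j - 1 - 1 - 1)).Exact := by
    have := exact_sc' M hac (j - 1 - 1)
    rwa [sub_add_cancel] at this
  have hses := shortExact_map_tens O (ses M j (j - 1) (j - 1 - 1))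
    (ses_shortExact M j (j - 1) (j - 1 - 1) hex1) (hflat (j - 1)) F
  haveI hmono : Mono ((tens O F).map (ι M (j - 1) (j - 1 - 1))) :=
    mono_tens_map_f O (ses M (j - 1) (j - 1 - 1) (j - 1 - 1 - 1))
      (ses_shortExact M (j - 1) (j - 1 - 1) (j - 1 - 1 - 1) hex2) (hflat (j - 1 - 1)) F
  exact exact_map_of_factor (tens O F) (M.d (j + 1) j) (M.d j (j - 1)) (ι M j (j - 1))
    (e M (j + 1) j (j - 1)) (e M j (j - 1) (j - 1 - 1)) (ι M (j - 1) (j - 1 - 1))
    (kernel.lift_ι _ _ _) (kernel.lift_ι _ _ _) (ι_e M j (j - 1) (j - 1 - 1)) hses.exact _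

end Groth.Agent.Lib.Helper1.FlatAcyclic
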