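import Groth.Agent.Lib.Helper1.AlmostFiltered
import Mathlib.CategoryTheory.Functor.KanExtension.Adjunction
import Mathlib.CategoryTheory.Sites.Pullback
import Mathlib.CategoryTheory.Sites.Abelian
import Mathlib.CategoryTheory.Abelian.Exact

/-!
# Exactness of `g_!` on abelian sheaves
-/

set_option autoImplicit false
universe u
open CategoryTheory CategoryTheory.Limits Opposite

namespace Groth.Agent.Lib.Helper1.LanExact

section costructured

variable {C D : Type u} [SmallCategory C] [SmallCategory D] (u : C ⥤ D)

/-- spans in `CostructuredArrow u.op Y` can be completed when `C` has pullbacks preserved by `u` -/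
lemma costructuredArrow_h1 [HasPullbacks C] [PreservesLimitsOfShape WalkingCospan u] (Y : Dᵒᵖ)
    ⦃w x y : CostructuredArrow u.op Y⦄ (a : w ⟶ x) (b : w ⟶ y) :
    ∃ (z : CostructuredArrow u.op Y) (c : x ⟶ z) (d : y ⟶ z), a ≫ c = b ≫ d := by
  let a' : x.left.unop ⟶ w.left.unop := a.left.unop
  let b' : y.left.unop ⟶ w.left.unop := b.left.unop
  have ha : x.hom.unop ≫ u.map a' = w.hom.unop := by
    have := CostructuredArrow.w a
    exact congrArg Quiver.Hom.unop this
  have hb : y.hom.unop ≫ u.map b' = w.hom.unop := by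
    have := CostructuredArrow.w b
    exact congrArg Quiver.Hom.unop this
  have hl : IsLimit (PullbackCone.mk (u.map (pullback.fst a' b')) (u.map (pullback.snd a' b'))
      (by rw [← u.map_comp, ← u.map_comp, pullback.condition])) :=
    isLimitOfHasPullbackOfPreservesLimit u a' b'
  let l : Y.unop ⟶ u.obj (pullback a' b') :=
    PullbackCone.IsLimit.lift hl x.hom.unop y.hom.unop (ha.trans hb.symm)
  have hl1 : l ≫ u.map (pullback.fst a' b') = x.hom.unop :=
    PullbackCone.IsLimit.lift_fst hl _ _ _
  have hl2 : l ≫ u.map (pullback.snd a' b') = y.hom.unop :=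
    PullbackCone.IsLimit.lift_snd hl _ _ _
  let z : CostructuredArrow u.op Y := CostructuredArrow.mk (Y := op (pullback a' b')) l.op
  refine ⟨z, CostructuredArrow.homMk (pullback.fst a' b').op ?_,
    CostructuredArrow.homMk (pullback.snd a' b').op ?_, ?_⟩
  · exact Quiver.Hom.unop_inj hl1
  · exact Quiver.Hom.unop_inj hl2
  · ext
    exact Quiver.Hom.unop_inj (pullback.condition (f := a') (g := b'))

/-- parallel pairs in `CostructuredArrow u.op Y` can be coequalized when `C` has equalizers
preserved by `u` -/
lemma costructuredArrow_h2 [HasEqualizers C] [PreservesLimitsOfShape WalkingParallelPair u]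
    (Y : Dᵒᵖ) ⦃x y : CostructuredArrow u.op Y⦄ (a b : x ⟶ y) :
    ∃ (z : CostructuredArrow u.op Y) (c : y ⟶ z), a ≫ c = b ≫ c := by
  let a' : y.left.unop ⟶ x.left.unop := a.left.unop
  let b' : y.left.unop ⟶ x.left.unop := b.left.unop
  have ha : y.hom.unop ≫ u.map a' = x.hom.unop := by
    have := CostructuredArrow.w a
    exact congrArg Quiver.Hom.unop this
  have hb : y.hom.unop ≫ u.map b' = x.hom.unop := by
    have := CostructuredArrow.w b
    exact congrArg Quiver.Hom.unop this
  have hl := isLimitForkMapOfIsLimit u (equalizer.condition a' b') (equalizerIsEqualizer a' b')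
  let l : Y.unop ⟶ u.obj (equalizer a' b') := Fork.IsLimit.lift hl y.hom.unop (ha.trans hb.symm)
  have hl1 : l ≫ u.map (equalizer.ι a' b') = y.hom.unop := Fork.IsLimit.lift_ι hl
  let z : CostructuredArrow u.op Y := CostructuredArrow.mk (Y := op (equalizer a' b')) l.op
  refine ⟨z, CostructuredArrow.homMk (equalizer.ι a' b').op ?_, ?_⟩
  · exact Quiver.Hom.unop_inj hl1
  · ext
    exact Quiver.Hom.unop_inj (equalizer.condition a' b')

end costructured

section lan

variable {C D : Type u} [SmallCategory C] [SmallCategory D] (L : C ⥤ D)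

/-- the value of `L.lan.map φ` at `X` is `colimMap` under the pointwise formula -/
lemma lan_map_app_eq {F₁ F₂ : C ⥤ AddCommGrpCat.{u}} (φ : F₁ ⟶ F₂) (X : D) :
    colimMap (Functor.whiskerLeft (CostructuredArrow.proj L X) φ) ≫
      (L.leftKanExtensionObjIsoColimit F₂ X).inv =
    (L.leftKanExtensionObjIsoColimit F₁ X).inv ≫ (L.lan.map φ).app X := by
  refine colimit.hom_ext (fun f => ?_)
  have e1 := Functor.ι_leftKanExtensionObjIsoColimit_inv L F₁ X f
  have e2 := Functor.ι_leftKanExtensionObjIsoColimit_inv L F₂ X f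
  have h1 := (L.lan.map φ).naturality f.hom
  have h2 := congr_app (L.lanUnit.naturality φ) f.left
  have s1 : colimit.ι _ f ≫ colimMap (Functor.whiskerLeft (CostructuredArrow.proj L X) φ) ≫
        (L.leftKanExtensionObjIsoColimit F₂ X).inv
      = φ.app f.left ≫ (colimit.ι (CostructuredArrow.proj L X ⋙ F₂) f ≫
          (L.leftKanExtensionObjIsoColimit F₂ X).inv) := by
    rw [ι_colimMap_assoc]; rfl
  have s2 : φ.app f.left ≫ (L.leftKanExtensionUnit F₂).app f.left ≫
          (L.leftKanExtension F₂).map f.hom
      = ((L.leftKanExtensionUnit F₁).app f.left ≫ (L.lan.map φ).app (L.obj f.left)) ≫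
          (L.leftKanExtension F₂).map f.hom := by
    rw [← Category.assoc]
    congr 1
  have s3 : ((L.leftKanExtensionUnit F₁).app f.left ≫ (L.lan.map φ).app (L.obj f.left)) ≫
          (L.leftKanExtension F₂).map f.hom
      = (L.leftKanExtensionUnit F₁).app f.left ≫ (L.leftKanExtension F₁).map f.hom ≫
          (L.lan.map φ).app X := by
    rw [Category.assoc]
    congr 1
    exact h1.symm
  have s1' := s1.trans (congrArg (fun t => φ.app f.left ≫ t) e2)
  have s4 : (L.leftKanExtensionUnit F₁).app f.left ≫ (L.leftKanExtension F₁).map f.hom ≫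
          (L.lan.map φ).app X
      = (colimit.ι (CostructuredArrow.proj L X ⋙ F₁) f ≫
          (L.leftKanExtensionObjIsoColimit F₁ X).inv) ≫ (L.lan.map φ).app X :=
    (Category.assoc _ _ _).symm.trans (congrArg (fun t => t ≫ (L.lan.map φ).app X) e1.symm)
  exact s1'.trans (s2.trans (s3.trans (s4.trans (Category.assoc _ _ _))))

/-- left Kan extension of presheaves of abelian groups preserves monomorphisms when the
costructured arrow categories are disjoint unions of filtered categories -/
theorem lan_preservesMonomorphisms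
    (h1 : ∀ (X : D) ⦃w x y : CostructuredArrow L X⦄ (a : w ⟶ x) (b : w ⟶ y),
      ∃ (z : CostructuredArrow L X) (c : x ⟶ z) (d : y ⟶ z), a ≫ c = b ≫ d)
    (h2 : ∀ (X : D) ⦃x y : CostructuredArrow L X⦄ (a b : x ⟶ y),
      ∃ (z : CostructuredArrow L X) (c : y ⟶ z), a ≫ c = b ≫ c) :
    (L.lan : (C ⥤ AddCommGrpCat.{u}) ⥤ (D ⥤ AddCommGrpCat.{u})).PreservesMonomorphisms := by
  refine ⟨fun {F₁ F₂} φ hφ => ?_⟩
  haveI : ∀ X, Mono ((L.lan.map φ).app X) := by
    intro X
    haveI : ∀ i, Mono ((Functor.whiskerLeft (CostructuredArrow.proj L X) φ).app i) := by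
      intro i
      dsimp
      infer_instance
    have hm := AlmostFiltered.mono_colimMap (h1 X) (h2 X)
      (Functor.whiskerLeft (CostructuredArrow.proj L X) φ)
    have h := lan_map_app_eq L φ X
    have hm2 : Mono (colimMap (Functor.whiskerLeft (CostructuredArrow.proj L X) φ) ≫
        (L.leftKanExtensionObjIsoColimit F₂ X).inv) := mono_comp' hm inferInstance
    rw [h] at hm2
    have e : (L.lan.map φ).app X = (L.leftKanExtensionObjIsoColimit F₁ X).hom ≫
        ((L.leftKanExtensionObjIsoColimit F₁ X).inv ≫ (L.lan.map φ).app X) :=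
      (Iso.hom_inv_id_assoc _ _).symm
    rw [e]
    exact mono_comp' inferInstance hm2
  exact NatTrans.mono_of_mono_app _

end lan

section sheaf

/-- a right exact additive functor preserving monomorphisms is left exact -/
lemma preservesFiniteLimits_of_preservesMono {𝒜 ℬ : Type*} [Category 𝒜] [Category ℬ]
    [Abelian 𝒜] [Abelian ℬ] (F : 𝒜 ⥤ ℬ) [F.Additive] [PreservesFiniteColimits F]
    [F.PreservesMonomorphisms] : PreservesFiniteLimits F := by
  have h03 := (Functor.preservesFiniteLimits_tfae F).out 0 3
  refine h03.1 (fun S hS => ?_)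
  have h30 := (Functor.preservesFiniteColimits_tfae F).out 3 0
  have hex := h30.1 inferInstance S hS
  haveI := hS.mono_f
  exact ⟨hex.1, inferInstance⟩

variable {C D : Type u} [SmallCategory C] [SmallCategory D]
    (J : GrothendieckTopology C) (K : GrothendieckTopology D) (u : C ⥤ D) [u.IsContinuous J K]

theorem sheafPullback_preservesFiniteLimits [HasPullbacks C] [HasEqualizers C]
    [PreservesLimitsOfShape WalkingCospan u] [PreservesLimitsOfShape WalkingParallelPair u] :
    PreservesFiniteLimits (u.sheafPullback AddCommGrpCat.{u} J K) := by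
  let Φ := u.sheafPullback AddCommGrpCat.{u} J K
  let adj : Φ ⊣ u.sheafPushforwardContinuous AddCommGrpCat.{u} J K :=
    u.sheafAdjunctionContinuous AddCommGrpCat.{u} J K
  haveI : Φ.IsLeftAdjoint := adj.isLeftAdjoint
  haveI : PreservesFiniteColimits Φ := by
    haveI : PreservesColimitsOfSize.{0, 0} Φ := adj.leftAdjoint_preservesColimits
    exact PreservesColimitsOfSize.preservesFiniteColimits Φ
  haveI : Φ.PreservesZeroMorphisms := Functor.preservesZeroMorphisms_of_isLeftAdjoint Φ
  haveI : Φ.Additive := by
    haveI : PreservesBinaryBiproducts Φ := preservesBinaryBiproducts_of_preservesBinaryCoproducts Φ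
    exact Functor.additive_of_preservesBinaryBiproducts Φ
  haveI hlan : (u.op.lan : (Cᵒᵖ ⥤ AddCommGrpCat.{u}) ⥤ (Dᵒᵖ ⥤ AddCommGrpCat.{u})).PreservesMonomorphisms :=
    lan_preservesMonomorphisms u.op (fun X => costructuredArrow_h1 u X)
      (fun X => costructuredArrow_h2 u X)
  haveI : Φ.PreservesMonomorphisms := by
    haveI : (Functor.sheafPullbackConstruction.sheafPullback u AddCommGrpCat.{u} J K).PreservesMonomorphisms := by
      unfold Functor.sheafPullbackConstruction.sheafPullback
      haveI h1 : (sheafToPresheaf J AddCommGrpCat.{u}).PreservesMonomorphisms := inferInstance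
      haveI h3 : (presheafToSheaf K AddCommGrpCat.{u}).PreservesMonomorphisms := inferInstance
      haveI h23 : (u.op.lan ⋙ presheafToSheaf K AddCommGrpCat.{u}).PreservesMonomorphisms :=
        Functor.preservesMonomorphisms_comp _ _
      exact Functor.preservesMonomorphisms_comp _ _
    exact Functor.PreservesMonomorphisms.of_iso
      (Functor.sheafPullbackConstruction.sheafPullbackIso u AddCommGrpCat.{u} J K).symm
  exact preservesFiniteLimits_of_preservesMono Φ

end sheaf

end Groth.Agent.Lib.Helper1.LanExact
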