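import Groth.Agent.Lib.Helper16.PB1
import Groth.Agent.Lib.Helper16.Stk7
import Groth.Agent.Lib.Helper1.LanExact

/-!
# Pullback of modules along a flat morphism of schemes is exact
-/

set_option autoImplicit false
universe u
open CategoryTheory CategoryTheory.Limits AlgebraicGeometry

namespace Groth.Agent.Lib.Helper1.FlatPullback

open Groth.Agent.Lib.Helper16.Stk

variable {X Y : Scheme.{u}} (f : X ⟶ Y)

instance : (Scheme.Modules.pullback f).IsLeftAdjoint :=
  (Scheme.Modules.pullbackPushforwardAdjunction f).isLeftAdjoint

instance : (Scheme.Modules.pushforward f).IsRightAdjoint :=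
  (Scheme.Modules.pullbackPushforwardAdjunction f).isRightAdjoint

instance additive_pullback : (Scheme.Modules.pullback f).Additive :=
  (Scheme.Modules.pullbackPushforwardAdjunction f).left_adjoint_additive

instance preservesFiniteColimits_pullback : PreservesFiniteColimits (Scheme.Modules.pullback f) := by
  haveI : PreservesColimitsOfSize.{0, 0} (Scheme.Modules.pullback f) :=
    (Scheme.Modules.pullbackPushforwardAdjunction f).leftAdjoint_preservesColimits
  exact PreservesColimitsOfSize.preservesFiniteColimits _

variable [Flat f]

instance pullback_preservesMono : (Scheme.Modules.pullback f).PreservesMonomorphisms where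
  preserves {M N} g _ := by
    apply mono_of_forall_stalk
    intro x
    haveI : PreservesFiniteLimits (ModuleCat.extendScalars.{u, u, u} (φs f x)) :=
      ModuleCat.preservesFiniteLimits_extendScalars_of_flat (Flat.stalkMap f x)
    haveI : Mono ((stk (f x) ⋙ ModuleCat.extendScalars.{u, u, u} (φs f x)).map g) := by
      show Mono ((ModuleCat.extendScalars.{u, u, u} (φs f x)).map ((stk (f x)).map g))
      infer_instance
    have e := pullbackStkIso f x
    have hn : (stk x).map ((Scheme.Modules.pullback f).map g) =
        e.hom.app M ≫ (stk (f x) ⋙ ModuleCat.extendScalars.{u, u, u} (φs f x)).map g ≫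
          e.inv.app N := by
      have := e.hom.naturality g
      rw [← Category.assoc, ← this]
      simp
    rw [hn]
    have m1 : Mono (e.hom.app M) :=
      @IsIso.mono_of_iso _ _ _ _ (e.hom.app M) (Iso.isIso_hom (e.app M))
    have m3 : Mono (e.inv.app N) :=
      @IsIso.mono_of_iso _ _ _ _ (e.inv.app N) (Iso.isIso_inv (e.app N))
    exact mono_comp' m1 (mono_comp' this m3)

/-- pullback of modules along a flat morphism is exact -/
instance pullback_preservesFiniteLimits : PreservesFiniteLimits (Scheme.Modules.pullback f) :=
  Groth.Agent.Lib.Helper1.LanExact.preservesFiniteLimits_of_preservesMono _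

end Groth.Agent.Lib.Helper1.FlatPullback
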