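import Groth.Agent.Lib.Helper1.EnoughFlat
import Mathlib.CategoryTheory.Abelian.Refinements
import Mathlib.CategoryTheory.Abelian.DiagramLemmas.Four

/-!
# Flatness and short exact sequences of modules on a ringed site
-/

set_option autoImplicit false
universe u
open CategoryTheory CategoryTheory.Limits

namespace Groth.Agent.Lib.Helper1.FlatSES

section Abstract

variable {𝒜 : Type*} [Category 𝒜] [Abelian 𝒜]

/-- a diagram chase (a piece of the snake lemma) -/
lemma mono_of_diagram {A₁ B₁ C₁ A₂ B₂ C₂ A₃ B₃ : 𝒜}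
    (a : A₁ ⟶ B₁) (b : B₁ ⟶ C₁) (a' : A₂ ⟶ B₂) (b' : B₂ ⟶ C₂) (a'' : A₃ ⟶ B₃)
    (α : A₁ ⟶ A₂) (β : B₁ ⟶ B₂) (γ : C₁ ⟶ C₂) (α' : A₂ ⟶ A₃) (β' : B₂ ⟶ B₃)
    (sq1 : a ≫ β = α ≫ a') (sq2 : b ≫ γ = β ≫ b') (sq3 : a' ≫ β' = α' ≫ a'')
    (w1 : a ≫ b = 0) (hrow1 : (ShortComplex.mk a b w1).Exact)
    (w2 : a' ≫ b' = 0) [Mono a'] [Mono γ]
    (wA : α ≫ α' = 0) [Epi α']
    (wB : β ≫ β' = 0) (hcolB : (ShortComplex.mk β β' wB).Exact) : Mono a'' := by
  rw [Preadditive.mono_iff_cancel_zero]
  intro A x hx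
  obtain ⟨A₁', π₁, hπ₁, y, hy⟩ := surjective_up_to_refinements_of_epi α' x
  have h1 : (y ≫ a') ≫ β' = 0 := by
    rw [Category.assoc, sq3, ← Category.assoc, ← hy, Category.assoc, hx, comp_zero]
  obtain ⟨A₂', π₂, hπ₂, z, hz⟩ := hcolB.exact_up_to_refinements (y ≫ a') h1
  dsimp at z hz
  have h2 : z ≫ b = 0 := by
    rw [← cancel_mono γ, Category.assoc, sq2, ← Category.assoc, ← hz, Category.assoc,
      Category.assoc, w2, comp_zero, comp_zero, zero_comp]
  obtain ⟨A₃', π₃, hπ₃, w, hw⟩ := hrow1.exact_up_to_refinements z h2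
  dsimp at w hw
  have h3 : w ≫ α = π₃ ≫ π₂ ≫ y := by
    rw [← cancel_mono a', Category.assoc, ← sq1, ← Category.assoc, ← hw, Category.assoc, ← hz,
      Category.assoc, Category.assoc]
  have h4 : (π₃ ≫ π₂ ≫ π₁) ≫ x = 0 := by
    calc (π₃ ≫ π₂ ≫ π₁) ≫ x = π₃ ≫ π₂ ≫ (π₁ ≫ x) := by simp only [Category.assoc]
      _ = (π₃ ≫ π₂ ≫ y) ≫ α' := by rw [hy]; simp only [Category.assoc]
      _ = 0 := by rw [← h3, Category.assoc, wA, comp_zero]
  haveI := hπ₁
  haveI := hπ₂
  haveI := hπ₃
  rw [← cancel_epi (π₃ ≫ π₂ ≫ π₁), h4, comp_zero]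

end Abstract

open Groth.Agent.Lib.Helper1.TensorAdj Groth.Agent.Lib.Helper1.ModFlat
  Groth.Agent.Lib.Helper1.ModFlatMore Groth.Agent.Lib.Helper1.EnoughFlat

variable {C : Type u} [SmallCategory C] {J : GrothendieckTopology C}
  (O : Sheaf J CommRingCat.{u})

instance (M : ModSite.Mod O) : PreservesFiniteColimits (tensL O M) :=
  preservesFiniteColimits_of_natIso (tensLIso O M).symm

instance (M : ModSite.Mod O) : (tensL O M).Additive := by
  have h : rightExactFunctor _ _ (tensL O M) := by
    rw [rightExactFunctor_iff]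
    infer_instance
  exact rightExactFunctor_le_additiveFunctor _ _ _ h

/-- right exactness of a functor preserving finite colimits -/
lemma rightExact {𝒜 ℬ : Type*} [Category 𝒜] [Category ℬ] [Abelian 𝒜] [Abelian ℬ]
    (F : 𝒜 ⥤ ℬ) [F.Additive] [PreservesFiniteColimits F] (S : ShortComplex 𝒜)
    (hS : S.ShortExact) : (S.map F).Exact ∧ Epi (F.map S.g) := by
  have h30 := (Functor.preservesFiniteColimits_tfae F).out 3 0
  exact h30.1 inferInstance S hS

lemma preservesMono_tensL_of_isFlat (M : ModSite.Mod O) (hM : ModSite.IsFlat M) :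
    (tensL O M).PreservesMonomorphisms := by
  haveI := (isFlat_iff O M).1 hM
  exact Functor.PreservesMonomorphisms.of_iso (tensLIso O M).symm

lemma isFlat_of_preservesMono_tensL (M : ModSite.Mod O)
    (h : (tensL O M).PreservesMonomorphisms) : ModSite.IsFlat M := by
  rw [isFlat_iff]
  exact Functor.PreservesMonomorphisms.of_iso (tensLIso O M)

/-- the flat cover sequence `0 → K → L → G → 0` -/
noncomputable def coverSC (G : ModSite.Mod O) : ShortComplex (ModSite.Mod O) :=
  ShortComplex.mk (kernel.ι (coverπ O G)) (coverπ O G) (kernel.condition _)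

lemma coverSC_shortExact (G : ModSite.Mod O) : (coverSC O G).ShortExact where
  exact := ShortComplex.exact_of_f_is_kernel _ (kernelIsKernel _)
  mono_f := inferInstanceAs (Mono (kernel.ι (coverπ O G)))
  epi_g := inferInstanceAs (Epi (coverπ O G))

/-- tensoring a short exact sequence with flat cokernel stays left exact -/
theorem mono_tens_map_f (S : ShortComplex (ModSite.Mod O)) (hS : S.ShortExact)
    (hF : ModSite.IsFlat S.X₃) (G : ModSite.Mod O) : Mono ((tens O G).map S.f) := by
  have hT := coverSC_shortExact O G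
  haveI := (isFlat_iff O (cover O G)).1 (isFlat_cover O G)
  haveI := preservesMono_tensL_of_isFlat O S.X₃ hF
  haveI := hS.mono_f
  haveI : Mono (kernel.ι (coverπ O G)) := inferInstance
  haveI : Mono ((tens O (cover O G)).map S.f) := inferInstance
  haveI : Mono ((tensL O S.X₃).map (kernel.ι (coverπ O G))) := inferInstance
  have hrow1 := (rightExact (tens O (kernel (coverπ O G))) S hS).1
  have hcolA := rightExact (tensL O S.X₁) (coverSC O G) hT
  have hcolB := (rightExact (tensL O S.X₂) (coverSC O G) hT).1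
  haveI : Epi ((tensL O S.X₁).map (coverπ O G)) := hcolA.2
  exact mono_of_diagram ((tens O (kernel (coverπ O G))).map S.f)
    ((tens O (kernel (coverπ O G))).map S.g)
    ((tens O (cover O G)).map S.f) ((tens O (cover O G)).map S.g) ((tens O G).map S.f)
    ((tensL O S.X₁).map (kernel.ι (coverπ O G))) ((tensL O S.X₂).map (kernel.ι (coverπ O G)))
    ((tensL O S.X₃).map (kernel.ι (coverπ O G)))
    ((tensL O S.X₁).map (coverπ O G)) ((tensL O S.X₂).map (coverπ O G))
    (((ModSite.tensorBi O).map S.f).naturality (kernel.ι (coverπ O G))).symm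
    (((ModSite.tensorBi O).map S.g).naturality (kernel.ι (coverπ O G))).symm
    (((ModSite.tensorBi O).map S.f).naturality (coverπ O G)).symm
    (by rw [← Functor.map_comp, S.zero, Functor.map_zero]) hrow1
    (by rw [← Functor.map_comp, S.zero, Functor.map_zero])
    (by rw [← Functor.map_comp, kernel.condition, Functor.map_zero])
    (by rw [← Functor.map_comp, kernel.condition, Functor.map_zero]) hcolB

/-- tensoring a short exact sequence with flat cokernel stays short exact -/
theorem shortExact_map_tens (S : ShortComplex (ModSite.Mod O)) (hS : S.ShortExact)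
    (hF : ModSite.IsFlat S.X₃) (G : ModSite.Mod O) : (S.map (tens O G)).ShortExact where
  exact := (rightExact (tens O G) S hS).1
  mono_f := mono_tens_map_f O S hS hF G
  epi_g := (rightExact (tens O G) S hS).2

/-- an extension of flat modules is flat -/
theorem isFlat_X₂ (S : ShortComplex (ModSite.Mod O)) (hS : S.ShortExact)
    (h₁ : ModSite.IsFlat S.X₁) (h₃ : ModSite.IsFlat S.X₃) : ModSite.IsFlat S.X₂ := by
  apply isFlat_of_preservesMono_tensL
  constructor
  intro G' G u hu
  haveI := hu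
  haveI := preservesMono_tensL_of_isFlat O S.X₁ h₁
  haveI := preservesMono_tensL_of_isFlat O S.X₃ h₃
  let φ : S.map (tens O G') ⟶ S.map (tens O G) :=
    { τ₁ := (tensL O S.X₁).map u
      τ₂ := (tensL O S.X₂).map u
      τ₃ := (tensL O S.X₃).map u
      comm₁₂ := ((ModSite.tensorBi O).map S.f).naturality u
      comm₂₃ := ((ModSite.tensorBi O).map S.g).naturality u }
  exact ShortComplex.mono_of_mono_of_mono_of_mono φ (shortExact_map_tens O S hS h₃ G').exact
    (shortExact_map_tens O S hS h₃ G).mono_f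
    (inferInstanceAs (Mono ((tensL O S.X₁).map u)))
    (inferInstanceAs (Mono ((tensL O S.X₃).map u)))

/-- the kernel of an epimorphism of flat modules is flat -/
theorem isFlat_X₁ (S : ShortComplex (ModSite.Mod O)) (hS : S.ShortExact)
    (h₂ : ModSite.IsFlat S.X₂) (h₃ : ModSite.IsFlat S.X₃) : ModSite.IsFlat S.X₁ := by
  apply isFlat_of_preservesMono_tensL
  constructor
  intro G' G u hu
  haveI := hu
  haveI := preservesMono_tensL_of_isFlat O S.X₂ h₂
  haveI := mono_tens_map_f O S hS h₃ G'
  have sq : (tensL O S.X₁).map u ≫ (tens O G).map S.f =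
      (tens O G').map S.f ≫ (tensL O S.X₂).map u :=
    ((ModSite.tensorBi O).map S.f).naturality u
  haveI : Mono ((tensL O S.X₂).map u) := inferInstance
  haveI : Mono ((tensL O S.X₁).map u ≫ (tens O G).map S.f) := by
    rw [sq]
    infer_instance
  exact mono_of_mono ((tensL O S.X₁).map u) ((tens O G).map S.f)

end Groth.Agent.Lib.Helper1.FlatSES
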