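import Mathlib.RingTheory.Flat.EquationalCriterion
import Mathlib.RingTheory.Ideal.Maps
import Mathlib.RingTheory.Ideal.Quotient.Operations
import Mathlib.Algebra.Algebra.Prod
import Mathlib.Algebra.Algebra.Subalgebra.Basic

set_option autoImplicit false
universe u v w

namespace Groth.Agent.Lib.Helper1.FlatSection

variable {Q : Type u} [CommRing Q] (I : Ideal Q) {P : Type v} {E : Type w} [CommRing P] [CommRing E]
  [Algebra Q P] [Algebra Q E] [Module.Flat Q P]
  (π : E →ₐ[Q] P) (hπ : Function.Surjective π)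
  (hK : ∀ a ∈ I, ∀ e : E, π e = 0 → a • e = 0)

include hπ hK in
/-- flatness: `ker π ∩ I E = 0`. -/
lemma eq_zero_of_mem_smul_top {e : E} (he : e ∈ I • (⊤ : Submodule Q E)) (h0 : π e = 0) :
    e = 0 := by
  classical
  have hspan : (⊤ : Submodule Q E) = Submodule.span Q (Set.range (id : E → E)) := by
    rw [Set.range_id, Submodule.span_univ]
  rw [hspan, Submodule.mem_ideal_smul_span_iff_exists_sum] at he
  obtain ⟨a, ha, rfl⟩ := he
  -- sum over the support
  have hsum : (a.sum fun i c => c • (id i : E)) = ∑ i : a.support, a i • (i : E) := by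
    rw [Finsupp.sum, ← Finset.sum_coe_sort]; rfl
  rw [hsum] at h0 ⊢
  rw [map_sum] at h0
  have h0' : ∑ i : a.support, a i • π (i : E) = 0 := by
    rw [← h0]; refine Finset.sum_congr rfl (fun i _ => ?_); rw [map_smul]
  obtain ⟨k, b, y, hxy, hb⟩ := Module.Flat.isTrivialRelation_of_sum_smul_eq_zero h0'
  simp only at hxy hb
  choose y' hy' using fun j => hπ (y j)
  have hker : ∀ i : a.support, π ((i : E) - ∑ j, b i j • y' j) = 0 := by
    intro i
    rw [map_sub, map_sum, hxy i, sub_eq_zero]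
    refine Finset.sum_congr rfl (fun j _ => ?_)
    rw [map_smul, hy']
  have h1 : ∀ i : a.support, a i • (i : E) = ∑ j, (a i * b i j) • y' j := by
    intro i
    have := hK (a i) (ha i) _ (hker i)
    rw [smul_sub, sub_eq_zero] at this
    rw [this, Finset.smul_sum]
    refine Finset.sum_congr rfl (fun j _ => ?_)
    rw [smul_smul]
  calc ∑ i : a.support, a i • (i : E) = ∑ i : a.support, ∑ j, (a i * b i j) • y' j :=
        Finset.sum_congr rfl (fun i _ => h1 i)
    _ = ∑ j, ∑ i : a.support, (a i * b i j) • y' j := Finset.sum_comm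
    _ = ∑ j, (∑ i : a.support, a i * b i j) • y' j := by
        refine Finset.sum_congr rfl (fun j _ => ?_); rw [Finset.sum_smul]
    _ = 0 := by
        refine Finset.sum_eq_zero (fun j _ => ?_); rw [hb j, zero_smul]

variable (c₀ : P →ₐ[Q] Q ⧸ I) (hc₀ : ∀ p : P, c₀ p = 0 → p ∈ I.map (algebraMap Q P))

/-- `Q/I → E/IE`. -/
noncomputable def quotMap : Q ⧸ I →ₐ[Q] E ⧸ I.map (algebraMap Q E) :=
  Ideal.Quotient.liftₐ I (Algebra.ofId Q (E ⧸ I.map (algebraMap Q E))) (by
    intro a ha
    change algebraMap Q (E ⧸ I.map (algebraMap Q E)) a = 0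
    rw [IsScalarTower.algebraMap_apply Q E (E ⧸ I.map (algebraMap Q E)),
      Ideal.Quotient.algebraMap_eq, Ideal.Quotient.eq_zero_iff_mem]
    exact Ideal.mem_map_of_mem _ ha)

lemma quotMap_mk (q : Q) :
    quotMap (E := E) I (Ideal.Quotient.mk I q) =
      Ideal.Quotient.mk (I.map (algebraMap Q E)) (algebraMap Q E q) := rfl

/-- the embedding `E → P × E/IE`. -/
noncomputable def jHom : E →ₐ[Q] P × (E ⧸ I.map (algebraMap Q E)) :=
  AlgHom.prod π (Ideal.Quotient.mkₐ Q (I.map (algebraMap Q E)))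

include hπ hK in
lemma jHom_injective : Function.Injective (jHom I π) := by
  rw [injective_iff_map_eq_zero]
  intro e he
  have h1 : π e = 0 := congrArg Prod.fst he
  have h2 : Ideal.Quotient.mk (I.map (algebraMap Q E)) e = 0 := congrArg Prod.snd he
  rw [Ideal.Quotient.eq_zero_iff_mem] at h2
  have h3 : e ∈ I • (⊤ : Submodule Q E) := by
    rw [Ideal.smul_top_eq_map]; exact h2
  exact eq_zero_of_mem_smul_top I π hπ hK h3 h1

include hπ hc₀ in
lemma mem_range_jHom (p : P) :
    (AlgHom.prod (AlgHom.id Q P) ((quotMap (E := E) I).comp c₀)) p ∈ (jHom I π).range := by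
  obtain ⟨e₀, rfl⟩ := hπ p
  obtain ⟨q, hq⟩ := Ideal.Quotient.mk_surjective (c₀ (π e₀))
  have h1 : c₀ (π (e₀ - algebraMap Q E q)) = 0 := by
    rw [map_sub, map_sub, AlgHom.commutes, AlgHom.commutes, ← hq]
    exact sub_self _
  have h2 := hc₀ _ h1
  have h3 : I.map (algebraMap Q P) = (I.map (algebraMap Q E)).map (π : E →+* P) := by
    rw [Ideal.map_map]
    congr 1
    ext x
    exact (π.commutes x).symm
  rw [h3] at h2
  have hπ' : Function.Surjective (π : E →+* P) := hπ
  obtain ⟨y, hy, hy'⟩ := (Ideal.mem_map_iff_of_surjective (π : E →+* P) hπ').1 h2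
  refine ⟨algebraMap Q E q + y, ?_⟩
  refine Prod.ext ?_ ?_
  · change π (algebraMap Q E q + y) = π e₀
    have hy'' : π y = π (e₀ - algebraMap Q E q) := hy'
    rw [map_add, hy'', map_sub]; ring
  · change Ideal.Quotient.mk (I.map (algebraMap Q E)) (algebraMap Q E q + y) =
      quotMap (E := E) I (c₀ (π e₀))
    rw [← hq, quotMap_mk, map_add, Ideal.Quotient.eq_zero_iff_mem.2 hy, add_zero]

/-- the section. -/
noncomputable def section' : P →ₐ[Q] E :=
  (AlgEquiv.ofInjective (jHom I π) (jHom_injective I π hπ hK)).symm.toAlgHom.comp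
    ((AlgHom.prod (AlgHom.id Q P) ((quotMap (E := E) I).comp c₀)).codRestrict (jHom I π).range
      (mem_range_jHom I π hπ c₀ hc₀))

lemma proj_section' (p : P) : π (section' I π hπ hK c₀ hc₀ p) = p := by
  set y := (AlgHom.prod (AlgHom.id Q P) ((quotMap (E := E) I).comp c₀)).codRestrict (jHom I π).range
      (mem_range_jHom I π hπ c₀ hc₀) p with hy
  change π ((AlgEquiv.ofInjective (jHom I π) (jHom_injective I π hπ hK)).symm y) = p
  have h3 : jHom I π ((AlgEquiv.ofInjective (jHom I π) (jHom_injective I π hπ hK)).symm y) =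
      (y : P × (E ⧸ I.map (algebraMap Q E))) := by
    have := (AlgEquiv.ofInjective (jHom I π) (jHom_injective I π hπ hK)).apply_symm_apply y
    exact congrArg Subtype.val this
  have h4 : (y : P × (E ⧸ I.map (algebraMap Q E))).1 = p := rfl
  rw [← h4, ← h3]; rfl

include hπ hK hc₀ in
theorem exists_section : ∃ s : P →ₐ[Q] E, ∀ p, π (s p) = p :=
  ⟨section' I π hπ hK c₀ hc₀, proj_section' I π hπ hK c₀ hc₀⟩

end Groth.Agent.Lib.Helper1.FlatSection
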