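import Mathlib.RingTheory.Extension.ExtendScalars
import Mathlib.RingTheory.Smooth.Locus
import Mathlib.RingTheory.Ideal.MinimalPrime.Basic

namespace Groth.Agent.Lib.Helper1.GenSm

open Algebra

universe u

/-- An element of a projective module killed by all functionals is zero. -/
theorem eq_zero_of_forall_functional {B M : Type*} [CommRing B] [AddCommGroup M] [Module B M]
    [Module.Projective B M] (x : M) (h : ∀ φ : M →ₗ[B] B, φ x = 0) : x = 0 := by
  obtain ⟨s, hs⟩ := Module.projective_def'.mp (inferInstance : Module.Projective B M)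
  have h0 : s x = 0 := by
    ext i
    exact h ((Finsupp.lapply i).comp s)
  have := LinearMap.congr_fun hs x
  simp only [LinearMap.coe_comp, Function.comp_apply, h0, map_zero, LinearMap.id_coe, id_eq] at this
  exact this.symm

/-- In a reduced ring, an element lying in all minimal primes is zero. -/
theorem eq_zero_of_forall_minimalPrimes {B : Type*} [CommRing B] [IsReduced B] (b : B)
    (h : ∀ p ∈ minimalPrimes B, b ∈ p) : b = 0 := by
  have h1 : b ∈ sInf (minimalPrimes B) := by
    rw [Submodule.mem_sInf]; exact h
  rw [minimalPrimes, Ideal.sInf_minimalPrimes] at h1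
  have : (⊥ : Ideal B).radical = ⊥ := nilradical_eq_zero B
  rw [this] at h1
  exact h1

variable {A B : Type u} [CommRing A] [CommRing B] [Algebra A B]

/-- If `B` is smooth over `A` at `p`, every element of `H¹(L_{B/A})` is killed by some `s ∉ p`. -/
theorem exists_smul_eq_zero_of_isSmoothAt (p : Ideal B) [p.IsPrime] (hp : Algebra.IsSmoothAt A p)
    (h : Algebra.H1Cotangent A B) : ∃ s : B, s ∉ p ∧ s • h = 0 := by
  haveI : Algebra.FormallySmooth A (Localization.AtPrime p) := hp
  haveI : Subsingleton (Algebra.H1Cotangent A (Localization.AtPrime p)) :=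
    Algebra.FormallySmooth.subsingleton_h1Cotangent
  have h0 : Algebra.H1Cotangent.map A A B (Localization.AtPrime p) h = 0 := Subsingleton.elim _ _
  obtain ⟨s, hs⟩ := (IsLocalizedModule.eq_zero_iff p.primeCompl
    (Algebra.H1Cotangent.map A A B (Localization.AtPrime p))).mp h0
  exact ⟨s.1, s.2, hs⟩

/-- Generic smoothness + projective kernel: the conormal map of any extension is injective. -/
theorem cotangentComplex_injective [IsReduced B]
    (hsm : ∀ p : PrimeSpectrum B, p.asIdeal ∈ minimalPrimes B → Algebra.IsSmoothAt A p.asIdeal)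
    (P : Algebra.Extension.{u} A B) [Module.Projective B P.Cotangent] :
    Function.Injective P.cotangentComplex := by
  rw [injective_iff_map_eq_zero]
  intro x hx
  obtain ⟨h, hh⟩ := Algebra.Extension.H1Cotangent.map_defaultHom_surjective P ⟨x, hx⟩
  apply eq_zero_of_forall_functional (B := B)
  intro φ
  apply eq_zero_of_forall_minimalPrimes
  intro p hp
  haveI : p.IsPrime := hp.1.1
  obtain ⟨s, hs, hs0⟩ := exists_smul_eq_zero_of_isSmoothAt p (hsm ⟨p, hp.1.1⟩ hp) h
  have h1 : s • (⟨x, hx⟩ : P.H1Cotangent) = 0 := by
    have := (Algebra.Extension.H1Cotangent.map P.defaultHom).map_smul s h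
    rw [hs0, map_zero, hh] at this
    exact this.symm
  have h2 : s • x = 0 := congrArg Subtype.val h1
  have h3 : s * φ x = 0 := by
    rw [← smul_eq_mul, ← map_smul, h2, map_zero]
  exact (Ideal.IsPrime.mem_or_mem ‹p.IsPrime› (h3 ▸ p.zero_mem)).resolve_left hs

end Groth.Agent.Lib.Helper1.GenSm
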