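import Mathlib.RingTheory.Extension.Cotangent.Basic
import Mathlib.Algebra.TrivSqZeroExt.Basic

namespace Groth.Agent.Lib.Helper1.GenSmEx

open Algebra KaehlerDifferential TensorProduct

universe u

noncomputable section

/-- The opposite action on a module over a commutative ring. -/
@[reducible] def opModule (B N : Type u) [CommRing B] [AddCommGroup N] [Module B N] :
    Module Bᵐᵒᵖ N :=
  Module.compHom N ((RingHom.id B).fromOpposite (fun a b => mul_comm a b))

attribute [local instance] opModule

theorem isCentral (B N : Type u) [CommRing B] [AddCommGroup N] [Module B N] :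
    IsCentralScalar B N := ⟨fun _ _ => rfl⟩

attribute [local instance] isCentral

variable {A B : Type u} [CommRing A] [CommRing B] [Algebra A B]
variable {N : Type u} [AddCommGroup N] [Module B N]

/-- The subring `{(b, n) | d b = q n}` of the trivial extension `B ⊕ N`. -/
def ringE (q : N →ₗ[B] Ω[B⁄A]) : Subring (TrivSqZeroExt B N) where
  carrier := {z | D A B z.fst = q z.snd}
  mul_mem' := by
    intro a b ha hb
    simp only [Set.mem_ofPred_eq] at *
    rw [TrivSqZeroExt.fst_mul, TrivSqZeroExt.snd_mul, Derivation.leibniz, map_add, op_smul_eq_smul,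
      map_smul, map_smul, ha, hb]
  one_mem' := by simp
  add_mem' := by
    intro a b ha hb
    simp only [Set.mem_ofPred_eq] at *
    rw [TrivSqZeroExt.fst_add, TrivSqZeroExt.snd_add, map_add, map_add, ha, hb]
  zero_mem' := by simp
  neg_mem' := by
    intro a ha
    simp only [Set.mem_ofPred_eq] at *
    rw [TrivSqZeroExt.fst_neg, TrivSqZeroExt.snd_neg, map_neg, map_neg, ha]

/-- The ring of the constructed extension. -/
def E (q : N →ₗ[B] Ω[B⁄A]) : Type u := ringE q

variable (q : N →ₗ[B] Ω[B⁄A])

noncomputable instance : CommRing (E q) := inferInstanceAs (CommRing (ringE q))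

/-- first projection -/
def fstE : E q →+* B := (TrivSqZeroExt.fstHom B B N).toRingHom.comp (ringE q).subtype

/-- second projection -/
def sndE (e : E q) : N := (e.1 : TrivSqZeroExt B N).snd

theorem fstE_apply (e : E q) : fstE q e = (e.1 : TrivSqZeroExt B N).fst := rfl

theorem E_spec (e : E q) : D A B (fstE q e) = q (sndE q e) := e.2

theorem E_ext {e e' : E q} (h1 : fstE q e = fstE q e') (h2 : sndE q e = sndE q e') : e = e' :=
  Subtype.ext (TrivSqZeroExt.ext h1 h2)

/-- constructor -/
def mkE (b : B) (n : N) (h : D A B b = q n) : E q := ⟨⟨b, n⟩, h⟩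

@[simp] theorem fstE_mkE (b : B) (n : N) (h : D A B b = q n) : fstE q (mkE q b n h) = b := rfl
@[simp] theorem sndE_mkE (b : B) (n : N) (h : D A B b = q n) : sndE q (mkE q b n h) = n := rfl

theorem sndE_add (a b : E q) : sndE q (a + b) = sndE q a + sndE q b := rfl
theorem sndE_zero : sndE q 0 = 0 := rfl
theorem sndE_one : sndE q 1 = 0 := rfl
theorem sndE_mul (a b : E q) : sndE q (a * b) = fstE q a • sndE q b + fstE q b • sndE q a := rfl

/-- structure map from `A` -/
def algE : A →+* E q where
  toFun a := mkE q (algebraMap A B a) 0 (by simp)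
  map_one' := E_ext q (by simp) (by simp [sndE_one])
  map_mul' a b := E_ext q (by simp) (by simp [sndE_mul])
  map_zero' := E_ext q (by simp) (by simp [sndE_zero])
  map_add' a b := E_ext q (by simp) (by simp [sndE_add])

noncomputable instance : Algebra A (E q) := (algE q).toAlgebra
noncomputable instance : Algebra (E q) B := (fstE q).toAlgebra
instance : IsScalarTower A (E q) B := IsScalarTower.of_algebraMap_eq (fun _ => rfl)

theorem algebraMap_E_B (e : E q) : algebraMap (E q) B e = fstE q e := rfl
theorem fstE_algebraMap (a : A) : fstE q (algebraMap A (E q) a) = algebraMap A B a := rfl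
theorem sndE_algebraMap (a : A) : sndE q (algebraMap A (E q) a) = 0 := rfl

/-- A synonym of `N` carrying the `E`- and `A`-module structures. -/
def NE (_ : N →ₗ[B] Ω[B⁄A]) : Type u := N

instance : AddCommGroup (NE q) := inferInstanceAs (AddCommGroup N)
instance : Module B (NE q) := inferInstanceAs (Module B N)
instance moduleEN : Module (E q) (NE q) := Module.compHom N (fstE q)
instance moduleAN : Module A (NE q) := Module.compHom N (algebraMap A B)

theorem smulE_def (e : E q) (n : NE q) : e • n = fstE q e • n := rfl
theorem smulA_def (a : A) (n : NE q) : a • n = algebraMap A B a • n := rfl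

instance : IsScalarTower (E q) B (NE q) := ⟨fun e b n => by
  change (e • b) • n = fstE q e • (b • n)
  rw [Algebra.smul_def, algebraMap_E_B, mul_smul]⟩

instance : IsScalarTower A (E q) (NE q) := ⟨fun a e n => by
  rw [smulA_def, smulE_def, smulE_def, Algebra.smul_def, map_mul, fstE_algebraMap, mul_smul]⟩

/-- The second projection as a derivation. -/
def derE : Derivation A (E q) (NE q) where
  toFun := sndE q
  map_add' := sndE_add q
  map_smul' a e := by
    rw [Algebra.smul_def, sndE_mul, sndE_algebraMap, smul_zero, add_zero, fstE_algebraMap]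
    rfl
  map_one_eq_zero' := sndE_one q
  leibniz' a b := by
    change sndE q (a * b) = _
    rw [sndE_mul, smulE_def, smulE_def]
    rfl

theorem derE_apply (e : E q) : derE q e = sndE q e := rfl

/-- The comparison map `B ⊗_E Ω_{E/A} → N`. -/
def g2 : B ⊗[E q] Ω[E q⁄A] →ₗ[B] NE q :=
  LinearMap.liftBaseChange B (derE q).liftKaehlerDifferential

theorem g2_tmul_D (b : B) (e : E q) : g2 q (b ⊗ₜ D A (E q) e) = b • (sndE q e : NE q) := by
  rw [g2, LinearMap.liftBaseChange_tmul, Derivation.liftKaehlerDifferential_comp_D, derE_apply]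
  rfl

variable (hq : Function.Surjective q)

/-- The extension. -/
@[reducible] def extn : Algebra.Extension.{u} A B where
  Ring := E q
  σ b := mkE q b (Classical.choose (hq (D A B b))) (Classical.choose_spec (hq (D A B b))).symm
  algebraMap_σ b := rfl

/-- `q` on the synonym. -/
def qE : NE q →ₗ[B] Ω[B⁄A] := q

theorem qE_apply (n : NE q) : qE q n = q n := rfl

theorem q_g2 (y : B ⊗[E q] Ω[E q⁄A]) : qE q (g2 q y) = (extn q hq).toKaehler y := by
  induction y using TensorProduct.induction_on with
  | zero => simp
  | add x y hx hy => rw [map_add, map_add, map_add, hx, hy]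
  | tmul b ω =>
    have : ω ∈ Submodule.span (E q) (Set.range (D A (E q))) := by
      rw [KaehlerDifferential.span_range_derivation]; trivial
    induction this using Submodule.span_induction generalizing b with
    | mem x hx =>
      obtain ⟨e, rfl⟩ := hx
      rw [g2_tmul_D, map_smul]
      refine Eq.trans (b := b • D A B (fstE q e)) ?_ ?_
      · exact congrArg (b • ·) (E_spec q e).symm
      · simp [Algebra.Extension.toKaehler, algebraMap_E_B]
    | zero => simp
    | add x y _ _ hx hy =>
      rw [tmul_add, map_add, map_add, map_add, hx, hy]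
    | smul a x _ hx =>
      rw [← TensorProduct.smul_tmul, hx]


theorem mem_ker_iff (e : E q) : e ∈ (extn q hq).ker ↔ fstE q e = 0 := Iff.rfl

theorem ker_sq : (extn q hq).ker ^ 2 = ⊥ := by
  rw [sq, ← le_bot_iff, Ideal.mul_le]
  intro x hx y hy
  rw [mem_ker_iff] at hx hy
  rw [Ideal.mem_bot]
  apply E_ext
  · rw [map_mul, hx, zero_mul, map_zero]
  · rw [sndE_mul, hx, hy, zero_smul, zero_smul, add_zero, sndE_zero]

variable {M : Type u} [AddCommGroup M] [Module B M] (i : M →ₗ[B] N)
  (hex : Function.Exact i q)

/-- The element `(0, i m)` of the kernel. -/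
def kerElt (m : M) : (extn q hq).ker :=
  ⟨mkE q 0 (i m) (by rw [map_zero, hex.apply_apply_eq_zero]), rfl⟩

theorem sndE_kerElt (m : M) : sndE q (kerElt q hq i hex m).1 = i m := rfl

/-- `M → I/I²`. -/
def e1inv : M →ₗ[B] (extn q hq).Cotangent where
  toFun m := Algebra.Extension.Cotangent.mk (kerElt q hq i hex m)
  map_add' m m' := by
    rw [← map_add]
    congr 1
    apply Subtype.ext
    apply E_ext
    · change (0 : B) = fstE q ((kerElt q hq i hex m).1 + (kerElt q hq i hex m').1)
      rw [map_add]
      change (0 : B) = 0 + 0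
      rw [add_zero]
    · change i (m + m') = i m + i m'
      rw [map_add]
  map_smul' b m := by
    obtain ⟨e, rfl⟩ := (extn q hq).algebraMap_surjective b
    rw [RingHom.id_apply]
    conv_rhs => rw [algebraMap_smul, ← map_smul]
    congr 1
    apply Subtype.ext
    apply E_ext
    · change (0 : B) = fstE q (e * _)
      rw [map_mul]
      change (0 : B) = fstE q e * 0
      rw [mul_zero]
    · change i (algebraMap (E q) B e • m) = sndE q (e * _)
      rw [sndE_mul, sndE_kerElt, map_smul]
      change _ = fstE q e • i m + (0 : B) • sndE q e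
      rw [zero_smul, add_zero]
      rfl

theorem e1inv_apply (m : M) :
    e1inv q hq i hex m = Algebra.Extension.Cotangent.mk (kerElt q hq i hex m) := rfl

theorem g2_cotangentComplex_e1inv (m : M) :
    g2 q ((extn q hq).cotangentComplex (e1inv q hq i hex m)) = i m := by
  rw [e1inv_apply, Algebra.Extension.cotangentComplex_mk, g2_tmul_D, one_smul]
  rfl

include hex in
theorem e1inv_bijective (hi : Function.Injective i) : Function.Bijective (e1inv q hq i hex) := by
  constructor
  · rw [injective_iff_map_eq_zero]
    intro m hm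
    apply hi
    rw [map_zero, ← g2_cotangentComplex_e1inv q hq i hex m, hm, map_zero, map_zero]
    rfl
  · intro x
    obtain ⟨x, rfl⟩ := Algebra.Extension.Cotangent.mk_surjective x
    have h0 : q (sndE q x.1) = 0 := by
      rw [← E_spec, (mem_ker_iff q hq x.1).mp x.2, map_zero]
    obtain ⟨m, hm⟩ := (hex _).mp h0
    refine ⟨m, ?_⟩
    rw [e1inv_apply]
    congr 1
    apply Subtype.ext
    apply E_ext
    · exact ((mem_ker_iff q hq x.1).mp x.2).symm
    · exact hm

include hq hex in
theorem g2_bijective (hi : Function.Injective i) : Function.Bijective (g2 q) := by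
  have hsurj := (e1inv_bijective q hq i hex hi).2
  constructor
  · rw [injective_iff_map_eq_zero]
    intro ω hω
    have h0 : (extn q hq).toKaehler ω = 0 := by
      rw [← q_g2, hω, map_zero]
    obtain ⟨y, rfl⟩ := ((extn q hq).exact_cotangentComplex_toKaehler _).mp h0
    obtain ⟨m, rfl⟩ := hsurj y
    rw [g2_cotangentComplex_e1inv] at hω
    have : m = 0 := hi (hω.trans (map_zero i).symm)
    rw [this, map_zero, map_zero]
  · intro n
    obtain ⟨ω, hω⟩ := (extn q hq).toKaehler_surjective (q n)
    have h0 : qE q (n - g2 q ω) = 0 := by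
      rw [map_sub, q_g2 q hq ω, qE_apply, hω, sub_self]
    obtain ⟨m, hm⟩ := (hex (n - g2 q ω)).mp h0
    refine ⟨ω + (extn q hq).cotangentComplex (e1inv q hq i hex m), ?_⟩
    rw [map_add, g2_cotangentComplex_e1inv, hm]
    exact add_sub_cancel _ _


include hq hex in
theorem exists_extension (hi : Function.Injective i) :
    ∃ P : Algebra.Extension.{u} A B, P.ker ^ 2 = ⊥ ∧
      ∃ (e₁ : P.Cotangent ≃ₗ[B] M) (e₂ : P.CotangentSpace ≃ₗ[B] N),
        (∀ x, e₂ (P.cotangentComplex x) = i (e₁ x)) ∧ (∀ y, q (e₂ y) = P.toKaehler y) := by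
  let E1 : M ≃ₗ[B] (extn q hq).Cotangent :=
    LinearEquiv.ofBijective _ (e1inv_bijective q hq i hex hi)
  let E2 : (extn q hq).CotangentSpace ≃ₗ[B] NE q :=
    LinearEquiv.ofBijective (g2 q) (g2_bijective q hq i hex hi)
  refine ⟨extn q hq, ker_sq q hq, E1.symm, E2, ?_, ?_⟩
  · intro x
    obtain ⟨m, rfl⟩ := E1.surjective x
    rw [LinearEquiv.symm_apply_apply]
    exact g2_cotangentComplex_e1inv q hq i hex m
  · intro y
    exact q_g2 q hq y

end

end Groth.Agent.Lib.Helper1.GenSmEx
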