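import Groth.Agent.Lib.Helper1.GenSm

namespace Groth.Agent.Lib.Helper1.GenSm

open Algebra KaehlerDifferential TensorProduct

universe u

variable {A B : Type u} [CommRing A] [CommRing B] [Algebra A B]

/-- `e ↦ 1 ⊗ d e` from the ring of an extension to its cotangent space. -/
noncomputable def del (P : Algebra.Extension.{u} A B) (e : P.Ring) : P.CotangentSpace :=
  (1 : B) ⊗ₜ[P.Ring] D A P.Ring e

variable (P : Algebra.Extension.{u} A B)

theorem del_add (a b : P.Ring) : del P (a + b) = del P a + del P b := by
  simp [del, tmul_add]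

theorem del_sub (a b : P.Ring) : del P (a - b) = del P a - del P b := by
  simp [del, tmul_sub]

theorem del_zero : del P 0 = 0 := by simp [del]

theorem del_one : del P 1 = 0 := by simp [del]

theorem del_algebraMap (a : A) : del P (algebraMap A P.Ring a) = 0 := by
  simp [del]

theorem del_mul (a b : P.Ring) :
    del P (a * b) = algebraMap P.Ring B a • del P b + algebraMap P.Ring B b • del P a := by
  simp only [del, Derivation.leibniz, tmul_add, tmul_smul, smul_tmul', algebraMap_smul]

theorem toKaehler_del (e : P.Ring) : P.toKaehler (del P e) = D A B (algebraMap P.Ring B e) := by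
  simp [del, Algebra.Extension.toKaehler]

theorem cotangentComplex_mk_eq_del (x : P.ker) :
    P.cotangentComplex (Algebra.Extension.Cotangent.mk x) = del P x.1 := rfl

/-- Existence: any compatible pair `(b, ω)` comes from an element of the ring. -/
theorem exists_of_toKaehler (b : B) (ω : P.CotangentSpace) (h : P.toKaehler ω = D A B b) :
    ∃ e : P.Ring, algebraMap P.Ring B e = b ∧ del P e = ω := by
  have h0 : P.toKaehler (ω - del P (P.σ b)) = 0 := by
    rw [map_sub, h, toKaehler_del, P.algebraMap_σ, sub_self]
  obtain ⟨y, hy⟩ := (P.exact_cotangentComplex_toKaehler _).mp h0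
  obtain ⟨x, rfl⟩ := Algebra.Extension.Cotangent.mk_surjective y
  refine ⟨P.σ b + x.1, ?_, ?_⟩
  · rw [map_add, P.algebraMap_σ]
    have : algebraMap P.Ring B x.1 = 0 := x.2
    rw [this, add_zero]
  · rw [del_add, ← cotangentComplex_mk_eq_del, hy]; abel

/-- Uniqueness: if the conormal map is injective and the kernel has square zero. -/
theorem eq_zero_of_del (hsq : P.ker ^ 2 = ⊥) (hinj : Function.Injective P.cotangentComplex)
    (e : P.Ring) (h1 : algebraMap P.Ring B e = 0) (h2 : del P e = 0) : e = 0 := by
  have hm : e ∈ P.ker := h1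
  have : P.cotangentComplex (Algebra.Extension.Cotangent.mk ⟨e, hm⟩) = 0 := by
    rw [cotangentComplex_mk_eq_del]; exact h2
  have h3 := hinj (this.trans (map_zero _).symm)
  rw [Algebra.Extension.Cotangent.mk_eq_zero_iff, hsq] at h3
  exact h3

theorem eq_of_del (hsq : P.ker ^ 2 = ⊥) (hinj : Function.Injective P.cotangentComplex)
    (e e' : P.Ring) (h1 : algebraMap P.Ring B e = algebraMap P.Ring B e')
    (h2 : del P e = del P e') : e = e' := by
  rw [← sub_eq_zero]
  apply eq_zero_of_del P hsq hinj
  · rw [map_sub, h1, sub_self]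
  · rw [del_sub, h2, sub_self]

variable {P} {P' : Algebra.Extension.{u} A B}

/-- A map of conormal sequences into a left exact one is induced by a unique hom of extensions. -/
theorem exists_hom_of_map (hsq' : P'.ker ^ 2 = ⊥)
    (hinj' : Function.Injective P'.cotangentComplex)
    (e₂ : P.CotangentSpace →ₗ[B] P'.CotangentSpace)
    (h₂ : ∀ y, P'.toKaehler (e₂ y) = P.toKaehler y) :
    ∃ f : P.Hom P', ∀ e, del P' (f.toRingHom e) = e₂ (del P e) := by
  have hex : ∀ e : P.Ring, ∃ e' : P'.Ring,
      algebraMap P'.Ring B e' = algebraMap P.Ring B e ∧ del P' e' = e₂ (del P e) := fun e =>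
    exists_of_toKaehler P' _ _ (by rw [h₂, toKaehler_del])
  choose f hf1 hf2 using hex
  have huniq := eq_of_del P' hsq' hinj'
  let F : P.Ring →+* P'.Ring :=
    { toFun := f
      map_one' := by
        apply huniq
        · rw [hf1, map_one, map_one]
        · rw [hf2, del_one, del_one, map_zero]
      map_mul' := fun a b => by
        apply huniq
        · rw [hf1, map_mul, map_mul, hf1, hf1]
        · rw [hf2, del_mul, del_mul, map_add, map_smul, map_smul, hf1, hf1, hf2, hf2]
      map_zero' := by
        apply huniq
        · rw [hf1, map_zero, map_zero]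
        · rw [hf2, del_zero, del_zero, map_zero]
      map_add' := fun a b => by
        apply huniq
        · rw [hf1, map_add, map_add, hf1, hf1]
        · rw [hf2, del_add, del_add, map_add, hf2, hf2] }
  refine ⟨⟨F, fun a => ?_, fun e => ?_⟩, fun e => hf2 e⟩
  · apply huniq
    · change algebraMap P'.Ring B (f _) = _
      rw [hf1, Algebra.algebraMap_self, RingHom.id_apply, ← IsScalarTower.algebraMap_apply,
        ← IsScalarTower.algebraMap_apply]
    · change del P' (f _) = _
      rw [hf2, del_algebraMap, del_algebraMap, map_zero]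
  · change algebraMap P'.Ring B (f e) = _
    rw [hf1, Algebra.algebraMap_self, RingHom.id_apply]

theorem cotangent_map_eq_of_del (hinj' : Function.Injective P'.cotangentComplex)
    (e₁ : P.Cotangent →ₗ[B] P'.Cotangent) (e₂ : P.CotangentSpace →ₗ[B] P'.CotangentSpace)
    (h₁ : ∀ x, e₂ (P.cotangentComplex x) = P'.cotangentComplex (e₁ x))
    (f : P.Hom P') (hf : ∀ e, del P' (f.toRingHom e) = e₂ (del P e)) :
    Algebra.Extension.Cotangent.map f = e₁ := by
  refine LinearMap.ext fun x => ?_
  obtain ⟨x, rfl⟩ := Algebra.Extension.Cotangent.mk_surjective x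
  apply hinj'
  rw [← h₁, Algebra.Extension.Cotangent.map_mk, cotangentComplex_mk_eq_del,
    cotangentComplex_mk_eq_del]
  exact hf x.1

theorem bijective_of_del (hsq : P.ker ^ 2 = ⊥) (hinj : Function.Injective P.cotangentComplex)
    (hsq' : P'.ker ^ 2 = ⊥) (hinj' : Function.Injective P'.cotangentComplex)
    (e₂ : P.CotangentSpace ≃ₗ[B] P'.CotangentSpace)
    (h₂ : ∀ y, P'.toKaehler (e₂ y) = P.toKaehler y)
    (f : P.Hom P') (hf : ∀ e, del P' (f.toRingHom e) = e₂ (del P e)) :
    Function.Bijective f.toRingHom := by
  constructor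
  · rw [injective_iff_map_eq_zero]
    intro e he
    apply eq_zero_of_del P hsq hinj
    · have := f.algebraMap_toRingHom e
      rw [he, map_zero, Algebra.algebraMap_self, RingHom.id_apply] at this
      exact this.symm
    · have := hf e
      rw [he, del_zero] at this
      exact e₂.injective (this.symm.trans (map_zero _).symm)
  · intro e'
    obtain ⟨e, he1, he2⟩ := exists_of_toKaehler P (algebraMap P'.Ring B e') (e₂.symm (del P' e'))
      (by rw [← h₂, e₂.apply_symm_apply, toKaehler_del])
    refine ⟨e, eq_of_del P' hsq' hinj' _ _ ?_ ?_⟩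
    · have := f.algebraMap_toRingHom e
      rw [Algebra.algebraMap_self, RingHom.id_apply] at this
      rw [this, he1]
    · rw [hf, he2, e₂.apply_symm_apply]

end Groth.Agent.Lib.Helper1.GenSm
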