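import Groth.Agent.Lib.Helper1.HesseNF

set_option autoImplicit false

namespace Groth.Agent.Lib.Helper1.Hesse

theorem dft_identity (ω a b c : ℂ) (hω : ω ^ 2 + ω + 1 = 0) :
    a ^ 3 + b ^ 3 + c ^ 3 - 3 * a * b * c =
      (a + b + c) * (a + ω * b + ω ^ 2 * c) * (a + ω ^ 2 * b + ω * c) := by
  linear_combination (-(a + b + c) * (a * b + a * c + (ω - 1) * (b ^ 2 + c ^ 2)
    + (ω ^ 2 - ω + 1) * b * c)) * hω

theorem alg_core (α β γ δ x0 m n c rβ rn ι a1 a2 s ω l1 l2 l3 X y z : ℂ)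
    (hι : ι ^ 2 = -1) (hrβ : rβ ^ 2 = β) (hrn : rn ^ 2 = n)
    (hm : m = 3 * α * x0 ^ 2 + γ) (hn : n = α * x0 ^ 3 + γ * x0 + δ)
    (k1 : n * c ^ 2 = 3 * α * x0) (k2 : 2 * n * c = m)
    (ha2 : 2 * ι * rn * c * a2 = 1) (h12 : a1 + 2 * ι * rn * a2 = 0)
    (hω : ω ^ 2 + ω + 1 = 0) (hl : l1 * l2 * l3 = 1)
    (hs1 : s * l1 = a1) (hs2 : s * ω * l2 = a2) (hs3 : s * ω ^ 2 * l3 = -a2) :
    α * (X + x0 * z) ^ 3 + β * y ^ 2 * z + γ * (X + x0 * z) * z ^ 2 + δ * z ^ 3 =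
      ((l1 * z + l2 * (ι * rn * c * X + rβ * y + ι * rn * z)
          + l3 * (-(ι * rn * c * X) + rβ * y - ι * rn * z)) / 3) ^ 3
      + ((l1 * z + ω ^ 2 * l2 * (ι * rn * c * X + rβ * y + ι * rn * z)
          + ω * l3 * (-(ι * rn * c * X) + rβ * y - ι * rn * z)) / 3) ^ 3
      + (1 + 27 * α * s ^ 3) * ((l1 * z + ω * l2 * (ι * rn * c * X + rβ * y + ι * rn * z)
          + ω ^ 2 * l3 * (-(ι * rn * c * X) + rβ * y - ι * rn * z)) / 3) ^ 3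
      - 3 * (((l1 * z + l2 * (ι * rn * c * X + rβ * y + ι * rn * z)
          + l3 * (-(ι * rn * c * X) + rβ * y - ι * rn * z)) / 3)
        * ((l1 * z + ω ^ 2 * l2 * (ι * rn * c * X + rβ * y + ι * rn * z)
          + ω * l3 * (-(ι * rn * c * X) + rβ * y - ι * rn * z)) / 3)
        * ((l1 * z + ω * l2 * (ι * rn * c * X + rβ * y + ι * rn * z)
          + ω ^ 2 * l3 * (-(ι * rn * c * X) + rβ * y - ι * rn * z)) / 3)) := by
  set t1 := ι * rn * c * X + rβ * y + ι * rn * z with ht1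
  set t2 := -(ι * rn * c * X) + rβ * y - ι * rn * z with ht2
  set r0 := (l1 * z + l2 * t1 + l3 * t2) / 3 with hr0
  set r1 := (l1 * z + ω ^ 2 * l2 * t1 + ω * l3 * t2) / 3 with hr1
  set r2 := (l1 * z + ω * l2 * t1 + ω ^ 2 * l3 * t2) / 3 with hr2
  -- step A
  have hX : a1 * z + a2 * t1 - a2 * t2 = X := by
    rw [ht1, ht2]
    linear_combination z * h12 + X * ha2
  -- step B
  have b0 : r0 + r1 + r2 = l1 * z := by
    rw [hr0, hr1, hr2]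
    linear_combination (l2 * t1 / 3 + l3 * t2 / 3) * hω
  have b1 : r0 + ω * r1 + ω ^ 2 * r2 = l2 * t1 := by
    rw [hr0, hr1, hr2]
    linear_combination ((l1 * z + 2 * (ω - 1) * l2 * t1 + (ω ^ 2 - ω + 1) * l3 * t2) / 3) * hω
  have b2 : r0 + ω ^ 2 * r1 + ω * r2 = l3 * t2 := by
    rw [hr0, hr1, hr2]
    linear_combination ((l1 * z + (ω ^ 2 - ω + 1) * l2 * t1 + 2 * (ω - 1) * l3 * t2) / 3) * hω
  -- step C, D
  have hS : r0 ^ 3 + r1 ^ 3 + r2 ^ 3 - 3 * r0 * r1 * r2 = z * t1 * t2 := by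
    rw [dft_identity ω r0 r1 r2 hω, b0, b1, b2]
    linear_combination (z * t1 * t2) * hl
  -- step E
  have hE : 3 * s * r2 = X := by
    rw [hr2]
    linear_combination z * hs1 + t1 * hs2 + t2 * hs3 + hX
  -- step G
  have hG : t1 * t2 = β * y ^ 2 + n * (c * X + z) ^ 2 := by
    rw [ht1, ht2]
    linear_combination (y ^ 2) * hrβ + (-(ι ^ 2) * (c * X + z) ^ 2) * hrn
      + (-(n * (c * X + z) ^ 2)) * hι
  -- step H
  have hH : α * (X + x0 * z) ^ 3 + β * y ^ 2 * z + γ * (X + x0 * z) * z ^ 2 + δ * z ^ 3 =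
      α * X ^ 3 + z * (β * y ^ 2 + n * (c * X + z) ^ 2) := by
    linear_combination (-(z * X ^ 2)) * k1 + (-(z ^ 2 * X)) * k2 + (-(z ^ 2 * X)) * hm
      + (-(z ^ 3)) * hn
  rw [hH, ← hG]
  have hF : (1 + 27 * α * s ^ 3) * r2 ^ 3 = r2 ^ 3 + α * X ^ 3 := by
    rw [← hE]; ring
  linear_combination (-1 : ℂ) * hS - hF

end Groth.Agent.Lib.Helper1.Hesse
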