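import Groth.Agent.Lib.Helper1.HesseAlg

set_option autoImplicit false

namespace Groth.Agent.Lib.Helper1.Hesse

theorem exists_omega : ∃ ω : ℂ, ω ^ 2 + ω + 1 = 0 := by
  obtain ⟨r, hr⟩ := IsAlgClosed.exists_pow_nat_eq (-3 : ℂ) (n := 2) (by norm_num)
  exact ⟨(-1 + r) / 2, by linear_combination hr / 4⟩

theorem W_to_P3 (α β γ δ x0 : ℂ) (hα : α ≠ 0) (hβ : β ≠ 0)
    (hq : (3 * α * x0 ^ 2 + γ) ^ 2 = 12 * α * x0 * (α * x0 ^ 3 + γ * x0 + δ))
    (hm0 : 3 * α * x0 ^ 2 + γ ≠ 0) (hn0 : α * x0 ^ 3 + γ * x0 + δ ≠ 0) :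
    ∃ (Ψ : V ≃ₗ[ℂ] V) (κ : ℂ), κ ≠ 1 ∧ ∀ p, W α β γ δ p = P3 κ (Ψ p) := by
  set m := 3 * α * x0 ^ 2 + γ with hm
  set n := α * x0 ^ 3 + γ * x0 + δ with hn
  set c := m / (2 * n) with hc
  have hc0 : c ≠ 0 := div_ne_zero hm0 (mul_ne_zero (by norm_num) hn0)
  have k2 : 2 * n * c = m := by rw [hc]; field_simp
  have k1 : n * c ^ 2 = 3 * α * x0 := by
    rw [hc]; field_simp; linear_combination hq
  obtain ⟨rβ, hrβ⟩ := IsAlgClosed.exists_pow_nat_eq β (n := 2) (by norm_num)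
  obtain ⟨rn, hrn⟩ := IsAlgClosed.exists_pow_nat_eq n (n := 2) (by norm_num)
  have hrβ0 : rβ ≠ 0 := by rintro rfl; apply hβ; rw [← hrβ]; ring
  have hrn0 : rn ≠ 0 := by rintro rfl; apply hn0; rw [← hrn]; ring
  have hι : Complex.I ^ 2 = -1 := Complex.I_sq
  have hι0 : Complex.I ≠ 0 := Complex.I_ne_zero
  set a2 := 1 / (2 * Complex.I * rn * c) with ha2
  set a1 := -1 / c with ha1
  have ha2' : 2 * Complex.I * rn * c * a2 = 1 := by rw [ha2]; field_simp
  have h12 : a1 + 2 * Complex.I * rn * a2 = 0 := by rw [ha1, ha2]; field_simp; ring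
  have ha20 : a2 ≠ 0 := by
    rw [ha2]
    exact one_div_ne_zero (mul_ne_zero (mul_ne_zero (mul_ne_zero two_ne_zero hι0) hrn0) hc0)
  have ha10 : a1 ≠ 0 := by rw [ha1]; exact div_ne_zero (by norm_num) hc0
  obtain ⟨s, hs⟩ := IsAlgClosed.exists_pow_nat_eq (a1 * a2 * (-a2)) (n := 3) (by norm_num)
  have hs0 : s ≠ 0 := by
    rintro rfl
    have : a1 * a2 * (-a2) = 0 := by rw [← hs]; ring
    simp [ha10, ha20] at this
  obtain ⟨ω, hω⟩ := exists_omega
  have hω0 : ω ≠ 0 := by rintro rfl; norm_num at hω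
  have hω3 : ω ^ 3 = 1 := by linear_combination (ω - 1) * hω
  set l1 := a1 / s with hl1
  set l2 := a2 / (s * ω) with hl2
  set l3 := -a2 / (s * ω ^ 2) with hl3
  have hs1 : s * l1 = a1 := by rw [hl1]; field_simp
  have hs2 : s * ω * l2 = a2 := by rw [hl2]; field_simp
  have hs3 : s * ω ^ 2 * l3 = -a2 := by rw [hl3]; field_simp
  have hl : l1 * l2 * l3 = 1 := by
    have h1 : (s * l1) * (s * ω * l2) * (s * ω ^ 2 * l3) = s ^ 3 := by
      rw [hs1, hs2, hs3, hs]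
    have h2 : s ^ 3 * (l1 * l2 * l3) = s ^ 3 := by
      have : (s * l1) * (s * ω * l2) * (s * ω ^ 2 * l3) = s ^ 3 * ω ^ 3 * (l1 * l2 * l3) := by ring
      rw [this, hω3, mul_one] at h1
      exact h1
    have hs3' : s ^ 3 ≠ 0 := pow_ne_zero 3 hs0
    exact mul_left_cancel₀ hs3' (by rw [h2, mul_one])
  set M1 : Matrix (Fin 3) (Fin 3) ℂ := !![1, 0, -x0; 0, 1, 0; 0, 0, 1] with hM1
  set M2 : Matrix (Fin 3) (Fin 3) ℂ :=
    !![0, 0, 1; Complex.I * rn * c, rβ, Complex.I * rn; -(Complex.I * rn * c), rβ, -(Complex.I * rn)]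
    with hM2
  set M3 : Matrix (Fin 3) (Fin 3) ℂ :=
    !![l1 / 3, l2 / 3, l3 / 3; l1 / 3, ω ^ 2 * l2 / 3, ω * l3 / 3; l1 / 3, ω * l2 / 3, ω ^ 2 * l3 / 3]
    with hM3
  have d1 : M1.det ≠ 0 := by
    rw [Matrix.det_fin_three]
    simp [hM1]
  have d2 : M2.det ≠ 0 := by
    rw [Matrix.det_fin_three]
    simp [hM2]
    have : Complex.I * rn * c * rβ + rβ * (Complex.I * rn * c) = 2 * (Complex.I * rn * c * rβ) := by
      ring
    rw [this]
    exact mul_ne_zero two_ne_zero (mul_ne_zero (mul_ne_zero (mul_ne_zero hι0 hrn0) hc0) hrβ0)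
  have d3 : M3.det ≠ 0 := by
    rw [Matrix.det_fin_three]
    simp [hM3]
    intro h
    have h3 : 3 * ω * (1 - ω) = 0 := by
      linear_combination 27 * h - (ω ^ 4 - 3 * ω ^ 2 + 2 * ω) * hl - ω * (ω - 1) * hω
    have : ω = 1 := by
      rcases mul_eq_zero.mp h3 with h' | h'
      · simp [hω0] at h'
      · linear_combination -h'
    rw [this] at hω
    norm_num at hω
  refine ⟨(matEquiv M1 d1).trans ((matEquiv M2 d2).trans (matEquiv M3 d3)), 1 + 27 * α * s ^ 3,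
    ?_, ?_⟩
  · intro h
    have : 27 * α * s ^ 3 = 0 := by linear_combination h
    simp [hα, hs0] at this
  · intro p
    have e1 : ∀ q : V, M1.mulVec q = ![q 0 - x0 * q 2, q 1, q 2] := by
      intro q; ext i
      fin_cases i <;> simp [hM1, Matrix.mulVec, dotProduct, Fin.sum_univ_three] <;> ring
    have e2 : ∀ q : V, M2.mulVec q = ![q 2, Complex.I * rn * c * q 0 + rβ * q 1 + Complex.I * rn * q 2,
        -(Complex.I * rn * c * q 0) + rβ * q 1 - Complex.I * rn * q 2] := by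
      intro q; ext i
      fin_cases i <;> simp [hM2, Matrix.mulVec, dotProduct, Fin.sum_univ_three] <;> ring
    have e3 : ∀ q : V, M3.mulVec q = ![(l1 * q 0 + l2 * q 1 + l3 * q 2) / 3,
        (l1 * q 0 + ω ^ 2 * l2 * q 1 + ω * l3 * q 2) / 3,
        (l1 * q 0 + ω * l2 * q 1 + ω ^ 2 * l3 * q 2) / 3] := by
      intro q; ext i
      fin_cases i <;> simp [hM3, Matrix.mulVec, dotProduct, Fin.sum_univ_three] <;> ring
    simp only [LinearEquiv.trans_apply, matEquiv_apply, e1, e2, e3]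
    have := alg_core α β γ δ x0 m n c rβ rn Complex.I a1 a2 s ω l1 l2 l3 (p 0 - x0 * p 2) (p 1) (p 2)
      hι hrβ hrn hm hn k1 k2 ha2' h12 hω hl hs1 hs2 hs3
    simp only [W, P3, Matrix.cons_val_zero, Matrix.cons_val_one, Matrix.cons_val_two,
      Matrix.head_cons, Matrix.tail_cons]
    linear_combination this

end Groth.Agent.Lib.Helper1.Hesse
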