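import Groth.Agent.Lib.Helper1.HesseMain
import Groth.Agent.S18404

set_option autoImplicit false

namespace Groth.Agent.Lib.Helper1.Hesse

open MvPolynomial

/-- cyclic permutation of coordinates -/
noncomputable def sigmaE : V ≃ₗ[ℂ] V :=
  matEquiv !![0, 1, 0; 0, 0, 1; 1, 0, 0] (by rw [Matrix.det_fin_three]; simp)

theorem sigmaE_apply (p : V) : sigmaE p = ![p 1, p 2, p 0] := by
  rw [sigmaE, matEquiv_apply]
  ext i
  fin_cases i <;> simp [Matrix.mulVec, dotProduct, Fin.sum_univ_three]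

theorem hesse_sigmaE (k : ℂ) (p : V) : hesse k (sigmaE p) = hesse k p := by
  rw [sigmaE_apply]
  simp only [hesse, Matrix.cons_val_zero, Matrix.cons_val_one, Matrix.cons_val_two,
    Matrix.head_cons, Matrix.tail_cons]
  ring

/-- diagonal automorphism -/
noncomputable def tauE (γ : ℂ) (hγ : γ ^ 3 = 1) : V ≃ₗ[ℂ] V :=
  matEquiv !![1, 0, 0; 0, γ ^ 2, 0; 0, 0, γ] (by
    rw [Matrix.det_fin_three]
    simp
    rintro rfl
    norm_num at hγ)

theorem tauE_apply (γ : ℂ) (hγ : γ ^ 3 = 1) (p : V) :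
    tauE γ hγ p = ![p 0, γ ^ 2 * p 1, γ * p 2] := by
  rw [tauE, matEquiv_apply]
  ext i
  fin_cases i <;> simp [Matrix.mulVec, dotProduct, Fin.sum_univ_three]

theorem hesse_tauE (k γ : ℂ) (hγ : γ ^ 3 = 1) (p : V) : hesse k (tauE γ hγ p) = hesse k p := by
  rw [tauE_apply]
  simp only [hesse, Matrix.cons_val_zero, Matrix.cons_val_one, Matrix.cons_val_two,
    Matrix.head_cons, Matrix.tail_cons]
  have h6 : γ ^ 6 = 1 := by rw [show γ ^ 6 = (γ ^ 3) ^ 2 by ring, hγ]; ring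
  linear_combination (p 1 ^ 3) * h6 + (p 2 ^ 3 - 3 * k * p 0 * p 1 * p 2) * hγ

/-- Every flex of the Hesse cubic can be moved to `(0, 1, -1)` by an automorphism. -/
theorem exists_aut_to_base (k γ c : ℂ) (hγ : γ ^ 3 = 1) (q : V)
    (hq : q = c • ![0, 1, -γ] ∨ q = c • ![-γ, 0, 1] ∨ q = c • ![1, -γ, 0]) :
    ∃ (B : V ≃ₗ[ℂ] V) (d : ℂ), (∀ p, hesse k (B p) = hesse k p) ∧ B q = d • ![0, 1, -1] := by
  rcases hq with rfl | rfl | rfl
  · refine ⟨tauE γ hγ, c * γ ^ 2, hesse_tauE k γ hγ, ?_⟩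
    rw [tauE_apply]
    ext i
    fin_cases i <;> simp <;> ring
  · refine ⟨sigmaE.trans (tauE γ hγ), c * γ ^ 2, fun p => ?_, ?_⟩
    · rw [LinearEquiv.trans_apply, hesse_tauE, hesse_sigmaE]
    · rw [LinearEquiv.trans_apply, sigmaE_apply, tauE_apply]
      ext i
      fin_cases i <;> simp <;> ring
  · refine ⟨(sigmaE.trans sigmaE).trans (tauE γ hγ), c * γ ^ 2, fun p => ?_, ?_⟩
    · rw [LinearEquiv.trans_apply, LinearEquiv.trans_apply, hesse_tauE, hesse_sigmaE,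
        hesse_sigmaE]
    · rw [LinearEquiv.trans_apply, LinearEquiv.trans_apply, sigmaE_apply, sigmaE_apply, tauE_apply]
      ext i
      fin_cases i <;> simp <;> ring


theorem flex_pull (f : MvPolynomial (Fin 3) ℂ) (Θ : V ≃ₗ[ℂ] V) (k : ℂ)
    (hΘ : ∀ q, eval (Θ q) f = hesse k q) (v : V) (hv : v ≠ 0) (hfv : eval v f = 0)
    (hflex : ∃ w : V, LinearIndependent ℂ ![v, w] ∧ ∀ t : ℂ, eval (v + t • w) f = t ^ 3 * eval w f) :
    Θ.symm v ≠ 0 ∧ eval (Θ.symm v) (HesseCubic.form k) = 0 ∧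
      ∃ w : V, LinearIndependent ℂ ![Θ.symm v, w] ∧
        ∀ t : ℂ, eval (Θ.symm v + t • w) (HesseCubic.form k) = t ^ 3 * eval w (HesseCubic.form k) := by
  refine ⟨by simpa using hv, ?_, ?_⟩
  · rw [eval_form, ← hΘ, LinearEquiv.apply_symm_apply, hfv]
  · obtain ⟨w, hli, hw⟩ := hflex
    refine ⟨Θ.symm w, ?_, ?_⟩
    · have := hli.map' Θ.symm.toLinearMap (LinearMap.ker_eq_bot.mpr Θ.symm.injective)
      have e : (⇑Θ.symm.toLinearMap ∘ ![v, w]) = ![Θ.symm v, Θ.symm w] := by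
        ext i j
        fin_cases i <;> rfl
      rw [e] at this
      exact this
    · intro t
      rw [eval_form, eval_form, ← hΘ, ← hΘ, map_add, map_smul, LinearEquiv.apply_symm_apply,
        LinearEquiv.apply_symm_apply, hw]

/-- The projective automorphisms of a smooth plane cubic act transitively on its flexes. -/
theorem flex_transitive (f : MvPolynomial (Fin 3) ℂ) (hf : f.IsHomogeneous 3)
    (hsm : ∀ v : Fin 3 → ℂ, v ≠ 0 → eval v f = 0 → ∃ i : Fin 3, eval v (pderiv i f) ≠ 0)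
    (v v' : V) (hv : v ≠ 0) (hv' : v' ≠ 0) (hfv : eval v f = 0) (hfv' : eval v' f = 0)
    (hflex : ∃ w : V, LinearIndependent ℂ ![v, w] ∧ ∀ t : ℂ, eval (v + t • w) f = t ^ 3 * eval w f)
    (hflex' : ∃ w : V, LinearIndependent ℂ ![v', w] ∧
      ∀ t : ℂ, eval (v' + t • w) f = t ^ 3 * eval w f) :
    ∃ (A : Matrix (Fin 3) (Fin 3) ℂ) (c d : ℂ), IsUnit A.det ∧
      aeval (fun i : Fin 3 => ∑ j : Fin 3, C (A i j) * X j) f = C c * f ∧ A.mulVec v = d • v' := by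
  obtain ⟨Θ, k, hk, hΘ⟩ := exists_hesse_equiv f hf hsm
  obtain ⟨hq0, hCq, hfl⟩ := flex_pull f Θ k hΘ v hv hfv hflex
  obtain ⟨hq0', hCq', hfl'⟩ := flex_pull f Θ k hΘ v' hv' hfv' hflex'
  obtain ⟨γ, c, hγ, hq⟩ := (Groth.Agent.S18404.result k hk _ hq0 hCq).mp hfl
  obtain ⟨γ', c', hγ', hq'⟩ := (Groth.Agent.S18404.result k hk _ hq0' hCq').mp hfl'
  obtain ⟨B, d, hB, hBq⟩ := exists_aut_to_base k γ c hγ _ hq
  obtain ⟨B', d', hB', hBq'⟩ := exists_aut_to_base k γ' c' hγ' _ hq'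
  have hd' : d' ≠ 0 := by
    rintro rfl
    rw [zero_smul] at hBq'
    exact hq0' (by simpa using hBq')
  have hP : B'.symm ![0, 1, -1] = d'⁻¹ • Θ.symm v' := by
    rw [LinearEquiv.symm_apply_eq, map_smul, hBq', smul_smul, inv_mul_cancel₀ hd', one_smul]
  set Ξ : V ≃ₗ[ℂ] V := Θ.symm.trans (B.trans (B'.symm.trans Θ)) with hΞ
  have hΞf : ∀ p, eval (Ξ p) f = eval p f := by
    intro p
    rw [hΞ]
    simp only [LinearEquiv.trans_apply]
    rw [hΘ, ← hB' (B'.symm _), LinearEquiv.apply_symm_apply, hB, ← hΘ,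
      LinearEquiv.apply_symm_apply]
  have hΞv : Ξ v = (d * d'⁻¹) • v' := by
    rw [hΞ]
    simp only [LinearEquiv.trans_apply]
    rw [hBq, map_smul, hP, map_smul, map_smul, LinearEquiv.apply_symm_apply, smul_smul]
  refine ⟨LinearMap.toMatrix' Ξ.toLinearMap, 1, d * d'⁻¹, ?_, ?_, ?_⟩
  · rw [LinearMap.det_toMatrix']
    exact LinearEquiv.isUnit_det' Ξ
  · apply MvPolynomial.funext
    intro p
    rw [eval_aeval_matrix, LinearMap.toMatrix'_mulVec, map_mul, eval_C, one_mul]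
    exact hΞf p
  · rw [LinearMap.toMatrix'_mulVec]
    exact hΞv

end Groth.Agent.Lib.Helper1.Hesse
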