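import Groth.Agent.Lib.Helper1.HesseAut

set_option autoImplicit false

namespace Groth.Agent.Lib.Helper1.Hesse

open MvPolynomial

theorem flex_push (f : MvPolynomial (Fin 3) ℂ) (Θ : V ≃ₗ[ℂ] V) (k : ℂ)
    (hΘ : ∀ q, eval (Θ q) f = hesse k q) (q : V) (hq : q ≠ 0)
    (hCq : eval q (HesseCubic.form k) = 0)
    (hflex : ∃ w : V, LinearIndependent ℂ ![q, w] ∧
      ∀ t : ℂ, eval (q + t • w) (HesseCubic.form k) = t ^ 3 * eval w (HesseCubic.form k)) :
    Θ q ≠ 0 ∧ eval (Θ q) f = 0 ∧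
      ∃ w : V, LinearIndependent ℂ ![Θ q, w] ∧ ∀ t : ℂ, eval (Θ q + t • w) f = t ^ 3 * eval w f := by
  refine ⟨by simpa using hq, ?_, ?_⟩
  · rw [hΘ, ← eval_form, hCq]
  · obtain ⟨w, hli, hw⟩ := hflex
    refine ⟨Θ w, ?_, ?_⟩
    · have := hli.map' Θ.toLinearMap (LinearMap.ker_eq_bot.mpr Θ.injective)
      have e : (⇑Θ.toLinearMap ∘ ![q, w]) = ![Θ q, Θ w] := by
        ext i j
        fin_cases i <;> rfl
      rw [e] at this
      exact this
    · intro t
      have := hw t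
      rw [eval_form, eval_form, ← hΘ, ← hΘ, map_add, map_smul] at this
      exact this

/-- three eigenvectors in a plane force equal eigenvalues -/
theorem eig3 (L : V →ₗ[ℂ] V) (u v : V) (huv : LinearIndependent ℂ ![u, v]) (a b e x y : ℂ)
    (hx : x ≠ 0) (hy : y ≠ 0) (hu : L u = a • u) (hv : L v = b • v)
    (hw : L (x • u + y • v) = e • (x • u + y • v)) : a = b := by
  rw [map_add, map_smul, map_smul, hu, hv] at hw
  have h0 : ((a - e) * x) • u + ((b - e) * y) • v = 0 := by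
    have : ((a - e) * x) • u + ((b - e) * y) • v =
        (x • a • u + y • b • v) - e • (x • u + y • v) := by
      simp only [smul_add, smul_smul, sub_smul, sub_mul]
      rw [mul_comm a x, mul_comm b y]
      abel
    rw [this, hw, sub_self]
  obtain ⟨h1, h2⟩ := LinearIndependent.pair_iff.mp huv _ _ h0
  have ha : a = e := by
    rcases mul_eq_zero.mp h1 with h | h
    · exact sub_eq_zero.mp h
    · exact absurd h hx
  have hb : b = e := by
    rcases mul_eq_zero.mp h2 with h | h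
    · exact sub_eq_zero.mp h
    · exact absurd h hy
  rw [ha, hb]


theorem hesse_flex_P (k γ : ℂ) (hk : k ^ 3 ≠ 1) (hγ : γ ^ 3 = 1) :
    (![0, 1, -γ] : V) ≠ 0 ∧ eval (![0, 1, -γ] : V) (HesseCubic.form k) = 0 ∧
    ∃ w : V, LinearIndependent ℂ ![(![0, 1, -γ] : V), w] ∧ ∀ t : ℂ,
      eval ((![0, 1, -γ] : V) + t • w) (HesseCubic.form k) = t ^ 3 * eval w (HesseCubic.form k) := by
  have h0 : (![0, 1, -γ] : V) ≠ 0 := by
    intro h
    have := congrFun h 1
    simp at this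
  have hC : eval (![0, 1, -γ] : V) (HesseCubic.form k) = 0 := by
    rw [eval_form]
    simp only [hesse, Matrix.cons_val_zero, Matrix.cons_val_one, Matrix.cons_val_two,
      Matrix.head_cons, Matrix.tail_cons]
    linear_combination (-1 : ℂ) * hγ
  exact ⟨h0, hC, (Groth.Agent.S18404.result k hk _ h0 hC).mpr
    ⟨γ, 1, hγ, Or.inl (one_smul _ _).symm⟩⟩

theorem hesse_flex_Q (k γ : ℂ) (hk : k ^ 3 ≠ 1) (hγ : γ ^ 3 = 1) :
    (![-γ, 0, 1] : V) ≠ 0 ∧ eval (![-γ, 0, 1] : V) (HesseCubic.form k) = 0 ∧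
    ∃ w : V, LinearIndependent ℂ ![(![-γ, 0, 1] : V), w] ∧ ∀ t : ℂ,
      eval ((![-γ, 0, 1] : V) + t • w) (HesseCubic.form k) = t ^ 3 * eval w (HesseCubic.form k) := by
  have h0 : (![-γ, 0, 1] : V) ≠ 0 := by
    intro h
    have := congrFun h 2
    simp at this
  have hC : eval (![-γ, 0, 1] : V) (HesseCubic.form k) = 0 := by
    rw [eval_form]
    simp only [hesse, Matrix.cons_val_zero, Matrix.cons_val_one, Matrix.cons_val_two,
      Matrix.head_cons, Matrix.tail_cons]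
    linear_combination (-1 : ℂ) * hγ
  exact ⟨h0, hC, (Groth.Agent.S18404.result k hk _ h0 hC).mpr
    ⟨γ, 1, hγ, Or.inr (Or.inl (one_smul _ _).symm)⟩⟩

theorem scalar_of_fix_flexes (f : MvPolynomial (Fin 3) ℂ) (hf : f.IsHomogeneous 3)
    (hsm : ∀ v : Fin 3 → ℂ, v ≠ 0 → eval v f = 0 → ∃ i : Fin 3, eval v (pderiv i f) ≠ 0)
    (A : Matrix (Fin 3) (Fin 3) ℂ)
    (hfix : ∀ v : Fin 3 → ℂ, v ≠ 0 → eval v f = 0 →
      (∃ w : Fin 3 → ℂ, LinearIndependent ℂ ![v, w] ∧ ∀ t : ℂ, eval (v + t • w) f = t ^ 3 * eval w f) →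
      ∃ d : ℂ, A.mulVec v = d • v) :
    ∃ c : ℂ, A = c • (1 : Matrix (Fin 3) (Fin 3) ℂ) := by
  obtain ⟨Θ, k, hk, hΘ⟩ := exists_hesse_equiv f hf hsm
  obtain ⟨ω, hω⟩ := exists_omega
  have hω3 : ω ^ 3 = 1 := by linear_combination (ω - 1) * hω
  have hω6 : (ω ^ 2) ^ 3 = 1 := by rw [← pow_mul, show 2 * 3 = 3 * 2 by norm_num, pow_mul, hω3]; ring
  have hω1 : ω - 1 ≠ 0 := by
    intro h
    have : ω = 1 := by linear_combination h
    rw [this] at hω
    norm_num at hω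
  have h1 : (1 : ℂ) ^ 3 = 1 := by ring
  have hω0 : ω ≠ 0 := by
    rintro rfl
    norm_num at hω
  set L : V →ₗ[ℂ] V := Matrix.toLin' A with hL
  have hLv : ∀ v, L v = A.mulVec v := fun v => by rw [hL, Matrix.toLin'_apply]
  -- eigenvalues at the flexes
  have eigP : ∀ γ : ℂ, γ ^ 3 = 1 → ∃ d : ℂ, L (Θ ![0, 1, -γ]) = d • Θ ![0, 1, -γ] := by
    intro γ hγ
    obtain ⟨a0, a1, a2⟩ := hesse_flex_P k γ hk hγ
    obtain ⟨b0, b1, b2⟩ := flex_push f Θ k hΘ _ a0 a1 a2
    obtain ⟨d, hd⟩ := hfix _ b0 b1 b2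
    exact ⟨d, by rw [hLv, hd]⟩
  have eigQ : ∀ γ : ℂ, γ ^ 3 = 1 → ∃ d : ℂ, L (Θ ![-γ, 0, 1]) = d • Θ ![-γ, 0, 1] := by
    intro γ hγ
    obtain ⟨a0, a1, a2⟩ := hesse_flex_Q k γ hk hγ
    obtain ⟨b0, b1, b2⟩ := flex_push f Θ k hΘ _ a0 a1 a2
    obtain ⟨d, hd⟩ := hfix _ b0 b1 b2
    exact ⟨d, by rw [hLv, hd]⟩
  obtain ⟨a, ha⟩ := eigP 1 h1
  obtain ⟨b, hb⟩ := eigP ω hω3
  obtain ⟨e, he⟩ := eigP (ω ^ 2) hω6
  obtain ⟨a', ha'⟩ := eigQ 1 h1
  obtain ⟨b', hb'⟩ := eigQ ω hω3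
  obtain ⟨e', he'⟩ := eigQ (ω ^ 2) hω6
  -- independence
  have liP : LinearIndependent ℂ ![(![0, 1, -1] : V), ![0, 1, -ω]] := by
    rw [LinearIndependent.pair_iff]
    intro s t h
    have h1 := congrFun h 1
    have h2 := congrFun h 2
    simp at h1 h2
    have ht : t * (ω - 1) = 0 := by linear_combination (-1 : ℂ) * h1 - h2
    have ht0 : t = 0 := by
      rcases mul_eq_zero.mp ht with h' | h'
      · exact h'
      · exact absurd h' hω1
    refine ⟨?_, ht0⟩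
    rw [ht0] at h1
    simpa using h1
  have liQ : LinearIndependent ℂ ![(![-1, 0, 1] : V), ![-ω, 0, 1]] := by
    rw [LinearIndependent.pair_iff]
    intro s t h
    have h1 := congrFun h 0
    have h2 := congrFun h 2
    simp at h1 h2
    have ht : t * (ω - 1) = 0 := by linear_combination (-1 : ℂ) * h1 - h2
    have ht0 : t = 0 := by
      rcases mul_eq_zero.mp ht with h' | h'
      · exact h'
      · exact absurd h' hω1
    refine ⟨?_, ht0⟩
    rw [ht0] at h2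
    simpa using h2
  have mapLI : ∀ x y : V, LinearIndependent ℂ ![x, y] → LinearIndependent ℂ ![Θ x, Θ y] := by
    intro x y h
    have := h.map' Θ.toLinearMap (LinearMap.ker_eq_bot.mpr Θ.injective)
    have e : (⇑Θ.toLinearMap ∘ ![x, y]) = ![Θ x, Θ y] := by
      ext i j
      fin_cases i <;> rfl
    rw [e] at this
    exact this
  -- equal eigenvalues in each plane
  have hab : a = b := by
    refine eig3 L _ _ (mapLI _ _ liP) a b e (-ω) (-(ω ^ 2)) (neg_ne_zero.mpr hω0) (neg_ne_zero.mpr (pow_ne_zero 2 hω0)) (by simpa using ha) hb ?_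
    have : (-ω) • Θ (![0, 1, -1] : V) + (-(ω ^ 2)) • Θ (![0, 1, -ω] : V) = Θ ![0, 1, -(ω ^ 2)] := by
      rw [← map_smul, ← map_smul, ← map_add]
      congr 1
      ext i
      fin_cases i
      · simp
      · simp; linear_combination (-1 : ℂ) * hω
      · simp; linear_combination (1 : ℂ) * hω3 + (1 : ℂ) * hω
    rw [this]
    exact he
  have hab' : a' = b' := by
    refine eig3 L _ _ (mapLI _ _ liQ) a' b' e' (-ω) (-(ω ^ 2)) (neg_ne_zero.mpr hω0) (neg_ne_zero.mpr (pow_ne_zero 2 hω0)) (by simpa using ha') hb' ?_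
    have : (-ω) • Θ (![-1, 0, 1] : V) + (-(ω ^ 2)) • Θ (![-ω, 0, 1] : V) = Θ ![-(ω ^ 2), 0, 1] := by
      rw [← map_smul, ← map_smul, ← map_add]
      congr 1
      ext i
      fin_cases i
      · simp; linear_combination (1 : ℂ) * hω3 + (1 : ℂ) * hω
      · simp
      · simp; linear_combination (-1 : ℂ) * hω
    rw [this]
    exact he'
  -- compare the two planes
  have hz1 : (![0, 1, -1] : V) - ![0, 1, -ω] = ω • (![-1, 0, 1] : V) - ![-ω, 0, 1] := by
    ext i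
    fin_cases i
    · simp
    · simp
    · simp; ring
  have hz0 : Θ ((![0, 1, -1] : V) - ![0, 1, -ω]) ≠ 0 := by
    rw [Ne, LinearEquiv.map_eq_zero_iff]
    intro h
    have := congrFun h 2
    simp at this
    exact hω1 (by linear_combination this)
  have haa' : a = a' := by
    have e1 : L (Θ ((![0, 1, -1] : V) - ![0, 1, -ω])) = a • Θ ((![0, 1, -1] : V) - ![0, 1, -ω]) := by
      rw [map_sub, map_sub, ha, hb, ← hab, smul_sub]
    have e2 : L (Θ ((![0, 1, -1] : V) - ![0, 1, -ω])) = a' • Θ ((![0, 1, -1] : V) - ![0, 1, -ω]) := by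
      rw [hz1, map_sub, map_smul, map_sub, map_smul, ha', hb', ← hab', smul_sub, smul_comm]
    have e3 : (a - a') • Θ ((![0, 1, -1] : V) - ![0, 1, -ω]) = 0 := by
      rw [sub_smul, ← e1, ← e2, sub_self]
    rcases smul_eq_zero.mp e3 with h | h
    · exact sub_eq_zero.mp h
    · exact absurd h hz0
  -- a basis of eigenvectors
  have li3' : LinearIndependent ℂ ![(![0, 1, -ω] : V), ![0, 1, -1], ![-1, 0, 1]] :=
    SymTri.li3 (LinearMap.proj 0) _ _ _ liP (by simp) (by simp) (by simp)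
  have li3'' : LinearIndependent ℂ ![Θ (![0, 1, -ω] : V), Θ ![0, 1, -1], Θ ![-1, 0, 1]] := by
    have := li3'.map' Θ.toLinearMap (LinearMap.ker_eq_bot.mpr Θ.injective)
    have e : (⇑Θ.toLinearMap ∘ ![(![0, 1, -ω] : V), ![0, 1, -1], ![-1, 0, 1]]) =
        ![Θ (![0, 1, -ω] : V), Θ ![0, 1, -1], Θ ![-1, 0, 1]] := by
      ext i j
      fin_cases i <;> rfl
    rw [e] at this
    exact this
  have hspan : Submodule.span ℂ (Set.range ![Θ (![0, 1, -ω] : V), Θ ![0, 1, -1], Θ ![-1, 0, 1]]) = ⊤ :=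
    li3''.span_eq_top_of_card_eq_finrank' (by simp)
  have hLa : L = a • LinearMap.id := by
    apply LinearMap.ext_on hspan
    rintro _ ⟨i, rfl⟩
    fin_cases i
    · simpa [← hab] using hb
    · simpa using ha
    · simpa [← haa'] using ha'
  refine ⟨a, ?_⟩
  apply Matrix.toLin'.injective
  rw [← hL, hLa, map_smul, Matrix.toLin'_one]

end Groth.Agent.Lib.Helper1.Hesse
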