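import Mathlib.RingTheory.Nullstellensatz
import Mathlib.RingTheory.Ideal.KrullsHeightTheorem
import Mathlib.RingTheory.Jacobson.Ring
import Mathlib.Analysis.Complex.Polynomial.Basic

set_option autoImplicit false

namespace Groth.Agent.Lib.Helper1.Hesse

open MvPolynomial

abbrev R3 := MvPolynomial (Fin 3) ℂ

/-- kill `X 0` -/
noncomputable def phi1 : R3 →ₐ[ℂ] R3 := aeval (fun i : Fin 3 => if i = 0 then 0 else X i)
/-- kill `X 0, X 1` -/
noncomputable def phi2 : R3 →ₐ[ℂ] R3 := aeval (fun i : Fin 3 => if i = 2 then X i else 0)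
/-- kill all -/
noncomputable def phi3 : R3 →ₐ[ℂ] ℂ := aeval (fun _ : Fin 3 => (0 : ℂ))

theorem phi2_comp_phi1 : phi2.comp phi1 = phi2 := by
  apply MvPolynomial.algHom_ext
  intro i
  fin_cases i <;> simp [phi1, phi2]

theorem phi3_comp_phi2 : phi3.comp phi2 = phi3 := by
  apply MvPolynomial.algHom_ext
  intro i
  fin_cases i <;> simp [phi3, phi2]

theorem height_ker_phi3 : 3 ≤ (RingHom.ker (phi3 : R3 →+* ℂ)).height := by
  have hp1 : (RingHom.ker (phi1 : R3 →+* R3)).IsPrime := RingHom.ker_isPrime _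
  have hp2 : (RingHom.ker (phi2 : R3 →+* R3)).IsPrime := RingHom.ker_isPrime _
  have hp3 : (RingHom.ker (phi3 : R3 →+* ℂ)).IsPrime := RingHom.ker_isPrime _
  have hb : (⊥ : Ideal R3).IsPrime := Ideal.isPrime_bot
  have h01 : (⊥ : Ideal R3) < RingHom.ker (phi1 : R3 →+* R3) := by
    refine lt_of_le_of_ne bot_le ?_
    intro h
    have : (X 0 : R3) ∈ RingHom.ker (phi1 : R3 →+* R3) := by
      simp [RingHom.mem_ker, phi1]
    rw [← h, Ideal.mem_bot] at this
    exact X_ne_zero _ this
  have h12 : RingHom.ker (phi1 : R3 →+* R3) < RingHom.ker (phi2 : R3 →+* R3) := by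
    refine lt_of_le_of_ne ?_ ?_
    · intro r hr
      rw [RingHom.mem_ker] at hr ⊢
      have := congrArg (fun g : R3 →ₐ[ℂ] R3 => g r) phi2_comp_phi1
      simp only [AlgHom.comp_apply] at this
      change phi2 r = 0
      rw [← this]
      change phi2 ((phi1 : R3 →+* R3) r) = 0
      rw [hr, map_zero]
    · intro h
      have : (X 1 : R3) ∈ RingHom.ker (phi2 : R3 →+* R3) := by
        simp [RingHom.mem_ker, phi2]
      rw [← h, RingHom.mem_ker] at this
      have h1 : (phi1 : R3 →+* R3) (X 1) = X 1 := by simp [phi1]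
      rw [h1] at this
      exact X_ne_zero _ this
  have h23 : RingHom.ker (phi2 : R3 →+* R3) < RingHom.ker (phi3 : R3 →+* ℂ) := by
    refine lt_of_le_of_ne ?_ ?_
    · intro r hr
      rw [RingHom.mem_ker] at hr ⊢
      have := congrArg (fun g : R3 →ₐ[ℂ] ℂ => g r) phi3_comp_phi2
      simp only [AlgHom.comp_apply] at this
      change phi3 r = 0
      rw [← this]
      change phi3 ((phi2 : R3 →+* R3) r) = 0
      rw [hr, map_zero]
    · intro h
      have : (X 2 : R3) ∈ RingHom.ker (phi3 : R3 →+* ℂ) := by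
        simp [RingHom.mem_ker, phi3]
      rw [← h, RingHom.mem_ker] at this
      have h1 : (phi2 : R3 →+* R3) (X 2) = X 2 := by simp [phi2]
      rw [h1] at this
      exact X_ne_zero _ this
  have e1 := Ideal.height_strict_mono_of_isPrime_of_isPrime h01
  have e2 := Ideal.height_strict_mono_of_isPrime_of_isPrime h12
  have e3 := Ideal.height_strict_mono_of_isPrime_of_isPrime h23
  have a1 : 1 ≤ (RingHom.ker (phi1 : R3 →+* R3)).height := Order.one_le_iff_pos.mpr (lt_of_le_of_lt bot_le e1)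
  have a2 : 2 ≤ (RingHom.ker (phi2 : R3 →+* R3)).height := by
    have := Order.add_one_le_of_lt (lt_of_le_of_lt a1 e2)
    simpa [one_add_one_eq_two] using this
  have a3 := Order.add_one_le_of_lt (lt_of_le_of_lt a2 e3)
  have : (2 : ℕ∞) + 1 = 3 := by norm_num
  rwa [this] at a3

theorem ker_phi3_eq : RingHom.ker (phi3 : R3 →+* ℂ) = vanishingIdeal ℂ {(0 : Fin 3 → ℂ)} := by
  ext r
  rw [RingHom.mem_ker, mem_vanishingIdeal_singleton_iff]
  rfl

/-- Two polynomials in three variables over `ℂ` vanishing at the origin have a common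
nonzero zero. -/
theorem exists_common_zero (f g : R3) (hf : eval 0 f = 0) (hg : eval 0 g = 0) :
    ∃ v : Fin 3 → ℂ, v ≠ 0 ∧ eval v f = 0 ∧ eval v g = 0 := by
  classical
  set m0 : Ideal R3 := RingHom.ker (phi3 : R3 →+* ℂ) with hm0
  have hp3 : m0.IsPrime := RingHom.ker_isPrime _
  have hI : Ideal.span ((({f, g} : Finset R3) : Set R3)) ≤ m0 := by
    rw [Ideal.span_le]
    intro r hr
    simp only [Finset.coe_insert, Finset.coe_singleton, Set.mem_insert_iff,
      Set.mem_singleton_iff] at hr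
    rw [SetLike.mem_coe, hm0, RingHom.mem_ker]
    have h0 : ∀ q : R3, (phi3 : R3 →+* ℂ) q = eval 0 q := fun q => by
      change aeval (fun _ : Fin 3 => (0 : ℂ)) q = eval 0 q
      rw [aeval_eq_eval]
      rfl
    rcases hr with rfl | rfl
    · rw [h0, hf]
    · rw [h0, hg]
  obtain ⟨p, hp, hpm⟩ := Ideal.exists_minimalPrimes_le hI
  have hpprime : p.IsPrime := hp.1.1
  have hht : p.height ≤ 2 := by
    refine (Ideal.height_le_card_of_mem_minimalPrimes_span_finset hp).trans ?_
    have : ({f, g} : Finset R3).card ≤ 2 := Finset.card_le_two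
    exact_mod_cast this
  have hne : p ≠ m0 := by
    intro h
    have h3 := height_ker_phi3
    rw [← hm0, ← h] at h3
    have : (3 : ℕ∞) ≤ 2 := h3.trans hht
    exact absurd this (by norm_num)
  have hjac : p.jacobson = p :=
    (inferInstance : IsJacobsonRing R3).out hpprime.isRadical
  have hex : ∃ J : Ideal R3, p ≤ J ∧ J.IsMaximal ∧ J ≠ m0 := by
    by_contra hcon
    push Not at hcon
    apply hne
    apply le_antisymm hpm
    rw [← hjac, Ideal.jacobson]
    apply le_sInf
    rintro J ⟨hJ1, hJ2⟩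
    rw [hcon J hJ1 hJ2]
  obtain ⟨J, hpJ, hJmax, hJne⟩ := hex
  obtain ⟨v, rfl⟩ := (isMaximal_iff_eq_vanishingIdeal_singleton (K := ℂ)).mp hJmax
  refine ⟨v, ?_, ?_, ?_⟩
  · rintro rfl
    exact hJne (by rw [hm0, ker_phi3_eq])
  · have : f ∈ vanishingIdeal ℂ {v} := hpJ (hp.1.2 (Ideal.subset_span (by simp)))
    rw [mem_vanishingIdeal_singleton_iff, aeval_eq_eval] at this
    exact this
  · have : g ∈ vanishingIdeal ℂ {v} := hpJ (hp.1.2 (Ideal.subset_span (by simp)))
    rw [mem_vanishingIdeal_singleton_iff, aeval_eq_eval] at this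
    exact this

end Groth.Agent.Lib.Helper1.Hesse
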