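import Groth.Agent.Lib.Helper1.HesseTri
import Groth.Agent.Lib.Helper1.HesseZero
import Mathlib.LinearAlgebra.Matrix.ToLinearEquiv

set_option autoImplicit false

namespace Groth.Agent.Lib.Helper1.Hesse

open MvPolynomial

namespace SymTri

variable (S : SymTri)

/-- standard basis vector -/
def e (k : Fin 3) : V := Pi.single k 1

/-- the linear functional `x ↦ T x b c` -/
def lin1 (b c : V) : V →ₗ[ℂ] ℂ where
  toFun x := S.T x b c
  map_add' x x' := S.add x x' b c
  map_smul' k x := by simp [S.smul]

theorem expand1 (x b c : V) : S.T x b c = ∑ k, x k * S.T (e k) b c := by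
  have := LinearMap.pi_apply_eq_sum_univ (S.lin1 b c) x
  have he : ∀ k : Fin 3, (fun j => if k = j then (1 : ℂ) else 0) = e k := by
    intro k
    ext j
    simp [e, Pi.single_apply, eq_comm]
  simp only [he] at this
  simpa [lin1, smul_eq_mul] using this

theorem expand3 (a b x : V) : S.T a b x = ∑ k, S.T a b (e k) * x k := by
  rw [S.s13, S.expand1]
  refine Finset.sum_congr rfl fun k _ => ?_
  rw [S.s13 (e k) b a, mul_comm]

theorem expand2 (a x c : V) : S.T a x c = ∑ k, x k * S.T a (e k) c := by
  rw [S.s12, S.expand1]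
  refine Finset.sum_congr rfl fun k _ => ?_
  rw [S.s12 (e k) a c]

/-- the Hessian polynomial (up to the factor `6³`). -/
noncomputable def hessPoly : R3 :=
  (Matrix.of fun i j : Fin 3 => ∑ k : Fin 3, C (S.T (e k) (e i) (e j)) * X k).det

theorem eval_hessPoly (v : V) :
    eval v S.hessPoly = (Matrix.of fun i j : Fin 3 => S.T v (e i) (e j)).det := by
  rw [hessPoly, RingHom.map_det]
  congr 1
  ext i j
  simp only [RingHom.mapMatrix_apply, Matrix.map_apply, Matrix.of_apply, map_sum, map_mul, eval_C,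
    eval_X]
  rw [S.expand1 v]
  exact Finset.sum_congr rfl fun k _ => mul_comm _ _

theorem eval_zero_hessPoly : eval 0 S.hessPoly = 0 := by
  rw [eval_hessPoly]
  have : (Matrix.of fun i j : Fin 3 => S.T 0 (e i) (e j)) = 0 := by
    ext i j
    simp [S.zero1]
  rw [this, Matrix.det_zero]

/-- A smooth plane cubic has a flex. -/
theorem exists_flex (f : R3) (hf : ∀ v, eval v f = S.F v) (hsm : S.Smooth) :
    ∃ v w : V, LinearIndependent ℂ ![v, w] ∧ S.F v = 0 ∧ S.T v v w = 0 ∧ S.T v w w = 0 := by
  obtain ⟨v, hv0, hv1, hv2⟩ := exists_common_zero f S.hessPoly (by rw [hf, S.F_zero])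
    S.eval_zero_hessPoly
  rw [hf] at hv1
  rw [eval_hessPoly] at hv2
  obtain ⟨x, hx0, hx⟩ := Matrix.exists_mulVec_eq_zero_iff.mpr hv2
  have h1 : ∀ i, S.T v (e i) x = 0 := by
    intro i
    have := congrFun hx i
    simp only [Matrix.mulVec, dotProduct, Matrix.of_apply, Pi.zero_apply] at this
    rw [S.expand3]
    exact this
  have h2 : ∀ y, S.T v y x = 0 := by
    intro y
    rw [S.expand2]
    simp [h1]
  refine ⟨v, x, ?_, hv1, ?_, ?_⟩
  · rw [LinearIndependent.pair_iff' hv0]
    intro a ha
    have hx' : x = a • v := ha.symm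
    obtain ⟨u, hu⟩ := hsm v hv0 hv1
    apply hu
    have ha0 : a ≠ 0 := by
      rintro rfl
      rw [zero_smul] at hx'
      exact hx0 hx'
    have h3 := h2 u
    rw [hx', S.smul3] at h3
    have h4 : S.T v u v = 0 := by
      rcases mul_eq_zero.mp h3 with h | h
      · exact absurd h ha0
      · exact h
    rw [S.s23]
    exact h4
  · exact h2 v
  · rw [S.s23]
    exact h2 x

end SymTri

end Groth.Agent.Lib.Helper1.Hesse
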