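import Groth.Agent.Lib.Helper1.CubicForm

set_option autoImplicit false

namespace Groth.Agent.Lib.Helper1.Hesse

open MvPolynomial Groth.Agent.Lib.Helper1.Cubic

abbrev V := Fin 3 → ℂ

/-- polarization of a cubic function -/
noncomputable def pol (F : V → ℂ) (x y z : V) : ℂ :=
  (F (x + y + z) - F (x + y) - F (x + z) - F (y + z) + F x + F y + F z) / 6

theorem pol_s12 (F : V → ℂ) (x y z : V) : pol F x y z = pol F y x z := by
  unfold pol
  rw [add_comm x y]
  ring

theorem pol_s23 (F : V → ℂ) (x y z : V) : pol F x y z = pol F x z y := by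
  unfold pol
  rw [add_assoc x y z, add_comm y z, ← add_assoc]
  ring

/-- the properties of the polarization of a cubic polynomial function -/
def PolProp (f : MvPolynomial (Fin 3) ℂ) : Prop :=
  (∀ x x' y z : V, pol (fun v => eval v f) (x + x') y z =
      pol (fun v => eval v f) x y z + pol (fun v => eval v f) x' y z) ∧
  (∀ (c : ℂ) (x y z : V), pol (fun v => eval v f) (c • x) y z =
      c * pol (fun v => eval v f) x y z) ∧
  (∀ v : V, pol (fun v => eval v f) v v v = eval v f) ∧
  (∀ u v : V, ∑ i, u i * eval v (pderiv i f) = 3 * pol (fun v => eval v f) u v v)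

theorem polProp_mon (a b c : Fin 3) : PolProp (X a * X b * X c) := by
  refine ⟨?_, ?_, ?_, ?_⟩
  · intro x x' y z
    simp only [pol, map_mul, eval_X, Pi.add_apply]
    ring
  · intro k x y z
    simp only [pol, map_mul, eval_X, Pi.add_apply, Pi.smul_apply, smul_eq_mul]
    ring
  · intro v
    simp only [pol, map_mul, eval_X, Pi.add_apply]
    ring
  · intro u v
    simp only [pol, map_mul, eval_X, Pi.add_apply, Derivation.leibniz, pderiv_X, smul_eq_mul,
      map_add, Pi.single_apply]
    have h1 : ∀ (d x : Fin 3), (eval v) (if d = x then (1 : MvPolynomial (Fin 3) ℂ) else 0) =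
        if d = x then 1 else 0 := by
      intro d x; split_ifs <;> simp
    simp only [h1, mul_add, Finset.sum_add_distrib, mul_ite, mul_one, mul_zero, Finset.sum_ite_eq,
      Finset.mem_univ, if_true]
    ring


theorem polProp_zero : PolProp 0 := by
  refine ⟨?_, ?_, ?_, ?_⟩ <;> intros <;> simp [pol]

theorem polProp_add (p q : MvPolynomial (Fin 3) ℂ) (hp : PolProp p) (hq : PolProp q) :
    PolProp (p + q) := by
  obtain ⟨p1, p2, p3, p4⟩ := hp
  obtain ⟨q1, q2, q3, q4⟩ := hq
  refine ⟨?_, ?_, ?_, ?_⟩
  · intro x x' y z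
    have h1 := p1 x x' y z
    have h2 := q1 x x' y z
    simp only [pol, map_add] at h1 h2 ⊢
    linear_combination h1 + h2
  · intro c x y z
    have h1 := p2 c x y z
    have h2 := q2 c x y z
    simp only [pol, map_add] at h1 h2 ⊢
    linear_combination h1 + h2
  · intro v
    have h1 := p3 v
    have h2 := q3 v
    simp only [pol, map_add] at h1 h2 ⊢
    linear_combination h1 + h2
  · intro u v
    have h1 := p4 u v
    have h2 := q4 u v
    simp only [pol, map_add, mul_add, Finset.sum_add_distrib] at h1 h2 ⊢
    linear_combination h1 + h2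

theorem polProp_smul (k : ℂ) (p : MvPolynomial (Fin 3) ℂ) (hp : PolProp p) :
    PolProp (k • p) := by
  obtain ⟨p1, p2, p3, p4⟩ := hp
  refine ⟨?_, ?_, ?_, ?_⟩
  · intro x x' y z
    have h1 := p1 x x' y z
    simp only [pol, smul_eval] at h1 ⊢
    linear_combination k * h1
  · intro c x y z
    have h1 := p2 c x y z
    simp only [pol, smul_eval] at h1 ⊢
    linear_combination k * h1
  · intro v
    have h1 := p3 v
    simp only [pol, smul_eval] at h1 ⊢
    linear_combination k * h1
  · intro u v
    have h1 := p4 u v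
    have h3 : ∑ i, u i * (k * eval v (pderiv i p)) = k * ∑ i, u i * eval v (pderiv i p) := by
      rw [Finset.mul_sum]; exact Finset.sum_congr rfl fun i _ => by ring
    simp only [pol, smul_eval, Derivation.map_smul] at h1 ⊢
    rw [h3]
    linear_combination k * h1

theorem polProp_of_isHomogeneous {f : MvPolynomial (Fin 3) ℂ} (hf : f.IsHomogeneous 3) :
    PolProp f :=
  cubic_induction (P := PolProp) polProp_zero polProp_add polProp_smul polProp_mon hf

/-- a symmetric trilinear form on `ℂ³` -/
structure SymTri where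
  T : V → V → V → ℂ
  add : ∀ x x' y z, T (x + x') y z = T x y z + T x' y z
  smul : ∀ (c : ℂ) x y z, T (c • x) y z = c * T x y z
  s12 : ∀ x y z, T x y z = T y x z
  s23 : ∀ x y z, T x y z = T x z y

/-- the symmetric trilinear form of a homogeneous cubic -/
noncomputable def symTriOf (f : MvPolynomial (Fin 3) ℂ) (hf : f.IsHomogeneous 3) : SymTri where
  T := pol (fun v => eval v f)
  add := (polProp_of_isHomogeneous hf).1
  smul := (polProp_of_isHomogeneous hf).2.1
  s12 := pol_s12 _
  s23 := pol_s23 _

theorem symTriOf_diag (f : MvPolynomial (Fin 3) ℂ) (hf : f.IsHomogeneous 3) (v : V) :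
    (symTriOf f hf).T v v v = eval v f :=
  (polProp_of_isHomogeneous hf).2.2.1 v

theorem symTriOf_pderiv (f : MvPolynomial (Fin 3) ℂ) (hf : f.IsHomogeneous 3) (u v : V) :
    ∑ i, u i * eval v (pderiv i f) = 3 * (symTriOf f hf).T u v v :=
  (polProp_of_isHomogeneous hf).2.2.2 u v

end Groth.Agent.Lib.Helper1.Hesse
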