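import Groth.Agent.Lib.Helper1.HesseAsm
import Groth.Prelude.Def_W4c5monodromycubicsHesse

set_option autoImplicit false

namespace Groth.Agent.Lib.Helper1.Hesse

open MvPolynomial

theorem W_to_hesse (α β γ δ : ℂ) (hα : α ≠ 0) (hβ : β ≠ 0) (hsm : SmoothFn (W α β γ δ)) :
    ∃ (Ψ : V ≃ₗ[ℂ] V) (k : ℂ), k ^ 3 ≠ 1 ∧ ∀ p, W α β γ δ p = hesse k (Ψ p) := by
  obtain ⟨x0, hq, hm0, hn0⟩ := choose_x0 α β γ δ hα hsm
  obtain ⟨Ψ1, κ, hκ1, h1⟩ := W_to_P3 α β γ δ x0 hα hβ hq hm0 hn0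
  have hsm3 : SmoothFn (P3 κ) := by
    refine (hsm.comp Ψ1.symm).congr ?_
    intro p
    rw [h1, LinearEquiv.apply_symm_apply]
  have hκ0 : κ ≠ 0 := P3_kappa_ne_zero κ hsm3
  obtain ⟨ρ, hρ⟩ := IsAlgClosed.exists_pow_nat_eq κ (n := 3) (by norm_num)
  have hρ0 : ρ ≠ 0 := by rintro rfl; apply hκ0; rw [← hρ]; ring
  set M4 : Matrix (Fin 3) (Fin 3) ℂ := !![1, 0, 0; 0, 1, 0; 0, 0, ρ] with hM4
  have d4 : M4.det ≠ 0 := by
    rw [Matrix.det_fin_three]
    simpa [hM4] using hρ0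
  refine ⟨Ψ1.trans (matEquiv M4 d4), 1 / ρ, ?_, ?_⟩
  · intro h
    apply hκ1
    rw [one_div, inv_pow, hρ] at h
    exact inv_eq_one.mp h
  · intro p
    have e4 : ∀ q : V, M4.mulVec q = ![q 0, q 1, ρ * q 2] := by
      intro q; ext i
      fin_cases i <;> simp [hM4, Matrix.mulVec, dotProduct, Fin.sum_univ_three]
    rw [h1, LinearEquiv.trans_apply, matEquiv_apply, e4]
    simp only [P3, hesse, Matrix.cons_val_zero, Matrix.cons_val_one, Matrix.cons_val_two,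
      Matrix.head_cons, Matrix.tail_cons]
    rw [← hρ]
    field_simp

theorem eval_aeval_matrix (A : Matrix (Fin 3) (Fin 3) ℂ) (f : MvPolynomial (Fin 3) ℂ) (v : V) :
    eval v (aeval (fun i : Fin 3 => ∑ j : Fin 3, C (A i j) * X j) f) = eval (A.mulVec v) f := by
  induction f using MvPolynomial.induction_on with
  | C a => simp
  | add p q hp hq => rw [map_add, map_add, hp, hq, map_add]
  | mul_X p i hp =>
    simp only [map_mul, hp, aeval_X, eval_X, map_sum, eval_C]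
    rfl

theorem eval_form (k : ℂ) (v : V) : eval v (HesseCubic.form k) = hesse k v := by
  simp [HesseCubic.form, hesse]

theorem smooth_of_poly (f : MvPolynomial (Fin 3) ℂ) (hf : f.IsHomogeneous 3)
    (hsm : ∀ v : Fin 3 → ℂ, v ≠ 0 → eval v f = 0 → ∃ i : Fin 3, eval v (pderiv i f) ≠ 0) :
    (symTriOf f hf).Smooth := by
  intro v hv hFv
  have hFv' : eval v f = 0 := by rw [← symTriOf_diag f hf v]; exact hFv
  obtain ⟨i, hi⟩ := hsm v hv hFv'
  refine ⟨Pi.single i 1, ?_⟩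
  have := symTriOf_pderiv f hf (Pi.single i 1) v
  rw [Finset.sum_eq_single i (fun j _ hji => by simp [Pi.single_apply, hji])
    (fun h => absurd (Finset.mem_univ i) h)] at this
  simp only [Pi.single_eq_same, one_mul] at this
  rw [(symTriOf f hf).s13]
  intro h0
  apply hi
  rw [this, h0, mul_zero]

/-- Hesse normal form of a smooth plane cubic, as a linear equivalence. -/
theorem exists_hesse_equiv (f : MvPolynomial (Fin 3) ℂ) (hf : f.IsHomogeneous 3)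
    (hsm : ∀ v : Fin 3 → ℂ, v ≠ 0 → eval v f = 0 → ∃ i : Fin 3, eval v (pderiv i f) ≠ 0) :
    ∃ (Θ : V ≃ₗ[ℂ] V) (k : ℂ), k ^ 3 ≠ 1 ∧ ∀ q, eval (Θ q) f = hesse k q := by
  set S := symTriOf f hf with hS
  have hSF : ∀ v, eval v f = S.F v := fun v => (symTriOf_diag f hf v).symm
  have hSsm : S.Smooth := smooth_of_poly f hf hsm
  obtain ⟨v, w, hvw, h0, h1, h2⟩ := S.exists_flex f hSF hSsm
  obtain ⟨WF⟩ := S.exists_wform hSsm v w hvw h0 h1 h2
  set B := basisOfLinearIndependentOfCardEqFinrank WF.li (by simp) with hB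
  set Φb : V ≃ₗ[ℂ] V := B.equivFun.symm with hΦb
  have hΦ : ∀ p : V, Φb p = p 0 • WF.b 0 + p 1 • WF.b 1 + p 2 • WF.b 2 := by
    intro p
    rw [hΦb, Module.Basis.equivFun_symm_apply, Fin.sum_univ_three, hB,
      coe_basisOfLinearIndependentOfCardEqFinrank]
  have hW : ∀ p, S.F (Φb p) = W WF.α WF.β WF.γ WF.δ p := by
    intro p
    rw [hΦ, WF.eq]
    rfl
  have hsmW : SmoothFn (W WF.α WF.β WF.γ WF.δ) := ((S.smoothFn hSsm).comp Φb).congr hW
  obtain ⟨Ψ, k, hk, hΨ⟩ := W_to_hesse WF.α WF.β WF.γ WF.δ WF.hα WF.hβ hsmW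
  refine ⟨Ψ.symm.trans Φb, k, hk, ?_⟩
  intro q
  rw [LinearEquiv.trans_apply, hSF, hW, hΨ, LinearEquiv.apply_symm_apply]

/-- Hesse normal form of a smooth plane cubic. -/
theorem exists_hesseForm (f : MvPolynomial (Fin 3) ℂ) (hf : f.IsHomogeneous 3)
    (hsm : ∀ v : Fin 3 → ℂ, v ≠ 0 → eval v f = 0 → ∃ i : Fin 3, eval v (pderiv i f) ≠ 0) :
    ∃ (A : Matrix (Fin 3) (Fin 3) ℂ) (k c : ℂ), IsUnit A.det ∧ k ^ 3 ≠ 1 ∧ c ≠ 0 ∧
      aeval (fun i : Fin 3 => ∑ j : Fin 3, C (A i j) * X j) f = C c * HesseCubic.form k := by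
  obtain ⟨Θ, k, hk, hΘ⟩ := exists_hesse_equiv f hf hsm
  refine ⟨LinearMap.toMatrix' Θ.toLinearMap, k, 1, ?_, hk, one_ne_zero, ?_⟩
  · rw [LinearMap.det_toMatrix']
    exact LinearEquiv.isUnit_det' Θ
  · apply MvPolynomial.funext
    intro v
    rw [eval_aeval_matrix, LinearMap.toMatrix'_mulVec, map_mul, eval_C, one_mul, eval_form]
    exact hΘ v

end Groth.Agent.Lib.Helper1.Hesse
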