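import Groth.Agent.Lib.Helper1.HesseStabH

set_option autoImplicit false

namespace Groth.Agent.Lib.Helper1.Hesse

open Matrix MvPolynomial

/-- the six families of monomial matrices, with column entries `a, b, c` -/
def Mon : Fin 3 → Bool → ℂ → ℂ → ℂ → Matrix (Fin 3) (Fin 3) ℂ
  | 0, false, a, b, c => !![a, 0, 0; 0, b, 0; 0, 0, c]
  | 0, true, a, b, c => !![a, 0, 0; 0, 0, c; 0, b, 0]
  | 1, false, a, b, c => !![0, b, 0; 0, 0, c; a, 0, 0]
  | 1, true, a, b, c => !![0, 0, c; 0, b, 0; a, 0, 0]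
  | 2, false, a, b, c => !![0, 0, c; a, 0, 0; 0, b, 0]
  | 2, true, a, b, c => !![0, b, 0; a, 0, 0; 0, 0, c]

theorem Mon_hesse (k : ℂ) (t : Fin 3) (ε : Bool) (a b c : ℂ) (v : V) :
    hesse k ((Mon t ε a b c).mulVec v) =
      a ^ 3 * v 0 ^ 3 + b ^ 3 * v 1 ^ 3 + c ^ 3 * v 2 ^ 3 - 3 * k * (a * b * c) * (v 0 * v 1 * v 2) := by
  rw [mulVec3]
  fin_cases t <;> cases ε <;> simp [Mon, hesse] <;> ring

theorem Mon_det (t : Fin 3) (ε : Bool) (a b c : ℂ) :
    (Mon t ε a b c).det = (bif ε then -1 else 1) * (a * b * c) := by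
  rw [Matrix.det_fin_three]
  fin_cases t <;> cases ε <;> simp only [Mon, Matrix.of_apply, Matrix.cons_val', Matrix.cons_val_zero,
    Matrix.cons_val_one, Matrix.cons_val_two, Matrix.head_cons, Matrix.tail_cons, Matrix.empty_val',
    Matrix.cons_val_fin_one, cond_true, cond_false, Matrix.vecHead] <;> ring

theorem Mon_mul_one (t : Fin 3) (a b c p : ℂ) :
    Mon t false a b c * (p • (1 : Matrix (Fin 3) (Fin 3) ℂ)) = Mon t false (p * a) (p * b) (p * c) := by
  fin_cases t <;> ext i j <;> fin_cases i <;> fin_cases j <;>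
    simp [Mon, Matrix.mul_apply, Fin.sum_univ_three, mul_comm]

theorem Mon_mul_Sw (t : Fin 3) (a b c p : ℂ) :
    Mon t false a b c * (p • Sw) = Mon t true (p * a) (p * c) (p * b) := by
  fin_cases t <;> ext i j <;> fin_cases i <;> fin_cases j <;>
    simp [Mon, Sw, Matrix.mul_apply, Fin.sum_univ_three, mul_comm]

theorem Mon_inj (t t' : Fin 3) (ε ε' : Bool) (a b c a' b' c' : ℂ) (ha : a ≠ 0) (hb : b ≠ 0)
    (hc : c ≠ 0) (h : Mon t ε a b c = Mon t' ε' a' b' c') :
    t = t' ∧ ε = ε' ∧ a = a' ∧ b = b' ∧ c = c' := by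
  have h00 := congrFun (congrFun h 0) 0
  have h01 := congrFun (congrFun h 0) 1
  have h02 := congrFun (congrFun h 0) 2
  have h10 := congrFun (congrFun h 1) 0
  have h11 := congrFun (congrFun h 1) 1
  have h12 := congrFun (congrFun h 1) 2
  have h20 := congrFun (congrFun h 2) 0
  have h21 := congrFun (congrFun h 2) 1
  have h22 := congrFun (congrFun h 2) 2
  fin_cases t <;> fin_cases t' <;> cases ε <;> cases ε' <;> simp [Mon] at h00 h01 h02 h10 h11 h12 h20 h21 h22 <;>
    simp_all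

end Groth.Agent.Lib.Helper1.Hesse
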