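import Groth.Agent.Lib.Helper1.HesseW
import Mathlib.LinearAlgebra.Matrix.NonsingularInverse
import Mathlib.LinearAlgebra.Matrix.ToLinearEquiv

set_option autoImplicit false

namespace Groth.Agent.Lib.Helper1.Hesse

/-- smoothness of a cubic function, via finite differences -/
def SmoothFn (G : V → ℂ) : Prop :=
  ∀ p : V, p ≠ 0 → G p = 0 → ∃ u : V, G (p + u) - G (p - u) - 2 * G u ≠ 0

theorem SymTri.smoothFn (S : SymTri) (h : S.Smooth) : SmoothFn S.F := by
  intro p hp hFp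
  obtain ⟨u, hu⟩ := h p hp hFp
  refine ⟨u, fun h0 => hu ?_⟩
  rw [S.T_diag, h0, zero_div]

theorem SmoothFn.comp {G : V → ℂ} (h : SmoothFn G) (Φ : V ≃ₗ[ℂ] V) :
    SmoothFn (fun p => G (Φ p)) := by
  intro p hp hGp
  obtain ⟨u, hu⟩ := h (Φ p) (by simpa using hp) hGp
  refine ⟨Φ.symm u, ?_⟩
  simpa [map_add, map_sub] using hu

theorem SmoothFn.congr {G G' : V → ℂ} (h : SmoothFn G) (e : ∀ p, G p = G' p) : SmoothFn G' := by
  have : G = G' := funext e
  rwa [← this]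

/-- the linear equivalence of an invertible matrix -/
noncomputable def matEquiv (M : Matrix (Fin 3) (Fin 3) ℂ) (h : M.det ≠ 0) : V ≃ₗ[ℂ] V :=
  Matrix.toLinearEquiv' M (Matrix.invertibleOfIsUnitDet M (isUnit_iff_ne_zero.mpr h))

theorem matEquiv_apply (M : Matrix (Fin 3) (Fin 3) ℂ) (h : M.det ≠ 0) (p : V) :
    matEquiv M h p = M.mulVec p := rfl

/-- Weierstrass-type cubic -/
def W (α β γ δ : ℂ) (p : V) : ℂ :=
  α * p 0 ^ 3 + β * p 1 ^ 2 * p 2 + γ * p 0 * p 2 ^ 2 + δ * p 2 ^ 3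

/-- Hesse cubic -/
def hesse (k : ℂ) (p : V) : ℂ := p 0 ^ 3 + p 1 ^ 3 + p 2 ^ 3 - 3 * k * (p 0 * p 1 * p 2)

/-- intermediate cubic -/
def P3 (κ : ℂ) (p : V) : ℂ := p 0 ^ 3 + p 1 ^ 3 + κ * p 2 ^ 3 - 3 * (p 0 * p 1 * p 2)

theorem P3_kappa_ne_zero (κ : ℂ) (h : SmoothFn (P3 κ)) : κ ≠ 0 := by
  rintro rfl
  obtain ⟨u, hu⟩ := h ![0, 0, 1] (by
    intro h0
    have := congrFun h0 2
    simp at this) (by simp [P3])
  apply hu
  simp [P3]
  ring

theorem W_singular_of_root (α β γ δ x0 : ℂ) (h : SmoothFn (W α β γ δ))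
    (hm : 3 * α * x0 ^ 2 + γ = 0) (hn : α * x0 ^ 3 + γ * x0 + δ = 0) : False := by
  obtain ⟨u, hu⟩ := h ![x0, 0, 1] (by
    intro h0
    have := congrFun h0 2
    simp at this) (by simp [W]; linear_combination hn)
  apply hu
  simp [W]
  linear_combination (2 * u 0 - 2 * u 2 * x0) * hm + 6 * u 2 * hn


open Polynomial in
theorem exists_root_quartic (a b c d : ℂ) (ha : a ≠ 0) :
    ∃ x : ℂ, a * x ^ 4 + b * x ^ 2 + c * x + d = 0 := by
  set f : ℂ[X] := C a * X ^ 4 + C b * X ^ 2 + C c * X + C d with hf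
  have h4 : f.coeff 4 = a := by
    simp [hf, coeff_X_pow, coeff_X, coeff_C]
  have hdeg : f.degree ≠ 0 := by
    intro h0
    have hle : (4 : ℕ) ≤ f.natDegree := le_natDegree_of_ne_zero (by rw [h4]; exact ha)
    have : f.natDegree = 0 := natDegree_eq_zero_iff_degree_le_zero.mpr h0.le
    omega
  obtain ⟨x, hx⟩ := IsAlgClosed.exists_root f hdeg
  refine ⟨x, ?_⟩
  have := hx
  simp only [hf, IsRoot.def, eval_add, eval_mul, eval_C, eval_pow, eval_X] at this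
  exact this

theorem choose_x0 (α β γ δ : ℂ) (hα : α ≠ 0) (hsm : SmoothFn (W α β γ δ)) :
    ∃ x0 : ℂ, (3 * α * x0 ^ 2 + γ) ^ 2 = 12 * α * x0 * (α * x0 ^ 3 + γ * x0 + δ) ∧
      3 * α * x0 ^ 2 + γ ≠ 0 ∧ α * x0 ^ 3 + γ * x0 + δ ≠ 0 := by
  by_cases hγ : γ = 0
  · subst hγ
    have hδ : δ ≠ 0 := by
      intro hδ
      exact W_singular_of_root α β 0 δ 0 hsm (by ring) (by rw [hδ]; ring)
    obtain ⟨x0, hx0⟩ := IsAlgClosed.exists_pow_nat_eq (-4 * δ / α) (n := 3) (by norm_num)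
    have hδ' : δ = -(α * x0 ^ 3) / 4 := by
      rw [hx0]; field_simp
    have hx00 : x0 ≠ 0 := by
      rintro rfl
      apply hδ
      rw [hδ']; ring
    refine ⟨x0, ?_, ?_, ?_⟩
    · rw [hδ']; ring
    · simpa using ⟨hα, hx00⟩
    · rw [hδ']
      have : α * x0 ^ 3 + 0 * x0 + -(α * x0 ^ 3) / 4 = 3 / 4 * (α * x0 ^ 3) := by ring
      rw [this]
      exact mul_ne_zero (by norm_num) (mul_ne_zero hα (pow_ne_zero 3 hx00))
  · obtain ⟨x0, hx0⟩ := exists_root_quartic (-3 * α ^ 2) (-6 * α * γ) (-12 * α * δ) (γ ^ 2)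
      (by simpa using hα)
    have hq : (3 * α * x0 ^ 2 + γ) ^ 2 = 12 * α * x0 * (α * x0 ^ 3 + γ * x0 + δ) := by
      linear_combination hx0
    have key : 3 * α * x0 ^ 2 + γ = 0 → False := by
      intro hm
      have h2 : 12 * α * x0 * (α * x0 ^ 3 + γ * x0 + δ) = 0 := by rw [← hq, hm]; ring
      rcases mul_eq_zero.mp h2 with h | h
      · have hx : x0 = 0 := by
          rcases mul_eq_zero.mp h with h' | h'
          · exact absurd h' (mul_ne_zero (by norm_num) hα)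
          · exact h'
        rw [hx] at hm
        apply hγ
        linear_combination hm
      · exact W_singular_of_root α β γ δ x0 hsm hm h
    refine ⟨x0, hq, fun h => key h, ?_⟩
    intro hn
    apply key
    have : (3 * α * x0 ^ 2 + γ) ^ 2 = 0 := by rw [hq, hn]; ring
    exact pow_eq_zero_iff (by norm_num) |>.mp this

end Groth.Agent.Lib.Helper1.Hesse
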