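import Groth.Agent.Lib.Helper1.HesseMon

set_option autoImplicit false

namespace Groth.Agent.Lib.Helper1.Hesse

open Matrix MvPolynomial

theorem mulVec_inj_of_det (A : Matrix (Fin 3) (Fin 3) ℂ) (hdet : A.det ≠ 0) :
    Function.Injective A.mulVec :=
  Matrix.mulVec_injective_iff_isUnit.mpr
    ((Matrix.isUnit_iff_isUnit_det A).mpr (isUnit_iff_ne_zero.mpr hdet))

/-- the image of the base flex under a linear automorphism of the Hesse cubic is a flex -/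
theorem flexA (k : ℂ) (hk : k ^ 3 ≠ 1) (A : Matrix (Fin 3) (Fin 3) ℂ) (hdet : A.det ≠ 0) (c : ℂ)
    (hA : ∀ v : V, hesse k (A.mulVec v) = c * hesse k v) :
    ∃ γ c' : ℂ, γ ^ 3 = 1 ∧ (A.mulVec P1 = c' • ![0, 1, -γ] ∨ A.mulVec P1 = c' • ![-γ, 0, 1] ∨
      A.mulVec P1 = c' • ![1, -γ, 0]) := by
  have hinj := mulVec_inj_of_det A hdet
  obtain ⟨h0, hC, w, hli, hw⟩ := hesse_flex_P k 1 hk (one_pow 3)
  have hP0 : A.mulVec P1 ≠ 0 := by
    intro h
    apply h0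
    apply hinj
    rw [Matrix.mulVec_zero]
    exact h
  have hPC : eval (A.mulVec P1) (HesseCubic.form k) = 0 := by
    rw [eval_form, hA, ← eval_form]
    have : eval P1 (HesseCubic.form k) = 0 := hC
    rw [this, mul_zero]
  refine (Groth.Agent.S18404.result k hk (A.mulVec P1) hP0 hPC).mp ⟨A.mulVec w, ?_, ?_⟩
  · have := hli.map' (Matrix.mulVecLin A) (LinearMap.ker_eq_bot.mpr hinj)
    have e : (⇑(Matrix.mulVecLin A) ∘ ![(![0, 1, -1] : V), w]) = ![A.mulVec P1, A.mulVec w] := by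
      ext i j
      fin_cases i <;> rfl
    rw [e] at this
    exact this
  · intro t
    have := hw t
    rw [eval_form, eval_form] at this
    rw [eval_form, eval_form, ← Matrix.mulVec_smul, ← Matrix.mulVec_add, hA, hA]
    have e : hesse k (P1 + t • w) = t ^ 3 * hesse k w := this
    rw [e]
    ring

/-- assembling: an automorphism sending the base flex to the flex `F` is `g` times a
stabilizer element -/
theorem assemble (k : ℂ) (hk1 : k ^ 3 ≠ 1) (hk0 : k ≠ 0) (hk8 : k ^ 3 + 8 ≠ 0)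
    (hk6 : k ^ 6 - 20 * k ^ 3 - 8 ≠ 0) (g A : Matrix (Fin 3) (Fin 3) ℂ) (hg : g.det ≠ 0)
    (hgH : ∀ v : V, hesse k (g.mulVec v) = hesse k v) (a : ℂ) (ha : a ≠ 0) (F : V)
    (hgP : g.mulVec P1 = a • F) (hdet : A.det ≠ 0) (c : ℂ)
    (hA : ∀ v : V, hesse k (A.mulVec v) = c * hesse k v) (c' : ℂ) (hAP : A.mulVec P1 = c' • F) :
    ∃ p : ℂ, p ≠ 0 ∧ (A = g * (p • (1 : Matrix (Fin 3) (Fin 3) ℂ)) ∨ A = g * (p • Sw)) := by
  have hgu : IsUnit g.det := isUnit_iff_ne_zero.mpr hg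
  have hgg : g * g⁻¹ = 1 := Matrix.mul_nonsing_inv g hgu
  have hgg' : g⁻¹ * g = 1 := Matrix.nonsing_inv_mul g hgu
  have hAg : A = g * (g⁻¹ * A) := by rw [← Matrix.mul_assoc, hgg, Matrix.one_mul]
  have hdet' : (g⁻¹ * A).det ≠ 0 := by
    intro h
    apply hdet
    rw [hAg, Matrix.det_mul, h, mul_zero]
  have hA' : ∀ v : V, hesse k ((g⁻¹ * A).mulVec v) = c * hesse k v := by
    intro v
    rw [← hgH, Matrix.mulVec_mulVec, ← hAg, hA]
  have hP' : (g⁻¹ * A).mulVec P1 = (c' / a) • P1 := by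
    have e1 : g⁻¹.mulVec F = (1 / a) • P1 := by
      have := congrArg (g⁻¹.mulVec) hgP
      rw [Matrix.mulVec_mulVec, hgg', Matrix.one_mulVec, Matrix.mulVec_smul] at this
      rw [this, smul_smul, one_div, inv_mul_cancel₀ ha, one_smul]
    rw [← Matrix.mulVec_mulVec, hAP, Matrix.mulVec_smul, e1, smul_smul]
    congr 1
    ring
  obtain ⟨p, hp, h⟩ := stabH k hk1 hk0 hk8 hk6 (g⁻¹ * A) hdet' c (c' / a) hA' hP'
  refine ⟨p, hp, ?_⟩
  rcases h with h | h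
  · left; rw [← h]; exact hAg
  · right; rw [← h]; exact hAg

/-- every linear automorphism of a generic Hesse cubic is monomial of a special shape -/
theorem surjS (k : ℂ) (hk1 : k ^ 3 ≠ 1) (hk0 : k ≠ 0) (hk8 : k ^ 3 + 8 ≠ 0)
    (hk6 : k ^ 6 - 20 * k ^ 3 - 8 ≠ 0) (A : Matrix (Fin 3) (Fin 3) ℂ) (hdet : A.det ≠ 0) (c : ℂ)
    (hA : ∀ v : V, hesse k (A.mulVec v) = c * hesse k v) :
    ∃ (t : Fin 3) (ε : Bool) (p γ : ℂ), p ≠ 0 ∧ γ ^ 3 = 1 ∧
      A = Mon t ε p (p * γ) (p * γ ^ 2) := by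
  obtain ⟨γ, c', hγ, hcases⟩ := flexA k hk1 A hdet c hA
  have hγ0 : γ ≠ 0 := by
    rintro rfl
    norm_num at hγ
  have key : ∀ (t : Fin 3) (F : V), (Mon t false 1 γ (γ ^ 2)).mulVec P1 = γ • F →
      A.mulVec P1 = c' • F → ∃ (t : Fin 3) (ε : Bool) (p γ : ℂ), p ≠ 0 ∧ γ ^ 3 = 1 ∧
      A = Mon t ε p (p * γ) (p * γ ^ 2) := by
    intro t F hgP hAP
    have hgdet : (Mon t false 1 γ (γ ^ 2)).det ≠ 0 := by
      rw [Mon_det]
      simp [hγ0]
    have hgH : ∀ v : V, hesse k ((Mon t false 1 γ (γ ^ 2)).mulVec v) = hesse k v := by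
      intro v
      rw [Mon_hesse, hesse]
      have e6 : (γ ^ 2) ^ 3 = 1 := by linear_combination (γ ^ 3 + 1) * hγ
      have e3 : 1 * γ * γ ^ 2 = 1 := by linear_combination hγ
      rw [e6, e3, hγ]
      ring
    obtain ⟨p, hp, h⟩ := assemble k hk1 hk0 hk8 hk6 _ A hgdet hgH γ hγ0 F hgP hdet c hA c' hAP
    rcases h with h | h
    · refine ⟨t, false, p, γ, hp, hγ, ?_⟩
      rw [h, Mon_mul_one, mul_one]
    · refine ⟨t, true, p, γ ^ 2, hp, ?_, ?_⟩
      · linear_combination (γ ^ 3 + 1) * hγ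
      · rw [h, Mon_mul_Sw, mul_one]
        congr 1
        have : (γ ^ 2) ^ 2 = γ * γ ^ 3 := by ring
        rw [this, hγ, mul_one]
  rcases hcases with h | h | h
  · refine key 0 _ ?_ h
    rw [mulVec3]
    ext i
    fin_cases i <;> simp [Mon, P1] <;> ring
  · refine key 2 _ ?_ h
    rw [mulVec3]
    ext i
    fin_cases i <;> simp [Mon, P1] <;> ring
  · refine key 1 _ ?_ h
    rw [mulVec3]
    ext i
    fin_cases i <;> simp [Mon, P1] <;> ring

end Groth.Agent.Lib.Helper1.Hesse
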