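import Groth.Agent.Lib.Helper1.HesseFix

set_option autoImplicit false

namespace Groth.Agent.Lib.Helper1.Hesse

/-- A linear automorphism of the Weierstrass-type cubic fixing the flex `e₁` is
`p • diag(1, ±1, 1)`, when all four coefficients are nonzero. -/
theorem stabW (α β γ δ : ℂ) (hα : α ≠ 0) (hβ : β ≠ 0) (hγ : γ ≠ 0) (hδ : δ ≠ 0)
    (B : Matrix (Fin 3) (Fin 3) ℂ) (hdet : B.det ≠ 0) (c lam : ℂ)
    (hB : ∀ v : V, W α β γ δ (B.mulVec v) = c * W α β γ δ v)
    (h01 : B 0 1 = 0) (h11 : B 1 1 = lam) (h21 : B 2 1 = 0) :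
    ∃ p : ℂ, p ≠ 0 ∧ (B = p • (1 : Matrix (Fin 3) (Fin 3) ℂ) ∨
      B = p • !![1, 0, 0; 0, -1, 0; 0, 0, 1]) := by
  have hW : ∀ x y z : ℂ, α * (B 0 0 * x + B 0 1 * y + B 0 2 * z) ^ 3
      + β * (B 1 0 * x + B 1 1 * y + B 1 2 * z) ^ 2 * (B 2 0 * x + B 2 1 * y + B 2 2 * z)
      + γ * (B 0 0 * x + B 0 1 * y + B 0 2 * z) * (B 2 0 * x + B 2 1 * y + B 2 2 * z) ^ 2
      + δ * (B 2 0 * x + B 2 1 * y + B 2 2 * z) ^ 3
      = c * (α * x ^ 3 + β * y ^ 2 * z + γ * x * z ^ 2 + δ * z ^ 3) := by
    intro x y z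
    have := hB ![x, y, z]
    simpa [W, Matrix.mulVec, dotProduct, Fin.sum_univ_three] using this
  rw [h01, h11, h21] at hW
  have hdet' := hdet
  rw [Matrix.det_fin_three, h01, h11, h21] at hdet'
  -- b20 = 0
  have e1 : B 2 0 = 0 := by
    have a1 := hW 1 1 0
    have a2 := hW 1 (-1) 0
    have a3 := hW 1 0 0
    have : 2 * β * lam ^ 2 * B 2 0 = 0 := by linear_combination a1 + a2 - 2 * a3
    have hl : lam ≠ 0 := by
      rintro rfl
      apply hdet'
      ring
    simpa [hβ, hl] using this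
  rw [e1] at hW hdet'
  have hl : lam ≠ 0 := by
    rintro rfl
    apply hdet'
    ring
  have h22 : B 2 2 ≠ 0 := by
    intro h
    apply hdet'
    rw [h]; ring
  have h00 : B 0 0 ≠ 0 := by
    intro h
    apply hdet'
    rw [h]; ring
  -- b10 = 0
  have e2 : B 1 0 = 0 := by
    have a1 := hW 1 1 1
    have a2 := hW (-1) 1 1
    have a3 := hW 1 (-1) 1
    have a4 := hW (-1) (-1) 1
    have : 8 * β * B 1 0 * lam * B 2 2 = 0 := by linear_combination a1 - a2 - a3 + a4
    simpa [hβ, hl, h22] using this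
  rw [e2] at hW
  -- b12 = 0
  have e3 : B 1 2 = 0 := by
    have a1 := hW 0 1 1
    have a2 := hW 0 (-1) 1
    have : 4 * β * lam * B 1 2 * B 2 2 = 0 := by linear_combination a1 - a2
    simpa [hβ, hl, h22] using this
  rw [e3] at hW
  -- b02 = 0
  have e4 : B 0 2 = 0 := by
    have a1 := hW 1 0 1
    have a2 := hW (-1) 0 1
    have a3 := hW 0 0 1
    have : 6 * α * B 0 0 ^ 2 * B 0 2 = 0 := by linear_combination a1 + a2 - 2 * a3
    simpa [hα, h00] using this
  rw [e4] at hW
  -- diagonal relations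
  have d1 : B 0 0 ^ 3 = c := by
    have a1 := hW 1 0 0
    have : α * (B 0 0 ^ 3 - c) = 0 := by linear_combination a1
    have := (mul_eq_zero.mp this).resolve_left hα
    linear_combination this
  have d2 : B 2 2 ^ 3 = c := by
    have a1 := hW 0 0 1
    have : δ * (B 2 2 ^ 3 - c) = 0 := by linear_combination a1
    have := (mul_eq_zero.mp this).resolve_left hδ
    linear_combination this
  have d3 : lam ^ 2 * B 2 2 = c := by
    have a1 := hW 0 1 1
    have a2 := hW 0 0 1
    have : β * (lam ^ 2 * B 2 2 - c) = 0 := by linear_combination a1 - a2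
    have := (mul_eq_zero.mp this).resolve_left hβ
    linear_combination this
  have d4 : B 0 0 * B 2 2 ^ 2 = c := by
    have a1 := hW 1 0 1
    have a2 := hW 0 0 1
    have a3 := hW 1 0 0
    have : γ * (B 0 0 * B 2 2 ^ 2 - c) = 0 := by linear_combination a1 - a2 - a3
    have := (mul_eq_zero.mp this).resolve_left hγ
    linear_combination this
  have hr : B 2 2 = B 0 0 := by
    have h1 : B 2 2 ^ 2 = B 0 0 ^ 2 := by
      have : B 0 0 * (B 2 2 ^ 2 - B 0 0 ^ 2) = 0 := by linear_combination d4 - d1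
      have := (mul_eq_zero.mp this).resolve_left h00
      linear_combination this
    have h2 : B 0 0 ^ 2 * (B 2 2 - B 0 0) = 0 := by
      linear_combination d2 - d1 - B 2 2 * h1
    have := (mul_eq_zero.mp h2).resolve_left (pow_ne_zero 2 h00)
    linear_combination this
  have hlam : lam ^ 2 = B 0 0 ^ 2 := by
    have : B 0 0 * (lam ^ 2 - B 0 0 ^ 2) = 0 := by
      rw [hr] at d3
      linear_combination d3 - d1
    have := (mul_eq_zero.mp this).resolve_left h00
    linear_combination this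
  refine ⟨B 0 0, h00, ?_⟩
  have hcases : lam = B 0 0 ∨ lam = - B 0 0 := by
    have : (lam - B 0 0) * (lam + B 0 0) = 0 := by linear_combination hlam
    rcases mul_eq_zero.mp this with h | h
    · left; linear_combination h
    · right; linear_combination h
  rcases hcases with h | h
  · left
    ext i j
    fin_cases i <;> fin_cases j <;> simp [h01, h21, e1, e2, e3, e4, hr, h11, h]
  · right
    ext i j
    fin_cases i <;> fin_cases j <;> simp [h01, h21, e1, e2, e3, e4, hr, h11, h]

end Groth.Agent.Lib.Helper1.Hesse
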