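import Groth.Agent.Lib.Helper1.HesseStab

set_option autoImplicit false

namespace Groth.Agent.Lib.Helper1.Hesse

open Matrix

/-- the swap of the last two coordinates -/
def Sw : Matrix (Fin 3) (Fin 3) ℂ := !![1, 0, 0; 0, 0, 1; 0, 1, 0]

/-- the base flex `(0, 1, -1)` -/
def P1 : V := ![0, 1, -1]

theorem mulVec3 (M : Matrix (Fin 3) (Fin 3) ℂ) (v : V) :
    M.mulVec v = ![M 0 0 * v 0 + M 0 1 * v 1 + M 0 2 * v 2,
      M 1 0 * v 0 + M 1 1 * v 1 + M 1 2 * v 2,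
      M 2 0 * v 0 + M 2 1 * v 1 + M 2 2 * v 2] := by
  ext i
  fin_cases i <;> simp [Matrix.mulVec, dotProduct, Fin.sum_univ_three]

/-- adapted coordinates -/
noncomputable def Nmat (k : ℂ) : Matrix (Fin 3) (Fin 3) ℂ :=
  !![1 + 3 * k ^ 2 / (4 * (1 - k ^ 3)) * k, 3 * k ^ 2 / (4 * (1 - k ^ 3)), 3 * k ^ 2 / (4 * (1 - k ^ 3));
     0, 1, -1;
     k, 1, 1]

theorem Nmat_det (k : ℂ) : (Nmat k).det = 2 := by
  rw [Nmat, Matrix.det_fin_three]
  simp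
  ring

theorem hesse_eq_W (k : ℂ) (hk : k ^ 3 ≠ 1) (v : V) :
    hesse k v = W (1 - k ^ 3) (3 / 4) (-3 * k * (k ^ 3 + 8) / (16 * (1 - k ^ 3)))
      (-(k ^ 6 - 20 * k ^ 3 - 8) / (32 * (1 - k ^ 3) ^ 2)) ((Nmat k).mulVec v) := by
  have h1 : (1 - k ^ 3) ≠ 0 := fun h => hk (by linear_combination -h)
  rw [mulVec3]
  simp [hesse, W, Nmat]
  field_simp
  ring

theorem Nmat_P1 (k : ℂ) : (Nmat k).mulVec P1 = (2 : ℂ) • (![0, 1, 0] : V) := by
  rw [mulVec3]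
  ext i
  fin_cases i <;> simp [Nmat, P1] <;> ring

theorem Nmat_Sw (k : ℂ) :
    (!![1, 0, 0; 0, -1, 0; 0, 0, 1] : Matrix (Fin 3) (Fin 3) ℂ) * Nmat k = Nmat k * Sw := by
  ext i j
  fin_cases i <;> fin_cases j <;> simp [Nmat, Sw, Matrix.mul_apply, Fin.sum_univ_three]

theorem stabH (k : ℂ) (hk1 : k ^ 3 ≠ 1) (hk0 : k ≠ 0) (hk8 : k ^ 3 + 8 ≠ 0)
    (hk6 : k ^ 6 - 20 * k ^ 3 - 8 ≠ 0) (A : Matrix (Fin 3) (Fin 3) ℂ) (hdet : A.det ≠ 0)
    (c lam : ℂ) (hA : ∀ v : V, hesse k (A.mulVec v) = c * hesse k v)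
    (hP : A.mulVec P1 = lam • P1) :
    ∃ p : ℂ, p ≠ 0 ∧ (A = p • (1 : Matrix (Fin 3) (Fin 3) ℂ) ∨ A = p • Sw) := by
  have h1 : (1 - k ^ 3) ≠ 0 := fun h => hk1 (by linear_combination -h)
  set N := Nmat k with hN
  have hNu : IsUnit N.det := by rw [Nmat_det]; exact isUnit_iff_ne_zero.mpr two_ne_zero
  have hNN : N * N⁻¹ = 1 := Matrix.mul_nonsing_inv N hNu
  have hNN' : N⁻¹ * N = 1 := Matrix.nonsing_inv_mul N hNu
  set B := N * A * N⁻¹ with hBdef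
  have hBdet : B.det ≠ 0 := by
    have : B.det = A.det := by
      rw [hBdef, Matrix.det_mul, Matrix.det_mul, mul_comm, ← mul_assoc, ← Matrix.det_mul, hNN',
        Matrix.det_one, one_mul]
    rw [this]; exact hdet
  have hB : ∀ v : V, W (1 - k ^ 3) (3 / 4) (-3 * k * (k ^ 3 + 8) / (16 * (1 - k ^ 3)))
      (-(k ^ 6 - 20 * k ^ 3 - 8) / (32 * (1 - k ^ 3) ^ 2)) (B.mulVec v) =
      c * W (1 - k ^ 3) (3 / 4) (-3 * k * (k ^ 3 + 8) / (16 * (1 - k ^ 3)))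
      (-(k ^ 6 - 20 * k ^ 3 - 8) / (32 * (1 - k ^ 3) ^ 2)) v := by
    intro v
    have e : B.mulVec v = N.mulVec (A.mulVec (N⁻¹.mulVec v)) := by
      simp [hBdef, Matrix.mulVec_mulVec, Matrix.mul_assoc]
    rw [e, ← hesse_eq_W k hk1, hA, hesse_eq_W k hk1, Matrix.mulVec_mulVec, hNN, Matrix.one_mulVec]
  have hinv : N⁻¹.mulVec (![0, 1, 0] : V) = (1 / 2 : ℂ) • P1 := by
    have := congrArg (N⁻¹.mulVec) (Nmat_P1 k)
    rw [Matrix.mulVec_mulVec, hNN', Matrix.one_mulVec, Matrix.mulVec_smul] at this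
    rw [this, smul_smul]
    norm_num
  have hcol : B.mulVec (![0, 1, 0] : V) = lam • (![0, 1, 0] : V) := by
    have e : B.mulVec (![0, 1, 0] : V) = N.mulVec (A.mulVec (N⁻¹.mulVec ![0, 1, 0])) := by
      simp [hBdef, Matrix.mulVec_mulVec, Matrix.mul_assoc]
    rw [e, hinv, Matrix.mulVec_smul, hP, Matrix.mulVec_smul, Matrix.mulVec_smul, Nmat_P1,
      smul_smul, smul_smul]
    congr 1
    ring
  have hc0 : B 0 1 = 0 := by
    have := congrFun hcol 0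
    rw [mulVec3] at this
    simpa using this
  have hc1 : B 1 1 = lam := by
    have := congrFun hcol 1
    rw [mulVec3] at this
    simpa using this
  have hc2 : B 2 1 = 0 := by
    have := congrFun hcol 2
    rw [mulVec3] at this
    simpa using this
  obtain ⟨p, hp, hBp⟩ := stabW (1 - k ^ 3) (3 / 4) (-3 * k * (k ^ 3 + 8) / (16 * (1 - k ^ 3)))
    (-(k ^ 6 - 20 * k ^ 3 - 8) / (32 * (1 - k ^ 3) ^ 2)) h1 (by norm_num)
    (div_ne_zero (mul_ne_zero (mul_ne_zero (by norm_num) hk0) hk8)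
      (mul_ne_zero (by norm_num) h1))
    (div_ne_zero (neg_ne_zero.mpr hk6) (mul_ne_zero (by norm_num) (pow_ne_zero 2 h1)))
    B hBdet c lam hB hc0 hc1 hc2
  have hAB : A = N⁻¹ * B * N := by
    rw [hBdef, ← Matrix.mul_assoc, ← Matrix.mul_assoc, hNN', Matrix.one_mul, Matrix.mul_assoc,
      hNN', Matrix.mul_one]
  refine ⟨p, hp, ?_⟩
  rcases hBp with h | h
  · left
    rw [hAB, h, Matrix.mul_smul, Matrix.mul_one, Matrix.smul_mul, hNN']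
  · right
    rw [hAB, h, Matrix.mul_smul, Matrix.smul_mul, Matrix.mul_assoc, Nmat_Sw, ← Matrix.mul_assoc,
      hNN', Matrix.one_mul]

end Groth.Agent.Lib.Helper1.Hesse
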