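import Groth.Agent.Lib.Helper1.HesseFlex

set_option autoImplicit false

namespace Groth.Agent.Lib.Helper1.Hesse

namespace SymTri

variable (S : SymTri)

theorem F_comb3 (a b c : V) (x y z : ℂ) :
    S.F (x • a + y • b + z • c) =
      x ^ 3 * S.F a + y ^ 3 * S.F b + z ^ 3 * S.F c + 3 * x ^ 2 * y * S.T a a b
        + 3 * x ^ 2 * z * S.T a a c + 3 * y ^ 2 * x * S.T b b a + 3 * y ^ 2 * z * S.T b b c
        + 3 * z ^ 2 * x * S.T c c a + 3 * z ^ 2 * y * S.T c c b + 6 * x * y * z * S.T a b c := by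
  rw [S.F_add (x • a + y • b) (z • c), S.F_comb a b x y, S.F_smul]
  simp only [S.add, S.add2, S.smul, S.smul2, S.smul3]
  rw [S.s12 b a c, S.s13 a c c, S.s13 b c c, S.s13 a b b]
  ring

/-- `T p p u` in terms of values of `F`. -/
theorem T_diag (p u : V) : S.T p p u = (S.F (p + u) - S.F (p - u) - 2 * S.F u) / 6 := by
  have h1 := S.F_add_smul p u 1
  have h2 := S.F_add_smul p u (-1)
  rw [one_smul] at h1
  rw [neg_one_smul, ← sub_eq_add_neg] at h2
  rw [h1, h2]
  ring


theorem li3 (lam : V →ₗ[ℂ] ℂ) (v w u : V) (hvw : LinearIndependent ℂ ![v, w])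
    (h1 : lam v = 0) (h2 : lam w = 0) (h3 : lam u ≠ 0) : LinearIndependent ℂ ![w, v, u] := by
  rw [Fintype.linearIndependent_iff]
  intro g hg
  rw [Fin.sum_univ_three] at hg
  simp only [Matrix.cons_val_zero, Matrix.cons_val_one, Matrix.cons_val_two, Matrix.head_cons,
    Matrix.tail_cons] at hg
  have hg2 : g 2 = 0 := by
    have := congrArg lam hg
    simp only [map_add, map_smul, h1, h2, smul_eq_mul, mul_zero, zero_add, map_zero] at this
    rcases mul_eq_zero.mp this with h | h
    · exact h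
    · exact absurd h h3
  rw [hg2, zero_smul, add_zero] at hg
  have := (LinearIndependent.pair_iff.mp hvw) (g 1) (g 0) (by rw [add_comm]; exact hg)
  intro i
  fin_cases i
  · exact this.2
  · exact this.1
  · exact hg2

theorem li_pair_sub (v w : V) (μ : ℂ) (hvw : LinearIndependent ℂ ![v, w]) :
    LinearIndependent ℂ ![v, w - μ • v] := by
  rw [LinearIndependent.pair_iff] at hvw ⊢
  intro s t h
  have h' : (s - t * μ) • v + t • w = 0 := by
    rw [← h, smul_sub, sub_smul, mul_smul]
    abel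
  obtain ⟨h1, h2⟩ := hvw _ _ h'
  refine ⟨?_, h2⟩
  rw [h2, zero_mul, sub_zero] at h1
  exact h1

/-- `T p p ·` vanishes identically if it vanishes on three independent vectors. -/
theorem T_diag_eq_zero_of_li (b : Fin 3 → V) (hb : LinearIndependent ℂ b) (p : V)
    (h : ∀ i, S.T p p (b i) = 0) (s : V) : S.T p p s = 0 := by
  have hspan : Submodule.span ℂ (Set.range b) = ⊤ :=
    hb.span_eq_top_of_card_eq_finrank' (by simp)
  have hs : s ∈ Submodule.span ℂ (Set.range b) := by rw [hspan]; trivial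
  induction hs using Submodule.span_induction with
  | mem x hx => obtain ⟨i, rfl⟩ := hx; exact h i
  | zero => exact S.zero3 p p
  | add x y _ _ hx hy => rw [S.add3, hx, hy, add_zero]
  | smul a x _ hx => rw [S.smul3, hx, mul_zero]


/-- Weierstrass-type normal form data. -/
structure WForm where
  b : Fin 3 → V
  li : LinearIndependent ℂ b
  α : ℂ
  β : ℂ
  γ : ℂ
  δ : ℂ
  hα : α ≠ 0
  hβ : β ≠ 0
  eq : ∀ x y z : ℂ, S.F (x • b 0 + y • b 1 + z • b 2) =
    α * x ^ 3 + β * y ^ 2 * z + γ * x * z ^ 2 + δ * z ^ 3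

theorem exists_wform (hsm : S.Smooth) (v w : V) (hvw : LinearIndependent ℂ ![v, w])
    (h0 : S.F v = 0) (h1 : S.T v v w = 0) (h2 : S.T v w w = 0) : Nonempty (WForm S) := by
  have hv0 : v ≠ 0 := hvw.ne_zero 0
  have h0' : S.T v v v = 0 := h0
  obtain ⟨u0, hu0⟩ := hsm v hv0 h0
  set A2 := S.T v v u0 with hA2
  -- first adjustment
  set lam := S.T u0 u0 v / (2 * A2) with hlam
  set u1 := u0 - lam • v with hu1
  have e1 : S.T u1 u1 v = 0 := by
    rw [hu1]
    simp only [S.sub1, S.sub2, S.smul, S.smul2]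
    rw [S.s13 u0 v v, S.s23 v u0 v, h0', ← hA2, hlam]
    field_simp
    ring
  have e2 : S.T v v u1 = A2 := by
    rw [hu1, S.sub3, S.smul3, h0', mul_zero, sub_zero]
  -- second adjustment
  set mu := S.T w v u1 / A2 with hmu
  set w1 := w - mu • v with hw1
  have e3 : S.T w1 v u1 = 0 := by
    rw [hw1, S.sub1, S.smul, e2, hmu]
    field_simp
    ring
  have e4 : S.T v v w1 = 0 := by
    rw [hw1, S.sub3, S.smul3, h1, h0', mul_zero, sub_zero]
  have e5 : S.T v w1 w1 = 0 := by
    rw [hw1]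
    simp only [S.sub2, S.sub3, S.smul2, S.smul3]
    rw [S.s23 v w v, h1, h2, h0']
    ring
  have hpair : LinearIndependent ℂ ![v, w1] := li_pair_sub v w mu hvw
  have hli1 : LinearIndependent ℂ ![w1, v, u1] :=
    li3 (S.lin v v) v w1 u1 hpair (by simpa using h0') (by simpa using e4)
      (by simpa [e2] using hu0)
  set α := S.T w1 w1 w1 with hα
  set A1 := S.T w1 w1 u1 with hA1
  have hα0 : α ≠ 0 := by
    intro hα0
    obtain ⟨y0, hy0⟩ := IsAlgClosed.exists_pow_nat_eq (-A1 / A2) (n := 2) (by norm_num)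
    set p := w1 + y0 • v with hp
    have hp0 : p ≠ 0 := by
      intro h
      have := (LinearIndependent.pair_iff.mp hpair) y0 1 (by rw [one_smul, add_comm]; exact h)
      exact one_ne_zero this.2
    have q1 : S.T w1 w1 v = 0 := by rw [S.s13]; exact e5
    have q2 : S.T w1 v v = 0 := by rw [S.s13]; exact e4
    have hFp : S.F p = 0 := by
      rw [hp, S.F_add_smul, q1, q2, h0, show S.F w1 = 0 from hα0]
      ring
    have t1 : S.T p p w1 = 0 := by
      rw [hp]
      simp only [S.add, S.add2, S.smul, S.smul2]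
      rw [S.s23 w1 v w1, q1, e4, e5, ← hα, hα0]
      ring
    have t2 : S.T p p v = 0 := by
      rw [hp]
      simp only [S.add, S.add2, S.smul, S.smul2]
      rw [q1, q2, S.s12 v w1 v, q2, h0']
      ring
    have t3 : S.T p p u1 = 0 := by
      rw [hp]
      simp only [S.add, S.add2, S.smul, S.smul2]
      rw [e3, S.s12 v w1 u1, e3, e2, ← hA1]
      have : y0 * (y0 * A2) = -A1 := by
        have hy : y0 ^ 2 = -A1 / A2 := hy0
        field_simp at hy
        linear_combination hy
      linear_combination this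
    obtain ⟨u, hu⟩ := hsm p hp0 hFp
    apply hu
    apply S.T_diag_eq_zero_of_li _ hli1
    intro i
    fin_cases i
    · exact t1
    · exact t2
    · exact t3
  -- third adjustment
  set nu := A1 / α with hnu
  set u2 := u1 - nu • w1 with hu2
  have q1 : S.T w1 w1 v = 0 := by rw [S.s13]; exact e5
  have f1 : S.T w1 w1 u2 = 0 := by
    rw [hu2, S.sub3, S.smul3, ← hA1, ← hα, hnu]
    field_simp
    ring
  have f2 : S.T u2 u2 v = 0 := by
    rw [hu2]
    simp only [S.sub1, S.sub2, S.smul, S.smul2]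
    rw [e1, S.s13 u1 w1 v, S.s12 v w1 u1, e3, S.s12 w1 u1 v, S.s23 u1 w1 v, S.s13 u1 v w1, e3, q1]
    ring
  have f3 : S.T w1 v u2 = 0 := by
    rw [hu2, S.sub3, S.smul3, e3, S.s23 w1 v w1, q1]
    ring
  have f4 : S.T v v u2 = A2 := by
    rw [hu2, S.sub3, S.smul3, e2, e4]
    ring
  have hli2 : LinearIndependent ℂ ![w1, v, u2] :=
    li3 (S.lin v v) v w1 u2 hpair (by simpa using h0') (by simpa using e4)
      (by simpa [f4] using hu0)
  refine ⟨⟨![w1, v, u2], hli2, α, 3 * A2, 3 * S.T u2 u2 w1, S.F u2, hα0,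
    mul_ne_zero (by norm_num) hu0, ?_⟩⟩
  intro x y z
  simp only [Matrix.cons_val_zero, Matrix.cons_val_one, Matrix.cons_val_two, Matrix.head_cons,
    Matrix.tail_cons]
  rw [S.F_comb3, h0, q1, f1, e4, f4, f2, f3]
  change x ^ 3 * α + _ + _ + _ + _ + _ + _ + _ + _ + _ = _
  ring

end SymTri

end Groth.Agent.Lib.Helper1.Hesse
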