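import Groth.Agent.Lib.Helper1.ArtFunHullStep

set_option autoImplicit false
universe u v

open CategoryTheory

namespace Groth.Agent.Lib.Helper1.HullStep2

open ArtFun ArtFun.Art Groth.Agent.Lib.Helper1.ArtFunBasic Groth.Agent.Lib.Helper1.ArtFunFib
  Groth.Agent.Lib.Helper1.ArtFunLeast Groth.Agent.Lib.Helper1.ArtFunCRing
  Groth.Agent.Lib.Helper1.ArtFunVersalCrit Groth.Agent.Lib.Helper1.ArtFunAction
  Groth.Agent.Lib.Helper1.ArtFunHullStep

variable {Λ : Type u} {k : Type u} [CommRing Λ] [Field k] [Algebra Λ k]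
variable [IsNoetherianRing Λ] [Module.Finite Λ k]
variable (S : CRing Λ k) {F : Art Λ k ⥤ Type v}

/-- One step of the construction of a hull. -/
theorem exists_step' (h1 : S1 F) {A : Art Λ k} (w : HomSet S.carrier S.res A)
    (hw : Function.Surjective w.1) (a : F.obj A) :
    ∃ (A' : Art Λ k) (w' : HomSet S.carrier S.res A') (a' : F.obj A') (π : A' ⟶ A),
      Function.Surjective w'.1 ∧ HomSet.map π w' = w ∧ F.map π a' = a ∧
      IsLocalRing.maximalIdeal S.carrier * RingHom.ker w.1 ≤ RingHom.ker w'.1 ∧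
      ∀ (C : Art Λ k) (ρ : C ⟶ A) (v : HomSet S.carrier S.res C) (z : F.obj C),
        IsLocalRing.maximalIdeal C * RingHom.ker ρ.toAlgHom = ⊥ → Function.Surjective v.1 →
        HomSet.map ρ v = w → F.map ρ z = a → RingHom.ker w'.1 ≤ RingHom.ker v.1 := by
  classical
  set n := IsLocalRing.maximalIdeal S.carrier with hn
  set J : Ideal S.carrier := RingHom.ker w.1 with hJ
  obtain ⟨N₀, hN₀⟩ := exists_pow_maximalIdeal_eq_bot A
  have hN₀' : IsLocalRing.maximalIdeal A ^ (N₀ + 1) = ⊥ := by rw [pow_succ, hN₀, Ideal.bot_mul]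
  have hnJ : n ^ (N₀ + 1) ≤ J := fun s hs => homSet_mpow_le S w N₀ hN₀' s hs
  have hI1 : n * J ≤ n := Ideal.mul_le_left
  have hI2 : n ^ (N₀ + 1 + 1) ≤ n * J := by
    rw [pow_succ']
    exact Ideal.mul_mono_right hnJ
  obtain ⟨B, wB, hwB, hkB⟩ := exists_quot_obj S (n * J) hI1 (N₀ + 1) hI2
  obtain ⟨p, hp⟩ := exists_factor wB hwB w (by rw [hkB]; exact Ideal.mul_le_right)
  have hpw : ∀ s, p (wB.1 s) = w.1 s := fun s => congrArg (fun g : HomSet S.carrier S.res A => g.1 s) hp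
  have hps : Function.Surjective p := by
    intro x
    obtain ⟨s, rfl⟩ := hw x
    exact ⟨wB.1 s, hpw s⟩
  have hsemi : IsSemismallExt p := by
    refine ⟨hps, ?_⟩
    rw [eq_bot_iff, Ideal.mul_le]
    intro b hb c hc
    obtain ⟨s, rfl⟩ := hwB b
    obtain ⟨t, rfl⟩ := hwB c
    have hs : s ∈ n := by
      rw [hn, S.mem_maximalIdeal_iff, ← res_homSet wB s, ← Art.mem_maximalIdeal_iff]
      exact hb
    have ht : t ∈ J := by
      rw [hJ, RingHom.mem_ker, ← hpw]
      exact hc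
    rw [Ideal.mem_bot, ← map_mul, ← RingHom.mem_ker, hkB]
    exact Ideal.mul_mem_mul hs ht
  obtain ⟨J₀, hJ₀, hleast⟩ := exists_least (x := a) h1 hsemi
  obtain ⟨hJ₀p, hJ₀m, y, hy⟩ := hJ₀
  refine ⟨quot B J₀ hJ₀m, HomSet.map (quotMk B J₀ hJ₀m) wB, y, quotFactor hJ₀m p hJ₀p, ?_, ?_, hy,
    ?_, ?_⟩
  · intro b
    obtain ⟨c, rfl⟩ := quotMk_surjective B J₀ hJ₀m b
    obtain ⟨s, rfl⟩ := hwB c
    exact ⟨s, rfl⟩
  · rw [← homSet_map_comp, quotMk_quotFactor, hp]
  · intro s hs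
    rw [← hkB] at hs
    rw [RingHom.mem_ker] at hs ⊢
    change (quotMk B J₀ hJ₀m).toAlgHom (wB.1 s) = 0
    rw [hs, map_zero]
  · intro C ρ v z hsm hv hρv hz
    have hρv' : ∀ s, ρ (v.1 s) = w.1 s :=
      fun s => congrArg (fun g : HomSet S.carrier S.res A => g.1 s) hρv
    have hIv : n * J ≤ RingHom.ker v.1 := by
      rw [Ideal.mul_le]
      intro s hs t ht
      rw [RingHom.mem_ker, map_mul, ← Ideal.mem_bot, ← hsm]
      refine Ideal.mul_mem_mul (homSet_mem_maximalIdeal S v hs) ?_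
      rw [RingHom.mem_ker]
      change ρ (v.1 t) = 0
      rw [hρv']
      exact ht
    obtain ⟨σ, hσ⟩ := exists_factor wB hwB v (by rw [hkB]; exact hIv)
    have hσv : ∀ s, σ (wB.1 s) = v.1 s :=
      fun s => congrArg (fun g : HomSet S.carrier S.res C => g.1 s) hσ
    have hσρ : σ ≫ ρ = p := by
      apply hom_ext_of_surjective wB hwB
      rw [homSet_map_comp, hσ, hρv, hp]
    have hσs : Function.Surjective σ := by
      intro c
      obtain ⟨s, rfl⟩ := hv c
      exact ⟨wB.1 s, hσv s⟩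
    have hK : RingHom.ker σ.toAlgHom ≤ RingHom.ker p.toAlgHom := by
      intro b hb
      rw [RingHom.mem_ker] at hb ⊢
      rw [← hσρ]
      change ρ (σ b) = 0
      have hb' : σ b = 0 := hb
      rw [hb', map_zero]
    have hK' := ker_le_maximalIdeal σ
    have hbij : Function.Bijective (quotFactor hK' σ le_rfl) := by
      refine ⟨?_, quotFactor_surjective _ _ _ hσs⟩
      rw [← AlgHom.coe_toRingHom, RingHom.injective_iff_ker_eq_bot]
      change RingHom.ker (quotFactor hK' σ le_rfl).toAlgHom = ⊥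
      rw [ker_quotFactor, Ideal.map_eq_bot_iff_le_ker, ker_quotMk]
    haveI := isIso_of_bijective _ hbij
    have hfac : quotFactor hK' p hK = quotFactor hK' σ le_rfl ≫ ρ := by
      apply hom_ext; apply AlgHom.ext; intro x
      obtain ⟨b, rfl⟩ := quotMk_surjective B _ hK' x
      change p b = ρ (σ b)
      rw [← hσρ]
      rfl
    have hlift : Lifts p a (RingHom.ker σ.toAlgHom) := by
      refine ⟨hK, hK', F.map (inv (quotFactor hK' σ le_rfl)) z, ?_⟩
      rw [hfac, ← map_comp_apply, IsIso.inv_hom_id_assoc, hz]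
    have hJ₀K := hleast _ hlift
    intro s hs
    rw [RingHom.mem_ker] at hs ⊢
    have hs' : (quotMk B J₀ hJ₀m).toAlgHom (wB.1 s) = 0 := hs
    rw [← RingHom.mem_ker, ker_quotMk] at hs'
    have := hJ₀K hs'
    rw [RingHom.mem_ker] at this
    rw [← hσv]
    exact this


end Groth.Agent.Lib.Helper1.HullStep2
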