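import Mathlib

set_option autoImplicit false
universe u
open scoped TensorProduct

namespace Groth.Agent.Lib.Helper1.IdealTorsor

variable {R : Type u} [CommRing R] (J : Ideal R) {S : Type u} [CommRing S] [Algebra R S]

/-- The multiplication map `S ⊗ J → S`. -/
noncomputable def mu : S ⊗[R] ↥J →ₗ[R] S :=
  (TensorProduct.rid R S).toLinearMap ∘ₗ LinearMap.lTensor S (Submodule.subtype J)

lemma mu_apply (z : S ⊗[R] ↥J) :
    mu J z = TensorProduct.rid R S (LinearMap.lTensor S (Submodule.subtype J) z) := rfl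

lemma mu_tmul (s : S) (j : ↥J) : mu J (s ⊗ₜ[R] j) = (j : R) • s := by
  rw [mu_apply, LinearMap.lTensor_tmul, TensorProduct.rid_tmul]
  rfl

lemma mu_smul (s : S) (z : S ⊗[R] ↥J) : mu J (s • z) = s * mu J z := by
  induction z using TensorProduct.induction_on with
  | zero => rw [smul_zero, map_zero, mul_zero]
  | tmul a j => rw [TensorProduct.smul_tmul', mu_tmul, mu_tmul, smul_eq_mul, mul_smul_comm]
  | add x y hx hy => rw [smul_add, map_add, map_add, hx, hy, mul_add]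

lemma mu_mem (z : S ⊗[R] ↥J) : mu J z ∈ J.map (algebraMap R S) := by
  induction z using TensorProduct.induction_on with
  | zero => rw [map_zero]; exact Ideal.zero_mem _
  | tmul a j =>
    rw [mu_tmul, Algebra.smul_def]
    exact Ideal.mul_mem_right _ _ (Ideal.mem_map_of_mem _ j.2)
  | add x y hx hy => rw [map_add]; exact Ideal.add_mem _ hx hy

lemma exists_mu_eq {y : S} (hy : y ∈ J.map (algebraMap R S)) : ∃ z, mu J z = y := by
  refine Submodule.span_induction ?_ ?_ ?_ ?_ hy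
  · rintro _ ⟨j, hj, rfl⟩
    refine ⟨(1 : S) ⊗ₜ[R] (⟨j, hj⟩ : ↥J), ?_⟩
    rw [mu_tmul, Algebra.smul_def, mul_one]
  · exact ⟨0, map_zero _⟩
  · rintro x y _ _ ⟨zx, rfl⟩ ⟨zy, rfl⟩
    exact ⟨zx + zy, map_add _ _ _⟩
  · rintro s x _ ⟨zx, rfl⟩
    exact ⟨s • zx, by rw [mu_smul, smul_eq_mul]⟩

lemma mu_injective [Module.Flat R S] : Function.Injective (mu J (S := S)) := by
  have h1 : Function.Injective (LinearMap.lTensor S (Submodule.subtype J)) :=
    Module.Flat.lTensor_preserves_injective_linearMap _ (Submodule.injective_subtype J)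
  exact (TensorProduct.rid R S).injective.comp h1

section Rho

variable (I : Ideal (S ⧸ J.map (algebraMap R S)))

/-- The reduction map `S ⊗ J → (S̄/I) ⊗ J`. -/
noncomputable def rho : S ⊗[R] ↥J →ₗ[R] (((S ⧸ J.map (algebraMap R S)) ⧸ I) ⊗[R] ↥J) :=
  LinearMap.rTensor ↥J
    (IsScalarTower.toAlgHom R S ((S ⧸ J.map (algebraMap R S)) ⧸ I)).toLinearMap

lemma rho_apply (z : S ⊗[R] ↥J) :
    rho J I z = LinearMap.rTensor ↥J
      (IsScalarTower.toAlgHom R S ((S ⧸ J.map (algebraMap R S)) ⧸ I)).toLinearMap z := rfl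

lemma rho_tmul (s : S) (j : ↥J) :
    rho J I (s ⊗ₜ[R] j) = (algebraMap S ((S ⧸ J.map (algebraMap R S)) ⧸ I) s) ⊗ₜ[R] j := by
  rw [rho_apply, LinearMap.rTensor_tmul]
  rfl

lemma rho_smul (s : S) (z : S ⊗[R] ↥J) : rho J I (s • z) = s • rho J I z := by
  induction z using TensorProduct.induction_on with
  | zero => rw [smul_zero, map_zero, smul_zero]
  | tmul a j =>
    rw [TensorProduct.smul_tmul', rho_tmul, rho_tmul, TensorProduct.smul_tmul', smul_eq_mul,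
      map_mul, ← Algebra.smul_def]
  | add x y hx hy => rw [smul_add, map_add, map_add, hx, hy, smul_add]

lemma rho_surjective : Function.Surjective (rho J I) := by
  apply LinearMap.rTensor_surjective
  intro q
  obtain ⟨q', rfl⟩ := Ideal.Quotient.mk_surjective q
  obtain ⟨s, rfl⟩ := Ideal.Quotient.mk_surjective q'
  exact ⟨s, rfl⟩

lemma algebraMap_quot_eq_zero_iff (a : S) :
    algebraMap S ((S ⧸ J.map (algebraMap R S)) ⧸ I) a = 0 ↔
      Ideal.Quotient.mk (J.map (algebraMap R S)) a ∈ I := by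
  rw [← Ideal.Quotient.eq_zero_iff_mem]
  rfl

/-- Key lemma: if `S/I₁` is flat and `I₁` reduces into `I`, then `z ↦ ρ z` kills the `z` with
`μ z ∈ I₁`. -/
lemma rho_eq_zero_of_mu_mem (I₁ : Ideal S) [Module.Flat R (S ⧸ I₁)]
    (hle : ∀ x ∈ I₁, Ideal.Quotient.mk (J.map (algebraMap R S)) x ∈ I)
    (z : S ⊗[R] ↥J) (hz : mu J z ∈ I₁) : rho J I z = 0 := by
  let p₁ : S →ₗ[R] S ⧸ I₁ := (Ideal.Quotient.mkₐ R I₁).toLinearMap
  have hnat : ∀ w : S ⊗[R] ↥J, mu J (S := S ⧸ I₁) (LinearMap.rTensor ↥J p₁ w) = p₁ (mu J w) := by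
    intro w
    induction w using TensorProduct.induction_on with
    | zero => simp only [map_zero]
    | tmul a j => rw [LinearMap.rTensor_tmul, mu_tmul, mu_tmul, map_smul]
    | add x y hx hy => rw [map_add, map_add, map_add, map_add, hx, hy]
  have h1 : LinearMap.rTensor ↥J p₁ z = 0 := by
    apply mu_injective J (S := S ⧸ I₁)
    rw [hnat, map_zero]
    exact Ideal.Quotient.eq_zero_iff_mem.2 hz
  let q : S ⧸ I₁ →ₐ[R] ((S ⧸ J.map (algebraMap R S)) ⧸ I) :=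
    Ideal.Quotient.liftₐ I₁ (IsScalarTower.toAlgHom R S ((S ⧸ J.map (algebraMap R S)) ⧸ I))
      (fun a ha => (algebraMap_quot_eq_zero_iff J I a).2 (hle a ha))
  have hq : q.toLinearMap ∘ₗ p₁ =
      (IsScalarTower.toAlgHom R S ((S ⧸ J.map (algebraMap R S)) ⧸ I)).toLinearMap := by
    apply LinearMap.ext
    intro a
    rfl
  rw [rho_apply, ← hq, LinearMap.rTensor_comp, LinearMap.comp_apply, h1, map_zero]

end Rho

section TheoremA

variable (I : Ideal (S ⧸ J.map (algebraMap R S))) [Module.Flat R S]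
  (I' I'' : Ideal S) [Module.Flat R (S ⧸ I')] [Module.Flat R (S ⧸ I'')]
  (hI' : I'.map (Ideal.Quotient.mk (J.map (algebraMap R S))) = I)
  (hI'' : I''.map (Ideal.Quotient.mk (J.map (algebraMap R S))) = I)

include hI' in
omit [Module.Flat R S] [Module.Flat R (S ⧸ I')] in
lemma exists_lift {x : S ⧸ J.map (algebraMap R S)} (hx : x ∈ I) :
    ∃ x' ∈ I', Ideal.Quotient.mk (J.map (algebraMap R S)) x' = x := by
  rw [← hI'] at hx
  exact (Ideal.mem_map_iff_of_surjective _ Ideal.Quotient.mk_surjective).1 hx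

include hI' in
omit [Module.Flat R S] [Module.Flat R (S ⧸ I')] in
lemma mk_mem_of_mem {x' : S} (hx' : x' ∈ I') :
    Ideal.Quotient.mk (J.map (algebraMap R S)) x' ∈ I := by
  rw [← hI']
  exact Ideal.mem_map_of_mem _ hx'

/-- The defining relation between `(x', x'', z)` and the value `v`. -/
def Rel (x : S ⧸ J.map (algebraMap R S)) (v : ((S ⧸ J.map (algebraMap R S)) ⧸ I) ⊗[R] ↥J) : Prop :=
  ∀ (x' x'' : S), x' ∈ I' → x'' ∈ I'' →
    Ideal.Quotient.mk (J.map (algebraMap R S)) x' = x →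
    Ideal.Quotient.mk (J.map (algebraMap R S)) x'' = x →
    ∀ z : S ⊗[R] ↥J, mu J z = x'' - x' → rho J I z = v

include hI' hI'' in
/-- Independence of the choices. -/
lemma rho_eq_of_two (x : S ⧸ J.map (algebraMap R S)) (x'₁ x''₁ x'₂ x''₂ : S)
    (h'₁ : x'₁ ∈ I') (h''₁ : x''₁ ∈ I'') (h'₂ : x'₂ ∈ I') (h''₂ : x''₂ ∈ I'')
    (e'₁ : Ideal.Quotient.mk (J.map (algebraMap R S)) x'₁ = x)
    (e''₁ : Ideal.Quotient.mk (J.map (algebraMap R S)) x''₁ = x)
    (e'₂ : Ideal.Quotient.mk (J.map (algebraMap R S)) x'₂ = x)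
    (e''₂ : Ideal.Quotient.mk (J.map (algebraMap R S)) x''₂ = x)
    (z₁ z₂ : S ⊗[R] ↥J) (hz₁ : mu J z₁ = x''₁ - x'₁) (hz₂ : mu J z₂ = x''₂ - x'₂) :
    rho J I z₁ = rho J I z₂ := by
  have ha : x'₁ - x'₂ ∈ J.map (algebraMap R S) := by
    rw [← Ideal.Quotient.eq, e'₁, e'₂]
  obtain ⟨za, hza⟩ := exists_mu_eq J ha
  have h1 : rho J I za = 0 :=
    rho_eq_zero_of_mu_mem J I I' (fun y hy => mk_mem_of_mem J I I' hI' hy) za
      (by rw [hza]; exact Ideal.sub_mem _ h'₁ h'₂)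
  have h2 : rho J I (z₁ - z₂ + za) = 0 :=
    rho_eq_zero_of_mu_mem J I I'' (fun y hy => mk_mem_of_mem J I I'' hI'' hy) _
      (by
        rw [map_add, map_sub, hz₁, hz₂, hza]
        have : x''₁ - x'₁ - (x''₂ - x'₂) + (x'₁ - x'₂) = x''₁ - x''₂ := by ring
        rw [this]
        exact Ideal.sub_mem _ h''₁ h''₂)
  rw [map_add, map_sub, h1, add_zero, sub_eq_zero] at h2
  exact h2

include hI' hI'' in
lemma exists_rel (x : S ⧸ J.map (algebraMap R S)) (hx : x ∈ I) :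
    ∃ v, Rel J I I' I'' x v := by
  obtain ⟨x', hx', ex'⟩ := exists_lift J I I' hI' hx
  obtain ⟨x'', hx'', ex''⟩ := exists_lift J I I'' hI'' hx
  have hd : x'' - x' ∈ J.map (algebraMap R S) := by
    rw [← Ideal.Quotient.eq, ex', ex'']
  obtain ⟨z, hz⟩ := exists_mu_eq J hd
  refine ⟨rho J I z, ?_⟩
  intro y' y'' hy' hy'' ey' ey'' w hw
  exact rho_eq_of_two J I I' I'' hI' hI'' x y' y'' x' x'' hy' hy'' hx' hx'' ey' ey'' ex' ex'' w z hw hz

include hI' hI'' in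
lemma rel_unique (x : S ⧸ J.map (algebraMap R S)) (hx : x ∈ I)
    (v w : ((S ⧸ J.map (algebraMap R S)) ⧸ I) ⊗[R] ↥J)
    (hv : Rel J I I' I'' x v) (hw : Rel J I I' I'' x w) : v = w := by
  obtain ⟨x', hx', ex'⟩ := exists_lift J I I' hI' hx
  obtain ⟨x'', hx'', ex''⟩ := exists_lift J I I'' hI'' hx
  have hd : x'' - x' ∈ J.map (algebraMap R S) := by
    rw [← Ideal.Quotient.eq, ex', ex'']
  obtain ⟨z, hz⟩ := exists_mu_eq J hd
  rw [← hv x' x'' hx' hx'' ex' ex'' z hz, ← hw x' x'' hx' hx'' ex' ex'' z hz]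

omit [Module.Flat R S] [Module.Flat R (S ⧸ I')] [Module.Flat R (S ⧸ I'')] in
lemma rel_add (x y : S ⧸ J.map (algebraMap R S)) (hx : x ∈ I) (hy : y ∈ I)
    (v w : ((S ⧸ J.map (algebraMap R S)) ⧸ I) ⊗[R] ↥J)
    (hv : Rel J I I' I'' x v) (hw : Rel J I I' I'' y w)
    (u : ((S ⧸ J.map (algebraMap R S)) ⧸ I) ⊗[R] ↥J) (hu : Rel J I I' I'' (x + y) u)
    (hI' : I'.map (Ideal.Quotient.mk (J.map (algebraMap R S))) = I)
    (hI'' : I''.map (Ideal.Quotient.mk (J.map (algebraMap R S))) = I) : u = v + w := by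
  obtain ⟨x', hx', ex'⟩ := exists_lift J I I' hI' hx
  obtain ⟨x'', hx'', ex''⟩ := exists_lift J I I'' hI'' hx
  obtain ⟨y', hy', ey'⟩ := exists_lift J I I' hI' hy
  obtain ⟨y'', hy'', ey''⟩ := exists_lift J I I'' hI'' hy
  have hdx : x'' - x' ∈ J.map (algebraMap R S) := by
    rw [← Ideal.Quotient.eq, ex', ex'']
  have hdy : y'' - y' ∈ J.map (algebraMap R S) := by
    rw [← Ideal.Quotient.eq, ey', ey'']
  obtain ⟨zx, hzx⟩ := exists_mu_eq J hdx
  obtain ⟨zy, hzy⟩ := exists_mu_eq J hdy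
  rw [← hv x' x'' hx' hx'' ex' ex'' zx hzx, ← hw y' y'' hy' hy'' ey' ey'' zy hzy, ← map_add]
  symm
  apply hu (x' + y') (x'' + y'') (Ideal.add_mem _ hx' hy') (Ideal.add_mem _ hx'' hy'')
    (by rw [map_add, ex', ey']) (by rw [map_add, ex'', ey''])
  rw [map_add, hzx, hzy]
  ring

omit [Module.Flat R S] [Module.Flat R (S ⧸ I')] [Module.Flat R (S ⧸ I'')] in
lemma rel_smul (s : S) (x : S ⧸ J.map (algebraMap R S)) (hx : x ∈ I)
    (v : ((S ⧸ J.map (algebraMap R S)) ⧸ I) ⊗[R] ↥J)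
    (hv : Rel J I I' I'' x v)
    (u : ((S ⧸ J.map (algebraMap R S)) ⧸ I) ⊗[R] ↥J) (hu : Rel J I I' I'' (s • x) u)
    (hI' : I'.map (Ideal.Quotient.mk (J.map (algebraMap R S))) = I)
    (hI'' : I''.map (Ideal.Quotient.mk (J.map (algebraMap R S))) = I) : u = s • v := by
  obtain ⟨x', hx', ex'⟩ := exists_lift J I I' hI' hx
  obtain ⟨x'', hx'', ex''⟩ := exists_lift J I I'' hI'' hx
  have hdx : x'' - x' ∈ J.map (algebraMap R S) := by
    rw [← Ideal.Quotient.eq, ex', ex'']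
  obtain ⟨zx, hzx⟩ := exists_mu_eq J hdx
  rw [← hv x' x'' hx' hx'' ex' ex'' zx hzx, ← rho_smul]
  symm
  apply hu (s * x') (s * x'') (Ideal.mul_mem_left _ _ hx') (Ideal.mul_mem_left _ _ hx'')
    (by rw [map_mul, ex', Algebra.smul_def]; rfl) (by rw [map_mul, ex'', Algebra.smul_def]; rfl)
  rw [mu_smul, hzx]
  ring

include hI' hI'' in
/-- **Theorem A**: the difference of two flat lifts of an ideal is a well-defined linear map. -/
theorem existsUnique_hom :
    ∃! φ : ↥I →ₗ[S] (((S ⧸ J.map (algebraMap R S)) ⧸ I) ⊗[R] ↥J),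
      (∀ (x : (S ⧸ J.map (algebraMap R S))) (hx : x ∈ I) (x' x'' : S), x' ∈ I' → x'' ∈ I'' →
          Ideal.Quotient.mk (J.map (algebraMap R S)) x' = x →
          Ideal.Quotient.mk (J.map (algebraMap R S)) x'' = x →
          ∀ z : S ⊗[R] ↥J,
            TensorProduct.rid R S (LinearMap.lTensor S (Submodule.subtype J) z) = x'' - x' →
            LinearMap.rTensor ↥J (IsScalarTower.toAlgHom R S
              ((S ⧸ J.map (algebraMap R S)) ⧸ I)).toLinearMap z = φ ⟨x, hx⟩) := by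
  choose f hf using fun x : ↥I => exists_rel J I I' I'' hI' hI'' x.1 x.2
  let φ : ↥I →ₗ[S] (((S ⧸ J.map (algebraMap R S)) ⧸ I) ⊗[R] ↥J) :=
    { toFun := f
      map_add' := fun x y =>
        rel_add J I I' I'' x.1 y.1 x.2 y.2 (f x) (f y) (hf x) (hf y) (f (x + y)) (hf (x + y)) hI' hI''
      map_smul' := fun s x =>
        rel_smul J I I' I'' s x.1 x.2 (f x) (hf x) (f (s • x)) (hf (s • x)) hI' hI'' }
  refine ⟨φ, ?_, ?_⟩
  · intro x hx x' x'' hx' hx'' ex' ex'' z hz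
    exact hf ⟨x, hx⟩ x' x'' hx' hx'' ex' ex'' z hz
  · intro ψ hψ
    apply LinearMap.ext
    intro x
    apply rel_unique J I I' I'' hI' hI'' x.1 x.2 _ _ ?_ (hf x)
    intro x' x'' hx' hx'' ex' ex'' z hz
    exact hψ x.1 x.2 x' x'' hx' hx'' ex' ex'' z hz

end TheoremA

end Groth.Agent.Lib.Helper1.IdealTorsor
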