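import Groth.Agent.Lib.Helper1.IdealTorsorA
import Groth.Agent.Lib.Helper17.LocalFlat

set_option autoImplicit false
universe u
open scoped TensorProduct

namespace Groth.Agent.Lib.Helper1.IdealTorsor

variable {R : Type u} [CommRing R] (J : Ideal R) {S : Type u} [CommRing S] [Algebra R S]
  (I : Ideal (S ⧸ J.map (algebraMap R S)))

section Basic

lemma mk_mu (z : S ⊗[R] ↥J) : Ideal.Quotient.mk (J.map (algebraMap R S)) (mu J z) = 0 :=
  Ideal.Quotient.eq_zero_iff_mem.2 (mu_mem J z)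

variable (hJ : J * J = ⊥)

include hJ in
lemma algebraMap_mul_eq_zero {j : R} (hj : j ∈ J) {y : S} (hy : y ∈ J.map (algebraMap R S)) :
    algebraMap R S j * y = 0 := by
  have h1 : algebraMap R S j * y ∈ J.map (algebraMap R S) * J.map (algebraMap R S) :=
    Ideal.mul_mem_mul (Ideal.mem_map_of_mem _ hj) hy
  rw [← Ideal.map_mul, hJ, Ideal.map_bot, Ideal.mem_bot] at h1
  exact h1

include hJ in
/-- If `ρ z = 0` then `μ z` lies in every ideal reducing onto `I`. -/
lemma mu_mem_of_rho_eq_zero (I₂ : Ideal S)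
    (hI₂ : I₂.map (Ideal.Quotient.mk (J.map (algebraMap R S))) = I)
    (z : S ⊗[R] ↥J) (hz : rho J I z = 0) : mu J z ∈ I₂ := by
  let π : S →ₗ[R] ((S ⧸ J.map (algebraMap R S)) ⧸ I) :=
    (IsScalarTower.toAlgHom R S ((S ⧸ J.map (algebraMap R S)) ⧸ I)).toLinearMap
  have hπs : Function.Surjective π := by
    intro q
    obtain ⟨q', rfl⟩ := Ideal.Quotient.mk_surjective q
    obtain ⟨s, rfl⟩ := Ideal.Quotient.mk_surjective q'
    exact ⟨s, rfl⟩
  have hex : Function.Exact (LinearMap.ker π).subtype π := LinearMap.exact_subtype_ker_map π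
  have hex2 := rTensor_exact (↥J) hex hπs
  have hz' : LinearMap.rTensor ↥J π z = 0 := hz
  obtain ⟨w, rfl⟩ := (hex2 z).1 hz'
  clear hz hz'
  induction w using TensorProduct.induction_on with
  | zero => rw [map_zero, map_zero]; exact Ideal.zero_mem _
  | tmul c j =>
    rw [LinearMap.rTensor_tmul, mu_tmul]
    have hc : Ideal.Quotient.mk (J.map (algebraMap R S)) (c : S) ∈ I :=
      (algebraMap_quot_eq_zero_iff J I (c : S)).1 (LinearMap.mem_ker.1 c.2)
    obtain ⟨c₂, hc₂, ec₂⟩ := exists_lift J I I₂ hI₂ hc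
    have hd : (c : S) - c₂ ∈ J.map (algebraMap R S) := by
      rw [← Ideal.Quotient.eq, ec₂]
    have h0 := algebraMap_mul_eq_zero J hJ j.2 hd
    have : ((j : R) • ((LinearMap.ker π).subtype c) : S) = algebraMap R S j * c₂ := by
      rw [Algebra.smul_def]
      have : algebraMap R S j * (c : S) = algebraMap R S j * c₂ + algebraMap R S j * ((c : S) - c₂) := by
        ring
      rw [h0, add_zero] at this
      exact this
    rw [this]
    exact Ideal.mul_mem_left _ _ hc₂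
  | add x y hx hy =>
    rw [map_add, map_add]
    exact Ideal.add_mem _ hx hy

end Basic

section Twist

variable [Module.Flat R S] (I' : Ideal S) [Module.Flat R (S ⧸ I')]
  (hI' : I'.map (Ideal.Quotient.mk (J.map (algebraMap R S))) = I)
  (φ : ↥I →ₗ[S] (((S ⧸ J.map (algebraMap R S)) ⧸ I) ⊗[R] ↥J))

/-- The translate of the lift `I'` by `φ`. -/
def twist : Ideal S where
  carrier := {y | ∃ x' ∈ I', ∃ (hx : Ideal.Quotient.mk (J.map (algebraMap R S)) x' ∈ I)
    (z : S ⊗[R] ↥J), y = x' + mu J z ∧ rho J I z = φ ⟨_, hx⟩}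
  add_mem' := by
    rintro a b ⟨x'₁, h₁, hx₁, z₁, rfl, e₁⟩ ⟨x'₂, h₂, hx₂, z₂, rfl, e₂⟩
    refine ⟨x'₁ + x'₂, Ideal.add_mem _ h₁ h₂, by rw [map_add]; exact Ideal.add_mem _ hx₁ hx₂,
      z₁ + z₂, by rw [map_add]; ring, ?_⟩
    rw [map_add, e₁, e₂, ← map_add]
    congr 1
  zero_mem' := by
    refine ⟨0, Ideal.zero_mem _, by rw [map_zero]; exact Ideal.zero_mem _, 0, by
      rw [map_zero, add_zero], ?_⟩
    rw [map_zero]
    have : (⟨Ideal.Quotient.mk (J.map (algebraMap R S)) 0, by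
        rw [map_zero]; exact Ideal.zero_mem _⟩ : ↥I) = 0 := Subtype.ext (map_zero _)
    rw [this, map_zero]
  smul_mem' := by
    rintro s a ⟨x', h, hx, z, rfl, e⟩
    refine ⟨s * x', Ideal.mul_mem_left _ _ h, by rw [map_mul]; exact Ideal.mul_mem_left _ _ hx,
      s • z, by rw [mu_smul, smul_eq_mul, mul_add], ?_⟩
    rw [rho_smul, e, ← map_smul]
    congr 1

lemma mem_twist {y : S} : y ∈ twist J I I' φ ↔
    ∃ x' ∈ I', ∃ (hx : Ideal.Quotient.mk (J.map (algebraMap R S)) x' ∈ I)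
      (z : S ⊗[R] ↥J), y = x' + mu J z ∧ rho J I z = φ ⟨_, hx⟩ := Iff.rfl

include hI' in
omit [Module.Flat R S] [Module.Flat R (S ⧸ I')] in
lemma twist_map : (twist J I I' φ).map (Ideal.Quotient.mk (J.map (algebraMap R S))) = I := by
  apply le_antisymm
  · rw [Ideal.map_le_iff_le_comap]
    rintro y ⟨x', h, hx, z, rfl, e⟩
    rw [Ideal.mem_comap, map_add, mk_mu, add_zero]
    exact hx
  · intro x hx
    obtain ⟨x', h', ex'⟩ := exists_lift J I I' hI' hx
    obtain ⟨z, hz⟩ := rho_surjective J I (φ ⟨x, hx⟩)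
    have hmem : x' + mu J z ∈ twist J I I' φ := by
      refine ⟨x', h', by rw [ex']; exact hx, z, rfl, ?_⟩
      rw [hz]
      congr 1
      exact Subtype.ext ex'.symm
    have := Ideal.mem_map_of_mem (Ideal.Quotient.mk (J.map (algebraMap R S))) hmem
    rwa [map_add, mk_mu, add_zero, ex'] at this

include hI' in
lemma twist_compat (x : S ⧸ J.map (algebraMap R S)) (hx : x ∈ I) (x' x'' : S) (h' : x' ∈ I')
    (h'' : x'' ∈ twist J I I' φ)
    (e' : Ideal.Quotient.mk (J.map (algebraMap R S)) x' = x)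
    (e'' : Ideal.Quotient.mk (J.map (algebraMap R S)) x'' = x)
    (z : S ⊗[R] ↥J) (hz : mu J z = x'' - x') : rho J I z = φ ⟨x, hx⟩ := by
  obtain ⟨x'₁, h₁, hx₁, z₁, rfl, e₁⟩ := h''
  have ex₁ : Ideal.Quotient.mk (J.map (algebraMap R S)) x'₁ = x := by
    rw [map_add, mk_mu, add_zero] at e''
    exact e''
  have h0 : rho J I (z - z₁) = 0 :=
    rho_eq_zero_of_mu_mem J I I' (fun y hy => mk_mem_of_mem J I I' hI' hy) _ (by
      rw [map_sub, hz]
      have : x'₁ + mu J z₁ - x' - mu J z₁ = x'₁ - x' := by ring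
      rw [this]
      exact Ideal.sub_mem _ h₁ h')
  rw [map_sub, sub_eq_zero] at h0
  rw [h0, e₁]
  congr 1
  exact Subtype.ext ex₁

include hI' in
lemma rho_eq_zero_of_mu_mem_twist (z : S ⊗[R] ↥J) (hz : mu J z ∈ twist J I I' φ) :
    rho J I z = 0 := by
  obtain ⟨x', h, hx, z₁, e, e₁⟩ := hz
  have hmk : Ideal.Quotient.mk (J.map (algebraMap R S)) x' = 0 := by
    have := congrArg (Ideal.Quotient.mk (J.map (algebraMap R S))) e
    rw [map_add, mk_mu, mk_mu, add_zero] at this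
    exact this.symm
  have hz₁ : rho J I z₁ = 0 := by
    rw [e₁]
    have : (⟨_, hx⟩ : ↥I) = 0 := Subtype.ext hmk
    rw [this, map_zero]
  have h0 : rho J I (z - z₁) = 0 :=
    rho_eq_zero_of_mu_mem J I I' (fun y hy => mk_mem_of_mem J I I' hI' hy) _ (by
      rw [map_sub, e, add_sub_cancel_right]
      exact h)
  rw [map_sub, hz₁, sub_zero] at h0
  exact h0

end Twist

section Flat

open Function

variable (hJ : J * J = ⊥) [Module.Flat (R ⧸ J) ((S ⧸ J.map (algebraMap R S)) ⧸ I)]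

include hJ in
omit [Module.Flat (R ⧸ J) ((S ⧸ J.map (algebraMap R S)) ⧸ I)] in
lemma tmul_eq_zero_of_mem_smul_top {M : Type u} [AddCommGroup M] [Module R M] (j : ↥J) {m : M}
    (hm : m ∈ (J • ⊤ : Submodule R M)) : j ⊗ₜ[R] m = 0 := by
  refine Submodule.smul_induction_on hm ?_ ?_
  · intro j' hj' n _
    rw [TensorProduct.tmul_smul, TensorProduct.smul_tmul']
    have : j' • j = 0 := by
      apply Subtype.ext
      change j' * (j : R) = 0
      have h1 : j' * (j : R) ∈ J * J := Ideal.mul_mem_mul hj' j.2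
      rwa [hJ, Ideal.mem_bot] at h1
    rw [this, TensorProduct.zero_tmul]
  · intro x y hx hy
    rw [TensorProduct.tmul_add, hx, hy, add_zero]

include hJ in
/-- Flatness criterion for a lift `T` of the ideal `I`. -/
theorem flat_quot_of (T : Ideal S)
    (hT : T.map (Ideal.Quotient.mk (J.map (algebraMap R S))) = I)
    (hkey : ∀ z : S ⊗[R] ↥J, mu J z ∈ T → rho J I z = 0) : Module.Flat R (S ⧸ T) := by
  have hnil : IsNilpotent J := ⟨2, by rw [pow_two, hJ]; rfl⟩
  let π : S →ₗ[R] ((S ⧸ J.map (algebraMap R S)) ⧸ I) :=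
    (IsScalarTower.toAlgHom R S ((S ⧸ J.map (algebraMap R S)) ⧸ I)).toLinearMap
  let pT : S →ₗ[R] S ⧸ T := (Ideal.Quotient.mkₐ R T).toLinearMap
  have hpTs : Surjective pT := Ideal.Quotient.mk_surjective
  let gA : S ⧸ T →ₐ[R] ((S ⧸ J.map (algebraMap R S)) ⧸ I) :=
    Ideal.Quotient.liftₐ T (IsScalarTower.toAlgHom R S ((S ⧸ J.map (algebraMap R S)) ⧸ I))
      (fun a ha => (algebraMap_quot_eq_zero_iff J I a).2 (mk_mem_of_mem J I T hT ha))
  let g : S ⧸ T →ₗ[R] ((S ⧸ J.map (algebraMap R S)) ⧸ I) := gA.toLinearMap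
  have hgp : g ∘ₗ pT = π := LinearMap.ext fun a => rfl
  have hgs : Surjective g := by
    intro q
    obtain ⟨q', rfl⟩ := Ideal.Quotient.mk_surjective q
    obtain ⟨s, rfl⟩ := Ideal.Quotient.mk_surjective q'
    exact ⟨Ideal.Quotient.mk T s, rfl⟩
  -- `J` kills the target
  have hJQ : ∀ (j : R), j ∈ J → ∀ q : ((S ⧸ J.map (algebraMap R S)) ⧸ I), j • q = 0 := by
    intro j hj q
    obtain ⟨q', rfl⟩ := Ideal.Quotient.mk_surjective q
    obtain ⟨s, rfl⟩ := Ideal.Quotient.mk_surjective q'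
    have h1 : j • (π s) = π (j • s) := (map_smul π j s).symm
    change j • π s = 0
    rw [h1]
    change algebraMap S ((S ⧸ J.map (algebraMap R S)) ⧸ I) (j • s) = 0
    rw [algebraMap_quot_eq_zero_iff, Algebra.smul_def]
    have : Ideal.Quotient.mk (J.map (algebraMap R S)) (algebraMap R S j * s) = 0 :=
      Ideal.Quotient.eq_zero_iff_mem.2 (Ideal.mul_mem_right _ _ (Ideal.mem_map_of_mem _ hj))
    rw [this]
    exact Ideal.zero_mem _
  have hker : LinearMap.ker g = (J • ⊤ : Submodule R (S ⧸ T)) := by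
    apply le_antisymm
    · intro m hm
      obtain ⟨y, rfl⟩ := hpTs m
      have hy : Ideal.Quotient.mk (J.map (algebraMap R S)) y ∈ I :=
        (algebraMap_quot_eq_zero_iff J I y).1 (LinearMap.mem_ker.1 hm)
      obtain ⟨y₂, hy₂, ey₂⟩ := exists_lift J I T hT hy
      have hd : y - y₂ ∈ J.map (algebraMap R S) := by
        rw [← Ideal.Quotient.eq, ey₂]
      obtain ⟨z, hz⟩ := exists_mu_eq J hd
      have h1 : pT y = pT (mu J z) := by
        rw [hz, map_sub]
        have : pT y₂ = 0 := Ideal.Quotient.eq_zero_iff_mem.2 hy₂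
        rw [this, sub_zero]
      rw [h1]
      clear hz h1
      induction z using TensorProduct.induction_on with
      | zero => rw [map_zero, map_zero]; exact Submodule.zero_mem _
      | tmul a j =>
        rw [mu_tmul, map_smul]
        exact Submodule.smul_mem_smul j.2 Submodule.mem_top
      | add x y hx hy =>
        rw [map_add, map_add]
        exact Submodule.add_mem _ hx hy
    · rw [Submodule.smul_le]
      intro j hj m _
      rw [LinearMap.mem_ker, map_smul]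
      exact hJQ j hj _
  let e1 : ((R ⧸ J) ⊗[R] (S ⧸ T)) ≃ₗ[R] (S ⧸ T) ⧸ (J • ⊤ : Submodule R (S ⧸ T)) :=
    TensorProduct.quotTensorEquivQuotSMul (S ⧸ T) J
  let e2 : ((S ⧸ T) ⧸ (J • ⊤ : Submodule R (S ⧸ T))) ≃ₗ[R]
      ((S ⧸ J.map (algebraMap R S)) ⧸ I) :=
    (Submodule.quotEquivOfEq _ _ hker.symm) ≪≫ₗ g.quotKerEquivOfSurjective hgs
  haveI : Module.Flat (R ⧸ J) ((R ⧸ J) ⊗[R] (S ⧸ T)) :=
    Module.Flat.of_linearEquiv (Groth.Agent.Lib.Helper17.LocalFlat.quotLin J (e1 ≪≫ₗ e2))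
  apply Groth.Agent.Lib.Helper17.LocalFlat.flat_of_nilpotent (S ⧸ T) hnil
  -- injectivity of `J ⊗ M → R ⊗ M`
  rw [injective_iff_map_eq_zero]
  intro w hw
  obtain ⟨z', rfl⟩ := LinearMap.lTensor_surjective (↥J) hpTs w
  set z : S ⊗[R] ↥J := TensorProduct.comm R (↥J) S z' with hzdef
  have hnat : ∀ v : ↥J ⊗[R] S, TensorProduct.lid R (S ⧸ T)
      (LinearMap.rTensor (S ⧸ T) (Submodule.subtype J) (LinearMap.lTensor (↥J) pT v)) =
      pT (mu J (TensorProduct.comm R (↥J) S v)) := by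
    intro v
    induction v using TensorProduct.induction_on with
    | zero => simp only [map_zero]
    | tmul j s =>
      rw [LinearMap.lTensor_tmul, LinearMap.rTensor_tmul, TensorProduct.lid_tmul,
        TensorProduct.comm_tmul, mu_tmul, map_smul]
      rfl
    | add x y hx hy => simp only [map_add, hx, hy]
  have h1 : mu J z ∈ T := by
    have := hnat z'
    rw [hw, map_zero] at this
    exact Ideal.Quotient.eq_zero_iff_mem.1 this.symm
  have h2 : rho J I z = 0 := hkey z h1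
  -- transport to `J ⊗ Q̄`
  have hnat2 : ∀ v : ↥J ⊗[R] S, LinearMap.lTensor (↥J) g (LinearMap.lTensor (↥J) pT v) =
      TensorProduct.comm R _ (↥J) (rho J I (TensorProduct.comm R (↥J) S v)) := by
    intro v
    induction v using TensorProduct.induction_on with
    | zero => simp only [map_zero]
    | tmul j s =>
      rw [LinearMap.lTensor_tmul, LinearMap.lTensor_tmul, TensorProduct.comm_tmul, rho_tmul,
        TensorProduct.comm_tmul]
      rfl
    | add x y hx hy => simp only [map_add, hx, hy]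
  have h3 : LinearMap.lTensor (↥J) g (LinearMap.lTensor (↥J) pT z') = 0 := by
    rw [hnat2, ← hzdef, h2, map_zero]
  have hex : Function.Exact (LinearMap.ker g).subtype g := LinearMap.exact_subtype_ker_map g
  have hex2 := lTensor_exact (↥J) hex hgs
  obtain ⟨v, hv⟩ := (hex2 _).1 h3
  rw [← hv]
  clear hv
  induction v using TensorProduct.induction_on with
  | zero => rw [map_zero]
  | tmul j c =>
    rw [LinearMap.lTensor_tmul]
    have hc : (c : S ⧸ T) ∈ (J • ⊤ : Submodule R (S ⧸ T)) := hker ▸ c.2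
    exact tmul_eq_zero_of_mem_smul_top J hJ j hc
  | add x y hx hy => rw [map_add, hx, hy, add_zero]

end Flat

section TheoremB

variable (hJ : J * J = ⊥) [Module.Flat R S]
  [Module.Flat (R ⧸ J) ((S ⧸ J.map (algebraMap R S)) ⧸ I)]
  (I' : Ideal S) [Module.Flat R (S ⧸ I')]
  (hI' : I'.map (Ideal.Quotient.mk (J.map (algebraMap R S))) = I)
  (φ : ↥I →ₗ[S] (((S ⧸ J.map (algebraMap R S)) ⧸ I) ⊗[R] ↥J))

/-- The compatibility of `(I', I'', φ)` in the form of the statements. -/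
def Compat (I'' : Ideal S) : Prop :=
  ∀ (x : (S ⧸ J.map (algebraMap R S))) (hx : x ∈ I) (x' x'' : S), x' ∈ I' → x'' ∈ I'' →
    Ideal.Quotient.mk (J.map (algebraMap R S)) x' = x →
    Ideal.Quotient.mk (J.map (algebraMap R S)) x'' = x →
    ∀ z : S ⊗[R] ↥J,
      TensorProduct.rid R S (LinearMap.lTensor S (Submodule.subtype J) z) = x'' - x' →
      LinearMap.rTensor ↥J (IsScalarTower.toAlgHom R S
        ((S ⧸ J.map (algebraMap R S)) ⧸ I)).toLinearMap z = φ ⟨x, hx⟩

include hJ hI' in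
omit [Module.Flat R S] [Module.Flat (R ⧸ J) ((S ⧸ J.map (algebraMap R S)) ⧸ I)]
  [Module.Flat R (S ⧸ I')] in
lemma le_of_compat (I₁ I₂ : Ideal S)
    (h₁ : I₁.map (Ideal.Quotient.mk (J.map (algebraMap R S))) = I)
    (h₂ : I₂.map (Ideal.Quotient.mk (J.map (algebraMap R S))) = I)
    (hc₁ : Compat J I I' φ I₁) (hc₂ : Compat J I I' φ I₂) : I₁ ≤ I₂ := by
  intro y hy
  have hx : Ideal.Quotient.mk (J.map (algebraMap R S)) y ∈ I := mk_mem_of_mem J I I₁ h₁ hy
  obtain ⟨x', h', ex'⟩ := exists_lift J I I' hI' hx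
  obtain ⟨y₂, hy₂, ey₂⟩ := exists_lift J I I₂ h₂ hx
  have hd₁ : y - x' ∈ J.map (algebraMap R S) := by
    rw [← Ideal.Quotient.eq, ex']
  have hd₂ : y₂ - x' ∈ J.map (algebraMap R S) := by
    rw [← Ideal.Quotient.eq, ex', ey₂]
  obtain ⟨z₁, hz₁⟩ := exists_mu_eq J hd₁
  obtain ⟨z₂, hz₂⟩ := exists_mu_eq J hd₂
  have e₁ := hc₁ _ hx x' y h' hy ex' rfl z₁ hz₁
  have e₂ := hc₂ _ hx x' y₂ h' hy₂ ex' ey₂ z₂ hz₂
  have h0 : rho J I (z₁ - z₂) = 0 := by
    rw [map_sub, sub_eq_zero]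
    exact e₁.trans e₂.symm
  have h3 := mu_mem_of_rho_eq_zero J I hJ I₂ h₂ _ h0
  rw [map_sub, hz₁, hz₂] at h3
  have : y = (y - x' - (y₂ - x')) + y₂ := by ring
  rw [this]
  exact Ideal.add_mem _ h3 hy₂

include hJ hI' in
/-- **Theorem B**: translating a flat lift by a linear map. -/
theorem existsUnique_translate :
    ∃! I'' : Ideal S, Module.Flat R (S ⧸ I'') ∧
      I''.map (Ideal.Quotient.mk (J.map (algebraMap R S))) = I ∧
      (∀ (x : (S ⧸ J.map (algebraMap R S))) (hx : x ∈ I) (x' x'' : S), x' ∈ I' → x'' ∈ I'' →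
          Ideal.Quotient.mk (J.map (algebraMap R S)) x' = x →
          Ideal.Quotient.mk (J.map (algebraMap R S)) x'' = x →
          ∀ z : S ⊗[R] ↥J,
            TensorProduct.rid R S (LinearMap.lTensor S (Submodule.subtype J) z) = x'' - x' →
            LinearMap.rTensor ↥J (IsScalarTower.toAlgHom R S
              ((S ⧸ J.map (algebraMap R S)) ⧸ I)).toLinearMap z = φ ⟨x, hx⟩) := by
  have hmap := twist_map J I I' hI' φ
  have hcompat : Compat J I I' φ (twist J I I' φ) :=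
    fun x hx x' x'' h' h'' e' e'' z hz => twist_compat J I I' hI' φ x hx x' x'' h' h'' e' e'' z hz
  refine ⟨twist J I I' φ, ⟨?_, hmap, hcompat⟩, ?_⟩
  · exact flat_quot_of J I hJ _ hmap (rho_eq_zero_of_mu_mem_twist J I I' hI' φ)
  · rintro I₂ ⟨-, h₂, hc₂⟩
    exact le_antisymm (le_of_compat J I hJ I' hI' φ _ _ h₂ hmap hc₂ hcompat)
      (le_of_compat J I hJ I' hI' φ _ _ hmap h₂ hcompat hc₂)

end TheoremB

end Groth.Agent.Lib.Helper1.IdealTorsor
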