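import Mathlib.CategoryTheory.Limits.Indization.IndObject
import Mathlib.CategoryTheory.Limits.Presheaf
import Mathlib.CategoryTheory.Limits.Types.Filtered
import Mathlib.CategoryTheory.Limits.FunctorCategory.Basic

/-!
# The functor induced on ind-objects by `u : C ⥤ C'`

We work with a functor `L` on presheaves which preserves colimits and extends `u` along the Yoneda
embeddings (`e : yoneda ⋙ L ≅ u ⋙ yoneda`), e.g. the left Kan extension along `u.op`.
-/

set_option autoImplicit false
universe u
open CategoryTheory CategoryTheory.Limits Opposite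

namespace Groth.Agent.Lib.Helper1.IndLan

variable {C C' : Type u} [SmallCategory C] [SmallCategory C'] {u : C ⥤ C'}
  {L : (Cᵒᵖ ⥤ Type u) ⥤ (C'ᵒᵖ ⥤ Type u)} (e : yoneda ⋙ L ≅ u ⋙ yoneda)

/-- the element of `(L (y Y)) (u X)` attached to `h : u X ⟶ u Y` -/
def el {X' : C'} {Y : C} (h : X' ⟶ u.obj Y) : (L.obj (yoneda.obj Y)).obj (op X') :=
  (e.inv.app Y).app (op X') h

lemma hom_el {X' : C'} {Y : C} (h : X' ⟶ u.obj Y) :
    (e.hom.app Y).app (op X') (el e h) = h :=
  ConcreteCategory.congr_hom (congr_app (e.inv_hom_id_app Y) (op X')) h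

lemma el_hom {X' : C'} {Y : C} (z : (L.obj (yoneda.obj Y)).obj (op X')) :
    el e ((e.hom.app Y).app (op X') z) = z :=
  ConcreteCategory.congr_hom (congr_app (e.hom_inv_id_app Y) (op X')) z

lemma el_injective {X' : C'} {Y : C} : Function.Injective (el e (X' := X') (Y := Y)) := by
  intro h h' hh
  rw [← hom_el e h, ← hom_el e h', hh]

lemma el_surjective {X' : C'} {Y : C} (z : (L.obj (yoneda.obj Y)).obj (op X')) :
    ∃ h : X' ⟶ u.obj Y, el e h = z :=
  ⟨(e.hom.app Y).app (op X') z, el_hom e z⟩

lemma map_el {X' : C'} {Y Y' : C} (h : X' ⟶ u.obj Y) (f : Y ⟶ Y') :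
    (L.map (yoneda.map f)).app (op X') (el e h) = el e (h ≫ u.map f) := by
  have := e.inv.naturality f
  have h2 := ConcreteCategory.congr_hom (congr_app this (op X')) h
  exact h2.symm

lemma el_precomp {X' X'' : C'} {Y : C} (g : X'' ⟶ X') (h : X' ⟶ u.obj Y) :
    (L.obj (yoneda.obj Y)).map g.op (el e h) = el e (g ≫ h) := by
  have := (e.inv.app Y).naturality g.op
  exact (ConcreteCategory.congr_hom this h).symm

/-- a morphism out of `L (y X)` is determined by the image of the universal element -/
lemma hom_ext_L_yoneda {X : C} {H : C'ᵒᵖ ⥤ Type u} (θ θ' : L.obj (yoneda.obj X) ⟶ H)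
    (h : θ.app (op (u.obj X)) (el e (𝟙 (u.obj X))) = θ'.app (op (u.obj X)) (el e (𝟙 (u.obj X)))) :
    θ = θ' := by
  have h1 : e.inv.app X ≫ θ = e.inv.app X ≫ θ' := by
    apply yonedaEquiv.injective
    exact h
  exact (cancel_epi (e.inv.app X)).1 h1

variable [PreservesColimitsOfSize.{u, u} L]

section presentation

variable {G : Cᵒᵖ ⥤ Type u} (P : IndObjectPresentation G)

/-- the colimit cocone in `Type` computing `(L G) X'` -/
noncomputable def evIsColimit (X' : C') :
    IsColimit (((evaluation _ _).obj (op X')).mapCocone (L.mapCocone P.cocone)) :=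
  isColimitOfPreserves _ (isColimitOfPreserves L P.coconeIsColimit)

/-- the colimit cocone in `Type` computing `G X` -/
noncomputable def evIsColimit₀ (X : C) :
    IsColimit (((evaluation _ _).obj (op X)).mapCocone P.cocone) :=
  isColimitOfPreserves _ P.coconeIsColimit

/-- every morphism `y X ⟶ G` factors through a leg of the presentation -/
lemma exists_factor {X : C} (a : yoneda.obj X ⟶ G) :
    ∃ (j : P.I) (f : X ⟶ P.F.obj j), a = yoneda.map f ≫ P.ι.app j := by
  obtain ⟨j, f, hf⟩ := Types.jointly_surjective_of_isColimit (evIsColimit₀ P X) (yonedaEquiv a)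
  refine ⟨j, f, yonedaEquiv.injective ?_⟩
  rw [yonedaEquiv_comp, yonedaEquiv_yoneda_map]
  exact hf.symm

/-- the value of `L a` on the universal element -/
lemma L_map_app_el {X : C} {j : P.I} (f : X ⟶ P.F.obj j) :
    (L.map (yoneda.map f ≫ P.ι.app j)).app (op (u.obj X)) (el e (𝟙 (u.obj X))) =
      (L.map (P.ι.app j)).app (op (u.obj X)) (el e (u.map f)) := by
  rw [L.map_comp]
  have := map_el e (𝟙 (u.obj X)) f
  rw [Category.id_comp] at this
  rw [← this]
  rfl

include e P in
/-- injectivity on morphisms out of representables when `u` is faithful -/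
lemma inj_of_faithful [u.Faithful] {X : C} (a b : yoneda.obj X ⟶ G)
    (hab : L.map a = L.map b) : a = b := by
  obtain ⟨j, f, rfl⟩ := exists_factor P a
  obtain ⟨j', g, rfl⟩ := exists_factor P b
  have h1 := congrArg (fun t => t.app (op (u.obj X)) (el e (𝟙 (u.obj X)))) hab
  dsimp only at h1
  rw [L_map_app_el, L_map_app_el] at h1
  obtain ⟨k, s, s', hk⟩ := (Types.FilteredColimit.isColimit_eq_iff _ (evIsColimit P (u.obj X))).1 h1
  have hk' : el e (u.map f ≫ u.map (P.F.map s)) = el e (u.map g ≫ u.map (P.F.map s')) := by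
    rw [← map_el, ← map_el]
    exact hk
  have hk'' := el_injective e hk'
  rw [← u.map_comp, ← u.map_comp] at hk''
  have hfg := u.map_injective hk''
  have e1 : yoneda.map f ≫ P.ι.app j = yoneda.map (f ≫ P.F.map s) ≫ P.ι.app k := by
    rw [yoneda.map_comp, Category.assoc]
    congr 1
    exact (P.cocone.w s).symm
  have e2 : yoneda.map g ≫ P.ι.app j' = yoneda.map (g ≫ P.F.map s') ≫ P.ι.app k := by
    rw [yoneda.map_comp, Category.assoc]
    congr 1
    exact (P.cocone.w s').symm
  rw [e1, e2, hfg]

include e P in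
/-- surjectivity on morphisms out of representables when `u` is full -/
lemma surj_of_full [u.Full] {X : C} (θ : L.obj (yoneda.obj X) ⟶ L.obj G) :
    ∃ a : yoneda.obj X ⟶ G, L.map a = θ := by
  obtain ⟨j, z, hz⟩ := Types.jointly_surjective_of_isColimit (evIsColimit P (u.obj X))
    (θ.app (op (u.obj X)) (el e (𝟙 (u.obj X))))
  obtain ⟨h, rfl⟩ := el_surjective e z
  obtain ⟨f, rfl⟩ := u.map_surjective h
  refine ⟨yoneda.map f ≫ P.ι.app j, hom_ext_L_yoneda e _ _ ?_⟩
  rw [L_map_app_el]
  exact hz

end presentation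

include e in
/-- `u` faithful implies `L` injective on morphisms into ind-objects -/
theorem injective_of_faithful [u.Faithful] (F G : Cᵒᵖ ⥤ Type u) (hG : IsIndObject G) :
    Function.Injective (fun φ : F ⟶ G => L.map φ) := by
  intro φ ψ h
  dsimp only at h
  refine NatTrans.ext (funext fun X => ?_)
  ext x
  have := inj_of_faithful e hG.presentation (yonedaEquiv.symm x ≫ φ) (yonedaEquiv.symm x ≫ ψ)
    (by rw [L.map_comp, L.map_comp, h])
  have h2 := congrArg yonedaEquiv this
  rw [yonedaEquiv_comp, yonedaEquiv_comp, Equiv.apply_symm_apply] at h2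
  exact h2

include e in
/-- `u` full and faithful implies `L` surjective on morphisms between ind-objects -/
theorem surjective_of_full_faithful [u.Full] [u.Faithful] (F G : Cᵒᵖ ⥤ Type u)
    (hF : IsIndObject F) (hG : IsIndObject G) :
    Function.Surjective (fun φ : F ⟶ G => L.map φ) := by
  intro θ
  let P := hF.presentation
  have hex : ∀ i : P.I, ∃ a : yoneda.obj (P.F.obj i) ⟶ G, L.map a = L.map (P.ι.app i) ≫ θ :=
    fun i => surj_of_full e hG.presentation _
  choose a ha using hex
  have hnat : ∀ (i i' : P.I) (s : i ⟶ i'), yoneda.map (P.F.map s) ≫ a i' = a i := by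
    intro i i' s
    refine inj_of_faithful e hG.presentation _ _ ?_
    rw [L.map_comp, ha, ha, ← Category.assoc, ← L.map_comp]
    congr 2
    exact P.cocone.w s
  let c : Cocone (P.F ⋙ yoneda) :=
    { pt := G
      ι :=
        { app := a
          naturality := by
            intro i i' s
            dsimp
            rw [Category.comp_id]
            exact hnat i i' s } }
  let φ : F ⟶ G := P.coconeIsColimit.desc c
  have hφ : ∀ i, P.ι.app i ≫ φ = a i := fun i => P.coconeIsColimit.fac c i
  refine ⟨φ, ?_⟩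
  dsimp only
  refine (isColimitOfPreserves L P.coconeIsColimit).hom_ext (fun i => ?_)
  have h1 : L.map (P.ι.app i) ≫ L.map φ = L.map (P.ι.app i) ≫ θ := by
    rw [← L.map_comp, hφ, ha]
  exact h1

include e in
/-- injectivity of `L` on morphisms between representables implies that `u` is faithful -/
theorem faithful_of_injective
    (h : ∀ (X Y : C), Function.Injective
      (fun φ : yoneda.obj X ⟶ yoneda.obj Y => L.map φ)) : u.Faithful := by
  refine ⟨fun {X Y} f g hfg => ?_⟩
  have h1 : L.map (yoneda.map f) = L.map (yoneda.map g) := by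
    have n1 := e.hom.naturality f
    have n2 := e.hom.naturality g
    dsimp at n1 n2
    have : L.map (yoneda.map f) ≫ e.hom.app Y = L.map (yoneda.map g) ≫ e.hom.app Y := by
      rw [n1, n2, hfg]
    exact (cancel_mono (e.hom.app Y)).1 this
  exact yoneda.map_injective (h X Y h1)

include e in
/-- surjectivity of `L` on morphisms between representables implies that `u` is full -/
theorem full_of_surjective
    (h : ∀ (X Y : C), Function.Surjective
      (fun φ : yoneda.obj X ⟶ yoneda.obj Y => L.map φ)) : u.Full := by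
  refine ⟨fun {X Y} g => ?_⟩
  obtain ⟨φ, hφ⟩ := h X Y (e.hom.app X ≫ yoneda.map g ≫ e.inv.app Y)
  dsimp only at hφ
  obtain ⟨f, rfl⟩ := yoneda.map_surjective φ
  refine ⟨f, yoneda.map_injective ?_⟩
  have n1 := e.hom.naturality f
  dsimp at n1
  have : e.hom.app X ≫ yoneda.map (u.map f) = e.hom.app X ≫ yoneda.map g := by
    rw [← n1, hφ]
    simp
  exact (cancel_epi (e.hom.app X)).1 this

section lan

variable (u)

/-- the left Kan extension along `u.op` extends `u` along the Yoneda embeddings -/
noncomputable def lanIso :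
    yoneda ⋙ (u.op.lan : (Cᵒᵖ ⥤ Type u) ⥤ (C'ᵒᵖ ⥤ Type u)) ≅ u ⋙ yoneda :=
  Functor.isoWhiskerRight (uliftYonedaIsoYoneda.{u} (C := C)).symm u.op.lan ≪≫
    (Presheaf.compULiftYonedaIsoULiftYonedaCompLan.{u} u).symm ≪≫
    Functor.isoWhiskerLeft u (uliftYonedaIsoYoneda.{u} (C := C'))

instance : PreservesColimitsOfSize.{u, u}
    (u.op.lan : (Cᵒᵖ ⥤ Type u) ⥤ (C'ᵒᵖ ⥤ Type u)) :=
  (u.op.lanAdjunction (Type u)).leftAdjoint_preservesColimits

theorem faithful_iff :
    u.Faithful ↔ ∀ (F G : Cᵒᵖ ⥤ Type u), IsIndObject F → IsIndObject G →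
      Function.Injective (fun φ : F ⟶ G =>
        (u.op.lan : (Cᵒᵖ ⥤ Type u) ⥤ (C'ᵒᵖ ⥤ Type u)).map φ) := by
  constructor
  · intro hu F G _ hG
    exact injective_of_faithful (lanIso u) F G hG
  · intro h
    exact faithful_of_injective (lanIso u)
      (fun X Y => h _ _ (isIndObject_yoneda X) (isIndObject_yoneda Y))

theorem full_faithful_iff :
    (u.Full ∧ u.Faithful) ↔ ∀ (F G : Cᵒᵖ ⥤ Type u), IsIndObject F → IsIndObject G →
      Function.Bijective (fun φ : F ⟶ G =>
        (u.op.lan : (Cᵒᵖ ⥤ Type u) ⥤ (C'ᵒᵖ ⥤ Type u)).map φ) := by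
  constructor
  · rintro ⟨hfull, hfaith⟩ F G hF hG
    exact ⟨injective_of_faithful (lanIso u) F G hG,
      surjective_of_full_faithful (lanIso u) F G hF hG⟩
  · intro h
    exact ⟨full_of_surjective (lanIso u)
        (fun X Y => (h _ _ (isIndObject_yoneda X) (isIndObject_yoneda Y)).2),
      faithful_of_injective (lanIso u)
        (fun X Y => (h _ _ (isIndObject_yoneda X) (isIndObject_yoneda Y)).1)⟩

end lan

end Groth.Agent.Lib.Helper1.IndLan
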