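import Groth.Agent.Lib.Helper1.IndLan

/-!
# Essential surjectivity of `Ind(u)` and retracts
-/

set_option autoImplicit false
universe u
open CategoryTheory CategoryTheory.Limits Opposite

namespace Groth.Agent.Lib.Helper1.IndLan

variable {C C' : Type u} [SmallCategory C] [SmallCategory C'] {u : C ⥤ C'}

section elements

variable {D : Type u} [SmallCategory D] {F : Dᵒᵖ ⥤ Type u}

/-- a morphism of `CostructuredArrow yoneda F` from a condition on elements -/
def homOfEl (A B : CostructuredArrow yoneda F) (f : A.left ⟶ B.left)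
    (h : F.map f.op (yonedaEquiv B.hom) = yonedaEquiv A.hom) : A ⟶ B :=
  CostructuredArrow.homMk f (by
    apply yonedaEquiv.injective
    rw [← yonedaEquiv_naturality]
    exact h)

lemma el_of_hom {A B : CostructuredArrow yoneda F} (g : A ⟶ B) :
    F.map g.left.op (yonedaEquiv B.hom) = yonedaEquiv A.hom := by
  rw [yonedaEquiv_naturality]
  exact congrArg yonedaEquiv (CostructuredArrow.w g)

/-- the object of `CostructuredArrow yoneda F` attached to an element -/
def objOfEl (X : D) (x : F.obj (op X)) : CostructuredArrow yoneda F :=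
  CostructuredArrow.mk (yonedaEquiv.symm x)

@[simp] lemma objOfEl_left (X : D) (x : F.obj (op X)) : (objOfEl X x).left = X := rfl

lemma yonedaEquiv_objOfEl_hom (X : D) (x : F.obj (op X)) :
    yonedaEquiv (objOfEl X x).hom = x := Equiv.apply_symm_apply _ _

end elements

section filtered

variable (hret : ∀ X' : C', ∃ (X : C) (i : X' ⟶ u.obj X) (r : u.obj X ⟶ X'), i ≫ r = 𝟙 X')
  (G' : C'ᵒᵖ ⥤ Type u)

include hret in
lemma lift_obj (X' : C') (y' : G'.obj (op X')) :
    ∃ (X₀ : C) (i₀ : X' ⟶ u.obj X₀) (x₀ : G'.obj (op (u.obj X₀))), G'.map i₀.op x₀ = y' := by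
  obtain ⟨X₀, i₀, r₀, h⟩ := hret X'
  refine ⟨X₀, i₀, G'.map r₀.op y', ?_⟩
  have : G'.map r₀.op ≫ G'.map i₀.op = 𝟙 _ := by
    rw [← G'.map_comp, ← op_comp, h, op_id, G'.map_id]
  exact ConcreteCategory.congr_hom this y'

include hret in
theorem isFiltered_costructuredArrow_restrict [u.Full] [u.Faithful]
    [IsFiltered (CostructuredArrow yoneda G')] :
    IsFiltered (CostructuredArrow yoneda (u.op ⋙ G')) := by
  -- transport of an object to `C'`
  let tr : CostructuredArrow yoneda (u.op ⋙ G') → CostructuredArrow yoneda G' :=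
    fun A => objOfEl (F := G') (u.obj A.left)
      (show G'.obj (op (u.obj A.left)) from yonedaEquiv (F := u.op ⋙ G') A.hom)
  haveI : Nonempty (CostructuredArrow yoneda (u.op ⋙ G')) := by
    obtain ⟨Z'⟩ := (IsFiltered.nonempty : Nonempty (CostructuredArrow yoneda G'))
    obtain ⟨X₀, i₀, x₀, h⟩ := lift_obj hret G' Z'.left (yonedaEquiv Z'.hom)
    exact ⟨objOfEl (F := u.op ⋙ G') X₀ x₀⟩
  haveI : IsFilteredOrEmpty (CostructuredArrow yoneda (u.op ⋙ G')) := by
    refine ⟨?_, ?_⟩
    · intro A B
      let Z' := IsFiltered.max (tr A) (tr B)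
      let gA : tr A ⟶ Z' := IsFiltered.leftToMax _ _
      let gB : tr B ⟶ Z' := IsFiltered.rightToMax _ _
      have hA := el_of_hom gA
      have hB := el_of_hom gB
      obtain ⟨X₀, i₀, x₀, h⟩ := lift_obj hret G' Z'.left (yonedaEquiv Z'.hom)
      rw [← h] at hA hB
      rw [yonedaEquiv_objOfEl_hom] at hA hB
      refine ⟨objOfEl (F := u.op ⋙ G') X₀ x₀,
        homOfEl _ _ (u.preimage (gA.left ≫ i₀)) ?_, homOfEl _ _ (u.preimage (gB.left ≫ i₀)) ?_, trivial⟩
      · rw [yonedaEquiv_objOfEl_hom]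
        change G'.map (u.map (u.preimage (gA.left ≫ i₀))).op x₀ = _
        rw [u.map_preimage, op_comp, G'.map_comp]
        exact hA
      · rw [yonedaEquiv_objOfEl_hom]
        change G'.map (u.map (u.preimage (gB.left ≫ i₀))).op x₀ = _
        rw [u.map_preimage, op_comp, G'.map_comp]
        exact hB
    · intro A B f g
      let f' : tr A ⟶ tr B := homOfEl _ _ (u.map f.left) (by
        rw [yonedaEquiv_objOfEl_hom, yonedaEquiv_objOfEl_hom]
        exact el_of_hom f)
      let g' : tr A ⟶ tr B := homOfEl _ _ (u.map g.left) (by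
        rw [yonedaEquiv_objOfEl_hom, yonedaEquiv_objOfEl_hom]
        exact el_of_hom g)
      let Z' := IsFiltered.coeq f' g'
      let h' : tr B ⟶ Z' := IsFiltered.coeqHom f' g'
      have hc : f' ≫ h' = g' ≫ h' := IsFiltered.coeq_condition f' g'
      have hc' : u.map f.left ≫ h'.left = u.map g.left ≫ h'.left :=
        congrArg CommaMorphism.left hc
      have hB := el_of_hom h'
      obtain ⟨X₀, i₀, x₀, h⟩ := lift_obj hret G' Z'.left (yonedaEquiv Z'.hom)
      rw [← h, yonedaEquiv_objOfEl_hom] at hB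
      refine ⟨objOfEl (F := u.op ⋙ G') X₀ x₀, homOfEl _ _ (u.preimage (h'.left ≫ i₀)) ?_, ?_⟩
      · rw [yonedaEquiv_objOfEl_hom]
        change G'.map (u.map (u.preimage (h'.left ≫ i₀))).op x₀ = _
        rw [u.map_preimage, op_comp, G'.map_comp]
        exact hB
      · ext
        apply u.map_injective
        change u.map (f.left ≫ u.preimage (h'.left ≫ i₀)) = u.map (g.left ≫ u.preimage (h'.left ≫ i₀))
        rw [u.map_comp, u.map_comp, u.map_preimage, ← Category.assoc, ← Category.assoc, hc']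
  exact { }

include hret in
theorem isIndObject_restrict [u.Full] [u.Faithful] (hG' : IsIndObject G') :
    IsIndObject (u.op ⋙ G') := by
  haveI := hG'.isFiltered
  haveI := isFiltered_costructuredArrow_restrict hret G'
  haveI : EssentiallySmall.{u} (CostructuredArrow yoneda (u.op ⋙ G')) :=
    essentiallySmallSelf _
  haveI : FinallySmall.{u} (CostructuredArrow yoneda (u.op ⋙ G')) :=
    finallySmall_of_essentiallySmall _
  exact isIndObject_of_isFiltered_of_finallySmall _

end filtered

section essSurj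

variable {L : (Cᵒᵖ ⥤ Type u) ⥤ (C'ᵒᵖ ⥤ Type u)} (e : yoneda ⋙ L ≅ u ⋙ yoneda)
  [PreservesColimitsOfSize.{u, u} L]

lemma ι_app_apply {F : Cᵒᵖ ⥤ Type u} (P : IndObjectPresentation F) (i : P.I) {X : C}
    (f : X ⟶ P.F.obj i) :
    (P.ι.app i).app (op X) f = F.map f.op (yonedaEquiv (P.ι.app i)) := by
  rw [yonedaEquiv_naturality, yonedaEquiv_comp, yonedaEquiv_yoneda_map]

include e in
/-- a retraction onto `X'` from an isomorphism `L F ≅ y X'` with `F` an ind-object -/
theorem exists_retract_of_iso {F : Cᵒᵖ ⥤ Type u} (hF : IsIndObject F) {X' : C'}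
    (α : L.obj F ≅ yoneda.obj X') :
    ∃ (X : C) (i : X' ⟶ u.obj X) (r : u.obj X ⟶ X'), i ≫ r = 𝟙 X' := by
  let P := hF.presentation
  obtain ⟨i, z, hz⟩ := Types.jointly_surjective_of_isColimit (evIsColimit P X')
    (α.inv.app (op X') (𝟙 X'))
  obtain ⟨h, rfl⟩ := el_surjective e z
  let t := (L.map (P.ι.app i)).app (op (u.obj (P.F.obj i))) (el e (𝟙 (u.obj (P.F.obj i))))
  refine ⟨P.F.obj i, h, α.hom.app (op (u.obj (P.F.obj i))) t, ?_⟩
  have n1 := ConcreteCategory.congr_hom (α.hom.naturality h.op) t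
  have n2 := ConcreteCategory.congr_hom ((L.map (P.ι.app i)).naturality h.op)
    (el e (𝟙 (u.obj (P.F.obj i))))
  have n3 := el_precomp e h (𝟙 (u.obj (P.F.obj i)))
  rw [Category.comp_id] at n3
  have n4 : (L.obj F).map h.op t = (L.map (P.ι.app i)).app (op X') (el e h) := by
    rw [← n3]
    exact n2.symm
  have n5 : α.hom.app (op X') (α.inv.app (op X') (𝟙 X')) = 𝟙 X' :=
    ConcreteCategory.congr_hom (congr_app α.inv_hom_id (op X')) (𝟙 X')
  have hz' : (L.map (P.ι.app i)).app (op X') (el e h) = α.inv.app (op X') (𝟙 X') := hz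
  change (yoneda.obj X').map h.op (α.hom.app (op (u.obj (P.F.obj i))) t) = 𝟙 X'
  rw [← n5, ← hz', ← n4]
  exact n1.symm

variable (hret : ∀ X' : C', ∃ (X : C) (i : X' ⟶ u.obj X) (r : u.obj X ⟶ X'), i ≫ r = 𝟙 X')

include e hret in
/-- `L (u.op ⋙ G') ≅ G'` when `u` is fully faithful and every object is a retract of some `u X` -/
theorem nonempty_iso_restrict [u.Full] [u.Faithful] (G' : C'ᵒᵖ ⥤ Type u)
    (hF : IsIndObject (u.op ⋙ G')) : Nonempty (L.obj (u.op ⋙ G') ≅ G') := by
  let F : Cᵒᵖ ⥤ Type u := u.op ⋙ G'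
  let P := hF.presentation
  let a : ∀ i : P.I, G'.obj (op (u.obj (P.F.obj i))) := fun i => yonedaEquiv (F := F) (P.ι.app i)
  have ha : ∀ (i i' : P.I) (s : i ⟶ i'), G'.map (u.map (P.F.map s)).op (a i') = a i := by
    intro i i' s
    have h1 : F.map (P.F.map s).op (yonedaEquiv (F := F) (P.ι.app i')) =
        yonedaEquiv (F := F) (P.ι.app i) := by
      rw [yonedaEquiv_naturality]
      exact congrArg yonedaEquiv (P.cocone.w s)
    exact h1
  let μ : ∀ i : P.I, L.obj (yoneda.obj (P.F.obj i)) ⟶ G' :=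
    fun i => e.hom.app (P.F.obj i) ≫ yonedaEquiv.symm (a i)
  have hμ : ∀ (i : P.I) (X' : C') (h : X' ⟶ u.obj (P.F.obj i)),
      (μ i).app (op X') (el e h) = G'.map h.op (a i) := by
    intro i X' h
    change (yonedaEquiv.symm (a i)).app (op X') ((e.hom.app (P.F.obj i)).app (op X') (el e h)) = _
    rw [hom_el]
    rfl
  let c : Cocone ((P.F ⋙ yoneda) ⋙ L) :=
    { pt := G'
      ι :=
        { app := μ
          naturality := by
            intro i i' s
            dsimp
            rw [Category.comp_id]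
            have n1 : L.map (yoneda.map (P.F.map s)) ≫ e.hom.app (P.F.obj i') =
                e.hom.app (P.F.obj i) ≫ yoneda.map (u.map (P.F.map s)) :=
              e.hom.naturality (P.F.map s)
            rw [← Category.assoc, n1, Category.assoc]
            congr 1
            rw [yonedaEquiv_symm_naturality_left, ha] } }
  let hL := isColimitOfPreserves L P.coconeIsColimit
  let ν : L.obj F ⟶ G' := hL.desc c
  have hν : ∀ i, L.map (P.ι.app i) ≫ ν = μ i := fun i => hL.fac c i
  have hν' : ∀ (i : P.I) (X' : C') (h : X' ⟶ u.obj (P.F.obj i)),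
      ν.app (op X') ((L.map (P.ι.app i)).app (op X') (el e h)) = G'.map h.op (a i) := by
    intro i X' h
    rw [← hμ, ← hν]
    rfl
  have hw : ∀ (i k : P.I) (s : i ⟶ k) (X' : C') (h : X' ⟶ u.obj (P.F.obj i)),
      (L.map (P.ι.app i)).app (op X') (el e h) =
        (L.map (P.ι.app k)).app (op X') (el e (h ≫ u.map (P.F.map s))) := by
    intro i k s X' h
    rw [← map_el]
    have h0 : yoneda.map (P.F.map s) ≫ P.ι.app k = P.ι.app i := P.cocone.w s
    have : L.map (yoneda.map (P.F.map s)) ≫ L.map (P.ι.app k) = L.map (P.ι.app i) := by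
      rw [← L.map_comp, h0]
    exact (ConcreteCategory.congr_hom (congr_app this (op X')) (el e h)).symm
  haveI : IsIso ν := by
    haveI : ∀ Y, IsIso (ν.app Y) := by
      intro Y
      rw [isIso_iff_bijective]
      obtain ⟨X'⟩ := Y
      constructor
      · -- injectivity
        intro w w' hww
        obtain ⟨i, z, rfl⟩ := Types.jointly_surjective_of_isColimit (evIsColimit P X') w
        obtain ⟨i', z', rfl⟩ := Types.jointly_surjective_of_isColimit (evIsColimit P X') w'
        obtain ⟨h, rfl⟩ := el_surjective e z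
        obtain ⟨h', rfl⟩ := el_surjective e z'
        change ν.app (op X') ((L.map (P.ι.app i)).app (op X') (el e h)) =
          ν.app (op X') ((L.map (P.ι.app i')).app (op X') (el e h')) at hww
        rw [hν', hν'] at hww
        change (L.map (P.ι.app i)).app (op X') (el e h) =
          (L.map (P.ι.app i')).app (op X') (el e h')
        obtain ⟨X₀, i₀, r₀, hir⟩ := hret X'
        let f : X₀ ⟶ P.F.obj i := u.preimage (r₀ ≫ h)
        let f' : X₀ ⟶ P.F.obj i' := u.preimage (r₀ ≫ h')
        have e1 : (P.ι.app i).app (op X₀) f = (P.ι.app i').app (op X₀) f' := by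
          rw [ι_app_apply, ι_app_apply]
          change G'.map (u.map f).op (a i) = G'.map (u.map f').op (a i')
          rw [u.map_preimage, u.map_preimage, op_comp, op_comp, G'.map_comp, G'.map_comp]
          exact congrArg (G'.map r₀.op) hww
        obtain ⟨k, s, s', hk⟩ :=
          (Types.FilteredColimit.isColimit_eq_iff _ (evIsColimit₀ P X₀)).1 e1
        have hk' : f ≫ P.F.map s = f' ≫ P.F.map s' := hk
        have e2 : h ≫ u.map (P.F.map s) = h' ≫ u.map (P.F.map s') := by
          have q : i₀ ≫ u.map (f ≫ P.F.map s) = i₀ ≫ u.map (f' ≫ P.F.map s') := by rw [hk']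
          rw [u.map_comp, u.map_comp, u.map_preimage, u.map_preimage] at q
          simp only [Category.assoc] at q
          rw [← Category.assoc, ← Category.assoc (f := i₀), hir, Category.id_comp,
            Category.id_comp] at q
          exact q
        rw [hw i k s, hw i' k s', e2]
      · -- surjectivity
        intro b
        obtain ⟨X₀, i₀, r₀, hir⟩ := hret X'
        let cc : F.obj (op X₀) := G'.map r₀.op b
        obtain ⟨i, f, hf⟩ := Types.jointly_surjective_of_isColimit (evIsColimit₀ P X₀) cc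
        have hf' : (P.ι.app i).app (op X₀) f = cc := hf
        rw [ι_app_apply] at hf'
        refine ⟨(L.map (P.ι.app i)).app (op X') (el e (i₀ ≫ u.map f)), ?_⟩
        rw [hν', op_comp, G'.map_comp]
        have h1 : G'.map (u.map f).op (a i) = cc := hf'
        change G'.map i₀.op (G'.map (u.map f).op (a i)) = b
        rw [h1]
        have : G'.map r₀.op ≫ G'.map i₀.op = 𝟙 _ := by
          rw [← G'.map_comp, ← op_comp, hir, op_id, G'.map_id]
        exact ConcreteCategory.congr_hom this b
    exact NatIso.isIso_of_isIso_app ν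
  exact ⟨asIso ν⟩

end essSurj

section main

variable (u)

theorem indEquivalence_iff :
    ((∀ (F G : Cᵒᵖ ⥤ Type u), IsIndObject F → IsIndObject G →
        Function.Bijective (fun φ : F ⟶ G =>
          (u.op.lan : (Cᵒᵖ ⥤ Type u) ⥤ (C'ᵒᵖ ⥤ Type u)).map φ)) ∧
      (∀ G' : C'ᵒᵖ ⥤ Type u, IsIndObject G' →
        ∃ F : Cᵒᵖ ⥤ Type u, IsIndObject F ∧
          Nonempty ((u.op.lan : (Cᵒᵖ ⥤ Type u) ⥤ (C'ᵒᵖ ⥤ Type u)).obj F ≅ G'))) ↔
    ((u.Full ∧ u.Faithful) ∧
      ∀ X' : C', ∃ (X : C) (i : X' ⟶ u.obj X) (r : u.obj X ⟶ X'), i ≫ r = 𝟙 X') := by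
  constructor
  · rintro ⟨h1, h2⟩
    refine ⟨(full_faithful_iff u).2 h1, fun X' => ?_⟩
    obtain ⟨F, hF, ⟨α⟩⟩ := h2 (yoneda.obj X') (isIndObject_yoneda X')
    exact exists_retract_of_iso (lanIso u) hF α
  · rintro ⟨⟨hfull, hfaith⟩, hret⟩
    refine ⟨(full_faithful_iff u).1 ⟨hfull, hfaith⟩, fun G' hG' => ?_⟩
    have hF := isIndObject_restrict hret G' hG'
    exact ⟨u.op ⋙ G', hF, nonempty_iso_restrict (lanIso u) hret G' hF⟩

end main

end Groth.Agent.Lib.Helper1.IndLan
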