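import Groth.Agent.Lib.Helper1.CartCl3
import Groth.Agent.Lib.Helper28.PullbackInv2
import Groth.Agent.Lib.Helper29.IdealComap

/-!
# The pullback of the ideal module of an effective Cartier ideal (helper1)

If `J` is an effective Cartier ideal on `Y` whose inverse image `J.comap f` along `f : X ⟶ Y` is still effective
Cartier, then `f^* (idealMod J) ≅ idealMod (J.comap f)`.
-/

set_option autoImplicit false
universe u
open CategoryTheory CategoryTheory.Limits AlgebraicGeometry Opposite TopologicalSpace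
noncomputable section

namespace Groth.Agent.Lib.Helper1.Inter

open Groth.Agent.Lib.Helper28 Groth.Agent.Lib.Helper28.QCohLoc Groth.Agent.Lib.Helper28.GenLocus
  Groth.Agent.Lib.Helper28.IdealDual Groth.Agent.Lib.Helper28.PullbackInv
  Groth.Agent.Lib.Helper1.CartCl

variable {X Y : Scheme.{u}} (f : X ⟶ Y)

/-- restriction of `appLE`. -/
theorem resO_appLE {V : Y.Opens} {U U' : X.Opens} (e : U ≤ f ⁻¹ᵁ V) (h : U' ≤ U) (a : Γ(Y, V)) :
    resO h ((f.appLE V U e).hom a) = (f.appLE V U' (h.trans e)).hom a := by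
  have := Scheme.Hom.appLE_map f e (homOfLE h).op
  exact congrArg (fun φ => φ.hom a) this

/-- `appLE` of a restriction. -/
theorem appLE_resO {V V' : Y.Opens} {U : X.Opens} (e : U ≤ f ⁻¹ᵁ V') (h : V' ≤ V) (a : Γ(Y, V)) :
    (f.appLE V' U e).hom (resO h a) = (f.appLE V U (e.trans (f.preimage_mono h))).hom a := by
  have := Scheme.Hom.map_appLE f e (homOfLE h).op
  exact congrArg (fun φ => φ.hom a) this

/-- `app` followed by restriction is `appLE`. -/
theorem resO_app {V : Y.Opens} {U : X.Opens} (e : U ≤ f ⁻¹ᵁ V) (a : Γ(Y, V)) :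
    resO e ((f.app V).hom a) = (f.appLE V U e).hom a := rfl

/-- a chart for the pullback of an effective Cartier ideal. -/
structure PChart (J : Y.IdealSheafData) where
  V : Y.affineOpens
  U : X.affineOpens
  hUV : U.1 ≤ f ⁻¹ᵁ V.1
  g : Γ(Y, V.1)
  hg : g ∈ nonZeroDivisors Γ(Y, V.1)
  hJ : J.ideal V = Ideal.span {g}
  hg' : (f.appLE V.1 U.1 hUV).hom g ∈ nonZeroDivisors Γ(X, U.1)

variable {f}

theorem PChart.hJf {J : Y.IdealSheafData} (c : PChart f J) :
    (J.comap f).ideal c.U = Ideal.span {(f.appLE c.V.1 c.U.1 c.hUV).hom c.g} := by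
  rw [Groth.Agent.Lib.Helper29.EffCart.ideal_comap_eq_map J f c.V c.U c.hUV, c.hJ, Ideal.map_span,
    Set.image_singleton]

/-- in a commutative ring, a generator of a principal ideal generated by a nonzerodivisor is a nonzerodivisor. -/
theorem mem_nonZeroDivisors_of_span_eq {A : Type*} [CommRing A] {a b : A}
    (ha : a ∈ nonZeroDivisors A) (h : Ideal.span {a} = Ideal.span {b}) : b ∈ nonZeroDivisors A := by
  have h1 : a ∈ Ideal.span {b} := h ▸ Ideal.mem_span_singleton_self a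
  have h2 : b ∈ Ideal.span {a} := h.symm ▸ Ideal.mem_span_singleton_self b
  obtain ⟨v, hv⟩ := Ideal.mem_span_singleton'.mp h1
  obtain ⟨u, hu⟩ := Ideal.mem_span_singleton'.mp h2
  -- a = v b, b = u a
  have h3 : (v * u - 1) * a = 0 := by
    rw [sub_mul, one_mul, mul_assoc, hu, hv, sub_self]
  have h4 : v * u - 1 = 0 := (mem_nonZeroDivisors_iff_right.mp ha) _ h3
  have h5 : v * u = 1 := sub_eq_zero.mp h4
  have hu' : IsUnit u := IsUnit.of_mul_eq_one v (by rw [mul_comm]; exact h5)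
  rw [← hu]
  exact mul_mem hu'.mem_nonZeroDivisors ha

theorem exists_pchart {J : Y.IdealSheafData} (hJ : BlowUp.IsEffCartierIdeal J)
    (hJf : BlowUp.IsEffCartierIdeal (J.comap f)) (x : X) : ∃ c : PChart f J, x ∈ c.U.1 := by
  obtain ⟨V, hxV, g, hg, hJg⟩ := hJ (f.base x)
  obtain ⟨U', hxU', g', hg', hJg'⟩ := hJf x
  obtain ⟨_, ⟨(U : X.Opens), hU, rfl⟩, hxU, hUle⟩ :=
    X.isBasis_affineOpens.exists_subset_of_mem_open
      (show x ∈ ((U'.1 ⊓ f ⁻¹ᵁ V.1 : X.Opens) : Set X) from ⟨hxU', hxV⟩) (U'.1 ⊓ f ⁻¹ᵁ V.1).isOpen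
  have h1 : U ≤ U'.1 := fun y hy => (hUle hy).1
  have h2 : U ≤ f ⁻¹ᵁ V.1 := fun y hy => (hUle hy).2
  have h3 : (J.comap f).ideal ⟨U, hU⟩ = Ideal.span {resO h1 g'} :=
    ideal_eq_span_resO (J.comap f) (U := U') (V := ⟨U, hU⟩) h1 hJg'
  have h4 : (J.comap f).ideal ⟨U, hU⟩ = Ideal.span {(f.appLE V.1 U h2).hom g} := by
    rw [Groth.Agent.Lib.Helper29.EffCart.ideal_comap_eq_map J f V ⟨U, hU⟩ h2, hJg, Ideal.map_span,
      Set.image_singleton]
  have h5 : resO h1 g' ∈ nonZeroDivisors Γ(X, U) := resO_mem_nonZeroDivisors U'.2 hg' h1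
  exact ⟨⟨V, ⟨U, hU⟩, h2, g, hg, hJg, mem_nonZeroDivisors_of_span_eq h5 (h3.symm.trans h4)⟩, hxU⟩

/-- **`f^* (idealMod J) ≅ idealMod (J.comap f)`** when both `J` and `J.comap f` are effective Cartier. -/
theorem nonempty_pullback_idealMod_iso {J : Y.IdealSheafData} (hJ : BlowUp.IsEffCartierIdeal J)
    (hJf : BlowUp.IsEffCartierIdeal (J.comap f)) :
    Nonempty ((Scheme.Modules.pullback f).obj (ClSub.idealMod J) ≅ ClSub.idealMod (J.comap f)) := by
  have hγ : ∀ c : PChart f J, ∃ γ : Γ(ClSub.idealMod J, c.V.1),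
      IsGen (ClSub.idealMod J) c.V.1 γ ∧ iota J γ = c.g :=
    fun c => exists_isGen_idealMod J c.V.2 c.g c.hg c.hJ
  have hψ : ∀ c : PChart f J, ∃ ψ : Γ(ClSub.idealMod (J.comap f), c.U.1),
      IsGen (ClSub.idealMod (J.comap f)) c.U.1 ψ ∧
        iota (J.comap f) ψ = (f.appLE c.V.1 c.U.1 c.hUV).hom c.g :=
    fun c => exists_isGen_idealMod (J.comap f) c.U.2 _ c.hg' c.hJf
  choose γ hγg hγe using hγ
  choose ψ hψg hψe using hψ
  set P := (Scheme.Modules.pullback f).obj (ClSub.idealMod J) with hP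
  obtain ⟨e, -⟩ := exists_iso_of_cocycle_gen (M := P)
    (N := ClSub.idealMod (J.comap f)) (ι := PChart f J)
    (fun c => c.U.1) (fun c => res P c.hUV (pbs f (ClSub.idealMod J) c.V.1 (γ c))) ψ
    (fun c => (isGen_pbs (f := f) (hγg c)).res c.hUV) hψg
    (fun x => exists_pchart hJ hJf x)
    (fun c d => by
      set a := (hγg d).coef inf_le_right (res (ClSub.idealMod J) inf_le_left (γ c)) with ha
      have h1 : res (ClSub.idealMod J) inf_le_left (γ c) =
          (a • res (ClSub.idealMod J) inf_le_right (γ d) : Γ(ClSub.idealMod J, c.V.1 ⊓ d.V.1)) :=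
        ((hγg d).coef_smul inf_le_right _).symm
      have h1' : resO (inf_le_left : c.V.1 ⊓ d.V.1 ≤ c.V.1) c.g =
          a * resO (inf_le_right : c.V.1 ⊓ d.V.1 ≤ d.V.1) d.g := by
        have := congrArg (iota J) h1
        rwa [iota_res, iota_smul, iota_res, hγe, hγe] at this
      have hle : c.U.1 ⊓ d.U.1 ≤ f ⁻¹ᵁ (c.V.1 ⊓ d.V.1) :=
        fun y hy => ⟨c.hUV hy.1, d.hUV hy.2⟩
      refine ⟨(f.appLE (c.V.1 ⊓ d.V.1) (c.U.1 ⊓ d.U.1) hle).hom a, ?_, ?_⟩
      · -- the pullback module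
        have e1 : res P (inf_le_left : c.U.1 ⊓ d.U.1 ≤ c.U.1)
            (res P c.hUV (pbs f (ClSub.idealMod J) c.V.1 (γ c))) =
            res P hle (pbs f (ClSub.idealMod J) (c.V.1 ⊓ d.V.1)
              (res (ClSub.idealMod J) inf_le_left (γ c))) := by
          rw [pbs_res, res_res, res_res]
        have e2 : res P (inf_le_right : c.U.1 ⊓ d.U.1 ≤ d.U.1)
            (res P d.hUV (pbs f (ClSub.idealMod J) d.V.1 (γ d))) =
            res P hle (pbs f (ClSub.idealMod J) (c.V.1 ⊓ d.V.1)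
              (res (ClSub.idealMod J) inf_le_right (γ d))) := by
          rw [pbs_res, res_res, res_res]
        rw [e1, e2, h1, pbs_smul, res_smul]
        rfl
      · apply iota_injective (J.comap f)
        rw [iota_res, iota_smul, iota_res, hψe, hψe, resO_appLE, resO_appLE]
        have e3 : (f.appLE c.V.1 (c.U.1 ⊓ d.U.1) (inf_le_left.trans c.hUV)).hom c.g =
            (f.appLE (c.V.1 ⊓ d.V.1) (c.U.1 ⊓ d.U.1) hle).hom (resO inf_le_left c.g) :=
          (appLE_resO f hle inf_le_left c.g).symm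
        have e4 : (f.appLE d.V.1 (c.U.1 ⊓ d.U.1) (inf_le_right.trans d.hUV)).hom d.g =
            (f.appLE (c.V.1 ⊓ d.V.1) (c.U.1 ⊓ d.U.1) hle).hom (resO inf_le_right d.g) :=
          (appLE_resO f hle inf_le_right d.g).symm
        rw [e3, e4, h1', map_mul])
  exact ⟨e⟩

end Groth.Agent.Lib.Helper1.Inter
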