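import Groth.Agent.Lib.Helper1.Inter9

/-!
# The closed fibre is numerically trivial (helper1)
-/

set_option autoImplicit false
universe u
open CategoryTheory CategoryTheory.Limits AlgebraicGeometry Opposite TopologicalSpace
noncomputable section

namespace Groth.Agent.Lib.Helper1.Inter

open Groth.Agent.Lib.Helper8.PicCl Groth.Agent.Lib.Helper1.CartCl Groth.Agent.Lib.Helper1.VertDiv
  Groth.Agent.Lib.Helper1.FibGeom

attribute [local instance] Groth.Agent.Lib.Helper8.PicCl.commMonoid

variable (R : Type u) [CommRing R] [IsDomain R] [IsDiscreteValuationRing R]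
  (X : Over (Spec (CommRingCat.of R)))
  {n : ℕ} (Γ : Fin n → ArSurf.VertComp R X) (hΓ : Models.IsComponentList R X Γ)
  (hflat : Flat X.hom) (hft : LocallyOfFiniteType X.hom)
  (hreg : ∀ x : X.left, IsRegularLocalRing (X.left.presheaf.stalk x))
  (L : Fin n → X.left.Modules) (hL : ∀ i, ClSub.IsInverseOf (L i) (ClSub.idealMod (Γ i).ι.ker))

include hΓ hflat hft hreg hL in
/-- `∏ [O(Γ_i)]^{m_i} = 1` in the class monoid: the closed fibre is a principal divisor. -/
theorem prod_cl_pow_mult : ∏ i, PicF.cl (L i) ^ Models.mult R X (Γ i) = 1 := by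
  set I : Fin n → X.left.IdealSheafData := fun i => (Γ i).ι.ker with hI
  have hEC : ∀ i, BlowUp.IsEffCartierIdeal (I i) := fun i =>
    isEffCartierIdeal_ker R X hflat hft hreg Γ hΓ i
  set lam : Fin n → PicF.Cl X.left := fun i => PicF.cl (L i) with hlam
  set io : Fin n → PicF.Cl X.left := fun i => PicF.cl (ClSub.idealMod (I i)) with hio
  have hli : ∀ i, lam i * io i = 1 := fun i => (isInverseOf_iff _ _).mp (hL i)
  have hclprod : ∀ c : Fin n → ℕ, PicF.cl (ClSub.idealMod (∏ i, I i ^ c i)) = ∏ i, io i ^ c i := by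
    intro c
    rw [cl_idealMod_prod _ _ fun i _ => isEffCartierIdeal_pow (hEC i) _]
    apply Finset.prod_congr rfl
    intro i _
    exact cl_idealMod_pow (hEC i) _
  have hiom : ∏ i, io i ^ Models.mult R X (Γ i) = 1 := by
    rw [← hclprod]
    have h1 := specialFibreIdeal_eq_prod R X hflat hreg Γ hΓ
    have h2 := cl_idealMod_specialFibreIdeal R X hflat
    rw [h1] at h2
    exact h2
  have h1 := prod_pow_mul_inverse lam io hli (fun i => Models.mult R X (Γ i))
  rw [hiom, mul_one] at h1
  exact h1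

variable [IsProper X.hom]

include hΓ hflat hft hreg hL in
/-- **S3318 core**: `Σ_i m_i (Γ_i · Γ_j) = 0`. -/
theorem sum_mult_mul_inter_eq_zero (j : Fin n) :
    ∑ i, (Models.mult R X (Γ i) : ℤ) * ArSurf.inter R X (L j) (Γ i) = 0 := by
  have hinv := isInvertible_L R X Γ hΓ hflat hft hreg L hL
  have h1 : ∀ i, ArSurf.inter R X (L j) (Γ i) = ArSurf.inter R X (L i) (Γ j) := fun i =>
    inter_symm R X Γ hΓ hflat hft hreg L hL i j
  simp only [h1]
  rw [← inter_multiTwist R X (Γ j) L hinv (fun i => Models.mult R X (Γ i)),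
    ← inter_structureModule R X (Γ j)]
  apply inter_eq_of_cl_eq
  rw [cl_multiTwist, ← Groth.Agent.Lib.Helper8.PicCl.one_def]
  exact prod_cl_pow_mult R X Γ hΓ hflat hft hreg L hL

end Groth.Agent.Lib.Helper1.Inter
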