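import Groth.Agent.Lib.Helper1.Inter10
import Groth.Agent.Lib.lead.DvrFibreB

/-!
# The intersection matrix of the fibre components is connected (helper1)
-/

set_option autoImplicit false
universe u
open CategoryTheory CategoryTheory.Limits AlgebraicGeometry Opposite TopologicalSpace
noncomputable section

namespace Groth.Agent.Lib.Helper1.Inter

open Groth.Agent.Lib.Helper1.VertDiv Groth.Agent.Lib.Helper1.FibGeom

variable (R : Type u) [CommRing R] [IsDomain R] [IsDiscreteValuationRing R]

/-- the closed fibre of a flat proper `R`-scheme with `H⁰(C, O_C) = K` is connected, as a subset. -/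
theorem isPreconnected_specialFibreSet {C X : Scheme.{u}}
    (f : C ⟶ Spec (CommRingCat.of (FractionRing R)))
    (p : X ⟶ Spec (CommRingCat.of R)) [IsProper p] [Flat p] (g : C ⟶ X)
    (H : IsPullback g f p (Spec.map (CommRingCat.ofHom (algebraMap R (FractionRing R)))))
    (hH0 : IsIso f.appTop) : _root_.IsPreconnected (Models.specialFibreSet R (Over.mk p)) := by
  haveI := Groth.Agent.Lib.lead.DvrFibre.connectedSpace_specialFibre R f p g H hH0
  set q₀ := Spec.map (CommRingCat.ofHom (algebraMap R (IsLocalRing.ResidueField R))) with hq₀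
  have hrange : Set.range (pullback.fst p q₀) = Models.specialFibreSet R (Over.mk p) := by
    rw [Scheme.Pullback.range_fst]
    unfold Models.specialFibreSet
    congr 1
    ext s
    simp only [Set.mem_range]
    constructor
    · rintro ⟨t, rfl⟩
      exact IsLocalRing.PrimeSpectrum.comap_residue R t
    · intro hs
      have hs' : s = IsLocalRing.closedPoint R := hs
      subst hs'
      exact ⟨(⊥ : PrimeSpectrum (IsLocalRing.ResidueField R)),
        IsLocalRing.PrimeSpectrum.comap_residue R _⟩
  rw [← hrange]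
  exact isPreconnected_range (pullback.fst p q₀).continuous

variable (X : Over (Spec (CommRingCat.of R)))
  {n : ℕ} (Γ : Fin n → ArSurf.VertComp R X) (hΓ : Models.IsComponentList R X Γ)

include hΓ in
theorem range_subset_specialFibreSet (i : Fin n) :
    Set.range ((Γ i).ι.base : (Γ i).curve.left → X.left) ⊆ Models.specialFibreSet R X := by
  rw [range_eq_closure_genPtOf]
  exact (mem_fibreComponents R X n Γ hΓ i).1.2

include hΓ in
theorem specialFibreSet_subset_iUnion :
    Models.specialFibreSet R X ⊆ ⋃ i, Set.range ((Γ i).ι.base : (Γ i).curve.left → X.left) := by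
  intro x hx
  obtain ⟨i, hi⟩ := exists_index_of_mem_specialFibreSet R X Γ hΓ x hx
  rw [Set.mem_iUnion]
  refine ⟨i, ?_⟩
  rw [range_eq_closure_genPtOf, ← specializes_iff_mem_closure]
  exact hi

include hΓ in
/-- a set of components disjoint from all others is everything or nothing, when the fibre is connected. -/
theorem exists_meet_of_isPreconnected (hconn : _root_.IsPreconnected (Models.specialFibreSet R X))
    (I : Finset (Fin n)) (hI : I.Nonempty) (hI' : I ≠ Finset.univ) :
    ∃ i ∈ I, ∃ j ∉ I, ¬ Disjoint (Set.range ((Γ i).ι.base : (Γ i).curve.left → X.left))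
      (Set.range ((Γ j).ι.base : (Γ j).curve.left → X.left)) := by
  by_contra hcon
  push Not at hcon
  set A : Set X.left := ⋃ i ∈ I, Set.range ((Γ i).ι.base : (Γ i).curve.left → X.left) with hA
  set B : Set X.left := ⋃ j ∈ Iᶜ, Set.range ((Γ j).ι.base : (Γ j).curve.left → X.left) with hB
  have hAcl : IsClosed A := Set.Finite.isClosed_biUnion I.finite_toSet
    fun i _ => (Γ i).ι.isClosedEmbedding.isClosed_range
  have hBcl : IsClosed B := Set.Finite.isClosed_biUnion (Iᶜ).finite_toSet
    fun i _ => (Γ i).ι.isClosedEmbedding.isClosed_range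
  have hcover : Models.specialFibreSet R X ⊆ A ∪ B := by
    intro x hx
    obtain ⟨i, hi⟩ := Set.mem_iUnion.mp (specialFibreSet_subset_iUnion R X Γ hΓ hx)
    by_cases hiI : i ∈ I
    · left
      exact Set.mem_biUnion hiI hi
    · right
      exact Set.mem_biUnion (Finset.mem_compl.mpr hiI) hi
  obtain ⟨i₀, hi₀⟩ := hI
  obtain ⟨j₀, hj₀⟩ : ∃ j, j ∉ I := by
    by_contra h
    push Not at h
    exact hI' (Finset.eq_univ_iff_forall.mpr h)
  have hgi : Models.genPtOf R X (Γ i₀) ∈ Set.range ((Γ i₀).ι.base : (Γ i₀).curve.left → X.left) :=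
    ⟨_, rfl⟩
  have hgj : Models.genPtOf R X (Γ j₀) ∈ Set.range ((Γ j₀).ι.base : (Γ j₀).curve.left → X.left) :=
    ⟨_, rfl⟩
  have hAne : (Models.specialFibreSet R X ∩ A).Nonempty :=
    ⟨_, range_subset_specialFibreSet R X Γ hΓ i₀ hgi, Set.mem_biUnion hi₀ hgi⟩
  have hBne : (Models.specialFibreSet R X ∩ B).Nonempty :=
    ⟨_, range_subset_specialFibreSet R X Γ hΓ j₀ hgj,
      Set.mem_biUnion (Finset.mem_compl.mpr hj₀) hgj⟩
  obtain ⟨x, -, hxA, hxB⟩ := (isPreconnected_closed_iff.mp hconn) A B hAcl hBcl hcover hAne hBne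
  obtain ⟨i, hiI, hxi⟩ := Set.mem_iUnion₂.mp hxA
  obtain ⟨j, hjI, hxj⟩ := Set.mem_iUnion₂.mp hxB
  exact Set.disjoint_left.mp (hcon i hiI j (Finset.mem_compl.mp hjI)) hxi hxj

variable [IsProper X.hom] (hflat : Flat X.hom) (hft : LocallyOfFiniteType X.hom)
  (hreg : ∀ x : X.left, IsRegularLocalRing (X.left.presheaf.stalk x))
  (L : Fin n → X.left.Modules) (hL : ∀ i, ClSub.IsInverseOf (L i) (ClSub.idealMod (Γ i).ι.ker))

include hΓ hflat hft hreg hL in
/-- **S3319 core**. -/
theorem inter_connected (hconn : _root_.IsPreconnected (Models.specialFibreSet R X))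
    (I : Finset (Fin n)) (hI : I.Nonempty) (hI' : I ≠ Finset.univ) :
    ∃ i ∈ I, ∃ j ∉ I, ArSurf.inter R X (L j) (Γ i) ≠ 0 := by
  obtain ⟨i, hiI, j, hjI, hij⟩ := exists_meet_of_isPreconnected R X Γ hΓ hconn I hI hI'
  refine ⟨i, hiI, j, hjI, ?_⟩
  have hne : i ≠ j := by
    rintro rfl
    exact hjI hiI
  intro h0
  exact hij (((inter_offDiag R X Γ hΓ hflat hft hreg L hL hne).2).mp h0)

end Groth.Agent.Lib.Helper1.Inter
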