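import Groth.Agent.Lib.Helper1.Inter11
import Groth.Agent.S2171

/-!
# The intersection form on the fibre components is negative semi-definite (helper1)
-/

set_option autoImplicit false
universe u
open CategoryTheory CategoryTheory.Limits AlgebraicGeometry Opposite TopologicalSpace
noncomputable section

namespace Groth.Agent.Lib.Helper1.Inter

open Groth.Agent.Lib.Helper1.VertDiv Groth.Agent.Lib.Helper1.FibGeom

variable (R : Type u) [CommRing R] [IsDomain R] [IsDiscreteValuationRing R]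
  (X : Over (Spec (CommRingCat.of R)))
  {n : ℕ} (Γ : Fin n → ArSurf.VertComp R X) (hΓ : Models.IsComponentList R X Γ)
  [IsProper X.hom] (hflat : Flat X.hom) (hft : LocallyOfFiniteType X.hom)
  (hreg : ∀ x : X.left, IsRegularLocalRing (X.left.presheaf.stalk x))
  (L : Fin n → X.left.Modules) (hL : ∀ i, ClSub.IsInverseOf (L i) (ClSub.idealMod (Γ i).ι.ker))

include hΓ hflat hft hreg hL in
/-- the real form of the negative semi-definiteness. -/
theorem inter_form_real (hconn : _root_.IsPreconnected (Models.specialFibreSet R X)) (x : Fin n → ℝ) :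
    (∑ i, ∑ j, x i * x j * (ArSurf.inter R X (L j) (Γ i) : ℝ)) ≤ 0 ∧
      ((∑ i, ∑ j, x i * x j * (ArSurf.inter R X (L j) (Γ i) : ℝ)) = 0 ↔
        ∃ q : ℝ, ∀ i, x i = q * (Models.mult R X (Γ i) : ℝ)) := by
  set A : Matrix (Fin n) (Fin n) ℝ := Matrix.of fun i j => (ArSurf.inter R X (L j) (Γ i) : ℝ) with hA
  set m : Fin n → ℝ := fun i => (Models.mult R X (Γ i) : ℝ) with hm
  have hsymm : A.IsSymm := by
    apply Matrix.IsSymm.ext
    intro i j
    show ((ArSurf.inter R X (L i) (Γ j) : ℤ) : ℝ) = ((ArSurf.inter R X (L j) (Γ i) : ℤ) : ℝ)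
    rw [inter_symm R X Γ hΓ hflat hft hreg L hL i j]
  have hoff : ∀ i j, i ≠ j → 0 ≤ A i j := by
    intro i j hij
    show (0 : ℝ) ≤ ((ArSurf.inter R X (L j) (Γ i) : ℤ) : ℝ)
    exact_mod_cast (inter_offDiag R X Γ hΓ hflat hft hreg L hL hij).1
  have hmpos : ∀ i, 0 < m i := by
    intro i
    show (0 : ℝ) < ((Models.mult R X (Γ i) : ℕ) : ℝ)
    exact_mod_cast mult_pos R X Γ hΓ hflat hreg i
  have hAm : A.mulVec m = 0 := by
    funext i
    show ∑ j, ((ArSurf.inter R X (L j) (Γ i) : ℤ) : ℝ) * ((Models.mult R X (Γ j) : ℕ) : ℝ) = 0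
    have h1 := sum_mult_mul_inter_eq_zero R X Γ hΓ hflat hft hreg L hL i
    have h2 : ∀ j, ArSurf.inter R X (L i) (Γ j) = ArSurf.inter R X (L j) (Γ i) := fun j =>
      inter_symm R X Γ hΓ hflat hft hreg L hL j i
    simp only [h2] at h1
    have h3 := congrArg (fun z : ℤ => (z : ℝ)) h1
    simp only [Int.cast_sum, Int.cast_mul, Int.cast_natCast, Int.cast_zero] at h3
    rw [← h3]
    apply Finset.sum_congr rfl
    intro j _
    ring
  have hc : ∀ I : Finset (Fin n), I.Nonempty → I ≠ Finset.univ → ∃ i ∈ I, ∃ j ∉ I, A i j ≠ 0 := by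
    intro I hI hI'
    obtain ⟨i, hi, j, hj, hij⟩ := inter_connected R X Γ hΓ hflat hft hreg L hL hconn I hI hI'
    refine ⟨i, hi, j, hj, ?_⟩
    show ((ArSurf.inter R X (L j) (Γ i) : ℤ) : ℝ) ≠ 0
    exact_mod_cast hij
  have key := Groth.Agent.S2171.result A m hsymm hoff hmpos hAm hc x
  have hform : dotProduct x (A.mulVec x) =
      ∑ i, ∑ j, x i * x j * (ArSurf.inter R X (L j) (Γ i) : ℝ) := by
    unfold dotProduct Matrix.mulVec dotProduct
    apply Finset.sum_congr rfl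
    intro i _
    rw [Finset.mul_sum]
    apply Finset.sum_congr rfl
    intro j _
    show x i * (((ArSurf.inter R X (L j) (Γ i) : ℤ) : ℝ) * x j) = _
    ring
  rw [hform] at key
  refine ⟨key.1, key.2.trans ?_⟩
  constructor
  · rintro ⟨q, hq⟩
    exact ⟨q, fun i => by rw [hq]; rfl⟩
  · rintro ⟨q, hq⟩
    exact ⟨q, funext fun i => by rw [hq i]; rfl⟩

include hΓ hflat hft hreg hL in
/-- **S3320 core**. -/
theorem inter_form_nonpos (hconn : _root_.IsPreconnected (Models.specialFibreSet R X)) (a : Fin n → ℤ) :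
    (∑ q : Fin n × Fin n, a q.1 * a q.2 * ArSurf.inter R X (L q.2) (Γ q.1)) ≤ 0 ∧
      ((∑ q : Fin n × Fin n, a q.1 * a q.2 * ArSurf.inter R X (L q.2) (Γ q.1)) = 0 ↔
        ∃ c : ℚ, ∀ i, (a i : ℚ) = c * (Models.mult R X (Γ i) : ℚ)) := by
  have key := inter_form_real R X Γ hΓ hflat hft hreg L hL hconn (fun i => (a i : ℝ))
  have hcast : ((∑ q : Fin n × Fin n, a q.1 * a q.2 * ArSurf.inter R X (L q.2) (Γ q.1) : ℤ) : ℝ) =
      ∑ i, ∑ j, (a i : ℝ) * (a j : ℝ) * (ArSurf.inter R X (L j) (Γ i) : ℝ) := by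
    rw [Fintype.sum_prod_type]
    push_cast
    rfl
  rw [← hcast] at key
  refine ⟨by exact_mod_cast key.1, ?_⟩
  have h2 : (∑ q : Fin n × Fin n, a q.1 * a q.2 * ArSurf.inter R X (L q.2) (Γ q.1)) = 0 ↔
      ((∑ q : Fin n × Fin n, a q.1 * a q.2 * ArSurf.inter R X (L q.2) (Γ q.1) : ℤ) : ℝ) = 0 := by
    constructor
    · intro h; rw [h]; simp
    · intro h; exact_mod_cast h
  rw [h2, key.2]
  constructor
  · rintro ⟨q, hq⟩
    rcases Nat.eq_zero_or_pos n with hn | hn
    · subst hn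
      exact ⟨0, fun i => i.elim0⟩
    · set i₀ : Fin n := ⟨0, hn⟩
      have hm0 : (0 : ℝ) < (Models.mult R X (Γ i₀) : ℝ) := by
        exact_mod_cast mult_pos R X Γ hΓ hflat hreg i₀
      have hq' : q = ((a i₀ : ℚ) / (Models.mult R X (Γ i₀) : ℚ) : ℚ) := by
        have := hq i₀
        push_cast
        field_simp
        linarith
      refine ⟨(a i₀ : ℚ) / (Models.mult R X (Γ i₀) : ℚ), fun i => ?_⟩
      have h3 := hq i
      rw [hq'] at h3
      exact_mod_cast h3
  · rintro ⟨c, hc⟩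
    refine ⟨(c : ℝ), fun i => ?_⟩
    have := hc i
    exact_mod_cast this

end Groth.Agent.Lib.Helper1.Inter
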