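import Groth.Agent.Lib.Helper1.Inter12

/-!
# S3340 core: a vertical divisor of degree zero on every component has `d`-th power trivial (helper1)
-/

set_option autoImplicit false
universe u
open CategoryTheory CategoryTheory.Limits AlgebraicGeometry Opposite TopologicalSpace
noncomputable section

namespace Groth.Agent.Lib.Helper1.Inter

open Groth.Agent.Lib.Helper8.PicCl Groth.Agent.Lib.Helper1.CartCl Groth.Agent.Lib.Helper1.VertDiv
  Groth.Agent.Lib.Helper1.FibGeom

attribute [local instance] Groth.Agent.Lib.Helper8.PicCl.commMonoid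

/-- number theory: if `c = q • m` with `q` rational then `gcd(m) • c` is an integer multiple of `m`. -/
theorem exists_int_of_rat {n : ℕ} (m c : Fin n → ℕ) (q : ℚ)
    (h : ∀ i, (c i : ℚ) = q * (m i : ℚ)) :
    ∃ k : ℤ, ∀ i, ((Finset.univ.gcd m * c i : ℕ) : ℤ) - ((0 : ℕ) : ℤ) = k * (m i : ℤ) := by
  have h1 : ∀ i, (c i : ℤ) * (q.den : ℤ) = q.num * (m i : ℤ) := by
    intro i
    have h2 := h i
    have hden : (q.den : ℚ) ≠ 0 := by exact_mod_cast q.den_nz
    have h3 : (c i : ℚ) * (q.den : ℚ) = (q.num : ℚ) * (m i : ℚ) := by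
      rw [h2, ← Rat.mul_den_eq_num q]
      ring
    exact_mod_cast h3
  have h4 : ∀ i, q.den ∣ m i := by
    intro i
    have h5 : (q.den : ℤ) ∣ q.num * (m i : ℤ) := ⟨c i, by rw [← h1 i]; ring⟩
    have h6 : q.den ∣ q.num.natAbs * m i := by
      have := Int.natAbs_dvd_natAbs.mpr h5
      rwa [Int.natAbs_natCast, Int.natAbs_mul, Int.natAbs_natCast] at this
    exact (Nat.Coprime.symm q.reduced).dvd_of_dvd_mul_left h6
  have h7 : q.den ∣ Finset.univ.gcd m := Finset.dvd_gcd fun i _ => h4 i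
  obtain ⟨e, he⟩ := h7
  refine ⟨(e : ℤ) * q.num, fun i => ?_⟩
  rw [he]
  push_cast
  have := h1 i
  linear_combination (e : ℤ) * this

variable (R : Type u) [CommRing R] [IsDomain R] [IsDiscreteValuationRing R]

/-- **S3340 core**. -/
theorem tensorPow_trivial_of_degree_zero
    (C X : Scheme.{u}) (f : C ⟶ Spec (CommRingCat.of (FractionRing R))) (p : X ⟶ Spec (CommRingCat.of R))
    (hH0 : IsIso f.appTop)
    (hX : Models.IsRegularProperModel R X p C f)
    {n : ℕ} (Γ : Fin n → ArSurf.VertComp R (Over.mk p)) (hΓ : Models.IsComponentList R (Over.mk p) Γ)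
    (g : C ⟶ X) (hg : IsPullback g f p (Spec.map (CommRingCat.ofHom (algebraMap R (FractionRing R)))))
    (M : X.Modules) (hM : PicF.IsInvertible M)
    (htriv : Nonempty ((Scheme.Modules.pullback g).obj M ≅ Coh.structureModule C))
    (hdeg : ∀ i, ArSurf.inter R (Over.mk p) M (Γ i) = 0) :
    Nonempty (CohB1.tensorPow M (Models.multGcd R (Over.mk p) Γ) ≅ Coh.structureModule X) := by
  have hX' := hX
  obtain ⟨⟨hflat, hft, -, -⟩, hproper, hreg⟩ := hX'
  haveI : IsProper p := hproper
  haveI : Flat p := hflat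
  haveI : IsProper (Over.mk p).hom := hproper
  have hconn := isPreconnected_specialFibreSet R f p g hg hH0
  -- an auxiliary family `L i = O(Γ i)`
  have hEC : ∀ i, BlowUp.IsEffCartierIdeal (Γ i).ι.ker := fun i =>
    isEffCartierIdeal_ker R (Over.mk p) hflat hft hreg Γ hΓ i
  have hex : ∀ i, ∃ Li : X.Modules, PicF.IsInvertible Li ∧
      ClSub.IsInverseOf Li (ClSub.idealMod (Γ i).ι.ker) := fun i =>
    Groth.Agent.Lib.Helper8.InvInverse.exists_isInverseOf
      (Groth.Agent.Lib.Helper28.IdealDual.isInvertible_idealMod _ (hEC i))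
  choose L hLinv hL using hex
  obtain ⟨c, hc⟩ := exists_cl_eq_prod_pow R C X f p hX Γ hΓ g hg L hL M hM htriv
  have hMc : PicF.cl M = PicF.cl (FGA.multiTwist L c) := by rw [cl_multiTwist]; exact hc
  -- the degree vector of `M`
  have hdeg' : ∀ i, ∑ j, (c j : ℤ) * ArSurf.inter R (Over.mk p) (L j) (Γ i) = 0 := by
    intro i
    rw [← inter_multiTwist R (Over.mk p) (Γ i) L hLinv c,
      ← inter_eq_of_cl_eq R (Over.mk p) (Γ i) hMc]
    exact hdeg i
  have hform : (∑ q : Fin n × Fin n, (c q.1 : ℤ) * (c q.2 : ℤ) *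
      ArSurf.inter R (Over.mk p) (L q.2) (Γ q.1)) = 0 := by
    rw [Fintype.sum_prod_type]
    apply Finset.sum_eq_zero
    intro i _
    have := hdeg' i
    calc ∑ j, (c i : ℤ) * (c j : ℤ) * ArSurf.inter R (Over.mk p) (L j) (Γ i)
        = (c i : ℤ) * ∑ j, (c j : ℤ) * ArSurf.inter R (Over.mk p) (L j) (Γ i) := by
          rw [Finset.mul_sum]
          apply Finset.sum_congr rfl
          intro j _
          ring
      _ = 0 := by rw [this, mul_zero]
  obtain ⟨q, hq⟩ := ((inter_form_nonpos R (Over.mk p) Γ hΓ hflat hft hreg L hL hconn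
    (fun i => (c i : ℤ))).2).mp hform
  have hq' : ∀ i, (c i : ℚ) = q * (Models.mult R (Over.mk p) (Γ i) : ℚ) := by
    intro i
    have := hq i
    exact_mod_cast this
  obtain ⟨k, hk⟩ := exists_int_of_rat (fun i => Models.mult R (Over.mk p) (Γ i)) c q hq'
  have hlm := prod_cl_pow_mult R (Over.mk p) Γ hΓ hflat hft hreg L hL
  have h1 := prod_pow_eq_of_int (fun i => PicF.cl (L i)) _ hlm
    (fun i => Models.multGcd R (Over.mk p) Γ * c i) (fun _ => 0) k hk
  simp only [pow_zero, Finset.prod_const_one] at h1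
  rw [← cl_eq_iff, cl_tensorPow, hc, ← Groth.Agent.Lib.Helper8.PicCl.one_def, ← prod_pow_mul]
  exact h1

end Groth.Agent.Lib.Helper1.Inter
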