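import Groth.Agent.Lib.Helper1.Inter13

/-!
# Twisting by vertical divisors: S3348 and S3342 cores (helper1)
-/

set_option autoImplicit false
universe u
open CategoryTheory CategoryTheory.Limits AlgebraicGeometry Opposite TopologicalSpace
noncomputable section

namespace Groth.Agent.Lib.Helper1.Inter

open Groth.Agent.Lib.Helper8.PicCl Groth.Agent.Lib.Helper1.CartCl Groth.Agent.Lib.Helper1.VertDiv
  Groth.Agent.Lib.Helper1.FibGeom

attribute [local instance] Groth.Agent.Lib.Helper8.PicCl.commMonoid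

theorem isInvertible_multiTwist {Y : Scheme.{u}} {n : ℕ} (L : Fin n → Y.Modules)
    (hL : ∀ i, PicF.IsInvertible (L i)) (a : Fin n → ℕ) : PicF.IsInvertible (FGA.multiTwist L a) := by
  unfold FGA.multiTwist
  apply Groth.Agent.Lib.Helper6.K0Op.isInvertible_tensorList
  intro M hM
  rw [List.mem_map] at hM
  obtain ⟨i, -, rfl⟩ := hM
  exact Groth.Agent.Lib.Helper28.GenLocus.isInvertible_tensorPow (hL i) _

variable (R : Type u) [CommRing R] [IsDomain R] [IsDiscreteValuationRing R]
  {C X : Scheme.{u}} (f : C ⟶ Spec (CommRingCat.of (FractionRing R))) (p : X ⟶ Spec (CommRingCat.of R))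
  (hX : Models.IsRegularProperModel R X p C f)
  {n : ℕ} (Γ : Fin n → ArSurf.VertComp R (Over.mk p)) (hΓ : Models.IsComponentList R (Over.mk p) Γ)
  (g : C ⟶ X) (hg : IsPullback g f p (Spec.map (CommRingCat.ofHom (algebraMap R (FractionRing R)))))
  (L : Fin n → X.Modules) (hL : ∀ i, ClSub.IsInverseOf (L i) (ClSub.idealMod (Γ i).ι.ker))

include hX hΓ hg hL in
/-- twisting an invertible module by the vertical divisor `-Σ v_j Γ_j`. -/
theorem exists_twist (v : Fin n → ℤ) (M : X.Modules) (hM : PicF.IsInvertible M) :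
    ∃ M' : X.Modules, PicF.IsInvertible M' ∧
      PicF.cl ((Scheme.Modules.pullback g).obj M') = PicF.cl ((Scheme.Modules.pullback g).obj M) ∧
      ∀ i, ArSurf.inter R (Over.mk p) M' (Γ i) = ArSurf.inter R (Over.mk p) M (Γ i) -
        ∑ j, ArSurf.inter R (Over.mk p) (L j) (Γ i) * v j := by
  obtain ⟨⟨hflat, hft, -, -⟩, hproper, hreg⟩ := hX
  haveI : IsProper (Over.mk p).hom := hproper
  set I : Fin n → X.IdealSheafData := fun i => (Γ i).ι.ker with hI
  have hEC : ∀ i, BlowUp.IsEffCartierIdeal (I i) := fun i =>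
    isEffCartierIdeal_ker R (Over.mk p) hflat hft hreg Γ hΓ i
  have hLinv := isInvertible_L R (Over.mk p) Γ hΓ hflat hft hreg L hL
  set lam : Fin n → PicF.Cl X := fun i => PicF.cl (L i) with hlam
  set io : Fin n → PicF.Cl X := fun i => PicF.cl (ClSub.idealMod (I i)) with hio
  have hli : ∀ i, lam i * io i = 1 := fun i => (isInverseOf_iff _ _).mp (hL i)
  have hECprod : ∀ c : Fin n → ℕ, BlowUp.IsEffCartierIdeal (∏ i, I i ^ c i) := fun c =>
    isEffCartierIdeal_prod _ _ fun i _ => isEffCartierIdeal_pow (hEC i) _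
  have hclprod : ∀ c : Fin n → ℕ, PicF.cl (ClSub.idealMod (∏ i, I i ^ c i)) = ∏ i, io i ^ c i := by
    intro c
    rw [cl_idealMod_prod _ _ fun i _ => isEffCartierIdeal_pow (hEC i) _]
    apply Finset.prod_congr rfl
    intro i _
    exact cl_idealMod_pow (hEC i) _
  set vp : Fin n → ℕ := fun i => (v i).toNat with hvp
  set vm : Fin n → ℕ := fun i => (-v i).toNat with hvm
  have hvpm : ∀ i, v i = (vp i : ℤ) - (vm i : ℤ) := fun i => (Int.toNat_sub_toNat_neg (v i)).symm
  set A := ClSub.idealMod (∏ i, I i ^ vp i) with hA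
  set B := ClSub.idealMod (∏ i, I i ^ vm i) with hB
  have hAinv : PicF.IsInvertible A :=
    Groth.Agent.Lib.Helper28.IdealDual.isInvertible_idealMod _ (hECprod vp)
  have hBinv : PicF.IsInvertible B :=
    Groth.Agent.Lib.Helper28.IdealDual.isInvertible_idealMod _ (hECprod vm)
  obtain ⟨D, hDinv, hDB⟩ := Groth.Agent.Lib.Helper8.InvInverse.exists_isInverseOf hBinv
  have hδβ : PicF.cl D * ∏ i, io i ^ vm i = 1 := by
    rw [← hclprod]
    exact (isInverseOf_iff _ _).mp hDB
  have hδ : PicF.cl D = PicF.cl (FGA.multiTwist L vm) := by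
    rw [cl_multiTwist]
    exact eq_of_mul_eq_one hδβ (prod_pow_mul_inverse lam io hli vm)
  have hMA : PicF.IsInvertible (CohB1.tensorMod M A) :=
    Groth.Agent.Lib.Helper28.GenLocus.isInvertible_tensorMod hM hAinv
  refine ⟨CohB1.tensorMod (CohB1.tensorMod M A) D,
    Groth.Agent.Lib.Helper28.GenLocus.isInvertible_tensorMod hMA hDinv, ?_, ?_⟩
  · rw [cl_pullback_tensorMod g hMA hDinv, cl_pullback_tensorMod g hM hAinv]
    have hA1 : PicF.cl ((Scheme.Modules.pullback g).obj A) = 1 := by
      rw [Groth.Agent.Lib.Helper8.PicCl.one_def, cl_eq_iff]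
      exact pullback_idealMod_trivial R g f p hg Γ hΓ vp
    have hB1 : PicF.cl ((Scheme.Modules.pullback g).obj B) = 1 := by
      rw [Groth.Agent.Lib.Helper8.PicCl.one_def, cl_eq_iff]
      exact pullback_idealMod_trivial R g f p hg Γ hΓ vm
    have hD1 : PicF.cl ((Scheme.Modules.pullback g).obj D) = 1 := by
      have h1 : PicF.cl ((Scheme.Modules.pullback g).obj D) *
          PicF.cl ((Scheme.Modules.pullback g).obj B) = 1 := by
        rw [← cl_pullback_tensorMod g hDinv hBinv, ← cl_pullback_unit g]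
        apply cl_pullback_congr
        rw [← cl_mul_cl, (isInverseOf_iff _ _).mp hDB, Groth.Agent.Lib.Helper8.PicCl.one_def]
      rw [hB1, mul_one] at h1
      exact h1
    rw [hA1, hD1, mul_one, mul_one]
  · intro i
    have hTp := isInvertible_multiTwist L hLinv vp
    -- `A ⊗ L^{v⁺} ≅ O`
    have hAL : PicF.cl (CohB1.tensorMod A (FGA.multiTwist L vp)) =
        PicF.cl (Coh.structureModule X) := by
      rw [← cl_mul_cl, cl_multiTwist, hA, hclprod, mul_comm,
        ← Groth.Agent.Lib.Helper8.PicCl.one_def]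
      exact prod_pow_mul_inverse lam io hli vp
    have h1 : ArSurf.inter R (Over.mk p) A (Γ i) +
        ArSurf.inter R (Over.mk p) (FGA.multiTwist L vp) (Γ i) = 0 := by
      rw [← inter_tensorMod R (Over.mk p) (Γ i) hAinv hTp,
        inter_eq_of_cl_eq R (Over.mk p) (Γ i) hAL]
      exact inter_structureModule R (Over.mk p) (Γ i)
    rw [inter_tensorMod R (Over.mk p) (Γ i) hMA hDinv, inter_tensorMod R (Over.mk p) (Γ i) hM hAinv,
      inter_eq_of_cl_eq R (Over.mk p) (Γ i) hδ, inter_multiTwist R (Over.mk p) (Γ i) L hLinv vm]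
    rw [inter_multiTwist R (Over.mk p) (Γ i) L hLinv vp] at h1
    have h2 : ∑ j, ArSurf.inter R (Over.mk p) (L j) (Γ i) * v j =
        ∑ j, (vp j : ℤ) * ArSurf.inter R (Over.mk p) (L j) (Γ i) -
          ∑ j, (vm j : ℤ) * ArSurf.inter R (Over.mk p) (L j) (Γ i) := by
      rw [← Finset.sum_sub_distrib]
      apply Finset.sum_congr rfl
      intro j _
      rw [hvpm j]
      ring
    rw [h2]
    linarith

end Groth.Agent.Lib.Helper1.Inter
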