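import Groth.Agent.Lib.Helper1.Inter14

/-!
# S3348 and S3342 cores (helper1)
-/

set_option autoImplicit false
universe u
open CategoryTheory CategoryTheory.Limits AlgebraicGeometry Opposite TopologicalSpace
noncomputable section

namespace Groth.Agent.Lib.Helper1.Inter

open Groth.Agent.Lib.Helper8.PicCl Groth.Agent.Lib.Helper1.CartCl Groth.Agent.Lib.Helper1.VertDiv
  Groth.Agent.Lib.Helper1.FibGeom

attribute [local instance] Groth.Agent.Lib.Helper8.PicCl.commMonoid

theorem cl_pullback_tensorPow {X Y : Scheme.{u}} (g : X ⟶ Y) {A : Y.Modules}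
    (hA : PicF.IsInvertible A) (h : ℕ) :
    PicF.cl ((Scheme.Modules.pullback g).obj (CohB1.tensorPow A h)) =
      PicF.cl ((Scheme.Modules.pullback g).obj A) ^ h := by
  induction h with
  | zero =>
    rw [pow_zero]
    exact cl_pullback_unit g
  | succ k ih =>
    rw [pow_succ, ← ih]
    exact cl_pullback_tensorMod g (Groth.Agent.Lib.Helper28.GenLocus.isInvertible_tensorPow hA k) hA

variable (R : Type u) [CommRing R] [IsDomain R] [IsDiscreteValuationRing R]
  {C X : Scheme.{u}} (f : C ⟶ Spec (CommRingCat.of (FractionRing R))) (p : X ⟶ Spec (CommRingCat.of R))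
  (hX : Models.IsRegularProperModel R X p C f)
  {n : ℕ} (Γ : Fin n → ArSurf.VertComp R (Over.mk p)) (hΓ : Models.IsComponentList R (Over.mk p) Γ)
  (g : C ⟶ X) (hg : IsPullback g f p (Spec.map (CommRingCat.ofHom (algebraMap R (FractionRing R)))))
  (L : Fin n → X.Modules) (hL : ∀ i, ClSub.IsInverseOf (L i) (ClSub.idealMod (Γ i).ι.ker))

include hX hΓ hg hL in
/-- **S3348 core**. -/
theorem degree_vector_iff (N : C.Modules)
    (M : X.Modules) (hM : PicF.IsInvertible M) (hMN : Nonempty ((Scheme.Modules.pullback g).obj M ≅ N)) :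
    (∃ v : Fin n → ℤ, ∀ i, ArSurf.inter R (Over.mk p) M (Γ i) =
        ∑ j, ArSurf.inter R (Over.mk p) (L j) (Γ i) * v j) ↔
      ∃ M' : X.Modules, PicF.IsInvertible M' ∧ Nonempty ((Scheme.Modules.pullback g).obj M' ≅ N) ∧
        ∀ i, ArSurf.inter R (Over.mk p) M' (Γ i) = 0 := by
  have hMN' : PicF.cl ((Scheme.Modules.pullback g).obj M) = PicF.cl N := (cl_eq_iff _ _).mpr hMN
  constructor
  · rintro ⟨v, hv⟩
    obtain ⟨M', hM', hcl, hint⟩ := exists_twist R f p hX Γ hΓ g hg L hL v M hM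
    refine ⟨M', hM', ?_, fun i => ?_⟩
    · rw [← cl_eq_iff, hcl, hMN']
    · rw [hint i, hv i, sub_self]
  · rintro ⟨M', hM', hr, hdeg⟩
    have hX' := hX
    obtain ⟨⟨hflat, hft, -, -⟩, hproper, hreg⟩ := hX'
    haveI : IsProper (Over.mk p).hom := hproper
    have hLinv := isInvertible_L R (Over.mk p) Γ hΓ hflat hft hreg L hL
    obtain ⟨M'', hM'', hinv⟩ := Groth.Agent.Lib.Helper8.InvInverse.exists_isInverseOf hM'
    have hνμ' : PicF.cl M'' * PicF.cl M' = 1 := (isInverseOf_iff _ _).mp hinv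
    have hP : PicF.IsInvertible (CohB1.tensorMod M M'') :=
      Groth.Agent.Lib.Helper28.GenLocus.isInvertible_tensorMod hM hM''
    have hr' : PicF.cl ((Scheme.Modules.pullback g).obj M') = PicF.cl N := (cl_eq_iff _ _).mpr hr
    have h1 : PicF.cl ((Scheme.Modules.pullback g).obj M'') *
        PicF.cl ((Scheme.Modules.pullback g).obj M') = 1 := by
      rw [← cl_pullback_tensorMod g hM'' hM', ← cl_pullback_unit g]
      apply cl_pullback_congr
      rw [← cl_mul_cl, hνμ', Groth.Agent.Lib.Helper8.PicCl.one_def]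
    have h2 : PicF.cl ((Scheme.Modules.pullback g).obj (CohB1.tensorMod M M'')) = 1 := by
      rw [cl_pullback_tensorMod g hM hM'', hMN', ← hr', mul_comm]
      exact h1
    have htrivP : Nonempty ((Scheme.Modules.pullback g).obj (CohB1.tensorMod M M'') ≅
        Coh.structureModule C) := by
      rw [← cl_eq_iff, ← Groth.Agent.Lib.Helper8.PicCl.one_def]
      exact h2
    obtain ⟨c', hc'⟩ := exists_cl_eq_prod_pow R C X f p hX Γ hΓ g hg L hL _ hP htrivP
    rw [← cl_mul_cl] at hc'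
    have h3 : PicF.cl M = PicF.cl (CohB1.tensorMod (FGA.multiTwist L c') M') := by
      rw [← cl_mul_cl, cl_multiTwist]
      calc PicF.cl M = PicF.cl M * (PicF.cl M'' * PicF.cl M') := by rw [hνμ', mul_one]
        _ = (PicF.cl M * PicF.cl M'') * PicF.cl M' := by rw [mul_assoc]
        _ = _ := by rw [hc']
    refine ⟨fun j => (c' j : ℤ), fun i => ?_⟩
    rw [inter_eq_of_cl_eq R (Over.mk p) (Γ i) h3,
      inter_tensorMod R (Over.mk p) (Γ i) (isInvertible_multiTwist L hLinv c') hM', hdeg i, add_zero,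
      inter_multiTwist R (Over.mk p) (Γ i) L hLinv c']
    apply Finset.sum_congr rfl
    intro j _
    ring

include hX hΓ hg hL in
/-- a degree-zero vertical class is `∏ λ^c` with `d • c ∈ ℤ • m`. -/
theorem exists_vec_of_degree_zero (hH0 : IsIso f.appTop)
    (M : X.Modules) (hM : PicF.IsInvertible M)
    (htriv : Nonempty ((Scheme.Modules.pullback g).obj M ≅ Coh.structureModule C))
    (hdeg : ∀ i, ArSurf.inter R (Over.mk p) M (Γ i) = 0) :
    ∃ (c : Fin n → ℕ) (k : ℤ), PicF.cl M = ∏ i, PicF.cl (L i) ^ c i ∧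
      ∀ i, ((Models.multGcd R (Over.mk p) Γ : ℤ)) * (c i : ℤ) =
        k * (Models.mult R (Over.mk p) (Γ i) : ℤ) := by
  have hX' := hX
  obtain ⟨⟨hflat, hft, -, -⟩, hproper, hreg⟩ := hX'
  haveI : IsProper p := hproper
  haveI : Flat p := hflat
  haveI : IsProper (Over.mk p).hom := hproper
  have hconn := isPreconnected_specialFibreSet R f p g hg hH0
  have hLinv := isInvertible_L R (Over.mk p) Γ hΓ hflat hft hreg L hL
  obtain ⟨c, hc⟩ := exists_cl_eq_prod_pow R C X f p hX Γ hΓ g hg L hL M hM htriv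
  have hMc : PicF.cl M = PicF.cl (FGA.multiTwist L c) := by rw [cl_multiTwist]; exact hc
  have hdeg' : ∀ i, ∑ j, (c j : ℤ) * ArSurf.inter R (Over.mk p) (L j) (Γ i) = 0 := by
    intro i
    rw [← inter_multiTwist R (Over.mk p) (Γ i) L hLinv c,
      ← inter_eq_of_cl_eq R (Over.mk p) (Γ i) hMc]
    exact hdeg i
  have hform : (∑ q : Fin n × Fin n, (c q.1 : ℤ) * (c q.2 : ℤ) *
      ArSurf.inter R (Over.mk p) (L q.2) (Γ q.1)) = 0 := by
    rw [Fintype.sum_prod_type]
    apply Finset.sum_eq_zero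
    intro i _
    have := hdeg' i
    calc ∑ j, (c i : ℤ) * (c j : ℤ) * ArSurf.inter R (Over.mk p) (L j) (Γ i)
        = (c i : ℤ) * ∑ j, (c j : ℤ) * ArSurf.inter R (Over.mk p) (L j) (Γ i) := by
          rw [Finset.mul_sum]
          apply Finset.sum_congr rfl
          intro j _
          ring
      _ = 0 := by rw [this, mul_zero]
  obtain ⟨q, hq⟩ := ((inter_form_nonpos R (Over.mk p) Γ hΓ hflat hft hreg L hL hconn
    (fun i => (c i : ℤ))).2).mp hform
  have hq' : ∀ i, (c i : ℚ) = q * (Models.mult R (Over.mk p) (Γ i) : ℚ) := by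
    intro i
    have := hq i
    exact_mod_cast this
  obtain ⟨k, hk⟩ := exists_int_of_rat (fun i => Models.mult R (Over.mk p) (Γ i)) c q hq'
  refine ⟨c, k, hc, fun i => ?_⟩
  have := hk i
  push_cast at this
  rw [sub_zero] at this
  exact this

include hX hΓ hg hL in
/-- **S3342 core**. -/
theorem torsion_exact (hH0 : IsIso f.appTop)
    (h : ℕ) (hcop : Nat.Coprime h (Models.multGcd R (Over.mk p) Γ))
    (N : C.Modules) (hNt : Nonempty (CohB1.tensorPow N h ≅ Coh.structureModule C))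
    (M : X.Modules) (hM : PicF.IsInvertible M) (hMN : Nonempty ((Scheme.Modules.pullback g).obj M ≅ N))
    (v : Fin n → ℤ)
    (hv : ∀ i, ArSurf.inter R (Over.mk p) M (Γ i) =
      ∑ j, ArSurf.inter R (Over.mk p) (L j) (Γ i) * v j) :
    ∃ M' : X.Modules, PicF.IsInvertible M' ∧ Nonempty (CohB1.tensorPow M' h ≅ Coh.structureModule X) ∧
      Nonempty ((Scheme.Modules.pullback g).obj M' ≅ N) := by
  have hX' := hX
  obtain ⟨⟨hflat, hft, -, -⟩, hproper, hreg⟩ := hX'
  haveI : IsProper (Over.mk p).hom := hproper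
  obtain ⟨M₀, hM₀, hr₀, hdeg₀⟩ :=
    (degree_vector_iff R f p hX Γ hΓ g hg L hL N M hM hMN).mp ⟨v, hv⟩
  have hr₀' : PicF.cl ((Scheme.Modules.pullback g).obj M₀) = PicF.cl N := (cl_eq_iff _ _).mpr hr₀
  have hP : PicF.IsInvertible (CohB1.tensorPow M₀ h) :=
    Groth.Agent.Lib.Helper28.GenLocus.isInvertible_tensorPow hM₀ h
  have htrivP : Nonempty ((Scheme.Modules.pullback g).obj (CohB1.tensorPow M₀ h) ≅
      Coh.structureModule C) := by
    rw [← cl_eq_iff, cl_pullback_tensorPow g hM₀ h, hr₀', ← cl_tensorPow, cl_eq_iff]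
    exact hNt
  have hdegP : ∀ i, ArSurf.inter R (Over.mk p) (CohB1.tensorPow M₀ h) (Γ i) = 0 := by
    intro i
    rw [inter_tensorPow R (Over.mk p) (Γ i) hM₀ h, hdeg₀ i, mul_zero]
  obtain ⟨c, k, hc, hck⟩ := exists_vec_of_degree_zero R f p hX Γ hΓ g hg L hL hH0 _ hP htrivP hdegP
  apply (torsion_lift_iff R C X f p hH0 hX Γ hΓ g hg L hL h N M₀ hM₀ hr₀ (fun _ => 0) c ?_).mpr
  · -- Bezout
    have hgcd : Int.gcd (h : ℤ) (Models.multGcd R (Over.mk p) Γ : ℤ) = 1 := by
      rw [Int.gcd_natCast_natCast]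
      exact hcop
    have hbez := Int.gcd_eq_gcd_ab (h : ℤ) (Models.multGcd R (Over.mk p) Γ : ℤ)
    rw [hgcd] at hbez
    set A := Int.gcdA (h : ℤ) (Models.multGcd R (Over.mk p) Γ : ℤ)
    set B := Int.gcdB (h : ℤ) (Models.multGcd R (Over.mk p) Γ : ℤ)
    refine ⟨fun i => A * (c i : ℤ), B * k, fun i => ?_⟩
    have h1 := hck i
    push_cast at hbez
    push_cast
    rw [sub_zero]
    calc (c i : ℤ) = 1 * (c i : ℤ) := (one_mul _).symm
      _ = ((h : ℤ) * A + (Models.multGcd R (Over.mk p) Γ : ℤ) * B) * (c i : ℤ) := by rw [← hbez]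
      _ = (h : ℤ) * (A * (c i : ℤ)) + B * ((Models.multGcd R (Over.mk p) Γ : ℤ) * (c i : ℤ)) := by ring
      _ = _ := by rw [h1]; ring
  · rw [← cl_eq_iff, ← cl_mul_cl, cl_multiTwist, cl_multiTwist, hc]
    simp only [pow_zero, Finset.prod_const_one, mul_one]

end Groth.Agent.Lib.Helper1.Inter
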