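import Groth.Agent.Lib.Helper1.Inter15

/-!
# Arithmetic-surface versions (helper1)
-/

set_option autoImplicit false
universe u
open CategoryTheory CategoryTheory.Limits AlgebraicGeometry Opposite TopologicalSpace
noncomputable section

namespace Groth.Agent.Lib.Helper1.Inter

open Groth.Agent.Lib.Helper8.PicCl Groth.Agent.Lib.Helper1.CartCl Groth.Agent.Lib.Helper1.VertDiv
  Groth.Agent.Lib.Helper1.FibGeom

attribute [local instance] Groth.Agent.Lib.Helper8.PicCl.commMonoid

variable (R : Type u) [CommRing R] [IsDomain R] [IsDiscreteValuationRing R]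
  (X : Over (Spec (CommRingCat.of R)))
  {n : ℕ} (Γ : Fin n → ArSurf.VertComp R X) (hΓ : Models.IsComponentList R X Γ)
  (L : Fin n → X.left.Modules) (hL : ∀ i, ClSub.IsInverseOf (L i) (ClSub.idealMod (Γ i).ι.ker))

include hΓ hL in
/-- **S7921 core**: `Σ_j m_j (Γ_j · Γ_i) = 0` (no symmetry needed). -/
theorem sum_mult_mul_inter_eq_zero_left (hflat : Flat X.hom) (hft : LocallyOfFiniteType X.hom)
    (hreg : ∀ x : X.left, IsRegularLocalRing (X.left.presheaf.stalk x)) [IsProper X.hom] (i : Fin n) :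
    ∑ j, (Models.mult R X (Γ j) : ℤ) * ArSurf.inter R X (L j) (Γ i) = 0 := by
  have hinv := isInvertible_L R X Γ hΓ hflat hft hreg L hL
  rw [← inter_multiTwist R X (Γ i) L hinv (fun j => Models.mult R X (Γ j)),
    ← inter_structureModule R X (Γ i)]
  apply inter_eq_of_cl_eq
  rw [cl_multiTwist, ← Groth.Agent.Lib.Helper8.PicCl.one_def]
  exact prod_cl_pow_mult R X Γ hΓ hflat hft hreg L hL

include hΓ hL in
theorem sum_mult_mul_inter_eq_zero_of_isArithSurface (hX : ArSurf.IsArithSurface R X) (i : Fin n) :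
    ∑ j, (Models.mult R X (Γ j) : ℤ) * ArSurf.inter R X (L j) (Γ i) = 0 := by
  haveI := isProper_of_isArithSurface R X hX
  obtain ⟨hreg, -, -, hflat, -⟩ := hX
  exact sum_mult_mul_inter_eq_zero_left R X Γ hΓ L hL hflat inferInstance hreg i

end Groth.Agent.Lib.Helper1.Inter
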