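import Groth.Agent.Lib.Helper1.Inter16
import Groth.Agent.Lib.Helper24.ConnDim.Subdim

/-!
# Component lists from covers; the kernel of the intersection form (S8727 core) (helper1)
-/

set_option autoImplicit false
universe u
open CategoryTheory CategoryTheory.Limits AlgebraicGeometry Opposite TopologicalSpace
noncomputable section

namespace Groth.Agent.Lib.Helper1.Inter

open Groth.Agent.Lib.Helper8.PicCl Groth.Agent.Lib.Helper1.CartCl Groth.Agent.Lib.Helper1.VertDiv
  Groth.Agent.Lib.Helper1.FibGeom

variable (R : Type u) [CommRing R] [IsDomain R] [IsDiscreteValuationRing R]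
  (X : Over (Spec (CommRingCat.of R)))

omit [IsDomain R] [IsDiscreteValuationRing R] in
theorem spec_residue_base [IsLocalRing R] (z : Spec (CommRingCat.of (IsLocalRing.ResidueField R))) :
    (Spec.map (CommRingCat.ofHom (IsLocalRing.residue R))).base z = IsLocalRing.closedPoint R := by
  apply PrimeSpectrum.ext
  change Ideal.comap (IsLocalRing.residue R) z.asIdeal = IsLocalRing.maximalIdeal R
  have hz : z.asIdeal = ⊥ := by
    rcases Ideal.eq_bot_or_top z.asIdeal with h | h
    · exact h
    · exact absurd h z.isPrime.ne_top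
  rw [hz, ← RingHom.ker_eq_comap_bot, IsLocalRing.ker_residue]

/-- a vertical prime divisor lies in the closed fibre. -/
theorem range_subset_specialFibreSet' (Γ : ArSurf.VertComp R X) :
    Set.range (Γ.ι.base : Γ.curve.left → X.left) ⊆ Models.specialFibreSet R X := by
  rintro _ ⟨z, rfl⟩
  change X.hom.base (Γ.ι.base z) = IsLocalRing.closedPoint R
  have h1 : X.hom.base (Γ.ι.base z) = (Γ.ι ≫ X.hom).base z := rfl
  rw [h1, Γ.w]
  exact spec_residue_base R _

theorem isIrreducible_range (Γ : ArSurf.VertComp R X) :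
    IsIrreducible (Set.range (Γ.ι.base : Γ.curve.left → X.left)) := by
  rw [← Set.image_univ]
  exact (IrreducibleSpace.isIrreducible_univ _).image _ Γ.ι.base.hom.continuous.continuousOn

theorem isClosed_range (Γ : ArSurf.VertComp R X) :
    IsClosed (Set.range (Γ.ι.base : Γ.curve.left → X.left)) :=
  Γ.ι.isClosedEmbedding.isClosed_range

theorem dim_range (Γ : ArSurf.VertComp R X) :
    topologicalKrullDim ↥(Set.range (Γ.ι.base : Γ.curve.left → X.left)) = 1 := by
  rw [← Γ.dim_eq]
  have he : Topology.IsEmbedding (Γ.ι.base : Γ.curve.left → X.left) :=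
    Γ.ι.isClosedEmbedding.isEmbedding
  exact (IsHomeomorph.topologicalKrullDim_eq _ he.toHomeomorph.isHomeomorph).symm

/-- two vertical prime divisors, one contained in the other, have the same support. -/
theorem range_eq_of_subset (Γ₁ Γ₂ : ArSurf.VertComp R X)
    (h : Set.range (Γ₁.ι.base : Γ₁.curve.left → X.left) ⊆ Set.range (Γ₂.ι.base : Γ₂.curve.left → X.left)) :
    Set.range (Γ₁.ι.base : Γ₁.curve.left → X.left) = Set.range (Γ₂.ι.base : Γ₂.curve.left → X.left) := by
  by_contra hne
  have h1 := Groth.Agent.Lib.Helper24.ConnDimSub.dim_add_one_le (isIrreducible_range R X Γ₂)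
    (isClosed_range R X Γ₁) h hne
  rw [dim_range, dim_range] at h1
  exact absurd h1 (by decide)

/-- pairwise distinct vertical prime divisors covering the closed fibre are its components. -/
theorem isComponentList_of_cover {n : ℕ} (Γ : Fin n → ArSurf.VertComp R X)
    (hdist : Function.Injective fun i => Set.range ((Γ i).ι.base : (Γ i).curve.left → X.left))
    (hcov : ∀ x : X.left, x ∈ Models.specialFibreSet R X →
      ∃ i, x ∈ Set.range ((Γ i).ι.base : (Γ i).curve.left → X.left)) :
    Models.IsComponentList R X Γ := by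
  classical
  refine ⟨hdist, ?_⟩
  have key : ∀ S : Set X.left, IsIrreducible S → S ⊆ Models.specialFibreSet R X →
      ∃ i, S ⊆ Set.range ((Γ i).ι.base : (Γ i).curve.left → X.left) := by
    intro S hS hSF
    obtain ⟨z, hz, hSz⟩ := (isIrreducible_iff_sUnion_isClosed.mp hS)
      (Finset.univ.image fun i => Set.range ((Γ i).ι.base : (Γ i).curve.left → X.left))
      (by
        intro z hz
        rw [Finset.mem_image] at hz
        obtain ⟨i, -, rfl⟩ := hz
        exact isClosed_range R X (Γ i))
      (by
        intro x hx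
        obtain ⟨i, hi⟩ := hcov x (hSF hx)
        exact Set.mem_sUnion.mpr ⟨_, Finset.mem_coe.mpr (Finset.mem_image.mpr ⟨i, Finset.mem_univ _, rfl⟩), hi⟩)
    rw [Finset.mem_image] at hz
    obtain ⟨i, -, rfl⟩ := hz
    exact ⟨i, hSz⟩
  ext Z
  constructor
  · rintro ⟨i, rfl⟩
    refine ⟨⟨isIrreducible_range R X (Γ i), range_subset_specialFibreSet' R X (Γ i)⟩, ?_⟩
    rintro S ⟨hS, hSF⟩ hle
    obtain ⟨j, hj⟩ := key S hS hSF
    have h1 := range_eq_of_subset R X (Γ i) (Γ j) (hle.trans hj)
    change S ⊆ Set.range ((Γ i).ι.base : (Γ i).curve.left → X.left)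
    rw [h1]
    exact hj
  · intro hZ
    obtain ⟨j, hj⟩ := key Z hZ.1.1 hZ.1.2
    refine ⟨j, ?_⟩
    exact (hZ.2 ⟨isIrreducible_range R X (Γ j), range_subset_specialFibreSet' R X (Γ j)⟩ hj).antisymm hj

/-- **S8727 core**: the kernel of the intersection form is spanned by the closed fibre. -/
theorem kernel_iff (hX : ArSurf.IsArithSurface R X)
    (hconn : _root_.IsPreconnected (Models.specialFibreSet R X))
    {r : ℕ} (Γ : Fin r → ArSurf.VertComp R X) (hΓ : Models.IsComponentList R X Γ)
    (L : Fin r → X.left.Modules) (hL : ∀ j, ClSub.IsInverseOf (L j) (ClSub.idealMod ((Γ j).ι.ker)))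
    (a : Fin r → ℤ) :
    (∀ i, ∑ j, a j * ArSurf.inter R X (L j) (Γ i) = 0) ↔
      ∃ c : ℚ, ∀ i, (a i : ℚ) = c * (Models.mult R X (Γ i) : ℚ) := by
  haveI := isProper_of_isArithSurface R X hX
  obtain ⟨hreg, -, -, hflat, -⟩ := hX
  have hft : LocallyOfFiniteType X.hom := inferInstance
  have hform := inter_form_nonpos R X Γ hΓ hflat hft hreg L hL hconn a
  constructor
  · intro h
    apply hform.2.mp
    rw [Fintype.sum_prod_type]
    apply Finset.sum_eq_zero
    intro i _
    calc ∑ j, a i * a j * ArSurf.inter R X (L j) (Γ i)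
        = a i * ∑ j, a j * ArSurf.inter R X (L j) (Γ i) := by
          rw [Finset.mul_sum]
          apply Finset.sum_congr rfl
          intro j _
          ring
      _ = 0 := by rw [h i, mul_zero]
  · rintro ⟨c, hc⟩ i
    have h0 := sum_mult_mul_inter_eq_zero_left R X Γ hΓ L hL hflat hft hreg i
    have h1 : ((∑ j, a j * ArSurf.inter R X (L j) (Γ i) : ℤ) : ℚ) = 0 := by
      push_cast
      calc ∑ j, (a j : ℚ) * (ArSurf.inter R X (L j) (Γ i) : ℚ)
          = c * ((∑ j, (Models.mult R X (Γ j) : ℤ) * ArSurf.inter R X (L j) (Γ i) : ℤ) : ℚ) := by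
            push_cast
            rw [Finset.mul_sum]
            apply Finset.sum_congr rfl
            intro j _
            rw [hc j]
            ring
        _ = 0 := by rw [h0]; simp
    exact_mod_cast h1

/-- **S8727 core**, with the hypotheses as stated there. -/
theorem kernel_iff_of_cover (hX : ArSurf.IsArithSurface R X)
    (hconn : _root_.IsConnected {x : ↥X.left | X.hom.base x = IsLocalRing.closedPoint R})
    {r : ℕ} (Γ : Fin r → ArSurf.VertComp R X)
    (hdist : Function.Injective fun i => Set.range ((Γ i).ι.base : (Γ i).curve.left → X.left))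
    (hcov : ∀ x : ↥X.left, X.hom.base x = IsLocalRing.closedPoint R →
      ∃ i, x ∈ Set.range ((Γ i).ι.base : (Γ i).curve.left → X.left))
    (L : Fin r → X.left.Modules) (hL : ∀ j, ClSub.IsInverseOf (L j) (ClSub.idealMod ((Γ j).ι.ker)))
    (a : Fin r → ℤ) :
    (∀ i, ∑ j, a j * ArSurf.inter R X (L j) (Γ i) = 0) ↔
      ∃ c : ℚ, ∀ i, (a i : ℚ) = c * (Models.mult R X (Γ i) : ℚ) :=
  kernel_iff R X hX hconn.isPreconnected Γ (isComponentList_of_cover R X Γ hdist hcov) L hL a

end Groth.Agent.Lib.Helper1.Inter
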