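import Groth.Agent.Lib.Helper1.Inter17

/-!
# Vertical prime divisors of an arithmetic surface are fibre components and effective Cartier;
symmetry of the intersection numbers (S8730 core) (helper1)
-/

set_option autoImplicit false
universe u
open CategoryTheory CategoryTheory.Limits AlgebraicGeometry Opposite TopologicalSpace IsLocalRing
noncomputable section

namespace Groth.Agent.Lib.Helper1.Inter

open Groth.Agent.Lib.Helper8.PicCl Groth.Agent.Lib.Helper1.CartCl Groth.Agent.Lib.Helper1.VertDiv
  Groth.Agent.Lib.Helper1.FibGeom Groth.Agent.Lib.Helper13.StalkSpecLoc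

variable (R : Type u) [CommRing R] [IsDomain R] [IsDiscreteValuationRing R]
  (X : Over (Spec (CommRingCat.of R)))

/-- the generic point of a flat integral `X` does not lie in the closed fibre. -/
theorem genericPoint_notMem_specialFibreSet (hflat : Flat X.hom) [IsIntegral X.left] :
    genericPoint X.left ∉ Models.specialFibreSet R X := by
  intro hη
  set η := genericPoint X.left with hηdef
  obtain ⟨π, hπ⟩ := IsDiscreteValuationRing.exists_irreducible R
  have h1 := (Groth.Agent.Lib.Helper19.ArSec1.mem_specialFibre_iff R X η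
    (closedPoint (X.left.presheaf.stalk η))).mp (by
      rw [Scheme.fromSpecStalk_closedPoint]
      exact hη)
  have h2 : Models.stalkHom R X η π ∈ maximalIdeal (X.left.presheaf.stalk η) := by
    apply h1
    apply Ideal.mem_map_of_mem
    rw [hπ.maximalIdeal_eq]
    exact Ideal.mem_span_singleton_self π
  have hfield : IsField (X.left.presheaf.stalk η) :=
    isField_stalk_of_closure_mem_irreducibleComponents X.left _
      (by
        rw [irreducibleComponents_eq_singleton, Set.mem_singleton_iff]
        exact (genericPoint_spec X.left))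
  rw [IsLocalRing.isField_iff_maximalIdeal_eq.mp hfield, Ideal.mem_bot] at h2
  exact stalkHom_ne_zero R X hflat η hπ.ne_zero h2

/-- on a flat integral `X` of dimension two, every vertical prime divisor is a component of the closed fibre. -/
theorem maximal_range_of_dim (hflat : Flat X.hom) [IsIntegral X.left]
    (hdim : topologicalKrullDim X.left = 2) (Γ : ArSurf.VertComp R X) :
    Maximal (fun S : Set X.left => IsIrreducible S ∧ S ⊆ Models.specialFibreSet R X)
      (Set.range (Γ.ι.base : Γ.curve.left → X.left)) := by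
  refine ⟨⟨isIrreducible_range R X Γ, range_subset_specialFibreSet' R X Γ⟩, ?_⟩
  rintro S ⟨hS, hSF⟩ hle
  by_contra hnot
  have hC : IsIrreducible (closure S) := hS.closure
  have hCF : closure S ⊆ Models.specialFibreSet R X :=
    closure_minimal hSF (Models.isClosed_specialFibreSet R X)
  have hne : Set.range (Γ.ι.base : Γ.curve.left → X.left) ≠ closure S := by
    intro h
    apply hnot
    change S ⊆ Set.range (Γ.ι.base : Γ.curve.left → X.left)
    rw [h]
    exact subset_closure
  have h1 := Groth.Agent.Lib.Helper24.ConnDimSub.dim_add_one_le hC (isClosed_range R X Γ)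
    (hle.trans subset_closure) hne
  rw [dim_range] at h1
  have hCne : closure S ≠ Set.univ := by
    intro h
    exact genericPoint_notMem_specialFibreSet R X hflat (hCF (h ▸ Set.mem_univ _))
  have h2 := Groth.Agent.Lib.Helper24.ConnDimSub.dim_add_one_le
    (IrreducibleSpace.isIrreducible_univ X.left) isClosed_closure (Set.subset_univ (closure S)) hCne
  have h3 : topologicalKrullDim ↥(Set.univ : Set X.left) = 2 := by
    rw [← hdim]
    exact (Homeomorph.Set.univ X.left).isHomeomorph.topologicalKrullDim_eq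
  rw [h3] at h2
  have h4 : (1 + 1 + 1 : WithBot ℕ∞) ≤ 2 := le_trans (add_le_add_left h1 1) h2
  exact absurd h4 (by decide)

/-- in the stalk at `x`, the ideal of a component of the closed fibre is generated by one nonzero
element (version for a single vertical prime divisor). -/
theorem exists_compPrime_eq_span' (hflat : Flat X.hom)
    (hreg : ∀ x : X.left, IsRegularLocalRing (X.left.presheaf.stalk x))
    (Γ : ArSurf.VertComp R X)
    (hmax : Maximal (fun S : Set X.left => IsIrreducible S ∧ S ⊆ Models.specialFibreSet R X)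
      (closure {Models.genPtOf R X Γ})) (x : X.left) :
    ∃ g : X.left.presheaf.stalk x, g ≠ 0 ∧ compPrime R X x Γ = Ideal.span {g} := by
  haveI := hreg x
  haveI : IsDomain (X.left.presheaf.stalk x) :=
    Groth.Agent.Lib.helper19.isDomain_of_isRegularLocalRing _
  haveI : UniqueFactorizationMonoid (X.left.presheaf.stalk x) :=
    Groth.Agent.Lib.helper11.RegularUFD.ufd _
  by_cases h : Models.genPtOf R X Γ ⤳ x
  · obtain ⟨π, hπ⟩ := IsDiscreteValuationRing.exists_irreducible R
    set ϖ := Models.stalkHom R X x π with hϖdef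
    have hϖ : ϖ ≠ 0 := stalkHom_ne_zero R X hflat x hπ.ne_zero
    have hI : Ideal.map (Models.stalkHom R X x) (maximalIdeal R) = Ideal.span {ϖ} :=
      map_stalkHom_maximalIdeal R X x hπ
    have hFc := Models.isClosed_specialFibreSet R X
    have hF : ∀ a : Spec (X.left.presheaf.stalk x),
        (X.left.fromSpecStalk x) a ∈ Models.specialFibreSet R X ↔ Ideal.span {ϖ} ≤ a.asIdeal := by
      intro a
      rw [← hI]
      exact Groth.Agent.Lib.Helper19.ArSec1.mem_specialFibre_iff R X x a
    have hmin := primeOf_mem_minimalPrimes x _ hFc _ hF h hmax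
    obtain ⟨q, hq, -, hPq⟩ := FibFact.exists_prime_of_mem_minimalPrimes hϖ hmin
    exact ⟨q, hq.ne_zero, by rw [compPrime_of_specializes R X x Γ h, hPq]⟩
  · exact ⟨1, one_ne_zero, by
      rw [compPrime_of_not_specializes R X x Γ h, Ideal.span_singleton_one]⟩

/-- a component of the closed fibre of a regular flat `X` is an effective Cartier divisor (version for
a single vertical prime divisor). -/
theorem isEffCartierIdeal_ker' (hflat : Flat X.hom) (hft : LocallyOfFiniteType X.hom)
    (hreg : ∀ x : X.left, IsRegularLocalRing (X.left.presheaf.stalk x))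
    (Γ : ArSurf.VertComp R X)
    (hmax : Maximal (fun S : Set X.left => IsIrreducible S ∧ S ⊆ Models.specialFibreSet R X)
      (closure {Models.genPtOf R X Γ})) :
    BlowUp.IsEffCartierIdeal Γ.ι.ker := by
  intro x
  haveI : IsLocallyNoetherian X.left := LocallyOfFiniteType.isLocallyNoetherian X.hom
  obtain ⟨_, ⟨(V : X.left.Opens), hV, rfl⟩, hxV, -⟩ :=
    X.left.isBasis_affineOpens.exists_subset_of_mem_open (Set.mem_univ x) isOpen_univ
  haveI : IsNoetherianRing Γ(X.left, V) := IsLocallyNoetherian.component_noetherian ⟨V, hV⟩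
  haveI := hreg x
  haveI : IsDomain (X.left.presheaf.stalk x) :=
    Groth.Agent.Lib.helper19.isDomain_of_isRegularLocalRing _
  letI ax := X.left.presheaf.algebra_section_stalk (⟨x, hxV⟩ : V)
  haveI := hV.isLocalization_stalk ⟨x, hxV⟩
  obtain ⟨g, hg0, hg⟩ := exists_compPrime_eq_span' R X hflat hreg Γ hmax x
  have hmap : (Γ.ι.ker.ideal ⟨V, hV⟩).map (algebraMap Γ(X.left, V) (X.left.presheaf.stalk x)) =
      Ideal.span {g} := by
    rw [← hg]
    exact map_ker_ideal_germ R X Γ ⟨V, hV⟩ x hxV
  obtain ⟨h, a, hh, hS⟩ := FibFact.exists_away_principal_of_map_eq_span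
    (hV.primeIdealOf ⟨x, hxV⟩).asIdeal (X.left.presheaf.stalk x)
    (Γ.ι.ker.ideal ⟨V, hV⟩) g hg0 hmap
  have hxh : x ∈ X.left.basicOpen h := by
    rw [Scheme.mem_basicOpen X.left h x hxV]
    exact IsLocalization.map_units (X.left.presheaf.stalk x)
      (⟨h, hh⟩ : (hV.primeIdealOf ⟨x, hxV⟩).asIdeal.primeCompl)
  haveI := hV.isLocalization_basicOpen h
  obtain ⟨h1, h2⟩ := hS Γ(X.left, X.left.basicOpen h)
  refine ⟨X.left.affineBasicOpen (U := ⟨V, hV⟩) h, hxh,
    algebraMap Γ(X.left, V) Γ(X.left, X.left.basicOpen h) a, h2, ?_⟩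
  exact (Γ.ι.ker.map_ideal_basicOpen ⟨V, hV⟩ h).symm.trans h1

/-- **every vertical prime divisor of an arithmetic surface is an effective Cartier divisor.** -/
theorem isEffCartierIdeal_ker_of_isArithSurface (hX : ArSurf.IsArithSurface R X)
    (Γ : ArSurf.VertComp R X) : BlowUp.IsEffCartierIdeal Γ.ι.ker := by
  haveI := isProper_of_isArithSurface R X hX
  obtain ⟨hreg, hint, hdim, hflat, -⟩ := hX
  haveI := hint
  have hmax := maximal_range_of_dim R X hflat hdim Γ
  rw [range_eq_closure_genPtOf] at hmax
  exact isEffCartierIdeal_ker' R X hflat inferInstance hreg Γ hmax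

/-- the generic point of a vertical prime divisor does not lie on a different one. -/
theorem genPtOf_notMem_support_ker' (Γ₁ Γ₂ : ArSurf.VertComp R X)
    (hne : Set.range (Γ₁.ι.base : Γ₁.curve.left → X.left) ≠
      Set.range (Γ₂.ι.base : Γ₂.curve.left → X.left)) :
    Γ₁.ι.base (genericPoint ↥Γ₁.curve.left) ∉ (Γ₂.ι.ker.support : Set ↥X.left) := by
  intro h
  rw [support_ker_eq_range] at h
  apply hne
  apply range_eq_of_subset
  rw [range_eq_closure_genPtOf R X Γ₁]
  exact closure_minimal (Set.singleton_subset_iff.mpr h) (isClosed_range R X Γ₂)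

/-- **S8730 core**. -/
theorem inter_symm_of_ne (hX : ArSurf.IsArithSurface R X) (Γ₁ Γ₂ : ArSurf.VertComp R X)
    (hne : Set.range (Γ₁.ι.base : Γ₁.curve.left → X.left) ≠
      Set.range (Γ₂.ι.base : Γ₂.curve.left → X.left))
    (L₁ L₂ : X.left.Modules) (h₁ : ClSub.IsInverseOf L₁ (ClSub.idealMod Γ₁.ι.ker))
    (h₂ : ClSub.IsInverseOf L₂ (ClSub.idealMod Γ₂.ι.ker)) :
    ArSurf.inter R X L₂ Γ₁ = ArSurf.inter R X L₁ Γ₂ := by
  haveI := isProper_of_isArithSurface R X hX
  have hE1 := isEffCartierIdeal_ker_of_isArithSurface R X hX Γ₁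
  have hE2 := isEffCartierIdeal_ker_of_isArithSurface R X hX Γ₂
  have hL1 : PicF.IsInvertible L₁ :=
    Groth.Agent.Lib.Helper2.TensEq.isInvertible_of_isInverseOf
      (Groth.Agent.Lib.Helper28.IdealDual.isInvertible_idealMod _ hE1) h₁
  have hL2 : PicF.IsInvertible L₂ :=
    Groth.Agent.Lib.Helper2.TensEq.isInvertible_of_isInverseOf
      (Groth.Agent.Lib.Helper28.IdealDual.isInvertible_idealMod _ hE2) h₂
  have e1 := inter_eq_lengthH R X Γ₁ Γ₂.ι.ker hE2 (genPtOf_notMem_support_ker' R X Γ₁ Γ₂ hne)
    L₂ hL2 h₂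
  have e2 := inter_eq_lengthH R X Γ₂ Γ₁.ι.ker hE1 (genPtOf_notMem_support_ker' R X Γ₂ Γ₁ hne.symm)
    L₁ hL1 h₁
  rw [e1, e2, sup_comm]

end Groth.Agent.Lib.Helper1.Inter
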