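import Groth.Agent.Lib.Helper1.Inter18

/-!
# S7935 core: the pullback of an invertible module to a contracted curve has degree zero (helper1)
-/

set_option autoImplicit false
universe u
open CategoryTheory CategoryTheory.Limits AlgebraicGeometry Opposite TopologicalSpace IsLocalRing
noncomputable section

namespace Groth.Agent.Lib.Helper1.Inter

open Groth.Agent.Lib.Helper8.PicCl Groth.Agent.Lib.Helper1.CartCl Groth.Agent.Lib.Helper1.VertDiv
  Groth.Agent.Lib.Helper1.FibGeom

/-- the pullback of an invertible module along a morphism with one-point image is trivial. -/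
theorem pullback_trivial_of_range_singleton {Z Y : Scheme.{u}} (h : Z ⟶ Y) (y : Y)
    (hy : Set.range (h.base : Z → Y) = {y}) (M : Y.Modules) (hM : PicF.IsInvertible M) :
    Nonempty ((Scheme.Modules.pullback h).obj M ≅ Coh.structureModule Z) := by
  obtain ⟨U, g, hyU, hg⟩ := Groth.Agent.Lib.Helper28.GenLocus.exists_isGen M hM y
  have hle : (⊤ : Z.Opens) ≤ h ⁻¹ᵁ U := by
    intro z _
    show h.base z ∈ U
    have : h.base z ∈ ({y} : Set Y) := by rw [← hy]; exact ⟨z, rfl⟩
    rw [Set.mem_singleton_iff] at this
    rw [this]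
    exact hyU
  have h1 := Groth.Agent.Lib.Helper28.PullbackInv.isGen_pbs (f := h) hg
  exact nonempty_iso_of_isGen_top _ _ (h1.res hle)

variable (R : Type u) [CommRing R] [IsDomain R] [IsDiscreteValuationRing R]

/-- **S7935 core**. -/
theorem inter_pullback_eq_zero_of_contracted (X Y : Over (Spec (CommRingCat.of R))) (f : X ⟶ Y)
    (E : ArSurf.VertComp R X) (y : Y.left)
    (hE : Set.range ((E.ι ≫ f.left).base : E.curve.left → Y.left) = {y})
    (M : Y.left.Modules) (hM : PicF.IsInvertible M) :
    ArSurf.inter R X ((Scheme.Modules.pullback f.left).obj M) E = 0 := by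
  obtain ⟨e⟩ := pullback_trivial_of_range_singleton (E.ι ≫ f.left) y hE M hM
  have e' : (Scheme.Modules.pullback E.ι).obj ((Scheme.Modules.pullback f.left).obj M) ≅
      Coh.structureModule E.curve.left :=
    ((Scheme.Modules.pullbackComp E.ι f.left).app M) ≪≫ e
  unfold ArSurf.inter ArSurf.curveDeg FGA.eulerCharLE
  have h : ∀ i, Module.finrank (IsLocalRing.ResidueField R)
      (Coh.HH E.curve.left ((Scheme.Modules.pullback E.ι).obj
        ((Scheme.Modules.pullback f.left).obj M)) i) =
      Module.finrank (IsLocalRing.ResidueField R)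
        (Coh.HH E.curve.left (Coh.structureModule E.curve.left) i) := fun i =>
    Groth.Agent.Lib.Helper8.EulerK.hh_congr _ e' i
  simp only [h]
  exact sub_self _

end Groth.Agent.Lib.Helper1.Inter
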