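import Groth.Agent.Lib.Helper1.VertDiv17
import Groth.Agent.Lib.Helper8.InvInverse

/-!
# S19924 core: lifting torsion classes from the generic fibre (helper1)
-/

set_option autoImplicit false
universe u

open CategoryTheory CategoryTheory.Limits AlgebraicGeometry TopologicalSpace IsLocalRing

namespace Groth.Agent.Lib.Helper1.VertDiv

open Groth.Agent.Lib.Helper8.PicCl Groth.Agent.Lib.Helper1.CartCl Groth.Agent.Lib.Helper1.FibGeom

attribute [local instance] Groth.Agent.Lib.Helper8.PicCl.commMonoid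

section Pullback

variable {X Y : Scheme.{u}} (f : X ⟶ Y)

theorem cl_pullback_tensorMod {A B : Y.Modules} (hA : PicF.IsInvertible A) (hB : PicF.IsInvertible B) :
    PicF.cl ((Scheme.Modules.pullback f).obj (CohB1.tensorMod A B)) =
      PicF.cl ((Scheme.Modules.pullback f).obj A) * PicF.cl ((Scheme.Modules.pullback f).obj B) := by
  obtain ⟨ψ, -⟩ := Groth.Agent.Lib.Helper28.PullbackInv.exists_pullback_tensorMod_iso f hA hB
  rw [cl_mul_cl, cl_eq_iff]
  exact ⟨ψ⟩

theorem cl_pullback_unit :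
    PicF.cl ((Scheme.Modules.pullback f).obj (Coh.structureModule Y)) = 1 := by
  rw [Groth.Agent.Lib.Helper8.PicCl.one_def, cl_eq_iff]
  exact ⟨Groth.Agent.Lib.Helper16.RS.pullbackUnitIso f⟩

theorem cl_pullback_congr {A B : Y.Modules} (h : PicF.cl A = PicF.cl B) :
    PicF.cl ((Scheme.Modules.pullback f).obj A) = PicF.cl ((Scheme.Modules.pullback f).obj B) := by
  rw [cl_eq_iff] at h ⊢
  obtain ⟨e⟩ := h
  exact ⟨(Scheme.Modules.pullback f).mapIso e⟩

end Pullback

section Monoid

variable {M : Type*} [CommMonoid M] {n : ℕ}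

theorem prod_pow_add (l : Fin n → M) (v w : Fin n → ℕ) :
    ∏ i, l i ^ (v i + w i) = (∏ i, l i ^ v i) * ∏ i, l i ^ w i := by
  rw [← Finset.prod_mul_distrib]
  apply Finset.prod_congr rfl
  intro i _
  rw [pow_add]

theorem prod_pow_mul (l : Fin n → M) (h : ℕ) (v : Fin n → ℕ) :
    ∏ i, l i ^ (h * v i) = (∏ i, l i ^ v i) ^ h := by
  rw [← Finset.prod_pow]
  apply Finset.prod_congr rfl
  intro i _
  rw [← pow_mul, mul_comm]

theorem prod_pow_mul_inverse (l ι : Fin n → M) (h : ∀ i, l i * ι i = 1) (v : Fin n → ℕ) :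
    (∏ i, l i ^ v i) * (∏ i, ι i ^ v i) = 1 := by
  rw [← Finset.prod_mul_distrib]
  apply Finset.prod_eq_one
  intro i _
  rw [← mul_pow, h i, one_pow]

theorem eq_of_mul_eq_one {x y z : M} (h1 : x * z = 1) (h2 : y * z = 1) : x = y := by
  calc x = x * (y * z) := by rw [h2, mul_one]
    _ = (x * z) * y := by rw [mul_comm y z, mul_assoc]
    _ = y := by rw [h1, one_mul]

end Monoid

/-- **S19924 core**. -/
theorem torsion_lift_iff (R : Type u) [CommRing R] [IsDomain R] [IsDiscreteValuationRing R]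
    (C X : Scheme.{u}) (f : C ⟶ Spec (CommRingCat.of (FractionRing R))) (p : X ⟶ Spec (CommRingCat.of R))
    (hH0 : IsIso f.appTop)
    (hX : Models.IsRegularProperModel R X p C f)
    {n : ℕ} (Γ : Fin n → ArSurf.VertComp R (Over.mk p)) (hΓ : Models.IsComponentList R (Over.mk p) Γ)
    (g : C ⟶ X) (hg : IsPullback g f p (Spec.map (CommRingCat.ofHom (algebraMap R (FractionRing R)))))
    (L : Fin n → X.Modules) (hL : ∀ i, ClSub.IsInverseOf (L i) (ClSub.idealMod (Γ i).ι.ker))
    (h : ℕ) (N : C.Modules)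
    (M : X.Modules) (hM : PicF.IsInvertible M) (hMN : Nonempty ((Scheme.Modules.pullback g).obj M ≅ N))
    (a b : Fin n → ℕ)
    (hab : Nonempty (CohB1.tensorMod (CohB1.tensorPow M h) (FGA.multiTwist L a) ≅ FGA.multiTwist L b)) :
    (∃ M' : X.Modules, PicF.IsInvertible M' ∧ Nonempty (CohB1.tensorPow M' h ≅ Coh.structureModule X) ∧
        Nonempty ((Scheme.Modules.pullback g).obj M' ≅ N)) ↔
      ∃ (c : Fin n → ℤ) (e : ℤ), ∀ i, ((b i : ℤ) - (a i : ℤ)) =
        (h : ℤ) * c i + e * (Models.mult R (Over.mk p) (Γ i) : ℤ) := by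
  have hX' := hX
  obtain ⟨⟨hflat, hft, hqc, -⟩, hproper, hreg⟩ := hX'
  set I : Fin n → X.IdealSheafData := fun i => (Γ i).ι.ker with hI
  have hEC : ∀ i, BlowUp.IsEffCartierIdeal (I i) := fun i =>
    isEffCartierIdeal_ker R (Over.mk p) hflat hft hreg Γ hΓ i
  set lam : Fin n → PicF.Cl X := fun i => PicF.cl (L i) with hlam
  set io : Fin n → PicF.Cl X := fun i => PicF.cl (ClSub.idealMod (I i)) with hio
  have hli : ∀ i, lam i * io i = 1 := fun i => (isInverseOf_iff _ _).mp (hL i)
  have hECprod : ∀ c : Fin n → ℕ, BlowUp.IsEffCartierIdeal (∏ i, I i ^ c i) := fun c =>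
    isEffCartierIdeal_prod _ _ fun i _ => isEffCartierIdeal_pow (hEC i) _
  have hclprod : ∀ c : Fin n → ℕ, PicF.cl (ClSub.idealMod (∏ i, I i ^ c i)) = ∏ i, io i ^ c i := by
    intro c
    rw [cl_idealMod_prod _ _ fun i _ => isEffCartierIdeal_pow (hEC i) _]
    apply Finset.prod_congr rfl
    intro i _
    exact cl_idealMod_pow (hEC i) _
  have hiom : ∏ i, io i ^ Models.mult R (Over.mk p) (Γ i) = 1 := by
    rw [← hclprod]
    have h1 := specialFibreIdeal_eq_prod R (Over.mk p) hflat hreg Γ hΓ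
    have h2 := cl_idealMod_specialFibreIdeal R (Over.mk p) hflat
    rw [h1] at h2
    exact h2
  have hlm : ∏ i, lam i ^ Models.mult R (Over.mk p) (Γ i) = 1 := by
    have h1 := prod_pow_mul_inverse lam io hli (fun i => Models.mult R (Over.mk p) (Γ i))
    rw [hiom, mul_one] at h1
    exact h1
  -- the relation `μ^h ∏λ^a = ∏λ^b`
  have hab' : PicF.cl M ^ h * ∏ i, lam i ^ a i = ∏ i, lam i ^ b i := by
    rw [← cl_tensorPow, ← cl_multiTwist, ← cl_multiTwist, cl_mul_cl, cl_eq_iff]
    exact hab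
  have hMN' : PicF.cl ((Scheme.Modules.pullback g).obj M) = PicF.cl N := (cl_eq_iff _ _).mpr hMN
  constructor
  · rintro ⟨M', hM', ht, hr⟩
    obtain ⟨M'', hM'', hinv⟩ := Groth.Agent.Lib.Helper8.InvInverse.exists_isInverseOf hM'
    have hνμ' : PicF.cl M'' * PicF.cl M' = 1 := (isInverseOf_iff _ _).mp hinv
    have hμ'h : PicF.cl M' ^ h = 1 := by
      rw [← cl_tensorPow, Groth.Agent.Lib.Helper8.PicCl.one_def, cl_eq_iff]
      exact ht
    have hP : PicF.IsInvertible (CohB1.tensorMod M M'') :=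
      Groth.Agent.Lib.Helper28.GenLocus.isInvertible_tensorMod hM hM''
    have hr' : PicF.cl ((Scheme.Modules.pullback g).obj M') = PicF.cl N := (cl_eq_iff _ _).mpr hr
    have h1 : PicF.cl ((Scheme.Modules.pullback g).obj M'') *
        PicF.cl ((Scheme.Modules.pullback g).obj M') = 1 := by
      rw [← cl_pullback_tensorMod g hM'' hM', ← cl_pullback_unit g]
      apply cl_pullback_congr
      rw [← cl_mul_cl, hνμ', Groth.Agent.Lib.Helper8.PicCl.one_def]
    have h2 : PicF.cl ((Scheme.Modules.pullback g).obj (CohB1.tensorMod M M'')) = 1 := by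
      rw [cl_pullback_tensorMod g hM hM'', hMN', ← hr', mul_comm]
      exact h1
    have htrivP : Nonempty ((Scheme.Modules.pullback g).obj (CohB1.tensorMod M M'') ≅
        Coh.structureModule C) := by
      rw [← cl_eq_iff, ← Groth.Agent.Lib.Helper8.PicCl.one_def]
      exact h2
    obtain ⟨c', hc'⟩ := exists_cl_eq_prod_pow R C X f p hX Γ hΓ g hg L hL _ hP htrivP
    rw [← cl_mul_cl] at hc'
    have h3 : PicF.cl M = (∏ i, lam i ^ c' i) * PicF.cl M' := by
      calc PicF.cl M = PicF.cl M * (PicF.cl M'' * PicF.cl M') := by rw [hνμ', mul_one]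
        _ = (PicF.cl M * PicF.cl M'') * PicF.cl M' := by rw [mul_assoc]
        _ = _ := by rw [hc']
    have h4 : PicF.cl M ^ h = ∏ i, lam i ^ (h * c' i) := by
      rw [h3, mul_pow, hμ'h, mul_one, prod_pow_mul]
    rw [h4, ← prod_pow_add] at hab'
    obtain ⟨k, hk⟩ := (prod_cl_pow_eq_iff R C X f p hH0 hX Γ hΓ L hL _ _).mp hab'
    refine ⟨fun i => (c' i : ℤ), -k, fun i => ?_⟩
    have := hk i
    push_cast at this
    linarith
  · rintro ⟨c, e, hce⟩
    set cp : Fin n → ℕ := fun i => (c i).toNat with hcp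
    set cm : Fin n → ℕ := fun i => (-c i).toNat with hcm
    have hcpm : ∀ i, c i = (cp i : ℤ) - (cm i : ℤ) := fun i => (Int.toNat_sub_toNat_neg (c i)).symm
    set A := ClSub.idealMod (∏ i, I i ^ cp i) with hA
    set B := ClSub.idealMod (∏ i, I i ^ cm i) with hB
    have hAinv : PicF.IsInvertible A :=
      Groth.Agent.Lib.Helper28.IdealDual.isInvertible_idealMod _ (hECprod cp)
    have hBinv : PicF.IsInvertible B :=
      Groth.Agent.Lib.Helper28.IdealDual.isInvertible_idealMod _ (hECprod cm)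
    obtain ⟨D, hDinv, hDB⟩ := Groth.Agent.Lib.Helper8.InvInverse.exists_isInverseOf hBinv
    have hδβ : PicF.cl D * ∏ i, io i ^ cm i = 1 := by
      rw [← hclprod]
      exact (isInverseOf_iff _ _).mp hDB
    have hδ : PicF.cl D = ∏ i, lam i ^ cm i :=
      eq_of_mul_eq_one hδβ (prod_pow_mul_inverse lam io hli cm)
    have hMA : PicF.IsInvertible (CohB1.tensorMod M A) :=
      Groth.Agent.Lib.Helper28.GenLocus.isInvertible_tensorMod hM hAinv
    refine ⟨CohB1.tensorMod (CohB1.tensorMod M A) D,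
      Groth.Agent.Lib.Helper28.GenLocus.isInvertible_tensorMod hMA hDinv, ?_, ?_⟩
    · rw [← cl_eq_iff, cl_tensorPow, ← cl_mul_cl, ← cl_mul_cl, ← Groth.Agent.Lib.Helper8.PicCl.one_def, hδ, hA, hclprod]
      -- monoid computation
      set Λ := ∏ i, lam i ^ (a i + h * cp i) with hΛ
      have hΛu : Λ * ∏ i, io i ^ (a i + h * cp i) = 1 := prod_pow_mul_inverse lam io hli _
      have h2 : ∏ i, lam i ^ (b i + h * cm i) = Λ := by
        apply prod_pow_eq_of_int lam _ hlm _ _ e
        intro i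
        have h5 := hce i
        have h6 := hcpm i
        push_cast
        rw [h6, mul_sub] at h5
        linarith
      have h3 : (∏ i, io i ^ cp i) ^ h * (∏ i, lam i ^ cp i) ^ h = 1 := by
        rw [← mul_pow, mul_comm, prod_pow_mul_inverse lam io hli cp, one_pow]
      have h1 : (PicF.cl M * (∏ i, io i ^ cp i) * ∏ i, lam i ^ cm i) ^ h * Λ = Λ := by
        calc (PicF.cl M * (∏ i, io i ^ cp i) * ∏ i, lam i ^ cm i) ^ h * Λ
            = PicF.cl M ^ h * (∏ i, io i ^ cp i) ^ h * (∏ i, lam i ^ cm i) ^ h *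
              ((∏ i, lam i ^ a i) * (∏ i, lam i ^ cp i) ^ h) := by
                rw [hΛ, prod_pow_add, prod_pow_mul, mul_pow, mul_pow]
          _ = PicF.cl M ^ h * (∏ i, lam i ^ a i) * (∏ i, lam i ^ cm i) ^ h *
              ((∏ i, io i ^ cp i) ^ h * (∏ i, lam i ^ cp i) ^ h) := by
                simp only [mul_assoc, mul_comm, mul_left_comm]
          _ = PicF.cl M ^ h * (∏ i, lam i ^ a i) * (∏ i, lam i ^ cm i) ^ h := by rw [h3, mul_one]
          _ = Λ := by rw [hab', ← h2, prod_pow_add, prod_pow_mul]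
      calc (PicF.cl M * (∏ i, io i ^ cp i) * ∏ i, lam i ^ cm i) ^ h
          = (PicF.cl M * (∏ i, io i ^ cp i) * ∏ i, lam i ^ cm i) ^ h *
              (Λ * ∏ i, io i ^ (a i + h * cp i)) := by rw [hΛu, mul_one]
        _ = ((PicF.cl M * (∏ i, io i ^ cp i) * ∏ i, lam i ^ cm i) ^ h * Λ) *
              ∏ i, io i ^ (a i + h * cp i) := (mul_assoc _ _ _).symm
        _ = 1 := by rw [h1, hΛu]
    · rw [← cl_eq_iff, cl_pullback_tensorMod g hMA hDinv, cl_pullback_tensorMod g hM hAinv, hMN']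
      have hA1 : PicF.cl ((Scheme.Modules.pullback g).obj A) = 1 := by
        rw [Groth.Agent.Lib.Helper8.PicCl.one_def, cl_eq_iff]
        exact pullback_idealMod_trivial R g f p hg Γ hΓ cp
      have hB1 : PicF.cl ((Scheme.Modules.pullback g).obj B) = 1 := by
        rw [Groth.Agent.Lib.Helper8.PicCl.one_def, cl_eq_iff]
        exact pullback_idealMod_trivial R g f p hg Γ hΓ cm
      have hD1 : PicF.cl ((Scheme.Modules.pullback g).obj D) = 1 := by
        have h1 : PicF.cl ((Scheme.Modules.pullback g).obj D) *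
            PicF.cl ((Scheme.Modules.pullback g).obj B) = 1 := by
          rw [← cl_pullback_tensorMod g hDinv hBinv, ← cl_pullback_unit g]
          apply cl_pullback_congr
          rw [← cl_mul_cl, (isInverseOf_iff _ _).mp hDB, Groth.Agent.Lib.Helper8.PicCl.one_def]
        rw [hB1, mul_one] at h1
        exact h1
      rw [hA1, hD1, mul_one, mul_one]

end Groth.Agent.Lib.Helper1.VertDiv
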