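import Groth.Agent.Lib.Helper1.Inter1
import Groth.Agent.Lib.Helper1.VertDiv18
import Groth.Agent.Lib.Helper8.EffCart
import Groth.Agent.Lib.Helper8.DegGroup
import Groth.Agent.Lib.Helper8.PtSupp
import Groth.Agent.Lib.Helper2.IntNum1

/-!
# The degree of `O(D)` restricted to an integral curve not contained in `D` (helper1)

For an integral proper curve `Z` over a field `k`, a morphism `f : Z ⟶ Y`, and an effective Cartier ideal `J` on `Y`
whose support does not contain the image of the generic point of `Z`: if `L ⊗ idealMod J ≅ O_Y` then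
`deg_k (f^* L) = dim_k H⁰(Z, O_Z / J O_Z) ≥ 0`, with equality iff `f⁻¹ (supp J) = ∅`.
-/

set_option autoImplicit false
universe u
open CategoryTheory CategoryTheory.Limits AlgebraicGeometry Opposite TopologicalSpace
noncomputable section

namespace Groth.Agent.Lib.Helper1.Inter

open Groth.Agent.Lib.Helper28 Groth.Agent.Lib.Helper28.QCohLoc Groth.Agent.Lib.Helper28.GenLocus
  Groth.Agent.Lib.Helper28.IdealDual Groth.Agent.Lib.Helper28.PullbackInv
  Groth.Agent.Lib.Helper1.CartCl Groth.Agent.Lib.Helper8.PicCl Groth.Agent.Lib.Helper1.VertDiv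

attribute [local instance] Groth.Agent.Lib.Helper8.PicCl.commMonoid

section Integral

variable {Z Y : Scheme.{u}} [IsIntegral Z] (f : Z ⟶ Y) (J : Y.IdealSheafData)

/-- the inverse image of an effective Cartier ideal on an integral scheme whose generic point avoids the
support is effective Cartier. -/
theorem isEffCartierIdeal_comap_of_integral (hJ : BlowUp.IsEffCartierIdeal J)
    (hgen : f.base (genericPoint Z) ∉ J.support) : BlowUp.IsEffCartierIdeal (J.comap f) := by
  intro x
  obtain ⟨V, hxV, g, hg, hJg⟩ := hJ (f.base x)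
  obtain ⟨_, ⟨(U : Z.Opens), hU, rfl⟩, hxU, hUle⟩ :=
    Z.isBasis_affineOpens.exists_subset_of_mem_open
      (show x ∈ ((f ⁻¹ᵁ V.1 : Z.Opens) : Set Z) from hxV) (f ⁻¹ᵁ V.1).isOpen
  have h2 : U ≤ f ⁻¹ᵁ V.1 := hUle
  have h4 : (J.comap f).ideal ⟨U, hU⟩ = Ideal.span {(f.appLE V.1 U h2).hom g} := by
    rw [Groth.Agent.Lib.Helper29.EffCart.ideal_comap_eq_map J f V ⟨U, hU⟩ h2, hJg, Ideal.map_span,
      Set.image_singleton]
  haveI : Nonempty U := ⟨⟨x, hxU⟩⟩
  haveI : IsDomain Γ(Z, U) := inferInstance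
  refine ⟨⟨U, hU⟩, hxU, _, ?_, h4⟩
  apply mem_nonZeroDivisors_of_ne_zero
  intro h0
  rw [h0] at h4
  have hη : genericPoint Z ∈ U :=
    ((genericPoint_spec Z).mem_open_set_iff U.isOpen).mpr ⟨x, Set.mem_univ x, hxU⟩
  have h5 : genericPoint Z ∈ (J.comap f).support := by
    rw [Scheme.IdealSheafData.mem_support_iff_of_mem (U := ⟨U, hU⟩) hη, h4,
      Scheme.mem_zeroLocus_iff]
    intro s hs
    have hs' : s = 0 := by
      have : s ∈ (Ideal.span {(0 : Γ(Z, U))} : Ideal Γ(Z, U)) := hs
      rw [Ideal.span_singleton_eq_bot.mpr rfl] at this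
      exact this
    rw [hs', Scheme.basicOpen_zero]
    exact fun h => h
  rw [Scheme.IdealSheafData.support_comap] at h5
  exact hgen h5

end Integral

section Curve

variable (k : Type u) [Field k] (Z : Scheme.{u}) [Z.Over (Spec (CommRingCat.of k))]
  [IsProper (Z ↘ Spec (CommRingCat.of k))] [IsIntegral Z]
  {Y : Scheme.{u}} (f : Z ⟶ Y) (J : Y.IdealSheafData)

omit [Field k] [Z.Over (Spec (CommRingCat.of k))] [IsProper (Z ↘ Spec (CommRingCat.of k))] in
/-- points of the inverse image of the support are closed. -/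
theorem isClosed_singleton_of_mem_support_comap (hdim : topologicalKrullDim Z ≤ 1)
    (hgen : f.base (genericPoint Z) ∉ J.support) (x : Z) (hx : x ∈ (J.comap f).support) :
    IsClosed ({x} : Set Z) := by
  apply Groth.Agent.Lib.Helper8.CurveDeg.isClosed_singleton_of_ne_genericPoint hdim
  rintro rfl
  rw [Scheme.IdealSheafData.support_comap] at hx
  exact hgen hx

omit [IsIntegral Z] in
/-- `f^* L` is inverse to the ideal module of the inverse image ideal. -/
theorem isInverseOf_pullback (hJ : BlowUp.IsEffCartierIdeal J)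
    (hJf : BlowUp.IsEffCartierIdeal (J.comap f))
    (L : Y.Modules) (hL : PicF.IsInvertible L) (hLJ : ClSub.IsInverseOf L (ClSub.idealMod J)) :
    ClSub.IsInverseOf ((Scheme.Modules.pullback f).obj L) (ClSub.idealMod (J.comap f)) := by
  rw [isInverseOf_iff]
  have hJinv : PicF.IsInvertible (ClSub.idealMod J) := isInvertible_idealMod J hJ
  have h1 : PicF.cl (ClSub.idealMod (J.comap f)) =
      PicF.cl ((Scheme.Modules.pullback f).obj (ClSub.idealMod J)) := by
    rw [cl_eq_iff]
    obtain ⟨e⟩ := nonempty_pullback_idealMod_iso (f := f) hJ hJf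
    exact ⟨e.symm⟩
  rw [h1, ← cl_pullback_tensorMod f hL hJinv, ← cl_pullback_unit f]
  apply cl_pullback_congr
  rw [← cl_mul_cl, (isInverseOf_iff _ _).mp hLJ, Groth.Agent.Lib.Helper8.PicCl.one_def]

/-- **the degree of `f^* O(D)` is `h⁰(O_{f⁻¹ D})`.** -/
theorem curveDeg_pullback_eq (hdim : topologicalKrullDim Z ≤ 1) (hJ : BlowUp.IsEffCartierIdeal J)
    (hgen : f.base (genericPoint Z) ∉ J.support)
    (L : Y.Modules) (hL : PicF.IsInvertible L) (hLJ : ClSub.IsInverseOf L (ClSub.idealMod J)) :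
    ArSurf.curveDeg k Z ((Scheme.Modules.pullback f).obj L) =
      (Module.finrank k (Coh.HH Z (ClSub.quotMod (J.comap f)) 0) : ℤ) := by
  have hJf := isEffCartierIdeal_comap_of_integral f J hJ hgen
  have hL' : PicF.IsInvertible ((Scheme.Modules.pullback f).obj L) := isInvertible_pullback f hL
  have hinv := isInverseOf_pullback Z f J hJ hJf L hL hLJ
  have hO : FlatMod.IsFinLocFreeOfRank 1 (Coh.structureModule Z) :=
    Groth.Agent.Lib.Helper6.K0Op.isFinLocFreeOfRank_one_of_isInvertible _
      (Groth.Agent.Lib.Helper8.CurveDeg.isInvertible_structureModule Z)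
  have h1 := Groth.Agent.Lib.Helper8.EffCart.euler_tensor_inverse k Z (J.comap f)
    (isClosed_singleton_of_mem_support_comap Z f J hdim hgen) _ hL' hinv 1 _ hO
  obtain ⟨u⟩ := Groth.Agent.Lib.Helper28.AmpleUnit.nonempty_tensor_unit_iso
    ((Scheme.Modules.pullback f).obj L)
  have h2 := Groth.Agent.Lib.Helper8.EulerK.euler_congr k
    (Groth.Agent.Lib.Helper6.K0Inv.braidIso (Coh.structureModule Z)
      ((Scheme.Modules.pullback f).obj L) ≪≫ u)
  rw [h2] at h1
  unfold ArSurf.curveDeg
  rw [Groth.Agent.Lib.Helper2.IntNum1.eulerCharLE_eq_euler k Z 1 (by exact_mod_cast hdim),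
    Groth.Agent.Lib.Helper2.IntNum1.eulerCharLE_eq_euler k Z 1 (by exact_mod_cast hdim), h1]
  push_cast
  ring

end Curve

end Groth.Agent.Lib.Helper1.Inter
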