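import Groth.Agent.Lib.Helper1.Inter19

/-!
# S8729 core: self-intersection and the conormal sheaf (helper1)
-/

set_option autoImplicit false
universe u
open CategoryTheory CategoryTheory.Limits AlgebraicGeometry Opposite TopologicalSpace IsLocalRing
noncomputable section

namespace Groth.Agent.Lib.Helper1.Inter

open Groth.Agent.Lib.Helper8.PicCl Groth.Agent.Lib.Helper1.CartCl Groth.Agent.Lib.Helper1.VertDiv
  Groth.Agent.Lib.Helper1.FibGeom

attribute [local instance] Groth.Agent.Lib.Helper8.PicCl.commMonoid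

variable (R : Type u) [CommRing R] [IsDomain R] [IsDiscreteValuationRing R]
  (X : Over (Spec (CommRingCat.of R)))

/-- **S8729 core**: `(Γ·Γ) = -deg_k(I/I²)`. -/
theorem self_inter_eq_neg_curveDeg_conormal (hX : ArSurf.IsArithSurface R X) (Γ : ArSurf.VertComp R X)
    (L : X.left.Modules) (hL : ClSub.IsInverseOf L (ClSub.idealMod Γ.ι.ker)) :
    ArSurf.inter R X L Γ =
      - ArSurf.curveDeg (IsLocalRing.ResidueField R) Γ.curve.left (Omega.conormal Γ.ι) := by
  haveI := isProper_of_isArithSurface R X hX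
  have hE := isEffCartierIdeal_ker_of_isArithSurface R X hX Γ
  have hI : PicF.IsInvertible (ClSub.idealMod Γ.ι.ker) :=
    Groth.Agent.Lib.Helper28.IdealDual.isInvertible_idealMod _ hE
  have hLinv : PicF.IsInvertible L :=
    Groth.Agent.Lib.Helper2.TensEq.isInvertible_of_isInverseOf hI hL
  have h1 : ArSurf.inter R X (CohB1.tensorMod L (ClSub.idealMod Γ.ι.ker)) Γ = 0 := by
    rw [← inter_structureModule R X Γ]
    apply inter_eq_of_cl_eq
    rw [← cl_mul_cl, (isInverseOf_iff _ _).mp hL, Groth.Agent.Lib.Helper8.PicCl.one_def]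
  rw [inter_tensorMod R X Γ hLinv hI] at h1
  have h2 : ArSurf.curveDeg (IsLocalRing.ResidueField R) Γ.curve.left (Omega.conormal Γ.ι) =
      ArSurf.inter R X (ClSub.idealMod Γ.ι.ker) Γ := rfl
  rw [h2]
  linarith

end Groth.Agent.Lib.Helper1.Inter
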