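import Groth.Agent.Lib.Helper4.UnitKer
import Groth.Agent.Lib.Helper17.Serre
import Groth.Agent.Lib.Helper17.CohKer
import Groth.Agent.Lib.Helper6.IdealMul
import Groth.Agent.Lib.Helper28.ModIsoCover

/-!
# Helper1 — the thickening sequence `0 → i_* i^* I → O_X/(I·J) → O_X/I → 0` (`J = ker i`)
-/
set_option backward.isDefEq.respectTransparency.types false
set_option autoImplicit false
set_option maxHeartbeats 400000
universe u
open CategoryTheory CategoryTheory.Limits AlgebraicGeometry Opposite TopologicalSpace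

noncomputable section

namespace Groth.Agent.Lib.Helper1.Inter21

open Groth.Agent.Lib.Helper4.UnitKer Groth.Agent.Lib.Helper17.Serre Groth.Agent.Lib.Helper17.CohKer
  Groth.Agent.Lib.Helper28.QCohLoc Groth.Agent.Lib.Helper6.IdealMul

variable {X : Scheme.{u}}

/-- sections of the ideal module over an affine open lie in the ideal -/
theorem idealModι_app_mem (I : X.IdealSheafData) (U : X.affineOpens) (n : Γ(ClSub.idealMod I, U.1)) :
    (show Γ(X, U.1) from (ClSub.idealModι I).app U.1 n) ∈ I.ideal U := by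
  have h := app_kernel_ι_app (ClSub.toSubscheme I) U.1 n
  rw [← I.ker_subschemeι_app U, RingHom.mem_ker]
  exact h

/-- elements of the ideal over an affine open are sections of the ideal module -/
theorem exists_idealModι_app_eq (I : X.IdealSheafData) (U : X.affineOpens) (a : Γ(X, U.1))
    (ha : a ∈ I.ideal U) :
    ∃ n : Γ(ClSub.idealMod I, U.1), (show Γ(X, U.1) from (ClSub.idealModι I).app U.1 n) = a := by
  rw [← I.ker_subschemeι_app U, RingHom.mem_ker] at ha
  exact exists_kernel_app_eq (ClSub.toSubscheme I) U.1 (show Γ(Coh.structureModule X, U.1) from a) ha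

/-- the quotient map kills the ideal on affine opens -/
theorem toSubscheme_app_eq_zero (I : X.IdealSheafData) (U : X.affineOpens)
    (a : Γ(Coh.structureModule X, U.1)) (ha : (show Γ(X, U.1) from a) ∈ I.ideal U) :
    (ClSub.toSubscheme I).app U.1 a = 0 := by
  rw [← I.ker_subschemeι_app U, RingHom.mem_ker] at ha
  exact ha

section thicken

variable {Z : Scheme.{u}} (i : Z ⟶ X) [IsClosedImmersion i] (I : X.IdealSheafData)

/-- the quotient map `O_X ⟶ O_X/I` kills the ideal module of `I * J` -/
theorem idealModι_mul_comp_toSubscheme (J : X.IdealSheafData) :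
    ClSub.idealModι (I * J) ≫ ClSub.toSubscheme I = 0 := by
  apply hom_ext_affine
  intro U s
  have h1 := idealModι_app_mem (I * J) U s
  have h2 : (show Γ(X, U.1) from (ClSub.idealModι (I * J)).app U.1 s) ∈ I.ideal U := by
    have hle : (I * J).ideal U ≤ I.ideal U := Ideal.mul_le_left (I := I.ideal U) (J := J.ideal U)
    exact hle h1
  exact toSubscheme_app_eq_zero I U _ h2

/-- the restriction `O_X/(I·J) ⟶ O_X/I` -/
def quotRes (J : X.IdealSheafData) : ClSub.quotMod (I * J) ⟶ ClSub.quotMod I :=
  (Abelian.epiIsCokernelOfKernel _ (kernelIsKernel (ClSub.toSubscheme (I * J)))).desc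
    (CokernelCofork.ofπ (ClSub.toSubscheme I) (idealModι_mul_comp_toSubscheme I J))

theorem toSubscheme_quotRes (J : X.IdealSheafData) :
    ClSub.toSubscheme (I * J) ≫ quotRes I J = ClSub.toSubscheme I :=
  (Abelian.epiIsCokernelOfKernel _ (kernelIsKernel (ClSub.toSubscheme (I * J)))).fac
    (CokernelCofork.ofπ (ClSub.toSubscheme I) (idealModι_mul_comp_toSubscheme I J)) WalkingParallelPair.one

instance (J : X.IdealSheafData) : Epi (quotRes I J) :=
  epi_of_epi_fac (toSubscheme_quotRes I J)

/-- `I ⟶ O_X ⟶ O_X/(I·J)` -/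
def toQuotMul : ClSub.idealMod I ⟶ ClSub.quotMod (I * i.ker) :=
  ClSub.idealModι I ≫ ClSub.toSubscheme (I * i.ker)

theorem toQuotMul_quotRes : toQuotMul i I ≫ quotRes I i.ker = 0 := by
  unfold toQuotMul
  rw [Category.assoc, toSubscheme_quotRes]
  exact kernel.condition _

theorem kernel_η_comp_toQuotMul :
    kernel.ι (η i (ClSub.idealMod I)) ≫ toQuotMul i I = 0 := by
  apply hom_ext_affine
  intro U s
  have h0 : (η i (ClSub.idealMod I)).app U.1 ((kernel.ι (η i (ClSub.idealMod I))).app U.1 s) = 0 :=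
    app_kernel_ι_app _ U.1 s
  have h1 := mem_of_η_app_eq_zero i (ClSub.idealMod I) U _ h0
  set n := (kernel.ι (η i (ClSub.idealMod I))).app U.1 s with hn
  have key : ∀ m : Γ(ClSub.idealMod I, U.1),
      m ∈ (i.ker.ideal U) • (⊤ : Submodule Γ(X, U.1) Γ(ClSub.idealMod I, U.1)) →
      (toQuotMul i I).app U.1 m = 0 := by
    intro m hm
    refine Submodule.smul_induction_on hm (fun b hb m' _ => ?_) (fun x y hx hy => ?_)
    · have h2 := idealModι_app_mem I U m'
      have h3 : (show Γ(X, U.1) from (ClSub.idealModι I).app U.1 (b • m')) ∈ (I * i.ker).ideal U := by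
        rw [Scheme.Modules.Hom.app_smul]
        exact Ideal.mul_mem_mul_rev h2 hb
      exact toSubscheme_app_eq_zero (I * i.ker) U _ h3
    · rw [map_add, hx, hy, add_zero]
  exact key n h1

/-- the induced map `i_* i^* I ⟶ O_X/(I·J)` -/
def thickenι : (Scheme.Modules.pushforward i).obj ((Scheme.Modules.pullback i).obj (ClSub.idealMod I)) ⟶
    ClSub.quotMod (I * i.ker) :=
  haveI := epi_η i (ClSub.idealMod I)
  (Abelian.epiIsCokernelOfKernel _ (kernelIsKernel (η i (ClSub.idealMod I)))).desc
    (CokernelCofork.ofπ (toQuotMul i I) (kernel_η_comp_toQuotMul i I))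

theorem η_thickenι : η i (ClSub.idealMod I) ≫ thickenι i I = toQuotMul i I :=
  haveI := epi_η i (ClSub.idealMod I)
  (Abelian.epiIsCokernelOfKernel _ (kernelIsKernel (η i (ClSub.idealMod I)))).fac
    (CokernelCofork.ofπ (toQuotMul i I) (kernel_η_comp_toQuotMul i I)) WalkingParallelPair.one

theorem thickenι_quotRes : thickenι i I ≫ quotRes I i.ker = 0 := by
  haveI := epi_η i (ClSub.idealMod I)
  rw [← cancel_epi (η i (ClSub.idealMod I)), ← Category.assoc, η_thickenι, toQuotMul_quotRes, comp_zero]

/-- the unit kills `J(U) · G(U)` -/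
theorem η_app_eq_zero_of_mem (G : X.Modules) [G.IsQuasicoherent] (U : X.affineOpens) (m : Γ(G, U.1))
    (hm : m ∈ (i.ker.ideal U) • (⊤ : Submodule Γ(X, U.1) Γ(G, U.1))) :
    (η i G).app U.1 m = 0 := by
  refine Submodule.smul_induction_on hm (fun a ha s _ => ?_) (fun x y hx hy => ?_)
  · rw [Scheme.Hom.ker_apply, RingHom.mem_ker] at ha
    rw [Scheme.Modules.Hom.app_smul]
    have : (a • ((η i G).app U.1 s) :
        Γ((Scheme.Modules.pushforward i).obj ((Scheme.Modules.pullback i).obj G), U.1)) =
        ((i.app U.1).hom a • (show Γ((Scheme.Modules.pullback i).obj G, i ⁻¹ᵁ U.1) from (η i G).app U.1 s) :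
          Γ((Scheme.Modules.pullback i).obj G, i ⁻¹ᵁ U.1)) := rfl
    rw [this, ha, zero_smul]
    rfl
  · rw [map_add, hx, hy, add_zero]

/-- a section of the ideal module whose image lies in `I(U) J(U)` lies in `J(U) · I(U)` -/
theorem mem_smul_top_of_idealModι_mem (U : X.affineOpens) (n : Γ(ClSub.idealMod I, U.1))
    (hn : (show Γ(X, U.1) from (ClSub.idealModι I).app U.1 n) ∈ I.ideal U * i.ker.ideal U) :
    n ∈ (i.ker.ideal U) • (⊤ : Submodule Γ(X, U.1) Γ(ClSub.idealMod I, U.1)) := by
  have key : ∀ x : Γ(X, U.1), x ∈ I.ideal U * i.ker.ideal U →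
      ∃ m : Γ(ClSub.idealMod I, U.1),
        m ∈ (i.ker.ideal U) • (⊤ : Submodule Γ(X, U.1) Γ(ClSub.idealMod I, U.1)) ∧
        (show Γ(X, U.1) from (ClSub.idealModι I).app U.1 m) = x := by
    intro x hx
    refine Submodule.mul_induction_on hx (fun a ha b hb => ?_) (fun x y hx hy => ?_)
    · obtain ⟨na, hna⟩ := exists_idealModι_app_eq I U a ha
      refine ⟨b • na, Submodule.smul_mem_smul hb Submodule.mem_top, ?_⟩
      rw [Scheme.Modules.Hom.app_smul]
      change b * (show Γ(X, U.1) from (ClSub.idealModι I).app U.1 na) = a * b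
      rw [hna, mul_comm]
    · obtain ⟨mx, hmx, hx'⟩ := hx
      obtain ⟨my, hmy, hy'⟩ := hy
      refine ⟨mx + my, Submodule.add_mem _ hmx hmy, ?_⟩
      rw [map_add]
      change (show Γ(X, U.1) from (ClSub.idealModι I).app U.1 mx) +
        (show Γ(X, U.1) from (ClSub.idealModι I).app U.1 my) = x + y
      rw [hx', hy']
  obtain ⟨m, hm, hmn⟩ := key _ hn
  have : m = n := kernel_ι_app_injective (ClSub.toSubscheme I) U.1 hmn
  rw [← this]
  exact hm

theorem affine_cover (x : X) : ∃ U : X.affineOpens, x ∈ U.1 := by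
  obtain ⟨W, hW, hxW, -⟩ := Opens.isBasis_iff_nbhd.mp X.isBasis_affineOpens
    (show x ∈ (⊤ : X.Opens) from trivial)
  exact ⟨⟨W, hW⟩, hxW⟩

theorem thickenι_app (U : X.Opens) (n : Γ(ClSub.idealMod I, U)) :
    (thickenι i I).app U ((η i (ClSub.idealMod I)).app U n) =
      (ClSub.toSubscheme (I * i.ker)).app U ((ClSub.idealModι I).app U n) := by
  have h := congrArg (fun ψ : (ClSub.idealMod I ⟶ ClSub.quotMod (I * i.ker)) => ψ.app U n) (η_thickenι i I)
  exact h

instance mono_thickenι : Mono (thickenι i I) := by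
  haveI : ((Scheme.Modules.pushforward i).obj ((Scheme.Modules.pullback i).obj (ClSub.idealMod I))).IsQuasicoherent :=
    isQuasicoherent_pushforward i _
  refine mono_of_affine_cover (thickenι i I) (fun U : X.affineOpens => U.1) (fun U => U.2) affine_cover
    (fun U => isLocOn_of_isQuasicoherent _ U.2) (fun U => isLocOn_of_isQuasicoherent _ U.2) (fun U => ?_)
  have key : ∀ y, (thickenι i I).app U.1 y = 0 → y = 0 := by
    intro y hy
    obtain ⟨n, rfl⟩ := η_app_surjective i (ClSub.idealMod I) U y
    rw [thickenι_app] at hy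
    have h1 : (show Γ(X, U.1) from (ClSub.idealModι I).app U.1 n) ∈ (I * i.ker).ideal U := by
      rw [← (I * i.ker).ker_subschemeι_app U, RingHom.mem_ker]
      exact hy
    exact η_app_eq_zero_of_mem i _ U n (mem_smul_top_of_idealModι_mem i I U n h1)
  intro x x' hxx'
  have h0 : (thickenι i I).app U.1 (x - x') = 0 := by
    have : (thickenι i I).app U.1 (x - x') = (thickenι i I).app U.1 x - (thickenι i I).app U.1 x' :=
      map_sub _ _ _
    rw [this, hxx', sub_self]
  exact sub_eq_zero.1 (key _ h0)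

/-- the thickening sequence `0 → i_* i^* I → O_X/(I·J) → O_X/I → 0` -/
def thickenSES : ShortComplex X.Modules :=
  ShortComplex.mk (thickenι i I) (quotRes I i.ker) (thickenι_quotRes i I)

theorem quotRes_app (J : X.IdealSheafData) (U : X.Opens) (a : Γ(Coh.structureModule X, U)) :
    (quotRes I J).app U ((ClSub.toSubscheme (I * J)).app U a) = (ClSub.toSubscheme I).app U a := by
  have h := congrArg (fun ψ : (Coh.structureModule X ⟶ ClSub.quotMod I) => ψ.app U a) (toSubscheme_quotRes I J)
  exact h

theorem thickenSES_shortExact : (thickenSES i I).ShortExact := by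
  haveI : ((Scheme.Modules.pushforward i).obj ((Scheme.Modules.pullback i).obj (ClSub.idealMod I))).IsQuasicoherent :=
    isQuasicoherent_pushforward i _
  have hex : (thickenSES i I).Exact := by
    rw [ShortComplex.exact_iff_epi_kernel_lift]
    haveI : (kernel (thickenSES i I).g).IsQuasicoherent :=
      @isQuasicoherent_kernel X _ _ (inferInstanceAs (ClSub.quotMod (I * i.ker)).IsQuasicoherent)
        (inferInstanceAs (ClSub.quotMod I).IsQuasicoherent) (quotRes I i.ker)
    refine epi_of_affine_cover _ (fun U : X.affineOpens => U.1) (fun U => U.2) affine_cover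
      (fun U => isLocOn_of_isQuasicoherent _ U.2) (fun U k => ?_)
    have h1 : (quotRes I i.ker).app U.1 ((kernel.ι (quotRes I i.ker)).app U.1 k) = 0 :=
      app_kernel_ι_app _ U.1 k
    obtain ⟨a, ha⟩ := (I * i.ker).subschemeι_app_surjective U
      (show Γ((I * i.ker).subscheme, (I * i.ker).subschemeι ⁻¹ᵁ U.1) from (kernel.ι (quotRes I i.ker)).app U.1 k)
    have ha' : (ClSub.toSubscheme (I * i.ker)).app U.1 (show Γ(Coh.structureModule X, U.1) from a) =
        (kernel.ι (quotRes I i.ker)).app U.1 k := ha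
    rw [← ha', quotRes_app] at h1
    have h2 : a ∈ I.ideal U := by
      rw [← I.ker_subschemeι_app U, RingHom.mem_ker]
      exact h1
    obtain ⟨n, hn⟩ := exists_idealModι_app_eq I U a h2
    refine ⟨(η i (ClSub.idealMod I)).app U.1 n, ?_⟩
    apply kernel_ι_app_injective (quotRes I i.ker) U.1
    have h3 := congrArg (fun ψ : (_ ⟶ ClSub.quotMod (I * i.ker)) => ψ.app U.1 ((η i (ClSub.idealMod I)).app U.1 n))
      (kernel.lift_ι (quotRes I i.ker) (thickenι i I) (thickenι_quotRes i I))
    refine h3.trans ?_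
    rw [thickenι_app, ← ha']
    congr 1
  exact { exact := hex
          mono_f := inferInstanceAs (Mono (thickenι i I))
          epi_g := inferInstanceAs (Epi (quotRes I i.ker)) }

end thicken

end Groth.Agent.Lib.Helper1.Inter21
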