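import Groth.Agent.Lib.Helper1.Inter21
import Groth.Agent.Lib.Helper1.Inter20
import Groth.Agent.Lib.Helper4.EulerAdd
import Groth.Agent.Lib.Helper2.Bridge3
import Groth.Agent.Lib.Helper8.CurveVan2
import Groth.Agent.S0002
import Groth.Agent.S0019

/-!
# Helper1 — cohomology of modules killed by the closed fibre; Euler characteristic of a thickening
-/
set_option backward.isDefEq.respectTransparency.types false
set_option autoImplicit false
set_option maxHeartbeats 400000
universe u
open CategoryTheory CategoryTheory.Limits AlgebraicGeometry Opposite TopologicalSpace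

noncomputable section

namespace Groth.Agent.Lib.Helper1.Inter22

open Groth.Agent.Lib.Helper28.QCohLoc

section killed

variable {X : Scheme.{u}} (F : X.Modules)

/-- a global function which kills the sections of `F` over affine opens kills `F` -/
theorem smulAb_eq_zero_of_affine (s : Coh.Γtop X)
    (h : ∀ (V : X.affineOpens) (m : Γ(F, V.1)),
      ((show Γ(X, V.1) from Coh.resTop X (op V.1) s) • m : Γ(F, V.1)) = 0) :
    Coh.smulAb F s = 0 := by
  ext U m
  rw [Coh.smulAb_app]
  obtain ⟨U⟩ := U
  let ι := {W : X.affineOpens // W.1 ≤ U}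
  change ((show Γ(X, U) from Coh.resTop X (op U) s) • (show Γ(F, U) from m) : Γ(F, U)) = 0
  refine eq_of_locally_eq F (fun W : ι => W.1.1) U (fun W => W.2) ?_ _ _ (fun W => ?_)
  · intro x hx
    obtain ⟨_, ⟨W, hW, rfl⟩, hxW, hWU⟩ := X.isBasis_affineOpens.exists_subset_of_mem_open hx U.2
    exact Opens.mem_iSup.2 ⟨⟨⟨W, hW⟩, hWU⟩, hxW⟩
  · rw [res_smul, res_zero]
    have h1 : resO W.2 (show Γ(X, U) from Coh.resTop X (op U) s) =
        (show Γ(X, W.1.1) from Coh.resTop X (op W.1.1) s) :=
      Coh.resTop_comp (op U) (op W.1.1) (homOfLE W.2).op s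
    rw [h1]
    exact h W.1 _

end killed

section fibre

open Groth.Agent.Lib.Helper1.FibGeom

variable (R : Type u) [CommRing R] [IsDomain R] [IsDiscreteValuationRing R]
  (X : Over (Spec (CommRingCat.of R)))

/-- a module killed by an ideal containing the ideal of the closed fibre has cohomology killed by `𝔪_R` -/
theorem smul_HH_eq_zero (F : X.left.Modules) (I : X.left.IdealSheafData)
    (hI : Models.specialFibreIdeal R X ≤ I) (hF : ClSub.KilledByIdeal I F)
    (ϖ : R) (hϖ : ϖ ∈ IsLocalRing.maximalIdeal R) (p : ℕ) (x : Coh.HH X.left F p) : ϖ • x = 0 := by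
  change Sheaf.H.map (Coh.smulAb F (Coh.toGlobal X.hom ϖ)) p x = 0
  rw [smulAb_eq_zero_of_affine F _ (fun V m => hF V _ (hI V ?_) m)]
  · change ((Sheaf.functorH _ p).map (0 : Coh.toAb F ⟶ Coh.toAb F)).hom x = 0
    rw [Functor.map_zero]
    rfl
  · rw [specialFibreIdeal_ideal]
    exact Ideal.mem_map_of_mem (secHom R X V.1) hϖ

variable [IsProper X.hom]

/-- a coherent module killed by an ideal containing the ideal of the closed fibre has cohomology of finite length -/
theorem length_HH_ne_top (F : X.left.Modules) (hFc : Coh.IsCoh F) (I : X.left.IdealSheafData)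
    (hI : Models.specialFibreIdeal R X ≤ I) (hF : ClSub.KilledByIdeal I F) (p : ℕ) :
    Module.length R (Coh.HH X.left F p) ≠ ⊤ := by
  haveI : IsProper (X.left ↘ Spec (CommRingCat.of R)) := ‹IsProper X.hom›
  haveI : Module.Finite R (Coh.HH X.left F p) := Groth.Agent.S0002.result R X.left F hFc p
  have htors : Module.IsTorsionBySet R (Coh.HH X.left F p) (IsLocalRing.maximalIdeal R : Set R) := by
    intro x a
    exact smul_HH_eq_zero R X F I hI hF a.1 a.2 p x
  letI : Module (IsLocalRing.ResidueField R) (Coh.HH X.left F p) := htors.module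
  haveI : IsScalarTower R (IsLocalRing.ResidueField R) (Coh.HH X.left F p) :=
    ⟨fun b d x => Quotient.inductionOn' d fun c => (smul_assoc b c x :)⟩
  haveI : Module.Finite (IsLocalRing.ResidueField R) (Coh.HH X.left F p) :=
    Module.Finite.of_restrictScalars_finite R _ _
  rw [Module.length_eq_of_surjective (R := IsLocalRing.ResidueField R) IsLocalRing.residue_surjective,
    Module.length_eq_finrank]
  exact ENat.natCast_ne_top _

end fibre

section push

variable (R : Type u) [CommRing R] [IsDomain R] [IsDiscreteValuationRing R]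
  (X : Over (Spec (CommRingCat.of R))) (Γ : ArSurf.VertComp R X)

/-- `Γ` as an `R`-scheme -/
@[reducible] def curveOverR : Γ.curve.left.Over (Spec (CommRingCat.of R)) :=
  ⟨Γ.curve.hom ≫ Spec.map (CommRingCat.ofHom (IsLocalRing.residue R))⟩

omit [IsDomain R] [IsDiscreteValuationRing R] in
theorem toGlobal_comp_residue [IsLocalRing R] {Y : Scheme.{u}}
    (g : Y ⟶ Spec (CommRingCat.of (IsLocalRing.ResidueField R))) (r : R) :
    Coh.toGlobal (g ≫ Spec.map (CommRingCat.ofHom (IsLocalRing.residue R))) r =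
      Coh.toGlobal g (IsLocalRing.residue R r) := by
  show (g ≫ Spec.map (CommRingCat.ofHom (IsLocalRing.residue R))).appTop.hom
      ((Scheme.ΓSpecIso _).inv.hom r) =
    g.appTop.hom ((Scheme.ΓSpecIso _).inv.hom (IsLocalRing.residue R r))
  have h3 := Scheme.ΓSpecIso_inv_naturality (CommRingCat.ofHom (IsLocalRing.residue R))
  have h4 := congrArg (fun φ => φ.hom r) h3
  simp only [CommRingCat.hom_comp, RingHom.comp_apply, CommRingCat.hom_ofHom] at h4
  rw [h4]
  simp only [Scheme.Hom.comp_appTop, CommRingCat.hom_comp, RingHom.comp_apply]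

variable (G : Γ.curve.left.Modules) [G.IsQuasicoherent]

/-- the comparison `H^p(X, ι_* G) ≃ H^p(Γ, G)`, `R`-linear for the action of `R` through the residue field -/
theorem exists_push_equiv (p : ℕ) :
    ∃ e : Coh.HH X.left ((Scheme.Modules.pushforward Γ.ι).obj G) p ≃+ Coh.HH Γ.curve.left G p,
      ∀ (r : R) (y : Coh.HH X.left ((Scheme.Modules.pushforward Γ.ι).obj G) p),
        e (r • y) = IsLocalRing.residue R r • e y := by
  letI := curveOverR R X Γ
  obtain ⟨e, -⟩ := Groth.Agent.Lib.Helper2.Bridge3.exists_natural_linearEquiv R Γ.ι Γ.w p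
  refine ⟨(e G inferInstance).toAddEquiv, fun r y => ?_⟩
  have h1 : (e G inferInstance) (r • y) = r • (e G inferInstance) y := map_smul _ r y
  refine h1.trans ?_
  change Sheaf.H.map (Coh.smulAb G (Coh.toGlobal (Γ.curve.hom ≫ Spec.map (CommRingCat.ofHom (IsLocalRing.residue R))) r)) p _ =
    Sheaf.H.map (Coh.smulAb G (Coh.toGlobal Γ.curve.hom (IsLocalRing.residue R r))) p _
  rw [toGlobal_comp_residue]
  rfl

theorem length_push_eq_finrank (p : ℕ)
    [Module.Finite (IsLocalRing.ResidueField R) (Coh.HH Γ.curve.left G p)] :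
    Module.length R (Coh.HH X.left ((Scheme.Modules.pushforward Γ.ι).obj G) p) =
      (Module.finrank (IsLocalRing.ResidueField R) (Coh.HH Γ.curve.left G p) : ℕ∞) := by
  obtain ⟨e, he⟩ := exists_push_equiv R X Γ G p
  set V := Coh.HH Γ.curve.left G p with hV
  letI : Module R V := Module.compHom V (algebraMap R (IsLocalRing.ResidueField R))
  haveI : IsScalarTower R (IsLocalRing.ResidueField R) V := ⟨fun r c v => by
    show (algebraMap R (IsLocalRing.ResidueField R) r * c) • v =
      algebraMap R (IsLocalRing.ResidueField R) r • (c • v)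
    rw [mul_smul]⟩
  let e' : Coh.HH X.left ((Scheme.Modules.pushforward Γ.ι).obj G) p ≃ₗ[R] V :=
    { e with map_smul' := fun r w => he r w }
  rw [e'.length_eq, Module.length_eq_of_surjective (R := IsLocalRing.ResidueField R)
    (IsLocalRing.residue_surjective), Module.length_eq_finrank]

theorem subsingleton_push [IsProper X.hom] (p : ℕ) :
    Subsingleton (Coh.HH X.left ((Scheme.Modules.pushforward Γ.ι).obj G) (p + 2)) := by
  obtain ⟨e, -⟩ := exists_push_equiv R X Γ G (p + 2)
  haveI := Groth.Agent.Lib.Helper1.Inter.isProper_curve R X Γ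
  haveI : IsLocallyNoetherian Γ.curve.left :=
    Groth.Agent.Lib.Helper8.EulerK.isLocallyNoetherian (IsLocalRing.ResidueField R) Γ.curve.left
  haveI : CompactSpace Γ.curve.left :=
    QuasiCompact.compactSpace_of_compactSpace (Γ.curve.left ↘ Spec (CommRingCat.of (IsLocalRing.ResidueField R)))
  haveI : IsNoetherian Γ.curve.left := { }
  haveI := Groth.Agent.Lib.Helper8.CurveVan2.subsingleton_HH_of_dim_le_one
    (Γ.curve.left ↘ Spec (CommRingCat.of (IsLocalRing.ResidueField R))) (le_of_eq Γ.dim_eq) G p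
  exact e.toEquiv.subsingleton

end push

section main

open Groth.Agent.Lib.Helper8.PicCl Groth.Agent.Lib.Helper1.CartCl Groth.Agent.Lib.Helper1.VertDiv
  Groth.Agent.Lib.Helper1.FibGeom Groth.Agent.Lib.Helper1.Inter Groth.Agent.Lib.Helper1.Inter21
  Groth.Agent.Lib.Helper4.LesLength Groth.Agent.Lib.Helper2.HLesLin Groth.Agent.Lib.Helper4.HLesFin1

attribute [local instance] Groth.Agent.Lib.Helper8.PicCl.commMonoid

variable (R : Type u) [CommRing R] [IsDomain R] [IsDiscreteValuationRing R]
  (X : Over (Spec (CommRingCat.of R)))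
  {n : ℕ} (Γ : Fin n → ArSurf.VertComp R X) (hΓ : Models.IsComponentList R X Γ)
  (hflat : Flat X.hom) (hft : LocallyOfFiniteType X.hom)
  (hreg : ∀ x : X.left, IsRegularLocalRing (X.left.presheaf.stalk x))
  (L : Fin n → X.left.Modules) (hL : ∀ i, ClSub.IsInverseOf (L i) (ClSub.idealMod (Γ i).ι.ker))

/-- the direct image from a closed subscheme is killed by its ideal -/
theorem killed_quotMod {Y : Scheme.{u}} (I : Y.IdealSheafData) : ClSub.KilledByIdeal I (ClSub.quotMod I) := by
  intro U a ha x
  rw [← I.ker_subschemeι_app U, RingHom.mem_ker] at ha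
  have : (a • x : Γ(ClSub.quotMod I, U.1)) =
      ((I.subschemeι.app U.1).hom a • (show Γ(Coh.structureModule I.subscheme, I.subschemeι ⁻¹ᵁ U.1) from x) :
        Γ(Coh.structureModule I.subscheme, I.subschemeι ⁻¹ᵁ U.1)) := rfl
  rw [this, ha, zero_smul]
  rfl

include hΓ hflat hreg in
theorem specialFibreIdeal_le_prod (b : Fin n → ℕ) (hb : ∀ j, b j ≤ Models.mult R X (Γ j)) :
    Models.specialFibreIdeal R X ≤ ∏ j, (Γ j).ι.ker ^ b j := by
  rw [specialFibreIdeal_eq_prod R X hflat hreg Γ hΓ]
  refine Finset.prod_le_prod (fun j _ => bot_le) (fun j _ => ?_)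
  exact pow_le_pow_of_le_one bot_le le_top (hb j)

variable [IsProper X.hom]

include hΓ hflat hft hreg hL in
/-- **S3325 core**: `χ(O_{D + Γ_i}) - χ(O_D) = -(D · Γ_i) + χ(O_{Γ_i})` for `D + Γ_i` inside the closed fibre. -/
theorem euler_thicken (a : Fin n → ℕ) (i : Fin n)
    (ha : ∀ j, a j + (if j = i then 1 else 0) ≤ Models.mult R X (Γ j)) :
    ((Models.lengthH R X (ClSub.quotMod ((∏ j, (Γ j).ι.ker ^ a j) * (Γ i).ι.ker)) 0 : ℤ) -
        (Models.lengthH R X (ClSub.quotMod ((∏ j, (Γ j).ι.ker ^ a j) * (Γ i).ι.ker)) 1 : ℤ)) -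
      ((Models.lengthH R X (ClSub.quotMod (∏ j, (Γ j).ι.ker ^ a j)) 0 : ℤ) -
        (Models.lengthH R X (ClSub.quotMod (∏ j, (Γ j).ι.ker ^ a j)) 1 : ℤ)) =
      -(∑ j, (a j : ℤ) * ArSurf.inter R X (L i) (Γ j)) +
        ((Models.wdeg R X (Γ i) : ℤ) - (Models.h1 R X (Γ i) : ℤ)) := by
  haveI : IsLocallyNoetherian X.left := LocallyOfFiniteType.isLocallyNoetherian X.hom
  haveI := isProper_curve R X (Γ i)
  set I : Fin n → X.left.IdealSheafData := fun j => (Γ j).ι.ker with hI
  set A : X.left.IdealSheafData := ∏ j, I j ^ a j with hA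
  have hEC : ∀ j, BlowUp.IsEffCartierIdeal (I j) := fun j =>
    isEffCartierIdeal_ker R X hflat hft hreg Γ hΓ j
  have hLinv := isInvertible_L R X Γ hΓ hflat hft hreg L hL
  have hECA : BlowUp.IsEffCartierIdeal A :=
    isEffCartierIdeal_prod _ _ fun j _ => isEffCartierIdeal_pow (hEC j) _
  have hNinv : PicF.IsInvertible (ClSub.idealMod A) :=
    Groth.Agent.Lib.Helper28.IdealDual.isInvertible_idealMod _ hECA
  -- the ideals contain the ideal of the closed fibre
  have hle1 : Models.specialFibreIdeal R X ≤ A :=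
    specialFibreIdeal_le_prod R X Γ hΓ hflat hreg a fun j => le_trans (Nat.le_add_right _ _) (ha j)
  have hle2 : Models.specialFibreIdeal R X ≤ A * I i := by
    have h := specialFibreIdeal_le_prod R X Γ hΓ hflat hreg (fun j => a j + if j = i then 1 else 0) ha
    have h2 : ∏ j, (Γ j).ι.ker ^ (a j + if j = i then 1 else 0) = A * I i := by
      simp only [pow_add]
      rw [Finset.prod_mul_distrib]
      congr 1
      rw [Finset.prod_eq_single i]
      · rw [if_pos rfl, pow_one]
      · intro j _ hji
        rw [if_neg hji, pow_zero]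
      · intro h; exact absurd (Finset.mem_univ i) h
    rw [h2] at h
    exact h
  -- the pullback of the ideal to the curve
  set G := (Scheme.Modules.pullback (Γ i).ι).obj (ClSub.idealMod A) with hG
  have hNcoh : Coh.IsCoh (ClSub.idealMod A) :=
    Groth.Agent.Lib.Helper6.DevCore.isCoh_kernel _ Groth.Agent.Lib.Helper6.DevRed.isCoh_structureModule
      (Groth.Agent.Lib.Helper6.DevRed.isCoh_quotMod A)
  have hGcoh : Coh.IsCoh G := by
    haveI : SheafOfModules.IsFiniteType.{u} (R := X.left.ringCatSheaf) (ClSub.idealMod A) := hNcoh.2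
    exact ⟨inferInstance, Groth.Agent.Lib.Helper17.TensorSupp.isFiniteType_pullback (Γ i).ι (ClSub.idealMod A)⟩
  haveI : G.IsQuasicoherent := hGcoh.1
  haveI hfinG : ∀ p, Module.Finite (IsLocalRing.ResidueField R) (Coh.HH (Γ i).curve.left G p) := fun p =>
    Groth.Agent.Lib.Helper8.EulerK.finite_HH (IsLocalRing.ResidueField R) (Γ i).curve.left G hGcoh p
  -- the long exact sequence
  have hS := thickenSES_shortExact (Γ i).ι A
  have key := alt_sum_eq (R := R) (fun p => Coh.HH X.left (thickenSES (Γ i).ι A).X₁ p)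
    (fun p => Coh.HH X.left (thickenSES (Γ i).ι A).X₂ p) (fun p => Coh.HH X.left (thickenSES (Γ i).ι A).X₃ p)
    (fun p => Canon.HHlin R (thickenSES (Γ i).ι A).f p) (fun p => Canon.HHlin R (thickenSES (Γ i).ι A).g p)
    (fun p => δLin (thickenSES (Γ i).ι A) hS R p)
    (injective_zero (thickenSES (Γ i).ι A) hS R) (fun p => range_eq_ker₁ (thickenSES (Γ i).ι A) hS R p)
    (fun p => range_eq_ker₂ (thickenSES (Γ i).ι A) hS R p)
    (fun p => range_eq_ker₃ (thickenSES (Γ i).ι A) hS R p)
    (fun p => by
      change Module.length R (Coh.HH X.left ((Scheme.Modules.pushforward (Γ i).ι).obj G) p) ≠ ⊤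
      rw [length_push_eq_finrank R X (Γ i) G p]
      exact ENat.natCast_ne_top _)
    (fun p => length_HH_ne_top R X _ (Groth.Agent.Lib.Helper6.DevRed.isCoh_quotMod _) (A * I i) hle2
      (killed_quotMod _) p)
    (fun p => length_HH_ne_top R X _ (Groth.Agent.Lib.Helper6.DevRed.isCoh_quotMod _) A hle1
      (killed_quotMod _) p)
    1 (subsingleton_push R X (Γ i) G 0)
  -- the degree of the pulled back ideal
  set lam : Fin n → PicF.Cl X.left := fun j => PicF.cl (L j) with hlam
  set io : Fin n → PicF.Cl X.left := fun j => PicF.cl (ClSub.idealMod (I j)) with hio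
  have hli : ∀ j, lam j * io j = 1 := fun j => (isInverseOf_iff _ _).mp (hL j)
  have hclA : PicF.cl (ClSub.idealMod A) = ∏ j, io j ^ a j := by
    rw [hA, cl_idealMod_prod _ _ fun j _ => isEffCartierIdeal_pow (hEC j) _]
    apply Finset.prod_congr rfl
    intro j _
    exact cl_idealMod_pow (hEC j) _
  have hTp := isInvertible_multiTwist L hLinv a
  have hAL : PicF.cl (CohB1.tensorMod (ClSub.idealMod A) (FGA.multiTwist L a)) =
      PicF.cl (Coh.structureModule X.left) := by
    rw [← cl_mul_cl, cl_multiTwist, hclA, mul_comm, ← Groth.Agent.Lib.Helper8.PicCl.one_def]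
    exact prod_pow_mul_inverse lam io hli a
  have hdeg : ArSurf.inter R X (ClSub.idealMod A) (Γ i) +
      ∑ j, (a j : ℤ) * ArSurf.inter R X (L i) (Γ j) = 0 := by
    have h1 : ArSurf.inter R X (ClSub.idealMod A) (Γ i) +
        ArSurf.inter R X (FGA.multiTwist L a) (Γ i) = 0 := by
      rw [← inter_tensorMod R X (Γ i) hNinv hTp, inter_eq_of_cl_eq R X (Γ i) hAL]
      exact inter_structureModule R X (Γ i)
    rw [inter_multiTwist R X (Γ i) L hLinv a] at h1
    have h2 : ∀ j, ArSurf.inter R X (L j) (Γ i) = ArSurf.inter R X (L i) (Γ j) := fun j =>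
      inter_symm R X Γ hΓ hflat hft hreg L hL i j
    simp only [h2] at h1
    exact h1
  -- unfold the Euler characteristics
  have hlenG : ∀ p, len R (Coh.HH X.left ((Scheme.Modules.pushforward (Γ i).ι).obj G) p) =
      (Module.finrank (IsLocalRing.ResidueField R) (Coh.HH (Γ i).curve.left G p) : ℤ) := by
    intro p
    unfold len
    rw [length_push_eq_finrank R X (Γ i) G p, ENat.toNat_natCast]
  have hinter : ArSurf.inter R X (ClSub.idealMod A) (Γ i) =
      ((Module.finrank (IsLocalRing.ResidueField R) (Coh.HH (Γ i).curve.left G 0) : ℤ) -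
        (Module.finrank (IsLocalRing.ResidueField R) (Coh.HH (Γ i).curve.left G 1) : ℤ)) -
      ((Models.wdeg R X (Γ i) : ℤ) - (Models.h1 R X (Γ i) : ℤ)) := by
    unfold ArSurf.inter ArSurf.curveDeg FGA.eulerCharLE Models.wdeg Models.h1
    rw [Finset.sum_range_succ, Finset.sum_range_one, Finset.sum_range_succ, Finset.sum_range_one]
    simp only [pow_zero, pow_one, one_mul, neg_mul]
    ring
  rw [Finset.sum_range_succ, Finset.sum_range_one, Finset.sum_range_succ, Finset.sum_range_one,
    Finset.sum_range_succ, Finset.sum_range_one] at key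
  simp only [pow_zero, pow_one, one_mul, neg_mul] at key
  change len R (Coh.HH X.left (ClSub.quotMod (A * I i)) 0) + -len R (Coh.HH X.left (ClSub.quotMod (A * I i)) 1) =
    len R (Coh.HH X.left ((Scheme.Modules.pushforward (Γ i).ι).obj G) 0) +
      -len R (Coh.HH X.left ((Scheme.Modules.pushforward (Γ i).ι).obj G) 1) +
    (len R (Coh.HH X.left (ClSub.quotMod A) 0) + -len R (Coh.HH X.left (ClSub.quotMod A) 1)) at key
  rw [hlenG 0, hlenG 1] at key
  change (len R (Coh.HH X.left (ClSub.quotMod (A * I i)) 0) - len R (Coh.HH X.left (ClSub.quotMod (A * I i)) 1)) -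
    (len R (Coh.HH X.left (ClSub.quotMod A) 0) - len R (Coh.HH X.left (ClSub.quotMod A) 1)) = _
  linarith

end main

end Groth.Agent.Lib.Helper1.Inter22
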