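import Mathlib

/-!
# Helper1 — finitely generated modules over a discrete valuation ring: `ℓ(M/ϖM) - ℓ(M[ϖ]) = rank M`
-/
set_option autoImplicit false
universe u v
open Module Submodule TensorProduct

namespace Groth.Agent.Lib.Helper1.Inter24

section loc

variable {R : Type u} [CommRing R] [IsLocalRing R]

/-- a finitely generated module killed by the maximal ideal has finite length -/
theorem length_ne_top_of_killed (M : Type v) [AddCommGroup M] [Module R M] [Module.Finite R M]
    (h : ∀ a ∈ IsLocalRing.maximalIdeal R, ∀ x : M, a • x = 0) : Module.length R M ≠ ⊤ := by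
  have htors : Module.IsTorsionBySet R M (IsLocalRing.maximalIdeal R : Set R) := by
    intro x a
    exact h a.1 a.2 x
  letI : Module (IsLocalRing.ResidueField R) M := htors.module
  haveI : IsScalarTower R (IsLocalRing.ResidueField R) M :=
    ⟨fun b d x => Quotient.inductionOn' d fun c => (smul_assoc b c x :)⟩
  haveI : Module.Finite (IsLocalRing.ResidueField R) M := Module.Finite.of_restrictScalars_finite R _ _
  rw [Module.length_eq_of_surjective (R := IsLocalRing.ResidueField R) IsLocalRing.residue_surjective,
    Module.length_eq_finrank]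
  exact ENat.natCast_ne_top _

end loc

variable {R : Type u} [CommRing R] [IsDomain R] [IsDiscreteValuationRing R]

/-- multiplication by `r` -/
abbrev mulBy (r : R) (M : Type v) [AddCommGroup M] [Module R M] : M →ₗ[R] M := LinearMap.lsmul R M r

/-- a finitely generated module killed by a power of the uniformizer has finite length -/
theorem length_ne_top_of_pow_killed (ϖ : R) (hϖ : Irreducible ϖ) :
    ∀ (N : ℕ) (M : Type v) [AddCommGroup M] [Module R M] [Module.Finite R M],
      (∀ x : M, ϖ ^ N • x = 0) → Module.length R M ≠ ⊤ := by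
  intro N
  induction N with
  | zero =>
    intro M _ _ _ h
    haveI : Subsingleton M := ⟨fun x y => by
      have hx := h x
      have hy := h y
      rw [pow_zero, one_smul] at hx hy
      rw [hx, hy]⟩
    rw [Module.length_eq_zero]
    exact ENat.zero_ne_top
  | succ N ih =>
    intro M _ _ _ h
    haveI : IsNoetherian R M := isNoetherian_of_isNoetherianRing_of_finite R M
    set S := LinearMap.range (mulBy ϖ M) with hS
    have h1 : Module.length R S ≠ ⊤ := by
      apply ih S
      rintro ⟨y, x, rfl⟩
      apply Subtype.ext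
      change ϖ ^ N • (ϖ • x) = 0
      rw [smul_smul, ← pow_succ]
      exact h x
    have h2 : Module.length R (M ⧸ S) ≠ ⊤ := by
      apply length_ne_top_of_killed
      intro a ha x
      rw [Irreducible.maximalIdeal_eq hϖ, Ideal.mem_span_singleton'] at ha
      obtain ⟨b, rfl⟩ := ha
      induction x using Submodule.Quotient.induction_on with
      | H x =>
        rw [← Submodule.Quotient.mk_smul, Submodule.Quotient.mk_eq_zero]
        exact ⟨b • x, by change ϖ • (b • x) = _; rw [smul_smul, mul_comm]⟩
    rw [Module.length_eq_add_of_exact S.subtype S.mkQ (Submodule.injective_subtype _)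
      (Submodule.mkQ_surjective _) (LinearMap.exact_subtype_mkQ S)]
    exact WithTop.add_ne_top.2 ⟨h1, h2⟩

section main

variable (M : Type v) [AddCommGroup M] [Module R M] [Module.Finite R M] (ϖ : R) (hϖ : Irreducible ϖ)

include hϖ in
/-- the torsion submodule of a finitely generated module has finite length -/
theorem length_torsion_ne_top : Module.length R (torsion R M) ≠ ⊤ := by
  haveI : IsNoetherian R M := isNoetherian_of_isNoetherianRing_of_finite R M
  obtain ⟨a, ha, ha0⟩ := Submodule.annihilator_top_inter_nonZeroDivisors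
    (Submodule.torsion_isTorsion (R := R) (M := M))
  obtain ⟨N, u, hu⟩ := IsDiscreteValuationRing.eq_unit_mul_pow_irreducible
    (nonZeroDivisors.ne_zero ha0) hϖ
  apply length_ne_top_of_pow_killed ϖ hϖ N
  intro x
  have h1 : a • x = 0 := by
    have := (Submodule.mem_annihilator (N := (⊤ : Submodule R (torsion R M)))).1 ha x Submodule.mem_top
    exact this
  rw [hu, mul_smul] at h1
  have h2 := congrArg (fun y => ((u⁻¹ : Rˣ) : R) • y) h1
  simp only [smul_zero] at h2
  rw [smul_smul, Units.inv_mul, one_smul] at h2
  exact h2

/-- kernel and cokernel of an endomorphism of a module of finite length have the same length -/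
theorem length_ker_eq_length_coker {T : Type v} [AddCommGroup T] [Module R T] (ψ : T →ₗ[R] T)
    (hT : Module.length R T ≠ ⊤) :
    Module.length R (LinearMap.ker ψ) = Module.length R (T ⧸ LinearMap.range ψ) := by
  have h1 : Module.length R T = Module.length R (LinearMap.ker ψ) + Module.length R (LinearMap.range ψ) :=
    Module.length_eq_add_of_exact (LinearMap.ker ψ).subtype ψ.rangeRestrict
      (Submodule.injective_subtype _) ψ.surjective_rangeRestrict (by
        intro x
        constructor
        · intro hx
          exact ⟨⟨x, by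
            rw [LinearMap.mem_ker]
            have := congrArg Subtype.val hx
            simpa using this⟩, rfl⟩
        · rintro ⟨y, rfl⟩
          apply Subtype.ext
          simpa using y.2)
  have h2 : Module.length R T = Module.length R (LinearMap.range ψ) + Module.length R (T ⧸ LinearMap.range ψ) :=
    Module.length_eq_add_of_exact (LinearMap.range ψ).subtype (LinearMap.range ψ).mkQ
      (Submodule.injective_subtype _) (Submodule.mkQ_surjective _) (LinearMap.exact_subtype_mkQ _)
  have h3 : Module.length R (LinearMap.range ψ) ≠ ⊤ := by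
    intro h0; rw [h0, top_add] at h2; exact hT h2
  rw [h1, add_comm] at h2
  exact (ENat.add_right_injective_of_ne_top h3) h2

/-- the kernel of multiplication by `ϖ` lies in the torsion -/
def kerEquiv : LinearMap.ker (mulBy ϖ (torsion R M)) ≃ₗ[R] LinearMap.ker (mulBy ϖ M) where
  toFun x := ⟨x.1.1, by
    have h := x.2
    rw [LinearMap.mem_ker] at h ⊢
    exact congrArg Subtype.val h⟩
  map_add' _ _ := rfl
  map_smul' _ _ := rfl
  invFun m := ⟨⟨m.1, by
    rw [Submodule.mem_torsion_iff]
    have h := m.2
    rw [LinearMap.mem_ker] at h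
    exact ⟨⟨ϖ, mem_nonZeroDivisors_of_ne_zero hϖ.ne_zero⟩, h⟩⟩, by
    have h := m.2
    rw [LinearMap.mem_ker] at h ⊢
    exact Subtype.ext h⟩
  left_inv _ := rfl
  right_inv _ := rfl

/-- `T/ϖT → M/ϖM` -/
def quotIncl : (torsion R M ⧸ LinearMap.range (mulBy ϖ (torsion R M))) →ₗ[R]
    (M ⧸ LinearMap.range (mulBy ϖ M)) :=
  Submodule.mapQ _ _ (torsion R M).subtype (by
    rintro _ ⟨x, rfl⟩
    exact ⟨x.1, rfl⟩)

/-- `M/ϖM → F/ϖF`, `F = M/T` -/
def quotProj : (M ⧸ LinearMap.range (mulBy ϖ M)) →ₗ[R]
    ((M ⧸ torsion R M) ⧸ LinearMap.range (mulBy ϖ (M ⧸ torsion R M))) :=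
  Submodule.mapQ _ _ (torsion R M).mkQ (by
    rintro _ ⟨x, rfl⟩
    exact ⟨(torsion R M).mkQ x, rfl⟩)

include hϖ in
theorem quotIncl_injective : Function.Injective (quotIncl M ϖ) := by
  rw [← LinearMap.ker_eq_bot, LinearMap.ker_eq_bot']
  intro x hx
  induction x using Submodule.Quotient.induction_on with
  | H x =>
    have h1 : (x : M) ∈ LinearMap.range (mulBy ϖ M) := by
      have : quotIncl M ϖ (Submodule.Quotient.mk x) = Submodule.Quotient.mk (x : M) := rfl
      rw [this, Submodule.Quotient.mk_eq_zero] at hx
      exact hx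
    obtain ⟨m, hm⟩ := h1
    have hmT : m ∈ torsion R M := by
      obtain ⟨a, ha⟩ := (Submodule.mem_torsion_iff _).1 x.2
      rw [Submodule.mem_torsion_iff]
      refine ⟨a * ⟨ϖ, mem_nonZeroDivisors_of_ne_zero hϖ.ne_zero⟩, ?_⟩
      change ((a : R) * ϖ) • m = 0
      rw [mul_smul]
      change (a : R) • (mulBy ϖ M m) = 0
      rw [hm]
      exact ha
    rw [Submodule.Quotient.mk_eq_zero]
    exact ⟨⟨m, hmT⟩, Subtype.ext hm⟩

theorem quotProj_surjective : Function.Surjective (quotProj M ϖ) := by
  intro y
  induction y using Submodule.Quotient.induction_on with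
  | H y =>
    induction y using Submodule.Quotient.induction_on with
    | H m => exact ⟨Submodule.Quotient.mk m, rfl⟩

theorem exact_quotIncl_quotProj : Function.Exact (quotIncl M ϖ) (quotProj M ϖ) := by
  intro y
  constructor
  · intro hy
    induction y using Submodule.Quotient.induction_on with
    | H m =>
      have h1 : (torsion R M).mkQ m ∈ LinearMap.range (mulBy ϖ (M ⧸ torsion R M)) := by
        have : quotProj M ϖ (Submodule.Quotient.mk m) = Submodule.Quotient.mk ((torsion R M).mkQ m) := rfl
        rw [this, Submodule.Quotient.mk_eq_zero] at hy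
        exact hy
      obtain ⟨z, hz⟩ := h1
      obtain ⟨m', rfl⟩ := Submodule.mkQ_surjective _ z
      have h2 : m - ϖ • m' ∈ torsion R M := by
        rw [← Submodule.Quotient.mk_eq_zero, Submodule.Quotient.mk_sub, sub_eq_zero]
        exact hz.symm
      refine ⟨Submodule.Quotient.mk ⟨m - ϖ • m', h2⟩, ?_⟩
      change Submodule.Quotient.mk (m - ϖ • m') = Submodule.Quotient.mk m
      rw [Submodule.Quotient.eq]
      refine ⟨-m', ?_⟩
      change ϖ • (-m') = _
      rw [smul_neg]
      abel
  · rintro ⟨x, rfl⟩
    induction x using Submodule.Quotient.induction_on with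
    | H x =>
      change Submodule.Quotient.mk ((torsion R M).mkQ (x : M)) = 0
      have : (torsion R M).mkQ (x : M) = 0 := by
        rw [Submodule.mkQ_apply, Submodule.Quotient.mk_eq_zero]
        exact x.2
      rw [this]
      rfl

include hϖ in
/-- for a free module `F` of finite rank, `ℓ(F/ϖF) = rank F` -/
theorem length_quot_of_free (F : Type v) [AddCommGroup F] [Module R F] [Module.Finite R F] [Module.Free R F] :
    Module.length R (F ⧸ LinearMap.range (mulBy ϖ F)) = (Module.finrank R F : ℕ∞) := by
  have h1 : LinearMap.range (mulBy ϖ F) = (IsLocalRing.maximalIdeal R) • (⊤ : Submodule R F) := by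
    rw [Irreducible.maximalIdeal_eq hϖ, Submodule.ideal_span_singleton_smul]
    ext y
    constructor
    · rintro ⟨x, rfl⟩
      exact Submodule.smul_mem_pointwise_smul x ϖ ⊤ Submodule.mem_top
    · intro hy
      obtain ⟨x, -, rfl⟩ := (Submodule.mem_smul_pointwise_iff_exists _ _ _).1 hy
      exact ⟨x, rfl⟩
  rw [h1]
  let e := TensorProduct.quotTensorEquivQuotSMul F (IsLocalRing.maximalIdeal R)
  rw [← e.length_eq]
  change Module.length R ((IsLocalRing.ResidueField R) ⊗[R] F) = _
  rw [Module.length_eq_of_surjective (R := IsLocalRing.ResidueField R) IsLocalRing.residue_surjective,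
    Module.length_eq_finrank, Module.finrank_baseChange]

/-- the rank of a module over a domain is the rank of its torsion-free quotient -/
theorem finrank_quot_torsion : Module.finrank R (M ⧸ torsion R M) = Module.finrank R M := by
  have h1 := rank_quotient_add_rank_of_isDomain (torsion R M)
  have h2 : Module.rank R (torsion R M) = 0 := by
    rw [rank_eq_zero_iff]
    intro x
    obtain ⟨a, ha⟩ := (Submodule.mem_torsion_iff _).1 x.2
    exact ⟨a, nonZeroDivisors.ne_zero a.2, Subtype.ext ha⟩
  rw [h2, add_zero] at h1
  unfold Module.finrank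
  rw [h1]

include hϖ in
/-- **`ℓ(M/ϖM) - ℓ(M[ϖ]) = rank M`** for a finitely generated module over a discrete valuation ring -/
theorem herbrand :
    Module.length R (LinearMap.ker (mulBy ϖ M)) ≠ ⊤ ∧
      Module.length R (M ⧸ LinearMap.range (mulBy ϖ M)) =
        Module.length R (LinearMap.ker (mulBy ϖ M)) + (Module.finrank R M : ℕ∞) := by
  haveI : IsNoetherian R M := isNoetherian_of_isNoetherianRing_of_finite R M
  have hT := length_torsion_ne_top M ϖ hϖ
  have h1 := length_ker_eq_length_coker (mulBy ϖ (torsion R M)) hT
  have h2 : Module.length R (LinearMap.ker (mulBy ϖ M)) =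
      Module.length R (LinearMap.ker (mulBy ϖ (torsion R M))) := ((kerEquiv M ϖ hϖ).length_eq).symm
  have h3 := Module.length_eq_add_of_exact (quotIncl M ϖ) (quotProj M ϖ) (quotIncl_injective M ϖ hϖ)
    (quotProj_surjective M ϖ) (exact_quotIncl_quotProj M ϖ)
  haveI : Module.Free R (M ⧸ torsion R M) := Module.free_of_finite_type_torsion_free'
  rw [length_quot_of_free ϖ hϖ (M ⧸ torsion R M), finrank_quot_torsion, ← h1, ← h2] at h3
  refine ⟨?_, h3⟩
  rw [h2]
  exact ne_top_of_le_ne_top hT (Module.length_le_of_injective (LinearMap.ker (mulBy ϖ (torsion R M))).subtype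
    (Submodule.injective_subtype _))

end main

end Groth.Agent.Lib.Helper1.Inter24
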