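import Groth.Agent.Lib.Helper1.Inter22
import Groth.Agent.Lib.Helper1.Inter24

/-!
# Helper1 — multiplication by a global function; the sequence `0 → O_X --ϖ--> O_X → O_X/ϖ → 0`
-/
set_option backward.isDefEq.respectTransparency.types false
set_option autoImplicit false
set_option maxHeartbeats 400000
universe u
open CategoryTheory CategoryTheory.Limits AlgebraicGeometry Opposite TopologicalSpace

noncomputable section

namespace Groth.Agent.Lib.Helper1.Inter23

open Groth.Agent.Lib.Helper28.QCohLoc Groth.Agent.Lib.Helper17.Serre Groth.Agent.Lib.Helper17.CohKer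
  Groth.Agent.Lib.Helper1.Inter21

section mul

variable {X : Scheme.{u}} (M : X.Modules) (s : Coh.Γtop X)

/-- multiplication by a global function, as an endomorphism of an `O_X`-module -/
def mulHom : M ⟶ M :=
  ⟨PresheafOfModules.homMk (Coh.smulAb M s).hom (fun U r m => by
    have h1 := Coh.smulAb_app M s U (r • m)
    have h2 := Coh.smulAb_app M s U m
    have h3 : @HSMul.hSMul (X.ringCatSheaf.obj.obj U) (M.val.obj U) (M.val.obj U) _ (Coh.resTop X U s) (r • m) =
        r • (@HSMul.hSMul (X.ringCatSheaf.obj.obj U) (M.val.obj U) (M.val.obj U) _ (Coh.resTop X U s) m) :=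
      (mul_smul _ _ _).symm.trans ((congrArg (fun c : X.ringCatSheaf.obj.obj U => c • m)
        (show Coh.resTop X U s * r = r * Coh.resTop X U s from
          mul_comm (show Γ(X, U.unop) from Coh.resTop X U s) (show Γ(X, U.unop) from r))).trans (mul_smul _ _ _))
    exact h1.trans (h3.trans (congrArg (fun y : M.val.obj U => r • y) h2.symm)))⟩

theorem toSheaf_map_mulHom :
    (SheafOfModules.toSheaf X.ringCatSheaf).map (mulHom M s) = Coh.smulAb M s := rfl

theorem mulHom_app (U : X.Opens) (m : Γ(M, U)) :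
    (mulHom M s).app U m = ((show Γ(X, U) from Coh.resTop X (op U) s) • m : Γ(M, U)) := rfl

end mul

section unif

open Groth.Agent.Lib.Helper1.FibGeom Groth.Agent.Lib.Helper6.IdealMul

variable (R : Type u) [CommRing R] [IsDomain R] [IsDiscreteValuationRing R]
  (X : Over (Spec (CommRingCat.of R))) (ϖ : R) (hϖ : Irreducible ϖ)

/-- multiplication by the uniformizer on `O_X` -/
abbrev mulUnif : Coh.structureModule X.left ⟶ Coh.structureModule X.left :=
  mulHom (Coh.structureModule X.left) (Coh.toGlobal X.hom ϖ)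

theorem mulUnif_app (U : X.left.Opens) (a : Γ(Coh.structureModule X.left, U)) :
    (show Γ(X.left, U) from (mulUnif R X ϖ).app U a) = secHom R X U ϖ * (show Γ(X.left, U) from a) := rfl

include hϖ in
theorem specialFibreIdeal_ideal_eq_span (U : X.left.affineOpens) :
    (Models.specialFibreIdeal R X).ideal U = Ideal.span {secHom R X U.1 ϖ} := by
  rw [specialFibreIdeal_ideal, Irreducible.maximalIdeal_eq hϖ, Ideal.map_span, Set.image_singleton]

include hϖ in
theorem mulUnif_comp_toSubscheme :
    mulUnif R X ϖ ≫ ClSub.toSubscheme (Models.specialFibreIdeal R X) = 0 := by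
  apply hom_ext_affine
  intro U a
  refine toSubscheme_app_eq_zero (Models.specialFibreIdeal R X) U _ ?_
  rw [specialFibreIdeal_ideal_eq_span R X ϖ hϖ U, Ideal.mem_span_singleton']
  exact ⟨(show Γ(X.left, U.1) from a), by rw [mul_comm]; rfl⟩

/-- the sequence `0 → O_X --ϖ--> O_X → O_X/ϖ → 0` -/
def unifSES : ShortComplex X.left.Modules :=
  ShortComplex.mk (mulUnif R X ϖ) (ClSub.toSubscheme (Models.specialFibreIdeal R X))
    (mulUnif_comp_toSubscheme R X ϖ hϖ)

include hϖ in
theorem mono_mulUnif (hflat : Flat X.hom) : Mono (mulUnif R X ϖ) := by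
  refine mono_of_affine_cover (mulUnif R X ϖ) (fun U : X.left.affineOpens => U.1) (fun U => U.2) affine_cover
    (fun U => isLocOn_of_isQuasicoherent _ U.2) (fun U => isLocOn_of_isQuasicoherent _ U.2) (fun U => ?_)
  have hfl := secHom_flat R X hflat U
  letI := (secHom R X U.1).toAlgebra
  haveI : Module.Flat R Γ(X.left, U.1) := hfl
  have hreg : IsSMulRegular Γ(X.left, U.1) ϖ :=
    Module.Flat.isSMulRegular_of_nonZeroDivisors (mem_nonZeroDivisors_of_ne_zero hϖ.ne_zero)
  intro a b hab
  have h1 : secHom R X U.1 ϖ * (show Γ(X.left, U.1) from a) =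
      secHom R X U.1 ϖ * (show Γ(X.left, U.1) from b) := hab
  have h2 : ϖ • (show Γ(X.left, U.1) from a) = ϖ • (show Γ(X.left, U.1) from b) := by
    rw [Algebra.smul_def, Algebra.smul_def]
    exact h1
  exact hreg h2

include hϖ in
theorem unifSES_shortExact (hflat : Flat X.hom) : (unifSES R X ϖ hϖ).ShortExact := by
  haveI := mono_mulUnif R X ϖ hϖ hflat
  have hex : (unifSES R X ϖ hϖ).Exact := by
    rw [ShortComplex.exact_iff_epi_kernel_lift]
    haveI : (kernel (unifSES R X ϖ hϖ).g).IsQuasicoherent :=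
      inferInstanceAs (ClSub.idealMod (Models.specialFibreIdeal R X)).IsQuasicoherent
    refine epi_of_affine_cover _ (fun U : X.left.affineOpens => U.1) (fun U => U.2) affine_cover
      (fun U => isLocOn_of_isQuasicoherent _ U.2) (fun U k => ?_)
    have h1 := idealModι_app_mem (Models.specialFibreIdeal R X) U k
    rw [specialFibreIdeal_ideal_eq_span R X ϖ hϖ U, Ideal.mem_span_singleton'] at h1
    obtain ⟨b, hb⟩ := h1
    refine ⟨(show Γ(Coh.structureModule X.left, U.1) from b), ?_⟩
    apply kernel_ι_app_injective (ClSub.toSubscheme (Models.specialFibreIdeal R X)) U.1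
    have h3 := congrArg (fun ψ : (_ ⟶ Coh.structureModule X.left) =>
        ψ.app U.1 (show Γ(Coh.structureModule X.left, U.1) from b))
      (kernel.lift_ι (ClSub.toSubscheme (Models.specialFibreIdeal R X)) (mulUnif R X ϖ)
        (mulUnif_comp_toSubscheme R X ϖ hϖ))
    refine h3.trans ?_
    change secHom R X U.1 ϖ * b = _
    rw [mul_comm]
    exact hb
  exact { exact := hex
          mono_f := inferInstanceAs (Mono (mulUnif R X ϖ))
          epi_g := inferInstanceAs (Epi (ClSub.toSubscheme (Models.specialFibreIdeal R X))) }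

section coh

open Groth.Agent.Lib.Helper2.HLesLin Groth.Agent.Lib.Helper4.HLesFin1 Groth.Agent.Lib.Helper1.Inter24
  Groth.Agent.Lib.Helper1.Inter22

theorem HHlin_mulUnif (p : ℕ) :
    Canon.HHlin R (mulUnif R X ϖ) p = mulBy ϖ (Coh.HH X.left (Coh.structureModule X.left) p) := by
  ext x
  rfl

include hϖ in
/-- abstract form: a short exact sequence `0 → A --ϖ--> A → Q → 0` with `H²(Q) = 0` -/
theorem euler_of_mulSES {A Q : X.left.Modules} (f : A ⟶ A) (g : A ⟶ Q) (w : f ≫ g = 0)
    (hS : (ShortComplex.mk f g w).ShortExact)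
    (hf : ∀ p, Canon.HHlin R f p = mulBy ϖ (Coh.HH X.left A p))
    (hfin : ∀ p, Module.Finite R (Coh.HH X.left A p))
    (h2 : Subsingleton (Coh.HH X.left Q 2)) :
    ((Module.length R (Coh.HH X.left Q 0)).toNat : ℤ) - ((Module.length R (Coh.HH X.left Q 1)).toNat : ℤ) =
      (Module.finrank R (Coh.HH X.left A 0) : ℤ) - (Module.finrank R (Coh.HH X.left A 1) : ℤ) := by
  have r1 : ∀ p, LinearMap.range (δLin (ShortComplex.mk f g w) hS R p) =
      LinearMap.ker (mulBy ϖ (Coh.HH X.left A (p + 1))) := fun p => by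
    rw [← hf (p + 1)]; exact range_eq_ker₁ (ShortComplex.mk f g w) hS R p
  have r2 : ∀ p, LinearMap.range (mulBy ϖ (Coh.HH X.left A p)) = LinearMap.ker (Canon.HHlin R g p) :=
    fun p => by rw [← hf p]; exact range_eq_ker₂ (ShortComplex.mk f g w) hS R p
  have r3 : ∀ p, LinearMap.range (Canon.HHlin R g p) =
      LinearMap.ker (δLin (ShortComplex.mk f g w) hS R p) :=
    fun p => range_eq_ker₃ (ShortComplex.mk f g w) hS R p
  have hinj0 : Function.Injective (mulBy ϖ (Coh.HH X.left A 0)) := by
    rw [← hf 0]; exact injective_zero (ShortComplex.mk f g w) hS R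
  -- `H²(X, A) = 0` by Nakayama
  have hM2 : Subsingleton (Coh.HH X.left A 2) := by
    have h1 : LinearMap.range (mulBy ϖ (Coh.HH X.left A 2)) = ⊤ := by
      rw [r2 2]
      ext x
      simp only [LinearMap.mem_ker, Submodule.mem_top, iff_true]
      exact Subsingleton.elim _ _
    have h3 : (⊤ : Submodule R (Coh.HH X.left A 2)) ≤ (IsLocalRing.maximalIdeal R) • ⊤ := by
      intro y _
      have hy : y ∈ LinearMap.range (mulBy ϖ (Coh.HH X.left A 2)) := h1 ▸ Submodule.mem_top
      obtain ⟨x, rfl⟩ := hy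
      exact Submodule.smul_mem_smul (Irreducible.maximalIdeal_eq hϖ ▸ Ideal.mem_span_singleton_self ϖ)
        (Submodule.mem_top (x := x))
    have h4 := Submodule.eq_bot_of_le_smul_of_le_jacobson_bot (IsLocalRing.maximalIdeal R) ⊤
      (Module.Finite.fg_top) h3 (IsLocalRing.maximalIdeal_le_jacobson _)
    exact (Submodule.subsingleton_iff R).1 (subsingleton_of_bot_eq_top h4.symm)
  have hH0 := herbrand (Coh.HH X.left A 0) ϖ hϖ
  have hH1 := herbrand (Coh.HH X.left A 1) ϖ hϖ
  -- `ℓ(N₁) = ℓ(M₁/ϖM₁)`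
  have hN1 : Module.length R (Coh.HH X.left Q 1) =
      Module.length R (Coh.HH X.left A 1 ⧸ LinearMap.range (mulBy ϖ (Coh.HH X.left A 1))) := by
    have hsurj : Function.Surjective (Canon.HHlin R g 1) := by
      rw [← LinearMap.range_eq_top, r3 1]
      ext x
      simp only [LinearMap.mem_ker, Submodule.mem_top, iff_true]
      exact Subsingleton.elim _ _
    have e := (Canon.HHlin R g 1).quotKerEquivOfSurjective hsurj
    rw [← e.length_eq, ← r2 1]
  -- `ℓ(N₀) = ℓ(M₀/ϖM₀) + ℓ(M₁[ϖ])`
  have hN0 : Module.length R (Coh.HH X.left Q 0) =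
      Module.length R (Coh.HH X.left A 0 ⧸ LinearMap.range (mulBy ϖ (Coh.HH X.left A 0))) +
      Module.length R (LinearMap.ker (mulBy ϖ (Coh.HH X.left A 1))) := by
    have hle : LinearMap.range (mulBy ϖ (Coh.HH X.left A 0)) ≤ LinearMap.ker (Canon.HHlin R g 0) :=
      le_of_eq (r2 0)
    have hmem : ∀ y, δLin (ShortComplex.mk f g w) hS R 0 y ∈
        LinearMap.ker (mulBy ϖ (Coh.HH X.left A 1)) := by
      intro y
      rw [← r1 0]
      exact ⟨y, rfl⟩
    refine Module.length_eq_add_of_exact
      ((LinearMap.range (mulBy ϖ (Coh.HH X.left A 0))).liftQ (Canon.HHlin R g 0) hle)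
      ((δLin (ShortComplex.mk f g w) hS R 0).codRestrict _ hmem) ?_ ?_ ?_
    · rw [← LinearMap.ker_eq_bot, Submodule.ker_liftQ, ← r2 0]
      exact Submodule.mkQ_map_self _
    · rintro ⟨z, hz⟩
      rw [← r1 0] at hz
      obtain ⟨y, rfl⟩ := hz
      exact ⟨y, rfl⟩
    · intro y
      constructor
      · intro hy
        have h1 : δLin (ShortComplex.mk f g w) hS R 0 y = 0 := congrArg Subtype.val hy
        have h2 : y ∈ LinearMap.range (Canon.HHlin R g 0) := by
          rw [r3 0]; exact h1
        obtain ⟨x, rfl⟩ := h2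
        exact ⟨Submodule.Quotient.mk x, rfl⟩
      · rintro ⟨x, rfl⟩
        induction x using Submodule.Quotient.induction_on with
        | H x =>
          apply Subtype.ext
          have h1 : Canon.HHlin R g 0 x ∈ LinearMap.ker (δLin (ShortComplex.mk f g w) hS R 0) := by
            rw [← r3 0]; exact ⟨x, rfl⟩
          exact h1
  have hker0 : Module.length R (LinearMap.ker (mulBy ϖ (Coh.HH X.left A 0))) = 0 := by
    rw [LinearMap.ker_eq_bot.2 hinj0]
    exact Module.length_bot
  rw [hN0, hN1, hH0.2, hH1.2, hker0, zero_add]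
  obtain ⟨t, ht⟩ := ENat.ne_top_iff_exists.1 hH1.1
  rw [← ht]
  have e1 : ((Module.finrank R (Coh.HH X.left A 0) : ℕ∞) + (t : ℕ∞)).toNat =
      Module.finrank R (Coh.HH X.left A 0) + t := by
    rw [← Nat.cast_add, ENat.toNat_natCast]
  have e2 : ((t : ℕ∞) + (Module.finrank R (Coh.HH X.left A 1) : ℕ∞)).toNat =
      t + Module.finrank R (Coh.HH X.left A 1) := by
    rw [← Nat.cast_add, ENat.toNat_natCast]
  rw [e1, e2]
  push_cast
  ring

variable [IsProper X.hom]

include hϖ in
/-- **`χ(O_{X_k}) = rank H⁰(X, O_X) - rank H¹(X, O_X)`** for `X` proper and flat over `R` with `H²(X_k, O) = 0` -/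
theorem euler_closedFibre (hflat : Flat X.hom) (hft : LocallyOfFiniteType X.hom)
    (h2 : Subsingleton (Coh.HH X.left (ClSub.quotMod (Models.specialFibreIdeal R X)) 2)) :
    (Models.lengthH R X (ClSub.quotMod (Models.specialFibreIdeal R X)) 0 : ℤ) -
        (Models.lengthH R X (ClSub.quotMod (Models.specialFibreIdeal R X)) 1 : ℤ) =
      (Module.finrank R (Coh.HH X.left (Coh.structureModule X.left) 0) : ℤ) -
        (Module.finrank R (Coh.HH X.left (Coh.structureModule X.left) 1) : ℤ) := by
  haveI : IsLocallyNoetherian X.left := LocallyOfFiniteType.isLocallyNoetherian X.hom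
  haveI : IsProper (X.left ↘ Spec (CommRingCat.of R)) := ‹IsProper X.hom›
  exact euler_of_mulSES R X ϖ hϖ (mulUnif R X ϖ) (ClSub.toSubscheme (Models.specialFibreIdeal R X))
    (mulUnif_comp_toSubscheme R X ϖ hϖ) (unifSES_shortExact R X ϖ hϖ hflat) (HHlin_mulUnif R X ϖ)
    (fun p => Groth.Agent.S0002.result R X.left _ Groth.Agent.Lib.Helper6.DevRed.isCoh_structureModule p) h2

end coh

end unif

end Groth.Agent.Lib.Helper1.Inter23
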