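import Groth.Agent.Lib.Helper1.Inter23
import Groth.Agent.Lib.Helper17.GrVan

/-!
# Helper1 — Euler characteristic of vertical divisors inside the closed fibre (induction on the divisor)
-/
set_option backward.isDefEq.respectTransparency.types false
set_option autoImplicit false
set_option maxHeartbeats 400000
universe u
open CategoryTheory CategoryTheory.Limits AlgebraicGeometry Opposite TopologicalSpace

noncomputable section

namespace Groth.Agent.Lib.Helper1.Inter25

open Groth.Agent.Lib.Helper1.Inter21 Groth.Agent.Lib.Helper1.Inter22 Groth.Agent.Lib.Helper1.Inter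
  Groth.Agent.Lib.Helper1.FibGeom Groth.Agent.Lib.Helper2.HLesLin Groth.Agent.Lib.Helper4.HLesFin1

/-- the cohomology of `O_X/(1)` vanishes -/
theorem subsingleton_HH_quotMod_top {Y : Scheme.{u}} (p : ℕ) :
    Subsingleton (Coh.HH Y (ClSub.quotMod (⊤ : Y.IdealSheafData)) p) := by
  apply Groth.Agent.Lib.Helper17.Graded.subsingleton_HH_of_isZero
  apply Groth.Agent.Lib.Helper17.ModPullback.isZero_of_subsingleton_sections_affine
  intro U hU
  refine ⟨fun x y => ?_⟩
  have h := killed_quotMod (⊤ : Y.IdealSheafData) ⟨U, hU⟩ 1 (by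
    change (1 : Γ(Y, U)) ∈ (⊤ : Ideal Γ(Y, U))
    exact Submodule.mem_top)
  have hx := h x
  have hy := h y
  rw [one_smul] at hx hy
  rw [hx, hy]

variable (R : Type u) [CommRing R] [IsDomain R] [IsDiscreteValuationRing R]
  (X : Over (Spec (CommRingCat.of R)))
  {n : ℕ} (Γ : Fin n → ArSurf.VertComp R X) (hΓ : Models.IsComponentList R X Γ)
  (hflat : Flat X.hom) (hft : LocallyOfFiniteType X.hom)
  (hreg : ∀ x : X.left, IsRegularLocalRing (X.left.presheaf.stalk x))
  (L : Fin n → X.left.Modules) (hL : ∀ i, ClSub.IsInverseOf (L i) (ClSub.idealMod (Γ i).ι.ker))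

/-- the ideal of `Σ a_j Γ_j` -/
abbrev divIdeal (a : Fin n → ℕ) : X.left.IdealSheafData := ∏ j, (Γ j).ι.ker ^ a j

/-- `χ(O_D) = h⁰ - h¹` as lengths on `X` -/
def chi (a : Fin n → ℕ) : ℤ :=
  (Models.lengthH R X (ClSub.quotMod (divIdeal R X Γ a)) 0 : ℤ) -
    (Models.lengthH R X (ClSub.quotMod (divIdeal R X Γ a)) 1 : ℤ)

theorem divIdeal_succ (a : Fin n → ℕ) (i : Fin n) :
    ∏ j, (Γ j).ι.ker ^ (a j + if j = i then 1 else 0) = divIdeal R X Γ a * (Γ i).ι.ker := by
  simp only [pow_add]
  rw [Finset.prod_mul_distrib]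
  congr 1
  rw [Finset.prod_eq_single i]
  · rw [if_pos rfl, pow_one]
  · intro j _ hji
    rw [if_neg hji, pow_zero]
  · intro h; exact absurd (Finset.mem_univ i) h

variable [IsProper X.hom]

/-- `H²` of a thickening vanishes if it does for the smaller divisor -/
theorem subsingleton_HH_two_thicken (I : X.left.IdealSheafData) (i : Fin n)
    (h : Subsingleton (Coh.HH X.left (ClSub.quotMod I) 2)) :
    Subsingleton (Coh.HH X.left (ClSub.quotMod (I * (Γ i).ι.ker)) 2) := by
  have hS := thickenSES_shortExact (Γ i).ι I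
  haveI : ((Scheme.Modules.pullback (Γ i).ι).obj (ClSub.idealMod I)).IsQuasicoherent := inferInstance
  haveI h1 : Subsingleton (Coh.HH X.left (thickenSES (Γ i).ι I).X₁ 2) :=
    subsingleton_push R X (Γ i) ((Scheme.Modules.pullback (Γ i).ι).obj (ClSub.idealMod I)) 0
  have hinj : Function.Injective (Canon.HHlin R (thickenSES (Γ i).ι I).g 2) := by
    rw [← LinearMap.ker_eq_bot, ← range_eq_ker₂ (thickenSES (Γ i).ι I) hS R 2]
    rw [eq_bot_iff]
    rintro _ ⟨x, rfl⟩
    rw [Subsingleton.elim x 0, map_zero]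
    exact Submodule.zero_mem _
  haveI h3 : Subsingleton (Coh.HH X.left (thickenSES (Γ i).ι I).X₃ 2) := h
  exact hinj.subsingleton

theorem quad_step {n : ℕ} (b : Fin n → ℤ) (i : Fin n) (c : Fin n → Fin n → ℤ)
    (hc : ∀ j l, c j l = c l j) (t : Fin n → ℤ) :
    (∑ j, (b j + if j = i then 1 else 0) * t j) -
        ∑ j, ∑ l, (b j + if j = i then 1 else 0) * (b l + if l = i then 1 else 0) * c j l =
      ((∑ j, b j * t j) - ∑ j, ∑ l, b j * b l * c j l) + t i - 2 * (∑ j, b j * c j i) - c i i := by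
  have h1 : ∑ j, (b j + if j = i then 1 else 0) * t j = (∑ j, b j * t j) + t i := by
    simp only [add_mul, Finset.sum_add_distrib, ite_mul, one_mul, zero_mul, Finset.sum_ite_eq',
      Finset.mem_univ, if_true]
  have h2 : ∑ j, ∑ l, (b j + if j = i then 1 else 0) * (b l + if l = i then 1 else 0) * c j l =
      (∑ j, ∑ l, b j * b l * c j l) + (∑ j, b j * c j i) + (∑ l, b l * c i l) + c i i := by
    simp only [add_mul, mul_add, Finset.sum_add_distrib, ite_mul, one_mul, zero_mul, mul_ite, mul_one,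
      mul_zero, Finset.sum_ite_eq', Finset.mem_univ, if_true]
    have h4 : (∑ x, ∑ x_1, if x = i then b x_1 * c x x_1 else 0) = ∑ l, b l * c i l := by
      rw [Finset.sum_comm]
      refine Finset.sum_congr rfl fun l _ => ?_
      simp only [Finset.sum_ite_eq', Finset.mem_univ, if_true]
    rw [h4]
    ring
  have h3 : ∑ l, b l * c i l = ∑ j, b j * c j i := Finset.sum_congr rfl fun l _ => by rw [hc i l]
  rw [h1, h2, h3]
  ring

include hΓ hflat hft hreg hL in
/-- **`2χ(O_D) = Σ a_j (2χ(O_{Γ_j}) + Γ_j²) - D²`** for `0 ≤ D = Σ a_j Γ_j ≤ X_k`, and `H²(O_D) = 0` -/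
theorem chi_formula : ∀ (N : ℕ) (a : Fin n → ℕ), ∑ j, a j = N → (∀ j, a j ≤ Models.mult R X (Γ j)) →
    Subsingleton (Coh.HH X.left (ClSub.quotMod (divIdeal R X Γ a)) 2) ∧
    2 * chi R X Γ a =
      (∑ j, (a j : ℤ) * (2 * ((Models.wdeg R X (Γ j) : ℤ) - (Models.h1 R X (Γ j) : ℤ)) +
        ArSurf.inter R X (L j) (Γ j))) -
      ∑ j, ∑ l, (a j : ℤ) * (a l : ℤ) * ArSurf.inter R X (L l) (Γ j) := by
  intro N
  induction N with
  | zero =>
    intro a ha _
    have ha0 : ∀ j, a j = 0 := fun j =>
      (Finset.sum_eq_zero_iff.1 ha) j (Finset.mem_univ j)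
    have htop : divIdeal R X Γ a = ⊤ := by
      unfold divIdeal
      rw [← Scheme.IdealSheafData.one_eq_top]
      exact Finset.prod_eq_one fun j _ => by rw [ha0 j, pow_zero]
    have hsub : ∀ p, Subsingleton (Coh.HH X.left (ClSub.quotMod (divIdeal R X Γ a)) p) := fun p => by
      rw [htop]; exact subsingleton_HH_quotMod_top p
    refine ⟨hsub 2, ?_⟩
    have hl : ∀ p, Models.lengthH R X (ClSub.quotMod (divIdeal R X Γ a)) p = 0 := fun p => by
      haveI := hsub p
      unfold Models.lengthH
      rw [Module.length_eq_zero]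
      rfl
    unfold chi
    rw [hl 0, hl 1]
    simp only [ha0, Nat.cast_zero, zero_mul, Finset.sum_const_zero, sub_self, mul_zero]
  | succ N ih =>
    intro a ha hle
    obtain ⟨i, hi⟩ : ∃ i, 0 < a i := by
      by_contra hcon
      push Not at hcon
      have : ∑ j, a j = 0 := Finset.sum_eq_zero fun j _ => Nat.le_zero.1 (hcon j)
      omega
    set a' : Fin n → ℕ := fun j => a j - if j = i then 1 else 0 with ha'
    have haa : ∀ j, a j = a' j + if j = i then 1 else 0 := by
      intro j
      by_cases hji : j = i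
      · subst hji; simp only [ha', if_true]; omega
      · simp only [ha', if_neg hji]; omega
    have hsum : ∑ j, a' j = N := by
      have h1 : ∑ j, a j = ∑ j, a' j + ∑ j, (if j = i then 1 else 0 : ℕ) := by
        rw [← Finset.sum_add_distrib]
        exact Finset.sum_congr rfl fun j _ => haa j
      rw [Finset.sum_ite_eq' Finset.univ i (fun _ => 1), if_pos (Finset.mem_univ i)] at h1
      omega
    have hle' : ∀ j, a' j ≤ Models.mult R X (Γ j) := fun j => le_trans (Nat.sub_le _ _) (hle j)
    obtain ⟨ih2, ihχ⟩ := ih a' hsum hle'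
    have hstep : ∀ j, a' j + (if j = i then 1 else 0) ≤ Models.mult R X (Γ j) := fun j => by
      rw [← haa j]; exact hle j
    have hdiv : divIdeal R X Γ a = divIdeal R X Γ a' * (Γ i).ι.ker := by
      rw [← divIdeal_succ R X Γ a' i]
      unfold divIdeal
      exact Finset.prod_congr rfl fun j _ => by rw [haa j]
    refine ⟨?_, ?_⟩
    · rw [hdiv]
      exact subsingleton_HH_two_thicken R X Γ _ i ih2
    · have he := euler_thicken R X Γ hΓ hflat hft hreg L hL a' i hstep
      have hchi : chi R X Γ a = chi R X Γ a' -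
          (∑ j, (a' j : ℤ) * ArSurf.inter R X (L i) (Γ j)) +
          ((Models.wdeg R X (Γ i) : ℤ) - (Models.h1 R X (Γ i) : ℤ)) := by
        unfold chi
        rw [hdiv]
        linarith
      have hq := quad_step (fun j => (a' j : ℤ)) i (fun j l => ArSurf.inter R X (L l) (Γ j))
        (fun j l => inter_symm R X Γ hΓ hflat hft hreg L hL j l)
        (fun j => 2 * ((Models.wdeg R X (Γ j) : ℤ) - (Models.h1 R X (Γ j) : ℤ)) + ArSurf.inter R X (L j) (Γ j))
      have hcast : ∀ j, (a j : ℤ) = (a' j : ℤ) + if j = i then 1 else 0 := fun j => by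
        rw [haa j]; push_cast; split_ifs <;> simp
      simp only [hcast]
      rw [hq, hchi]
      linarith

end Groth.Agent.Lib.Helper1.Inter25
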