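import Groth.Agent.Lib.Helper1.ShriekTensor

/-!
# Projection formula for extension by zero of sheaves of modules
-/

set_option autoImplicit false
universe u
open CategoryTheory CategoryTheory.Limits MonoidalCategory Opposite

namespace Groth.Agent.Lib.Helper1.ShriekProj

open Groth.Agent.Lib.Helper1.Shriek Groth.Agent.Lib.Helper1.TensorAdj
  Groth.Agent.Lib.Helper1.TensorRestr Groth.Agent.Lib.Helper1.ShriekTensor
  Groth.Agent.Lib.Helper1.ShriekSheaf

variable {C : Type u} [SmallCategory C] {J : GrothendieckTopology C} (O : Sheaf J CommRingCat.{u})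
  (X : C)

/-- the explicit extension by zero, typed on `Mod` -/
noncomputable abbrev ez' : ModSite.Mod (O.over X) ⥤ ModSite.Mod O :=
  extZero' (ModSite.ringSh O) X

/-- the adjunction for the explicit extension by zero, typed on `Mod` -/
noncomputable abbrev ezAdj' : ez' O X ⊣ ModSite.restr O X :=
  adj' (ModSite.ringSh O) X

/-- the chosen extension by zero agrees with the explicit one -/
noncomputable def extZeroIso : ModSite.extZero O X ≅ ez' O X :=
  (ModSite.extZeroAdj O X).leftAdjointUniq (ezAdj' O X)

/-- right adjoints agree -/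
noncomputable def rightIso : incl O ⋙ j₀ O X ≅ ModSite.restr O X ⋙ incl (O.over X) :=
  NatIso.ofComponents (fun M => Iso.refl _) (by
    intro M M' f
    simp only [Iso.refl_hom, Category.comp_id, Category.id_comp]
    rfl)

/-- `a ∘ j_!^{pre} ≅ j_! ∘ a_X` -/
noncomputable def shShfIso : sh O X ⋙ shf O ≅ shf (O.over X) ⋙ ez' O X :=
  (((shAdj O X).comp (adj O)).ofNatIsoRight (rightIso O X)).leftAdjointUniq
    ((adj (O.over X)).comp (ezAdj' O X))

/-- projection formula for the explicit extension by zero -/
noncomputable def projIso' (P : ModSite.Mod (O.over X)) (N : ModSite.Mod O) :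
    (ez' O X).obj (((ModSite.tensorBi (O.over X)).obj P).obj ((ModSite.restr O X).obj N)) ≅
      ((ModSite.tensorBi O).obj ((ez' O X).obj P)).obj N :=
  ((shShfIso O X).app (under (O.over X) P ⊗ (j₀ O X).obj (under O N))).symm ≪≫
    (shf O).mapIso (asIso (θ O X (under (O.over X) P) (under O N))) ≪≫
    @asIso _ _ _ _ _ (isIso_G_map_unit O (under O N) ((sh O X).obj (under (O.over X) P)))

/-- projection formula -/
noncomputable def projIso (P : ModSite.Mod (O.over X)) (N : ModSite.Mod O) :
    (ModSite.extZero O X).obj
        (((ModSite.tensorBi (O.over X)).obj P).obj ((ModSite.restr O X).obj N)) ≅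
      ((ModSite.tensorBi O).obj ((ModSite.extZero O X).obj P)).obj N :=
  (extZeroIso O X).app _ ≪≫ projIso' O X P N ≪≫
    ((ModSite.tensorBi O).mapIso ((extZeroIso O X).app P).symm).app N

end Groth.Agent.Lib.Helper1.ShriekProj
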