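import Mathlib.CategoryTheory.Limits.Preserves.Basic
import Mathlib.CategoryTheory.Adjunction.Limits
import Mathlib.CategoryTheory.Adjunction.FullyFaithful

/-!
# Colimit preservation for functors out of a reflective subcategory
-/

set_option autoImplicit false
open CategoryTheory CategoryTheory.Limits

namespace Groth.Agent.Lib.Helper1.ReflColim

universe v₁ v₂ v₃ u₁ u₂ u₃ w w'

variable {A : Type u₁} [Category.{v₁} A] {B : Type u₂} [Category.{v₂} B]
  {E : Type u₃} [Category.{v₃} E]

/-- If `F` preserves the colimit of `D` and `F ⋙ T` does as well, then `T` preserves the colimit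
of `D ⋙ F`. -/
lemma preservesColimit_comp_of {K : Type w} [Category.{w'} K] (D : K ⥤ A) [HasColimit D]
    (F : A ⥤ B) (T : B ⥤ E) [PreservesColimit D F] [PreservesColimit D (F ⋙ T)] :
    PreservesColimit (D ⋙ F) T :=
  preservesColimit_of_preserves_colimit_cocone (isColimitOfPreserves F (colimit.isColimit D))
    (isColimitOfPreserves (F ⋙ T) (colimit.isColimit D))

/-- Let `a ⊣ ι` with `ι` fully faithful and let `G : A ⥤ E` preserve colimits of shape `K` and
invert the units. Then `ι ⋙ G` preserves colimits of shape `K`. -/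
lemma preservesColimitsOfShape_comp {a : A ⥤ B} {ι : B ⥤ A} (adj : a ⊣ ι) [ι.Full] [ι.Faithful]
    (G : A ⥤ E) (hG : ∀ P : A, IsIso (G.map (adj.unit.app P)))
    (K : Type w) [Category.{w'} K] [HasColimitsOfShape K A] [PreservesColimitsOfShape K G] :
    PreservesColimitsOfShape K (ι ⋙ G) := by
  constructor
  intro D
  -- `G ≅ a ⋙ ι ⋙ G`
  haveI : IsIso (Functor.whiskerRight adj.unit G) := by
    rw [NatTrans.isIso_iff_isIso_app]
    intro P
    exact hG P
  let e : G ≅ a ⋙ ι ⋙ G := (Functor.leftUnitor G).symm ≪≫ asIso (Functor.whiskerRight adj.unit G) ≪≫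
    Functor.associator _ _ _
  haveI : PreservesColimit (D ⋙ ι) (a ⋙ ι ⋙ G) := preservesColimit_of_natIso _ e
  haveI : PreservesColimit (D ⋙ ι) a := adj.leftAdjoint_preservesColimits.preservesColimitsOfShape.preservesColimit
  haveI := preservesColimit_comp_of (D ⋙ ι) a (ι ⋙ G)
  have e' : (D ⋙ ι) ⋙ a ≅ D := Functor.associator _ _ _ ≪≫
    Functor.isoWhiskerLeft D (asIso adj.counit) ≪≫ Functor.rightUnitor D
  exact preservesColimit_of_iso_diagram (ι ⋙ G) e'

end Groth.Agent.Lib.Helper1.ReflColim
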