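import Groth.Prelude.Def_ModSite
import Groth.Agent.Lib.Helper1.TensorLoc
import Groth.Agent.Lib.Helper1.ReflColim
import Groth.Agent.S6152
import Mathlib.CategoryTheory.Adjunction.AdjointFunctorTheorems
import Mathlib.CategoryTheory.Abelian.Subobject

/-!
# `- ⊗_O N` on sheaves of modules is a left adjoint (special adjoint functor theorem)
-/

set_option autoImplicit false
universe u
open CategoryTheory CategoryTheory.Limits MonoidalCategory Opposite

namespace Groth.Agent.Lib.Helper1.TensorAdj

variable {C : Type u} [SmallCategory C] {J : GrothendieckTopology C} (O : Sheaf J CommRingCat.{u})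

/-- the presheaf category -/
abbrev PMod := PresheafOfModules.{u} (O.obj ⋙ forget₂ CommRingCat.{u} RingCat.{u})

/-- the inclusion of sheaves of modules in presheaves of modules (right adjoint of `sheafify`) -/
noncomputable abbrev incl : ModSite.Mod O ⥤ PMod O :=
  SheafOfModules.forget (ModSite.ringSh O) ⋙ PresheafOfModules.restrictScalars (𝟙 (ModSite.ringSh O).obj)

/-- sheafification, typed on `PMod O` -/
noncomputable abbrev shf : PMod O ⥤ ModSite.Mod O := ModSite.sheafify O

/-- the adjunction `sheafify ⊣ incl` -/
noncomputable abbrev adj : shf O ⊣ incl O :=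
  PresheafOfModules.sheafificationAdjunction (𝟙 (ModSite.ringSh O).obj)

/-- `P ↦ a(P ⊗ N')` -/
noncomputable abbrev G (N' : PMod O) : PMod O ⥤ ModSite.Mod O :=
  tensorRight N' ⋙ shf O

instance (N' : PMod O) : PreservesColimitsOfSize.{u, u} (G O N') :=
  ⟨fun {K} _ => ⟨fun {D} => ⟨fun {c} hc =>
    ⟨isColimitOfPreserves (ModSite.sheafify O) (isColimitOfPreserves (tensorRight N') hc)⟩⟩⟩⟩

instance : HasColimitsOfSize.{u, u} (PMod O) :=
  inferInstanceAs (HasColimitsOfSize.{u, u} (PresheafOfModules.{u} (ModSite.ringSh O).obj))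

open Groth.Agent.Lib.Helper1 in
lemma isIso_G_map_unit (N' P : PMod O) : IsIso ((G O N').map ((adj O).unit.app P)) := by
  have hi : Presheaf.IsLocallyInjective J ((PresheafOfModules.toPresheaf _).map
      ((adj O).unit.app P)) := by
    show Presheaf.IsLocallyInjective J (toSheafify J P.presheaf)
    infer_instance
  have hs : Presheaf.IsLocallySurjective J ((PresheafOfModules.toPresheaf _).map
      ((adj O).unit.app P)) := by
    show Presheaf.IsLocallySurjective J (toSheafify J P.presheaf)
    infer_instance
  have h1 := TensorLoc.isLocallyInjective_whiskerRight (R := O.obj) J ((adj O).unit.app P) hi hs N'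
  have h2 := TensorLoc.isLocallySurjective_tensorHom (R := O.obj) J ((adj O).unit.app P) (𝟙 N') hs
    (by rw [CategoryTheory.Functor.map_id]; infer_instance)
  rw [tensorHom_id] at h2
  exact TensorLoc.isIso_sheafification_map (𝟙 (ModSite.ringSh O).obj) _ h1 h2

instance : (incl O).Full :=
  inferInstanceAs ((SheafOfModules.forget (ModSite.ringSh O) ⋙
    PresheafOfModules.restrictScalars (𝟙 (ModSite.ringSh O).obj)).Full)

instance : (incl O).Faithful :=
  inferInstanceAs ((SheafOfModules.forget (ModSite.ringSh O) ⋙
    PresheafOfModules.restrictScalars (𝟙 (ModSite.ringSh O).obj)).Faithful)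

/-- `M ↦ a(M ⊗ N')` on sheaves of modules -/
noncomputable abbrev T (N' : PMod O) : ModSite.Mod O ⥤ ModSite.Mod O := incl O ⋙ G O N'

open Groth.Agent.Lib.Helper1 in
instance (N' : PMod O) : PreservesColimitsOfSize.{u, u} (T O N') :=
  ⟨fun {K} _ => ReflColim.preservesColimitsOfShape_comp (adj O) (G O N') (isIso_G_map_unit O N') K⟩

/-- the small separating family of `Mod O` -/
lemma isSeparating_freeOn :
    (ObjectProperty.ofObj fun X : (Set.univ : Set C) => ModSite.freeOn O (X : C)).IsSeparating :=
  (Groth.Agent.S6152.result O Set.univ (fun X =>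
    ⟨PUnit, fun _ => X, fun _ => 𝟙 X, by
      convert J.top_mem X
      ext Y f
      simp only [Sieve.top_apply, iff_true]
      exact ⟨X, f, 𝟙 X, ⟨PUnit.unit⟩, by simp⟩, fun _ => Set.mem_univ _⟩)).2

lemma isDetecting_freeOn :
    (ObjectProperty.ofObj fun X : (Set.univ : Set C) => ModSite.freeOn O (X : C)).IsDetecting :=
  (isSeparating_freeOn O).isDetecting

instance : WellPowered.{u} (ModSite.Mod O) :=
  wellPowered_of_isDetecting (isDetecting_freeOn O)

instance : WellPowered.{u} (ModSite.Mod O)ᵒᵖ := inferInstance

theorem isLeftAdjoint_T (N' : PMod O) : (T O N').IsLeftAdjoint :=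
  isLeftAdjoint_of_preservesColimits_of_isSeparating (isSeparating_freeOn O) (T O N')

/-- the underlying presheaf of modules of a sheaf of modules -/
noncomputable abbrev under (N : ModSite.Mod O) : PMod O :=
  (SheafOfModules.forget (ModSite.ringSh O)).obj N

/-- `- ⊗_O N` as `T` -/
noncomputable def tensorFlipIso (N : ModSite.Mod O) :
    (ModSite.tensorBi O).flip.obj N ≅ T O (under O N) :=
  NatIso.ofComponents (fun M => Iso.refl _) (by
    intro M M' f
    simp only [Iso.refl_hom, Category.comp_id, Category.id_comp]
    rfl)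

theorem hasSheafHom (N : ModSite.Mod O) : ModSite.HasSheafHom N := by
  haveI := isLeftAdjoint_T O (under O N)
  exact Functor.isLeftAdjoint_of_iso (tensorFlipIso O N).symm

end Groth.Agent.Lib.Helper1.TensorAdj
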