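import Groth.Prelude.Def_ModSite
import Groth.Agent.Lib.Helper1.TensorAdj
import Mathlib.Algebra.Category.ModuleCat.Presheaf.PushforwardZeroMonoidal
import Mathlib.CategoryTheory.Sites.PreservesLocallyBijective

/-!
# Restriction to `C/X` commutes with the tensor product of sheaves of modules
-/

set_option autoImplicit false
universe u
open CategoryTheory CategoryTheory.Limits MonoidalCategory Opposite

namespace Groth.Agent.Lib.Helper1.TensorRestr

open Groth.Agent.Lib.Helper1.TensorAdj

variable {C : Type u} [SmallCategory C] {J : GrothendieckTopology C} (O : Sheaf J CommRingCat.{u})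
  (X : C)

/-- restriction of presheaves of modules to `C/X` -/
noncomputable abbrev j₀ : PMod O ⥤ PMod (O.over X) :=
  PresheafOfModules.pushforward₀OfCommRingCat (Over.forget X) O.obj

/-- the underlying presheaf of the restriction of a sheaf of modules -/
noncomputable def underRestrIso (M : ModSite.Mod O) :
    under (O.over X) ((ModSite.restr O X).obj M) ≅ (j₀ O X).obj (under O M) :=
  Iso.refl _

open Groth.Agent.Lib.Helper1 in
/-- restriction commutes with sheafification -/
lemma isIso_shf_map_j₀_unit (P : PMod O) :
    IsIso ((shf (O.over X)).map ((j₀ O X).map ((adj O).unit.app P))) := by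
  have hi : Presheaf.IsLocallyInjective J ((PresheafOfModules.toPresheaf _).map
      ((adj O).unit.app P)) := by
    show Presheaf.IsLocallyInjective J (toSheafify J P.presheaf)
    infer_instance
  have hs : Presheaf.IsLocallySurjective J ((PresheafOfModules.toPresheaf _).map
      ((adj O).unit.app P)) := by
    show Presheaf.IsLocallySurjective J (toSheafify J P.presheaf)
    infer_instance
  refine TensorLoc.isIso_sheafification_map (𝟙 (ModSite.ringSh (O.over X)).obj) _ ?_ ?_
  · show Presheaf.IsLocallyInjective (J.over X) (Functor.whiskerLeft (Over.forget X).op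
      ((PresheafOfModules.toPresheaf _).map ((adj O).unit.app P)))
    exact Presheaf.isLocallyInjective_whisker (J.over X) J (Over.forget X) _
  · show Presheaf.IsLocallySurjective (J.over X) (Functor.whiskerLeft (Over.forget X).op
      ((PresheafOfModules.toPresheaf _).map ((adj O).unit.app P)))
    exact Presheaf.isLocallySurjective_whisker (J.over X) J (Over.forget X) _

/-- `(aP)|X ≅ a_X(P|X)` -/
noncomputable def restrShfIso (P : PMod O) :
    (ModSite.restr O X).obj ((shf O).obj P) ≅ (shf (O.over X)).obj ((j₀ O X).obj P) :=
  haveI := isIso_shf_map_j₀_unit O X P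
  ((asIso ((adj (O.over X)).counit.app ((ModSite.restr O X).obj ((shf O).obj P)))).symm ≪≫
    (shf (O.over X)).mapIso (underRestrIso O X ((shf O).obj P))) ≪≫
    (asIso ((shf (O.over X)).map ((j₀ O X).map ((adj O).unit.app P)))).symm

/-- restriction of presheaves commutes with the presheaf tensor product -/
noncomputable def μ' (A B : PMod O) :
    ((j₀ O X).obj A ⊗ (j₀ O X).obj B : PMod (O.over X)) ≅ (j₀ O X).obj (A ⊗ B) :=
  Functor.Monoidal.μIso (PresheafOfModules.pushforward₀OfCommRingCat (Over.forget X) O.obj) A B

/-- restriction commutes with the tensor product -/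
noncomputable def restrTensorIso (M N : ModSite.Mod O) :
    (ModSite.restr O X).obj (((ModSite.tensorBi O).obj M).obj N) ≅
      ((ModSite.tensorBi (O.over X)).obj ((ModSite.restr O X).obj M)).obj
        ((ModSite.restr O X).obj N) :=
  restrShfIso O X (under O M ⊗ under O N) ≪≫
    (shf (O.over X)).mapIso
      (μ' O X (under O M) (under O N)).symm

end Groth.Agent.Lib.Helper1.TensorRestr
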