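import Groth.Agent.Lib.Helper1.Inter25
import Groth.Agent.Lib.Helper8.EulerBC

/-!
# Helper1 — the genus formula for a regular proper model (assembly for S3321)
-/
set_option backward.isDefEq.respectTransparency.types false
set_option autoImplicit false
set_option maxHeartbeats 400000
universe u
open CategoryTheory CategoryTheory.Limits AlgebraicGeometry Opposite TopologicalSpace TensorProduct

noncomputable section

namespace Groth.Agent.Lib.Helper1.Inter26

open Groth.Agent.Lib.Helper1.Inter

theorem finrank_tensor_fraction (R : Type u) (K : Type u) [CommRing R] [IsDomain R] [Field K] [Algebra R K]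
    [IsFractionRing R K] (M : Type u) [AddCommGroup M] [Module R M] :
    Module.finrank K (K ⊗[R] M) = Module.finrank R M := by
  rw [IsFractionRing.finrank_right_eq R K (K ⊗[R] M)]
  exact IsLocalizedModule.finrank_eq (nonZeroDivisors R) (TensorProduct.mk R K M 1) le_rfl

/-- `H⁰(C, O_C) = K` gives `dim_K H⁰(C, O_C) = 1` -/
theorem hRank_zero_eq_one (K : Type u) [Field K] (C : Scheme.{u}) (f : C ⟶ Spec (CommRingCat.of K))
    (hH0 : IsIso f.appTop) :
    Models.hRank K C f (Coh.structureModule C) 0 = 1 := by
  letI : C.Over (Spec (CommRingCat.of K)) := ⟨f⟩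
  show Module.finrank K (Coh.HH C (Coh.structureModule C) 0) = 1
  have hbij : Function.Bijective (Coh.toGlobal f) := by
    haveI : IsIso (f.appTop) := hH0
    have h1 : Function.Bijective (f.appTop).hom := (ConcreteCategory.isIso_iff_bijective _).1 inferInstance
    have h2 : Function.Bijective (Scheme.ΓSpecIso (CommRingCat.of K)).inv.hom :=
      (ConcreteCategory.isIso_iff_bijective _).1 inferInstance
    exact h1.comp h2
  let O := Coh.structureModule C
  let E : K ≃ₗ[K] Coh.HH C O 0 :=
    { toFun := fun c => (e0 O).symm (show Γ(O, ⊤) from Coh.toGlobal f c)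
      map_add' := fun a b => by
        rw [map_add]
        exact map_add (e0 O).symm _ _
      map_smul' := fun c a => by
        apply (e0 O).injective
        rw [RingHom.id_apply, e0_smul K O, AddEquiv.apply_symm_apply, AddEquiv.apply_symm_apply]
        show Coh.toGlobal f (c * a) = Coh.toGlobal f c * Coh.toGlobal f a
        exact map_mul _ _ _
      invFun := fun x => (Equiv.ofBijective _ hbij).symm (e0 O x)
      left_inv := fun c => by
        show (Equiv.ofBijective _ hbij).symm ((e0 O) ((e0 O).symm _)) = c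
        rw [AddEquiv.apply_symm_apply]
        exact (Equiv.ofBijective _ hbij).symm_apply_apply c
      right_inv := fun x => by
        apply (e0 O).injective
        show (e0 O) ((e0 O).symm _) = _
        rw [AddEquiv.apply_symm_apply]
        exact (Equiv.ofBijective _ hbij).apply_symm_apply _ }
  rw [← E.finrank_eq]
  exact Module.finrank_self K

variable (R : Type u) [CommRing R] [IsDomain R] [IsDiscreteValuationRing R]
  (C X : Scheme.{u}) (f : C ⟶ Spec (CommRingCat.of (FractionRing R))) (p : X ⟶ Spec (CommRingCat.of R))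

omit [IsDiscreteValuationRing R] in
/-- flat base change to the generic fibre: `dim_K H^i(C, O_C) = rank_R H^i(X, O_X)` -/
theorem hRank_generic (g : C ⟶ X)
    (hpb : IsPullback g f p (Spec.map (CommRingCat.ofHom (algebraMap R (FractionRing R)))))
    [QuasiCompact p] [QuasiSeparated p] (i : ℕ) :
    Models.hRank (FractionRing R) C f (Coh.structureModule C) i =
      Module.finrank R (Coh.HH (Over.mk p).left (Coh.structureModule (Over.mk p).left) i) := by
  letI : X.Over (Spec (CommRingCat.of R)) := ⟨p⟩
  letI : C.Over (Spec (CommRingCat.of (FractionRing R))) := ⟨f⟩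
  haveI : CompactSpace X := QuasiCompact.compactSpace_of_compactSpace p
  haveI : QuasiSeparatedSpace X := quasiSeparatedSpace_of_quasiSeparated p
  obtain ⟨e⟩ := Groth.Agent.S0034.result R (FractionRing R) X C g hpb (Coh.structureModule X) i
  have h1 := e.finrank_eq
  rw [finrank_tensor_fraction] at h1
  have h2 := Groth.Agent.Lib.Helper8.EulerBC.finrank_congr (FractionRing R)
    (Groth.Agent.Lib.Helper16.RS.pullbackUnitIso g) i
  show Module.finrank (FractionRing R) (Coh.HH C (Coh.structureModule C) i) = _
  rw [← h2, ← h1]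
  rfl

/-- **S3321 core** -/
theorem genus_formula (hH0 : IsIso f.appTop)
    (hX : Models.IsRegularProperModel R X p C f)
    {n : ℕ} (Γ : Fin n → ArSurf.VertComp R (Over.mk p)) (hΓ : Models.IsComponentList R (Over.mk p) Γ)
    (L : Fin n → X.Modules) (hL : ∀ i, ClSub.IsInverseOf (L i) (ClSub.idealMod (Γ i).ι.ker)) :
    2 * (Models.curveGenus (FractionRing R) C f : ℤ) =
      2 + ∑ i, (Models.mult R (Over.mk p) (Γ i) : ℤ) *
        (2 * ((Models.h1 R (Over.mk p) (Γ i) : ℤ) - (Models.wdeg R (Over.mk p) (Γ i) : ℤ)) -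
          ArSurf.inter R (Over.mk p) (L i) (Γ i)) := by
  obtain ⟨⟨hflat, hft, hqc, g, hg⟩, hproper, hreg⟩ := hX
  obtain ⟨ϖ, hϖ⟩ := IsDiscreteValuationRing.exists_irreducible R
  haveI : IsProper (Over.mk p).hom := hproper
  haveI : IsProper p := hproper
  have hflat' : Flat (Over.mk p).hom := hflat
  have hft' : LocallyOfFiniteType (Over.mk p).hom := hft
  have hreg' : ∀ x : (Over.mk p).left, IsRegularLocalRing ((Over.mk p).left.presheaf.stalk x) := hreg
  obtain ⟨h2, hchi⟩ := Inter25.chi_formula R (Over.mk p) Γ hΓ hflat' hft' hreg' L hL _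
    (fun j => Models.mult R (Over.mk p) (Γ j)) rfl (fun j => le_rfl)
  have hdiv : Inter25.divIdeal R (Over.mk p) Γ (fun j => Models.mult R (Over.mk p) (Γ j)) =
      Models.specialFibreIdeal R (Over.mk p) :=
    (FibGeom.specialFibreIdeal_eq_prod R (Over.mk p) hflat' hreg' Γ hΓ).symm
  have heul := Inter23.euler_closedFibre R (Over.mk p) ϖ hϖ hflat' hft' (by rw [← hdiv]; exact h2)
  have hchi' : Inter25.chi R (Over.mk p) Γ (fun j => Models.mult R (Over.mk p) (Γ j)) =
      (Module.finrank R (Coh.HH (Over.mk p).left (Coh.structureModule (Over.mk p).left) 0) : ℤ) -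
        (Module.finrank R (Coh.HH (Over.mk p).left (Coh.structureModule (Over.mk p).left) 1) : ℤ) := by
    unfold Inter25.chi
    rw [hdiv]
    exact heul
  have hr0 := hRank_generic R C X f p g hg 0
  have hr1 := hRank_generic R C X f p g hg 1
  rw [hRank_zero_eq_one _ C f hH0] at hr0
  have hg1 : Models.curveGenus (FractionRing R) C f =
      Module.finrank R (Coh.HH (Over.mk p).left (Coh.structureModule (Over.mk p).left) 1) := hr1
  rw [← hr0, ← hg1] at hchi'
  have hzero : ∑ j, ∑ l, ((Models.mult R (Over.mk p) (Γ j) : ℕ) : ℤ) * ((Models.mult R (Over.mk p) (Γ l) : ℕ) : ℤ) *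
      ArSurf.inter R (Over.mk p) (L l) (Γ j) = 0 := by
    apply Finset.sum_eq_zero
    intro j _
    have := Inter.sum_mult_mul_inter_eq_zero_left R (Over.mk p) Γ hΓ L hL hflat' hft' hreg' j
    calc ∑ l, ((Models.mult R (Over.mk p) (Γ j) : ℕ) : ℤ) * ((Models.mult R (Over.mk p) (Γ l) : ℕ) : ℤ) *
          ArSurf.inter R (Over.mk p) (L l) (Γ j)
        = ((Models.mult R (Over.mk p) (Γ j) : ℕ) : ℤ) * ∑ l, ((Models.mult R (Over.mk p) (Γ l) : ℕ) : ℤ) *
          ArSurf.inter R (Over.mk p) (L l) (Γ j) := by
          rw [Finset.mul_sum]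
          exact Finset.sum_congr rfl fun l _ => by ring
      _ = 0 := by rw [this, mul_zero]
  rw [hchi', hzero, sub_zero] at hchi
  have hsum : ∑ i, (Models.mult R (Over.mk p) (Γ i) : ℤ) *
        (2 * ((Models.h1 R (Over.mk p) (Γ i) : ℤ) - (Models.wdeg R (Over.mk p) (Γ i) : ℤ)) -
          ArSurf.inter R (Over.mk p) (L i) (Γ i)) =
      - ∑ j, (Models.mult R (Over.mk p) (Γ j) : ℤ) *
        (2 * ((Models.wdeg R (Over.mk p) (Γ j) : ℤ) - (Models.h1 R (Over.mk p) (Γ j) : ℤ)) +
          ArSurf.inter R (Over.mk p) (L j) (Γ j)) := by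
    rw [← Finset.sum_neg_distrib]
    exact Finset.sum_congr rfl fun i _ => by ring
  rw [hsum, ← hchi]
  push_cast
  ring

end Groth.Agent.Lib.Helper1.Inter26
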