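import Groth.Agent.Lib.Helper1.VertDiv14

/-!
# The kernel of `Pic(X)[h] → Pic(C)[h]` is cyclic of order `gcd(h, d)` (helper1)
-/

set_option autoImplicit false
universe u

open CategoryTheory CategoryTheory.Limits AlgebraicGeometry TopologicalSpace IsLocalRing

namespace Groth.Agent.Lib.Helper1.VertDiv

open Groth.Agent.Lib.Helper8.PicCl Groth.Agent.Lib.Helper1.CartCl Groth.Agent.Lib.Helper1.FibGeom

attribute [local instance] Groth.Agent.Lib.Helper8.PicCl.commMonoid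

section NumberTheory

theorem exists_lt_gcd {n : ℕ} (m c : Fin n → ℕ) (h : ℕ) (hh : 0 < h) (k' : ℤ)
    (hk : ∀ i, ((h * c i : ℕ) : ℤ) - ((0 : ℕ) : ℤ) = k' * (m i : ℤ)) :
    ∃ k : ℕ, k < Nat.gcd h (Finset.univ.gcd m) ∧ ∃ t : ℤ, ∀ i,
      (c i : ℤ) - ((k * (m i / Nat.gcd h (Finset.univ.gcd m)) : ℕ) : ℤ) = t * (m i : ℤ) := by
  set d := Finset.univ.gcd m with hd
  set e := Nat.gcd h d with he
  have he0 : 0 < e := Nat.gcd_pos_of_pos_left _ hh
  have hem : ∀ i, e ∣ m i := fun i =>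
    (Nat.gcd_dvd_right h d).trans (Finset.gcd_dvd (Finset.mem_univ i))
  set m' : Fin n → ℕ := fun i => m i / e with hm'
  have hmm' : ∀ i, m i = e * m' i := fun i => (Nat.mul_div_cancel' (hem i)).symm
  have hgcd' : Finset.univ.gcd m' = d / e := by
    have h1 : d = e * Finset.univ.gcd m' := by
      rw [hd]
      have : m = fun i => e * m' i := funext hmm'
      rw [this, Finset.gcd_mul_left, normalize_eq]
    exact (Nat.div_eq_of_eq_mul_right he0 h1).symm
  have hcop' : Nat.Coprime (h / e) (Finset.univ.gcd m') := by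
    rw [hgcd']
    exact Nat.coprime_div_gcd_div_gcd he0
  have hh' : 0 < h / e := Nat.div_pos (Nat.le_of_dvd hh (Nat.gcd_dvd_left h d)) he0
  have hhe : h = e * (h / e) := (Nat.mul_div_cancel' (Nat.gcd_dvd_left h d)).symm
  obtain ⟨h', hh'e⟩ : ∃ h' : ℕ, h / e = h' := ⟨_, rfl⟩
  rw [hh'e] at hcop' hh' hhe
  have hm'e : ∀ i, m i / e = m' i := fun i => rfl
  clear_value m'
  have hk' : ∀ i, ((h' * c i : ℕ) : ℤ) - ((0 : ℕ) : ℤ) = k' * (m' i : ℤ) := by
    intro i
    have h1 := hk i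
    have he0' : (e : ℤ) ≠ 0 := by exact_mod_cast he0.ne'
    apply mul_left_cancel₀ he0'
    have h2 : (h : ℤ) = (e : ℤ) * (h' : ℤ) := by exact_mod_cast hhe
    have h3 : (m i : ℤ) = (e : ℤ) * (m' i : ℤ) := by exact_mod_cast hmm' i
    push_cast at h1 ⊢
    rw [h3, h2] at h1
    linarith
  obtain ⟨k'', hk''⟩ := exists_int_of_coprime m' c h' hh' hcop' k' hk'
  have he0' : (0 : ℤ) < (e : ℤ) := by exact_mod_cast he0
  refine ⟨(k'' % (e : ℤ)).toNat, ?_, k'' / (e : ℤ), fun i => ?_⟩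
  · have h1 : k'' % (e : ℤ) < e := Int.emod_lt_of_pos _ he0'
    have h2 : 0 ≤ k'' % (e : ℤ) := Int.emod_nonneg _ he0'.ne'
    omega
  · have h2 : 0 ≤ k'' % (e : ℤ) := Int.emod_nonneg _ he0'.ne'
    have h3 : (((k'' % (e : ℤ)).toNat : ℕ) : ℤ) = k'' % (e : ℤ) := Int.toNat_of_nonneg h2
    have h4 := hk'' i
    have h5 : (m i : ℤ) = (e : ℤ) * (m' i : ℤ) := by exact_mod_cast hmm' i
    have h6 := Int.emod_add_mul_ediv k'' (e : ℤ)
    rw [hm'e i, Nat.cast_mul, h3, h5]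
    rw [Nat.cast_zero, sub_zero] at h4
    rw [h4]
    calc k'' * (m' i : ℤ) - k'' % (e : ℤ) * (m' i : ℤ)
        = (k'' - k'' % (e : ℤ)) * (m' i : ℤ) := by ring
      _ = ((e : ℤ) * (k'' / (e : ℤ))) * (m' i : ℤ) := by
          congr 1
          linarith
      _ = k'' / (e : ℤ) * ((e : ℤ) * (m' i : ℤ)) := by ring

theorem eq_of_lt_gcd {n : ℕ} (m : Fin n → ℕ) (e : ℕ) (hem : ∀ i, e ∣ m i) (i₀ : Fin n)
    (hi₀ : 0 < m i₀) (k₁ k₂ : ℕ) (h1 : k₁ < e) (h2 : k₂ < e) (t : ℤ)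
    (ht : ∀ i, ((k₁ * (m i / e) : ℕ) : ℤ) - ((k₂ * (m i / e) : ℕ) : ℤ) = t * (m i : ℤ)) :
    k₁ = k₂ := by
  have h3 := ht i₀
  have h4 : m i₀ = e * (m i₀ / e) := (Nat.mul_div_cancel' (hem i₀)).symm
  have h5 : 0 < m i₀ / e := by
    rcases Nat.eq_zero_or_pos (m i₀ / e) with h | h
    · rw [h, mul_zero] at h4
      omega
    · exact h
  set m' := m i₀ / e with hm'
  have h6 : ((k₁ : ℤ) - (k₂ : ℤ)) = t * (e : ℤ) := by
    have h7 : (m' : ℤ) ≠ 0 := by exact_mod_cast h5.ne'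
    apply mul_right_cancel₀ h7
    have h8 : (m i₀ : ℤ) = (e : ℤ) * (m' : ℤ) := by exact_mod_cast h4
    push_cast at h3
    rw [h8] at h3
    linarith
  have h9 : ((k₁ : ℤ) - (k₂ : ℤ)) = 0 := by
    apply Int.eq_zero_of_abs_lt_dvd (m := (e : ℤ))
    · exact ⟨t, by rw [h6]; ring⟩
    · rw [abs_lt]
      constructor <;> omega
  omega

end NumberTheory

/-- class-level form of S3314. -/
theorem prod_cl_pow_eq_iff (R : Type u) [CommRing R] [IsDomain R] [IsDiscreteValuationRing R]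
    (C X : Scheme.{u}) (f : C ⟶ Spec (CommRingCat.of (FractionRing R))) (p : X ⟶ Spec (CommRingCat.of R))
    (hH0 : IsIso f.appTop)
    (hX : Models.IsRegularProperModel R X p C f)
    {n : ℕ} (Γ : Fin n → ArSurf.VertComp R (Over.mk p)) (hΓ : Models.IsComponentList R (Over.mk p) Γ)
    (L : Fin n → X.Modules) (hL : ∀ i, ClSub.IsInverseOf (L i) (ClSub.idealMod (Γ i).ι.ker)) (a b : Fin n → ℕ) :
    ∏ i, PicF.cl (L i) ^ a i = ∏ i, PicF.cl (L i) ^ b i ↔
      ∃ c : ℤ, ∀ i, (a i : ℤ) - (b i : ℤ) = c * (Models.mult R (Over.mk p) (Γ i) : ℤ) := by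
  rw [← cl_multiTwist, ← cl_multiTwist, cl_eq_iff]
  exact multiTwist_iso_iff R C X f p hH0 hX Γ hΓ L hL a b

/-- there is at least one fibre component. -/
theorem exists_component (R : Type u) [CommRing R] [IsDomain R] [IsDiscreteValuationRing R]
    (C X : Scheme.{u}) (f : C ⟶ Spec (CommRingCat.of (FractionRing R))) (p : X ⟶ Spec (CommRingCat.of R))
    (hH0 : IsIso f.appTop) [IsProper p] (g : C ⟶ X)
    {n : ℕ} (Γ : Fin n → ArSurf.VertComp R (Over.mk p)) (hΓ : Models.IsComponentList R (Over.mk p) Γ) :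
    Nonempty (Fin n) := by
  have hC : Nonempty C := by
    by_contra hemp
    rw [not_nonempty_iff] at hemp
    have h1 : Subsingleton Γ(C, ⊤) := by
      have : (⊤ : C.Opens) = ⊥ := by
        apply Opens.ext
        exact Set.eq_empty_of_isEmpty _ |>.trans (Set.eq_empty_of_isEmpty _).symm
      rw [this]
      exact CommRingCat.subsingleton_of_isTerminal (C.sheaf.isTerminalOfEmpty)
    have h2 : Function.Bijective f.appTop.hom := ConcreteCategory.bijective_of_isIso f.appTop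
    have h3 : Function.Bijective (Scheme.ΓSpecIso (CommRingCat.of (FractionRing R))).inv.hom :=
      ConcreteCategory.bijective_of_isIso (Scheme.ΓSpecIso (CommRingCat.of (FractionRing R))).inv
    have h4 := (h2.comp h3).1 (Subsingleton.elim
      (f.appTop.hom ((Scheme.ΓSpecIso (CommRingCat.of (FractionRing R))).inv.hom 1))
      (f.appTop.hom ((Scheme.ΓSpecIso (CommRingCat.of (FractionRing R))).inv.hom 0)))
    exact one_ne_zero h4
  obtain ⟨c₀⟩ := hC
  haveI : Nonempty (Over.mk p).left := ⟨g c₀⟩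
  haveI : IsProper (Over.mk p).hom := ‹IsProper p›
  obtain ⟨x, hx⟩ := exists_mem_specialFibreSet R (Over.mk p)
  obtain ⟨i, -⟩ := exists_index_of_mem_specialFibreSet R (Over.mk p) Γ hΓ x hx
  exact ⟨i⟩

end Groth.Agent.Lib.Helper1.VertDiv
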