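import Groth.Agent.Lib.Helper1.Inter26
import Groth.Agent.Lib.Helper1.VertDiv15

/-!
# Helper1 — the numerical type of a regular proper model (assembly for S3322)

The field of constants `κ = H⁰(Γ, O_Γ)` of an integral proper curve acts on all cohomology groups, so
`[κ : k]` divides every `dim_k H^p(Γ, F)`; hence `w_i ∣ (Γ_i · Γ_j)` and `w_i ∣ h¹(O_{Γ_i})`.
-/
set_option backward.isDefEq.respectTransparency.types false
set_option autoImplicit false
set_option maxHeartbeats 400000
universe u
open CategoryTheory CategoryTheory.Limits AlgebraicGeometry Opposite TopologicalSpace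

noncomputable section

namespace Groth.Agent.Lib.Helper1.Inter27

open Groth.Agent.Lib.Helper1.Inter

theorem free_of_isField {A V : Type*} [CommRing A] (hA : IsField A) [AddCommGroup V] [Module A V] :
    Module.Free A V :=
  @Module.Free.of_divisionRing A V hA.toField.toDivisionRing _ ‹Module A V›

theorem finrank_dvd_of_isField {k A V : Type*} [Field k] [CommRing A] [Algebra k A] (hA : IsField A)
    [AddCommGroup V] [Module k V] [Module A V] [IsScalarTower k A V] :
    Module.finrank k A ∣ Module.finrank k V := by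
  haveI := free_of_isField (V := V) hA
  haveI : Nontrivial A := hA.nontrivial
  exact ⟨Module.finrank A V, (Module.finrank_mul_finrank k A V).symm⟩

/-- a field `A` (given as a ring with `IsField`) acting on `V` compatibly with `k`: `[A : k]` divides `dim_k V` -/
theorem finrank_dvd_of_isField' {k A V W : Type*} [Field k] [CommRing A] (φ : k →+* A) (hA : IsField A)
    [AddCommGroup V] [Module k V] [Module A V] (h : ∀ (c : k) (v : V), c • v = φ c • v)
    [AddCommGroup W] [Module k W] (e : W ≃+ A) (he : ∀ (c : k) (w : W), e (c • w) = φ c * e w) :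
    Module.finrank k W ∣ Module.finrank k V := by
  letI : Algebra k A := φ.toAlgebra
  haveI : IsScalarTower k A V := ⟨fun c a v => by
    rw [h c (a • v), Algebra.smul_def, mul_smul]
    rfl⟩
  let E : W ≃ₗ[k] A :=
    { e with
      map_smul' := fun c w => by
        show e (c • w) = c • e w
        rw [he, Algebra.smul_def]
        rfl }
  rw [E.finrank_eq]
  exact finrank_dvd_of_isField hA

section field

variable (k : Type u) [Field k] (Y : Scheme.{u}) [Y.Over (Spec (CommRingCat.of k))] [IsIntegral Y]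
  [IsProper (Y ↘ Spec (CommRingCat.of k))]

/-- `H⁰(Y, O_Y) ≃ Γ(Y, O_Y)`, `k`-linear -/
def E0 : Coh.HH Y (Coh.structureModule Y) 0 ≃+ Γ(Y, ⊤) := e0 (Coh.structureModule Y)

omit [IsIntegral Y] [IsProper (Y ↘ Spec (CommRingCat.of k))] in
theorem E0_smul (c : k) (x : Coh.HH Y (Coh.structureModule Y) 0) :
    E0 Y (c • x) = toΓ k (Y := Y) c * E0 Y x :=
  e0_smul k (Coh.structureModule Y) c x

include k in
/-- the global functions of an integral proper `k`-scheme form a field -/
theorem isField_Γ : IsField Γ(Y, ⊤) := by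
  letI alg : Algebra k Γ(Y, ⊤) := (toΓ k (Y := Y)).toAlgebra
  haveI : Nonempty (⊤ : Y.Opens) := ⟨⟨Classical.arbitrary Y, trivial⟩⟩
  haveI : IsDomain Γ(Y, ⊤) := inferInstance
  haveI := Groth.Agent.S0002.result k Y (Coh.structureModule Y)
    Groth.Agent.Lib.Helper6.DevRed.isCoh_structureModule 0
  let E : Coh.HH Y (Coh.structureModule Y) 0 ≃ₗ[k] Γ(Y, ⊤) :=
    { E0 Y with
      map_smul' := fun c x => by
        show E0 Y (c • x) = c • E0 Y x
        rw [E0_smul k Y c x, Algebra.smul_def]
        rfl }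
  haveI : Module.Finite k Γ(Y, ⊤) := Module.Finite.equiv E
  haveI : Algebra.IsIntegral k Γ(Y, ⊤) := Algebra.IsIntegral.of_finite k _
  exact isField_of_isIntegral_of_isField' (Field.toIsField k)

/-- **`[H⁰(Y, O_Y) : k]` divides `dim_k H^p(Y, F)`** on an integral proper `k`-scheme -/
theorem finrank_H0_dvd (F : Y.Modules) (p : ℕ) :
    Module.finrank k (Coh.HH Y (Coh.structureModule Y) 0) ∣ Module.finrank k (Coh.HH Y F p) := by
  letI mA : Module Γ(Y, ⊤) (Coh.HH Y F p) := Coh.moduleΓtop F p
  exact finrank_dvd_of_isField' (toΓ k (Y := Y)) (isField_Γ k Y) (fun c v => rfl) (E0 Y) (E0_smul k Y)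

theorem finrank_H0_pos : 0 < Module.finrank k (Coh.HH Y (Coh.structureModule Y) 0) := by
  haveI := Groth.Agent.S0002.result k Y (Coh.structureModule Y)
    Groth.Agent.Lib.Helper6.DevRed.isCoh_structureModule 0
  haveI : Nontrivial (Coh.HH Y (Coh.structureModule Y) 0) := by
    haveI : Nontrivial Γ(Y, ⊤) := (isField_Γ k Y).nontrivial
    exact (E0 Y).toEquiv.nontrivial
  exact Module.finrank_pos

end field

/-- the genus of a numerical type from the doubled genus formula -/
theorem genus_eq {n : ℕ} (T : Models.NumericalType n) (h1 : Fin n → ℤ) (G : ℤ)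
    (hg : ∀ i, T.w i * T.g i = h1 i)
    (hG : 2 * G = 2 + ∑ i, T.m i * (2 * (h1 i - T.w i) - T.a i i)) : T.genus = G := by
  unfold Models.NumericalType.genus
  have e1 : ∑ i, T.m i * T.w i * (T.g i - 1) = ∑ i, T.m i * (h1 i - T.w i) :=
    Finset.sum_congr rfl fun i _ => by rw [← hg i]; ring
  have e2 : ∑ i, T.m i * (2 * (h1 i - T.w i) - T.a i i) =
      2 * ∑ i, T.m i * (h1 i - T.w i) - ∑ i, T.m i * T.a i i := by
    rw [Finset.mul_sum, ← Finset.sum_sub_distrib]
    exact Finset.sum_congr rfl fun i _ => by ring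
  have e3 : ∑ i, T.m i * T.a i i = 2 * (1 + ∑ i, T.m i * (h1 i - T.w i) - G) := by
    rw [e2] at hG
    linarith
  rw [e1, e3, Int.mul_ediv_cancel_left _ (by norm_num : (2 : ℤ) ≠ 0)]
  ring

variable (R : Type u) [CommRing R] [IsDomain R] [IsDiscreteValuationRing R]
  (C X : Scheme.{u}) (f : C ⟶ Spec (CommRingCat.of (FractionRing R))) (p : X ⟶ Spec (CommRingCat.of R))

/-- **S3322 core** -/
theorem exists_numericalType (hH0 : IsIso f.appTop)
    (hX : Models.IsRegularProperModel R X p C f)
    {n : ℕ} (Γ : Fin n → ArSurf.VertComp R (Over.mk p)) (hΓ : Models.IsComponentList R (Over.mk p) Γ)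
    (L : Fin n → X.Modules) (hL : ∀ i, ClSub.IsInverseOf (L i) (ClSub.idealMod (Γ i).ι.ker)) :
    ∃ T : Models.NumericalType n,
      (∀ i, T.m i = (Models.mult R (Over.mk p) (Γ i) : ℤ)) ∧
      (∀ i j, T.a i j = ArSurf.inter R (Over.mk p) (L j) (Γ i)) ∧
      (∀ i, T.w i = (Models.wdeg R (Over.mk p) (Γ i) : ℤ)) ∧
      (∀ i, T.w i * T.g i = (Models.h1 R (Over.mk p) (Γ i) : ℤ)) ∧
      T.genus = (Models.curveGenus (FractionRing R) C f : ℤ) := by
  have hgen := Inter26.genus_formula R C X f p hH0 hX Γ hΓ L hL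
  obtain ⟨⟨hflat, hft, hqc, g, hg⟩, hproper, hreg⟩ := hX
  haveI : IsProper p := hproper
  haveI : Flat p := hflat
  haveI : IsProper (Over.mk p).hom := hproper
  have hflat' : Flat (Over.mk p).hom := hflat
  have hft' : LocallyOfFiniteType (Over.mk p).hom := hft
  have hreg' : ∀ x : (Over.mk p).left, IsRegularLocalRing ((Over.mk p).left.presheaf.stalk x) := hreg
  have hconn := isPreconnected_specialFibreSet R f p g hg hH0
  have hwpos : ∀ i, 0 < Models.wdeg R (Over.mk p) (Γ i) := fun i => by
    haveI := isProper_curve R (Over.mk p) (Γ i)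
    exact finrank_H0_pos (IsLocalRing.ResidueField R) (Γ i).curve.left
  have hdvd1 : ∀ i, Models.wdeg R (Over.mk p) (Γ i) ∣ Models.h1 R (Over.mk p) (Γ i) := fun i => by
    haveI := isProper_curve R (Over.mk p) (Γ i)
    exact finrank_H0_dvd (IsLocalRing.ResidueField R) (Γ i).curve.left _ 1
  have hdvda : ∀ i j, (Models.wdeg R (Over.mk p) (Γ i) : ℤ) ∣ ArSurf.inter R (Over.mk p) (L j) (Γ i) := by
    intro i j
    haveI := isProper_curve R (Over.mk p) (Γ i)
    unfold ArSurf.inter ArSurf.curveDeg FGA.eulerCharLE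
    refine dvd_sub (Finset.dvd_sum fun q _ => Dvd.dvd.mul_left ?_ _)
      (Finset.dvd_sum fun q _ => Dvd.dvd.mul_left ?_ _)
    · exact Int.natCast_dvd_natCast.2
        (finrank_H0_dvd (IsLocalRing.ResidueField R) (Γ i).curve.left _ q)
    · exact Int.natCast_dvd_natCast.2
        (finrank_H0_dvd (IsLocalRing.ResidueField R) (Γ i).curve.left _ q)
  obtain ⟨i₀⟩ := Groth.Agent.Lib.Helper1.VertDiv.exists_component R C X f p hH0 g Γ hΓ
  let T : Models.NumericalType n :=
    { m := fun i => (Models.mult R (Over.mk p) (Γ i) : ℤ)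
      a := Matrix.of fun i j => ArSurf.inter R (Over.mk p) (L j) (Γ i)
      w := fun i => (Models.wdeg R (Over.mk p) (Γ i) : ℤ)
      g := fun i => ((Models.h1 R (Over.mk p) (Γ i) / Models.wdeg R (Over.mk p) (Γ i) : ℕ) : ℤ)
      pos := Fin.pos i₀
      m_pos := fun i => by
        exact_mod_cast Groth.Agent.Lib.Helper1.VertDiv.mult_pos R (Over.mk p) Γ hΓ hflat' hreg' i
      w_pos := fun i => by exact_mod_cast hwpos i
      g_nonneg := fun i => Int.natCast_nonneg _
      symm := Matrix.IsSymm.ext fun i j => by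
        show ArSurf.inter R (Over.mk p) (L i) (Γ j) = ArSurf.inter R (Over.mk p) (L j) (Γ i)
        exact inter_symm R (Over.mk p) Γ hΓ hflat' hft' hreg' L hL j i
      offDiag_nonneg := fun i j hij => (inter_offDiag R (Over.mk p) Γ hΓ hflat' hft' hreg' L hL hij).1
      connected := fun I hI hI' =>
        inter_connected R (Over.mk p) Γ hΓ hflat' hft' hreg' L hL hconn I hI hI'
      mulVec_m := by
        funext i
        show ∑ j, ArSurf.inter R (Over.mk p) (L j) (Γ i) * (Models.mult R (Over.mk p) (Γ j) : ℤ) = 0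
        rw [← sum_mult_mul_inter_eq_zero_left R (Over.mk p) Γ hΓ L hL hflat' hft' hreg' i]
        exact Finset.sum_congr rfl fun j _ => mul_comm _ _
      w_dvd := fun i j => hdvda i j }
  have hTg : ∀ i, T.w i * T.g i = (Models.h1 R (Over.mk p) (Γ i) : ℤ) := fun i => by
    show (Models.wdeg R (Over.mk p) (Γ i) : ℤ) *
      ((Models.h1 R (Over.mk p) (Γ i) / Models.wdeg R (Over.mk p) (Γ i) : ℕ) : ℤ) = _
    exact_mod_cast Nat.mul_div_cancel' (hdvd1 i)
  refine ⟨T, fun i => rfl, fun i j => rfl, fun i => rfl, hTg, ?_⟩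
  exact genus_eq T _ _ hTg hgen

end Groth.Agent.Lib.Helper1.Inter27
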