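import Groth.Agent.Lib.Helper1.Inter27
import Groth.Agent.Lib.Helper17.Serre2

/-!
# Helper1 — an invertible module of negative degree on an integral proper curve has no sections

A nonzero section `s` of an invertible module `G` on an integral scheme gives a monomorphism `O ⟶ G` with torsion
cokernel `Q`; on a proper curve `deg G = χ(G) - χ(O) = χ(Q) = h⁰(Q) ≥ 0`.
-/
set_option backward.isDefEq.respectTransparency.types false
set_option autoImplicit false
set_option maxHeartbeats 400000
universe u
open CategoryTheory CategoryTheory.Limits AlgebraicGeometry Opposite TopologicalSpace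

noncomputable section

namespace Groth.Agent.Lib.Helper1.Inter28

open Groth.Agent.Lib.Helper28 Groth.Agent.Lib.Helper28.QCohLoc Groth.Agent.Lib.Helper28.GenLocus
  Groth.Agent.Lib.Helper1.VertDiv

section torsionfree

variable {Z : Scheme.{u}} [IsIntegral Z] {G : Z.Modules} (hG : PicF.IsInvertible G)

theorem resO_injective {U V : Z.Opens} (h : V ≤ U) (hV : (V : Set Z).Nonempty) :
    Function.Injective (resO h : Γ(Z, U) → Γ(Z, V)) := by
  haveI : Nonempty V := hV.to_subtype
  exact map_injective_of_isIntegral Z (homOfLE h)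

include hG in
/-- an invertible module on an integral scheme is torsion-free -/
theorem eq_zero_of_smul_eq_zero {V : Z.Opens} (c : Γ(Z, V)) (x : Γ(G, V))
    (h : (c • x : Γ(G, V)) = 0) (hc : c ≠ 0) : x = 0 := by
  refine eq_of_locally_eq G (fun y : V => V ⊓ (Classical.choose (exists_mchart hG y.1)).U.1) V
    (fun y => inf_le_left) ?_ x 0 (fun y => ?_)
  · intro y hy
    exact Opens.mem_iSup.mpr ⟨⟨y, hy⟩, hy, Classical.choose_spec (exists_mchart hG y)⟩
  · set d := Classical.choose (exists_mchart hG y.1) with hd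
    have hyd : y.1 ∈ d.U.1 := Classical.choose_spec (exists_mchart hG y.1)
    set W := V ⊓ d.U.1 with hW
    have hWne : (W : Set Z).Nonempty := ⟨y.1, y.2, hyd⟩
    haveI : Nonempty W := hWne.to_subtype
    have hWV : W ≤ V := inf_le_left
    have hWU : W ≤ d.U.1 := inf_le_right
    set b := d.hμ.coef hWU (res G hWV x) with hb
    have hbx : (b • res G hWU d.μ : Γ(G, W)) = res G hWV x := d.hμ.coef_smul hWU _
    have h1 : resO hWV c * b = 0 := by
      apply (d.hμ W hWU).1
      show ((resO hWV c * b) • res G hWU d.μ : Γ(G, W)) = ((0 : Γ(Z, W)) • res G hWU d.μ : Γ(G, W))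
      rw [mul_smul, hbx, ← res_smul, h, res_zero, zero_smul]
    have hc' : resO hWV c ≠ 0 := fun h0 => hc (resO_injective hWV hWne (h0.trans (map_zero _).symm))
    have hb0 : b = 0 := (mul_eq_zero.1 h1).resolve_left hc'
    rw [res_zero, ← hbx, hb0, zero_smul]

include hG in
/-- a nonzero global section of an invertible module on an integral scheme is nonzero on every nonempty open -/
theorem res_ne_zero (s : Γ(G, ⊤)) (hs : s ≠ 0) {V : Z.Opens} (hV : (V : Set Z).Nonempty) :
    res G (le_top : V ≤ ⊤) s ≠ 0 := by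
  intro h0
  apply hs
  refine eq_of_locally_eq G (fun y : Z => (Classical.choose (exists_mchart hG y)).U.1) ⊤
    (fun y => le_top) ?_ s 0 (fun y => ?_)
  · intro y _
    exact Opens.mem_iSup.mpr ⟨y, Classical.choose_spec (exists_mchart hG y)⟩
  · set d := Classical.choose (exists_mchart hG y) with hd
    have hyd : y ∈ d.U.1 := Classical.choose_spec (exists_mchart hG y)
    set W := d.U.1 ⊓ V with hW
    have hWne : (W : Set Z).Nonempty :=
      (PreirreducibleSpace.isPreirreducible_univ (X := Z)) d.U.1 V d.U.1.2 V.2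
        ⟨y, trivial, hyd⟩ (by obtain ⟨v, hv⟩ := hV; exact ⟨v, trivial, hv⟩) |>.imp fun z hz => hz.2
    have hWU : W ≤ d.U.1 := inf_le_left
    have hWV : W ≤ V := inf_le_right
    have h1 : resO hWU (d.coefOf s) = 0 := by
      apply (d.hμ W hWU).1
      show (resO hWU (d.coefOf s) • res G hWU d.μ : Γ(G, W)) = ((0 : Γ(Z, W)) • res G hWU d.μ : Γ(G, W))
      rw [← res_smul, d.coefOf_smul, res_res, zero_smul, ← res_res G (le_top : V ≤ ⊤) hWV, h0, res_zero]
    have h2 : d.coefOf s = 0 := resO_injective hWU hWne (h1.trans (map_zero _).symm)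
    rw [res_zero, ← d.coefOf_smul, h2, zero_smul]

open Groth.Agent.Lib.Helper17.Serre Groth.Agent.Lib.Helper17.CohKer in
include hG in
/-- a nonzero section of an invertible module on an integral scheme defines a monomorphism `O ⟶ G` -/
theorem mono_ofSection (s : Γ(G, ⊤)) (hs : s ≠ 0) : Mono (ofSection G s) := by
  apply Preadditive.mono_of_kernel_zero
  have hz : IsZero (kernel (ofSection G s)) := by
    apply Groth.Agent.Lib.Helper17.ModPullback.isZero_of_subsingleton_sections_affine
    intro U _
    refine ⟨fun a b => ?_⟩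
    apply kernel_ι_app_injective (ofSection G s) U
    have key : ∀ a : Γ(kernel (ofSection G s), U), (kernel.ι (ofSection G s)).app U a = 0 := by
      intro a
      set c : Γ(Z, U) := (kernel.ι (ofSection G s)).app U a with hc
      have h1 : (ofSection G s).app U (show Γ(Coh.structureModule Z, U) from c) = 0 :=
        app_kernel_ι_app (ofSection G s) U a
      rw [ofSection_app] at h1
      by_contra hne
      have hne' : c ≠ 0 := hne
      have hUne : (U : Set Z).Nonempty := by
        by_contra hemp
        rw [Set.not_nonempty_iff_eq_empty] at hemp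
        have hU : U = ⊥ := Opens.ext hemp
        apply hne'
        haveI : Subsingleton Γ(Z, U) := by
          rw [hU]
          exact CommRingCat.subsingleton_of_isTerminal (Z.sheaf.isTerminalOfEmpty)
        exact Subsingleton.elim _ _
      exact res_ne_zero hG s hs hUne (eq_zero_of_smul_eq_zero hG c _ h1 hne')
    rw [key a, key b]
  exact hz.eq_of_src _ _

end torsionfree

section curve

open Groth.Agent.Lib.Helper17.Serre Groth.Agent.Lib.Helper8.CurveTensor Groth.Agent.Lib.Helper8.EulerK

variable (k : Type u) [Field k] (Z : Scheme.{u}) [Z.Over (Spec (CommRingCat.of k))]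
  [IsProper (Z ↘ Spec (CommRingCat.of k))] [IsIntegral Z]

omit [Field k] [Z.Over (Spec (CommRingCat.of k))] [IsProper (Z ↘ Spec (CommRingCat.of k))] in
theorem grank_of_isFinLocFreeOfRank {n : ℕ} (E : Z.Modules) (hE : FlatMod.IsFinLocFreeOfRank n E) :
    grank Z E = n := by
  obtain ⟨b⟩ := Groth.Agent.Lib.Helper6.K0Tensor.exists_stalkBasis E hE (genericPoint Z)
  unfold grank
  rw [Module.finrank_eq_card_basis b]
  simp

/-- **an invertible module with a nonzero section on an integral proper curve has degree `≥ 0`** -/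
theorem curveDeg_nonneg_of_section (hdim : topologicalKrullDim Z ≤ 1) (G : Z.Modules)
    (hG : PicF.IsInvertible G) (s : Γ(G, ⊤)) (hs : s ≠ 0) : 0 ≤ ArSurf.curveDeg k Z G := by
  haveI : IsLocallyNoetherian Z := isLocallyNoetherian k Z
  haveI hm := mono_ofSection hG s hs
  set φ := ofSection G s with hφ
  have hO1 : FlatMod.IsFinLocFreeOfRank 1 (Coh.structureModule Z) :=
    Groth.Agent.Lib.Helper6.K0Op.isFinLocFreeOfRank_one_of_isInvertible _
      (Groth.Agent.Lib.Helper8.CurveDeg.isInvertible_structureModule Z)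
  have hG1 := Groth.Agent.Lib.Helper6.K0Op.isFinLocFreeOfRank_one_of_isInvertible G hG
  have hOc : Coh.IsCoh (Coh.structureModule Z) := Groth.Agent.Lib.Helper6.DevRed.isCoh_structureModule
  have hGc : Coh.IsCoh G := isCoh_of_isFinLocFreeOfRank G hG1
  have hQc : Coh.IsCoh (cokernel φ) := Groth.Agent.Lib.Helper6.DevCore.isCoh_cokernel φ hOc hGc
  have hS : (ShortComplex.mk φ (cokernel.π φ) (cokernel.condition φ)).ShortExact :=
    { exact := ShortComplex.exact_cokernel φ
      mono_f := hm
      epi_g := inferInstanceAs (Epi (cokernel.π φ)) }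
  have hgen : genericPoint Z ∉ CohB1.support (cokernel φ) := by
    have hg := grank_add Z _ hS hOc hGc hQc
    dsimp only at hg
    rw [grank_of_isFinLocFreeOfRank Z _ hO1, grank_of_isFinLocFreeOfRank Z _ hG1] at hg
    exact notMem_support_of_grank_eq_zero Z _ hQc (by omega)
  have hpt : ∀ x ∈ CohB1.support (cokernel φ), IsClosed ({x} : Set Z) := fun x hx =>
    Groth.Agent.Lib.Helper8.CurveDeg.isClosed_singleton_of_ne_genericPoint hdim x
      (fun h => hgen (h ▸ hx))
  have e := euler_add k Z _ hS hOc hGc hQc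
  dsimp only at e
  have hχ : Curv2.euler k Z (cokernel φ) =
      (Module.finrank k (Coh.HH Z (cokernel φ) 0) : ℤ) := by
    rw [euler_eq_sum k Z _ 1 (fun p hp => by
      obtain ⟨q, rfl⟩ : ∃ q, p = q + 1 := ⟨p - 1, by omega⟩
      exact @Groth.Agent.Lib.Helper17.ZeroSupp.subsingleton_HH_of_support_closedPoints Z (cokernel φ) _
        hQc.1 hQc.2 hpt q)]
    simp
  unfold ArSurf.curveDeg
  rw [Groth.Agent.Lib.Helper2.IntNum1.eulerCharLE_eq_euler k Z 1 (by exact_mod_cast hdim),
    Groth.Agent.Lib.Helper2.IntNum1.eulerCharLE_eq_euler k Z 1 (by exact_mod_cast hdim), e, hχ]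
  have : (0 : ℤ) ≤ (Module.finrank k (Coh.HH Z (cokernel φ) 0) : ℤ) := Int.natCast_nonneg _
  linarith

/-- **`H⁰(Z, G) = 0` for an invertible module of negative degree on an integral proper curve** -/
theorem subsingleton_H0_of_curveDeg_neg (hdim : topologicalKrullDim Z ≤ 1) (G : Z.Modules)
    (hG : PicF.IsInvertible G) (hneg : ArSurf.curveDeg k Z G < 0) : Subsingleton (Coh.HH Z G 0) := by
  refine ⟨fun a b => ?_⟩
  by_contra hne
  have hx : a - b ≠ 0 := sub_ne_zero.2 hne
  have hs : Groth.Agent.Lib.Helper1.Inter.e0 G (a - b) ≠ 0 := fun h =>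
    hx ((Groth.Agent.Lib.Helper1.Inter.e0 G).injective (h.trans (map_zero _).symm))
  have := curveDeg_nonneg_of_section k Z hdim G hG _ hs
  omega

end curve

end Groth.Agent.Lib.Helper1.Inter28
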