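import Groth.Agent.Lib.Helper1.Inter28

/-!
# Helper1 — thickening a vertical divisor by a component it meets positively keeps `H⁰` a field

For `D = Σ a_j Γ_j` inside the closed fibre and a component `Γ_i` with `(D · Γ_i) > 0`, the sequence
`0 → ι_* ι^* O(-D) → O_{D + Γ_i} → O_D → 0` and the vanishing of `H⁰` of a line bundle of negative degree
show that `H⁰(O_{D+Γ_i}) → H⁰(O_D)` is an injective ring homomorphism.
-/
set_option backward.isDefEq.respectTransparency.types false
set_option autoImplicit false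
set_option maxHeartbeats 400000
universe u
open CategoryTheory CategoryTheory.Limits AlgebraicGeometry Opposite TopologicalSpace

noncomputable section

namespace Groth.Agent.Lib.Helper1.Inter29

open Groth.Agent.Lib.Helper1.Inter21 Groth.Agent.Lib.Helper28.QCohLoc Groth.Agent.Lib.Helper17.Serre
  Groth.Agent.Lib.Helper1.Inter Groth.Agent.Lib.Helper1.Inter22 Groth.Agent.Lib.Helper1.Inter25
  Groth.Agent.Lib.Helper2.HLesLin Groth.Agent.Lib.Helper4.HLesFin1

section ringhom

variable {X : Scheme.{u}} (I J : X.IdealSheafData)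

/-- sections of `O_X/K` over `U`, as a ring -/
abbrev Sec (K : X.IdealSheafData) (U : X.Opens) : CommRingCat := Γ(K.subscheme, K.subschemeι ⁻¹ᵁ U)

/-- `quotRes` on sections, as a function between rings -/
def qmap (U : X.Opens) : Sec (I * J) U → Sec I U := fun x => (quotRes I J).app U x

theorem qmap_toSub (U : X.Opens) (a : Γ(X, U)) :
    qmap I J U ((I * J).subschemeι.app U a) = I.subschemeι.app U a :=
  quotRes_app I J U a

theorem qmap_one (U : X.Opens) : qmap I J U 1 = 1 := by
  have h := qmap_toSub I J U 1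
  rwa [map_one, map_one] at h

theorem qmap_mul_affine (U : X.affineOpens) (x y : Sec (I * J) U.1) :
    qmap I J U.1 (x * y) = qmap I J U.1 x * qmap I J U.1 y := by
  obtain ⟨a, rfl⟩ := (I * J).subschemeι_app_surjective U x
  obtain ⟨b, rfl⟩ := (I * J).subschemeι_app_surjective U y
  rw [← map_mul, qmap_toSub, qmap_toSub, qmap_toSub, map_mul]

theorem qmap_res {U V : X.Opens} (h : V ≤ U) (x : Sec (I * J) U) :
    qmap I J V ((I * J).subscheme.presheaf.map (homOfLE ((I * J).subschemeι.preimage_mono h)).op x) =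
      I.subscheme.presheaf.map (homOfLE (I.subschemeι.preimage_mono h)).op (qmap I J U x) :=
  app_res (quotRes I J) h x

theorem qmap_mul (U : X.Opens) (x y : Sec (I * J) U) :
    qmap I J U (x * y) = qmap I J U x * qmap I J U y := by
  refine eq_of_locally_eq (ClSub.quotMod I) (fun W : {W : X.affineOpens // W.1 ≤ U} => W.1.1) U
    (fun W => W.2) ?_ _ _ (fun W => ?_)
  · intro x hx
    obtain ⟨_, ⟨W, hW, rfl⟩, hxW, hWU⟩ := X.isBasis_affineOpens.exists_subset_of_mem_open hx U.2
    exact Opens.mem_iSup.mpr ⟨⟨⟨W, hW⟩, hWU⟩, hxW⟩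
  · show I.subscheme.presheaf.map (homOfLE (I.subschemeι.preimage_mono W.2)).op (qmap I J U (x * y)) =
      I.subscheme.presheaf.map (homOfLE (I.subschemeι.preimage_mono W.2)).op (qmap I J U x * qmap I J U y)
    rw [← qmap_res I J W.2, map_mul, map_mul, qmap_mul_affine, qmap_res I J W.2, qmap_res I J W.2]

/-- `quotRes` on sections, as a ring homomorphism -/
def qRingHom (U : X.Opens) : Sec (I * J) U →+* Sec I U where
  toFun := qmap I J U
  map_one' := qmap_one I J U
  map_mul' := qmap_mul I J U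
  map_zero' := map_zero ((quotRes I J).app U).hom
  map_add' := map_add ((quotRes I J).app U).hom

end ringhom

section e0

variable (A : Type u) [CommRing A] {Y : Scheme.{u}} [Y.Over (Spec (CommRingCat.of A))]

theorem e0_HHlin {F G : Y.Modules} (φ : F ⟶ G) (x : Coh.HH Y F 0) :
    e0 G (Canon.HHlin A φ 0 x) = φ.app ⊤ (e0 F x) :=
  (Sheaf.H.equiv₀_naturality (Limits.isTerminalTop (α := Opens Y))
    ((SheafOfModules.toSheaf Y.ringCatSheaf).map φ) x).symm

/-- the `A`-algebra structure map of a closed subscheme -/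
theorem toGlobal_subscheme (K : Y.IdealSheafData) (c : A) :
    Coh.toGlobal (K.subschemeι ≫ (Y ↘ Spec (CommRingCat.of A))) c =
      (K.subschemeι.appTop).hom (Coh.toGlobal (Y ↘ Spec (CommRingCat.of A)) c) := by
  show (K.subschemeι ≫ (Y ↘ Spec (CommRingCat.of A))).appTop.hom ((Scheme.ΓSpecIso _).inv.hom c) =
    (K.subschemeι.appTop).hom ((Y ↘ Spec (CommRingCat.of A)).appTop.hom ((Scheme.ΓSpecIso _).inv.hom c))
  simp only [Scheme.Hom.comp_appTop, CommRingCat.hom_comp, RingHom.comp_apply]

/-- `H⁰(Y, O_Y/K) ≃ Γ(V(K), O)`, `A`-linear for the algebra structure of the closed subscheme -/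
theorem e0_quotMod_smul (K : Y.IdealSheafData) (c : A) (x : Coh.HH Y (ClSub.quotMod K) 0) :
    (show Γ(K.subscheme, ⊤) from e0 (ClSub.quotMod K) (c • x)) =
      (show Γ(K.subscheme, ⊤) from Coh.toGlobal (K.subschemeι ≫ (Y ↘ Spec (CommRingCat.of A))) c) *
        (show Γ(K.subscheme, ⊤) from e0 (ClSub.quotMod K) x) := by
  rw [toGlobal_subscheme]
  have h := e0_smul A (ClSub.quotMod K) c x
  rw [h, smul_quotMod_top]
  rfl

end e0

variable (R : Type u) [CommRing R] [IsDomain R] [IsDiscreteValuationRing R]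
  (X : Over (Spec (CommRingCat.of R)))

section artin

variable [IsProper X.hom]

/-- the ring of functions of a closed subscheme inside the closed fibre is Artinian -/
theorem isArtinianRing_sections (K : X.left.IdealSheafData)
    (hle : Models.specialFibreIdeal R X ≤ K) : IsArtinianRing Γ(K.subscheme, ⊤) := by
  letI alg : Algebra R Γ(K.subscheme, ⊤) := (Coh.toGlobal (K.subschemeι ≫ X.hom)).toAlgebra
  have hlen : Module.length R (Coh.HH X.left (ClSub.quotMod K) 0) ≠ ⊤ :=
    length_HH_ne_top R X _ (Groth.Agent.Lib.Helper6.DevRed.isCoh_quotMod _) K hle (killed_quotMod _) 0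
  let E : Coh.HH X.left (ClSub.quotMod K) 0 ≃ₗ[R] Γ(K.subscheme, ⊤) :=
    { e0 (ClSub.quotMod K) with
      map_smul' := fun c x => by
        show (show Γ(K.subscheme, ⊤) from e0 (ClSub.quotMod K) (c • x)) = c • _
        rw [e0_quotMod_smul R K c x, Algebra.smul_def]
        rfl }
  have hlen' : Module.length R Γ(K.subscheme, ⊤) ≠ ⊤ := by rw [← E.length_eq]; exact hlen
  rw [Module.length_ne_top_iff, isFiniteLength_iff_isNoetherian_isArtinian] at hlen'
  exact isArtinian_of_tower R hlen'.2

/-- the structure map of a closed subscheme of a proper `R`-scheme is finite on global functions -/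
theorem finite_toGlobal_subscheme (K : X.left.IdealSheafData) :
    ((K.subschemeι ≫ X.hom).appTop.hom.comp (Scheme.ΓSpecIso (CommRingCat.of R)).inv.hom).Finite := by
  haveI : IsProper (X.left ↘ Spec (CommRingCat.of R)) := ‹IsProper X.hom›
  letI alg : Algebra R Γ(K.subscheme, ⊤) :=
    ((K.subschemeι ≫ X.hom).appTop.hom.comp (Scheme.ΓSpecIso (CommRingCat.of R)).inv.hom).toAlgebra
  haveI : Module.Finite R (Coh.HH X.left (ClSub.quotMod K) 0) :=
    Groth.Agent.S0002.result R X.left _ (Groth.Agent.Lib.Helper6.DevRed.isCoh_quotMod _) 0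
  let E : Coh.HH X.left (ClSub.quotMod K) 0 ≃ₗ[R] Γ(K.subscheme, ⊤) :=
    { e0 (ClSub.quotMod K) with
      map_smul' := fun c x => by
        show (show Γ(K.subscheme, ⊤) from e0 (ClSub.quotMod K) (c • x)) = c • _
        rw [e0_quotMod_smul R K c x, Algebra.smul_def]
        rfl }
  exact Module.Finite.equiv E

end artin

section step

variable [IsProper X.hom] {Z : Scheme.{u}} (i : Z ⟶ X.left) [IsClosedImmersion i] (I : X.left.IdealSheafData)

/-- if `H⁰(ι_* ι^* I) = 0` and `H⁰(V(I), O)` is a field then `H⁰(V(I·J), O)` is a field (`J = ker ι`) -/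
theorem isField_thicken (hle : Models.specialFibreIdeal R X ≤ I * i.ker)
    (h0 : Subsingleton (Coh.HH X.left (thickenSES i I).X₁ 0))
    (hF : IsField Γ(I.subscheme, ⊤)) : IsField Γ((I * i.ker).subscheme, ⊤) := by
  have hS := thickenSES_shortExact i I
  have hinj : Function.Injective (Canon.HHlin R (thickenSES i I).g 0) := by
    rw [← LinearMap.ker_eq_bot, ← range_eq_ker₂ (thickenSES i I) hS R 0]
    rw [eq_bot_iff]
    rintro _ ⟨x, rfl⟩
    rw [Subsingleton.elim x 0, map_zero]
    exact Submodule.zero_mem _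
  have hinj' : Function.Injective (qRingHom I i.ker ⊤) := by
    intro x y hxy
    have key : ∀ z : Sec (I * i.ker) ⊤, e0 (ClSub.quotMod I) (Canon.HHlin R (thickenSES i I).g 0
          ((e0 (ClSub.quotMod (I * i.ker))).symm z)) = (quotRes I i.ker).app ⊤ z := by
      intro z
      refine (e0_HHlin R (thickenSES i I).g ((e0 (ClSub.quotMod (I * i.ker))).symm z)).trans ?_
      show (quotRes I i.ker).app ⊤ (e0 (ClSub.quotMod (I * i.ker))
        ((e0 (ClSub.quotMod (I * i.ker))).symm z)) = _
      rw [AddEquiv.apply_symm_apply]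
    have h3 : e0 (ClSub.quotMod I) (Canon.HHlin R (thickenSES i I).g 0
          ((e0 (ClSub.quotMod (I * i.ker))).symm x)) =
        e0 (ClSub.quotMod I) (Canon.HHlin R (thickenSES i I).g 0
          ((e0 (ClSub.quotMod (I * i.ker))).symm y)) := by
      rw [key x, key y]
      exact hxy
    have h4 := hinj ((e0 (ClSub.quotMod I)).injective h3)
    exact (e0 (ClSub.quotMod (I * i.ker))).symm.injective h4
  haveI := isArtinianRing_sections R X (I * i.ker) hle
  haveI : IsDomain (Sec I ⊤) := hF.isDomain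
  haveI : IsDomain Γ((I * i.ker).subscheme, ⊤) :=
    Function.Injective.isDomain (qRingHom I i.ker ⊤) hinj'
  exact IsArtinianRing.isField_of_isDomain _

end step

section divisor

open Groth.Agent.Lib.Helper8.PicCl Groth.Agent.Lib.Helper1.CartCl Groth.Agent.Lib.Helper1.VertDiv
  Groth.Agent.Lib.Helper1.FibGeom

attribute [local instance] Groth.Agent.Lib.Helper8.PicCl.commMonoid

variable {n : ℕ} (Γ : Fin n → ArSurf.VertComp R X) (hΓ : Models.IsComponentList R X Γ)
  (hflat : Flat X.hom) (hft : LocallyOfFiniteType X.hom)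
  (hreg : ∀ x : X.left, IsRegularLocalRing (X.left.presheaf.stalk x))
  (L : Fin n → X.left.Modules) (hL : ∀ i, ClSub.IsInverseOf (L i) (ClSub.idealMod (Γ i).ι.ker))

include hΓ hflat hft hreg in
theorem isInvertible_idealMod_divIdeal (a : Fin n → ℕ) :
    PicF.IsInvertible (ClSub.idealMod (divIdeal R X Γ a)) := by
  have hEC : ∀ j, BlowUp.IsEffCartierIdeal (Γ j).ι.ker := fun j =>
    isEffCartierIdeal_ker R X hflat hft hreg Γ hΓ j
  exact Groth.Agent.Lib.Helper28.IdealDual.isInvertible_idealMod _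
    (isEffCartierIdeal_prod _ _ fun j _ => isEffCartierIdeal_pow (hEC j) _)

variable [IsProper X.hom]

include hΓ hflat hft hreg hL in
/-- `(O(-D) · Γ_i) = -(D · Γ_i)` for `D = Σ a_j Γ_j` -/
theorem inter_idealMod_divIdeal (a : Fin n → ℕ) (i : Fin n) :
    ArSurf.inter R X (ClSub.idealMod (divIdeal R X Γ a)) (Γ i) +
      ∑ j, (a j : ℤ) * ArSurf.inter R X (L i) (Γ j) = 0 := by
  set I : Fin n → X.left.IdealSheafData := fun j => (Γ j).ι.ker with hI
  have hEC : ∀ j, BlowUp.IsEffCartierIdeal (I j) := fun j =>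
    isEffCartierIdeal_ker R X hflat hft hreg Γ hΓ j
  have hLinv := isInvertible_L R X Γ hΓ hflat hft hreg L hL
  have hNinv := isInvertible_idealMod_divIdeal R X Γ hΓ hflat hft hreg a
  set lam : Fin n → PicF.Cl X.left := fun j => PicF.cl (L j) with hlam
  set io : Fin n → PicF.Cl X.left := fun j => PicF.cl (ClSub.idealMod (I j)) with hio
  have hli : ∀ j, lam j * io j = 1 := fun j => (isInverseOf_iff _ _).mp (hL j)
  have hclA : PicF.cl (ClSub.idealMod (divIdeal R X Γ a)) = ∏ j, io j ^ a j := by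
    unfold divIdeal
    rw [cl_idealMod_prod _ _ fun j _ => isEffCartierIdeal_pow (hEC j) _]
    apply Finset.prod_congr rfl
    intro j _
    exact cl_idealMod_pow (hEC j) _
  have hTp := isInvertible_multiTwist L hLinv a
  have hAL : PicF.cl (CohB1.tensorMod (ClSub.idealMod (divIdeal R X Γ a)) (FGA.multiTwist L a)) =
      PicF.cl (Coh.structureModule X.left) := by
    rw [← cl_mul_cl, cl_multiTwist, hclA, mul_comm, ← Groth.Agent.Lib.Helper8.PicCl.one_def]
    exact prod_pow_mul_inverse lam io hli a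
  have h1 : ArSurf.inter R X (ClSub.idealMod (divIdeal R X Γ a)) (Γ i) +
      ArSurf.inter R X (FGA.multiTwist L a) (Γ i) = 0 := by
    rw [← inter_tensorMod R X (Γ i) hNinv hTp, inter_eq_of_cl_eq R X (Γ i) hAL]
    exact inter_structureModule R X (Γ i)
  rw [inter_multiTwist R X (Γ i) L hLinv a] at h1
  have h2 : ∀ j, ArSurf.inter R X (L j) (Γ i) = ArSurf.inter R X (L i) (Γ j) := fun j =>
    inter_symm R X Γ hΓ hflat hft hreg L hL i j
  simp only [h2] at h1
  exact h1

include hΓ hflat hft hreg hL in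
/-- `H⁰(X, ι_* ι^* O(-D)) = 0` if `(D · Γ_i) > 0` -/
theorem subsingleton_H0_thicken (a : Fin n → ℕ) (i : Fin n)
    (hpos : 0 < ∑ j, (a j : ℤ) * ArSurf.inter R X (L i) (Γ j)) :
    Subsingleton (Coh.HH X.left (thickenSES (Γ i).ι (divIdeal R X Γ a)).X₁ 0) := by
  haveI := isProper_curve R X (Γ i)
  have hNinv := isInvertible_idealMod_divIdeal R X Γ hΓ hflat hft hreg a
  set G := (Scheme.Modules.pullback (Γ i).ι).obj (ClSub.idealMod (divIdeal R X Γ a)) with hG
  have hGinv : PicF.IsInvertible G := Groth.Agent.Lib.Helper28.PullbackInv.isInvertible_pullback (Γ i).ι hNinv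
  have hdeg := inter_idealMod_divIdeal R X Γ hΓ hflat hft hreg L hL a i
  have hneg : ArSurf.curveDeg (IsLocalRing.ResidueField R) (Γ i).curve.left G < 0 := by
    have : ArSurf.inter R X (ClSub.idealMod (divIdeal R X Γ a)) (Γ i) =
        ArSurf.curveDeg (IsLocalRing.ResidueField R) (Γ i).curve.left G := rfl
    rw [← this]
    linarith
  haveI := Inter28.subsingleton_H0_of_curveDeg_neg (IsLocalRing.ResidueField R) (Γ i).curve.left
    (le_of_eq (Γ i).dim_eq) G hGinv hneg
  haveI : G.IsQuasicoherent := by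
    have := Groth.Agent.Lib.Helper6.K0Op.isFinLocFreeOfRank_one_of_isInvertible G hGinv
    exact (Groth.Agent.Lib.Helper8.CurveTensor.isCoh_of_isFinLocFreeOfRank G this).1
  obtain ⟨e, -⟩ := exists_push_equiv R X (Γ i) G 0
  exact e.toEquiv.subsingleton

include hΓ hflat hft hreg hL in
/-- **the field step**: if `(D · Γ_i) > 0`, `D + Γ_i ≤ X_k` and `H⁰(O_D)` is a field, so is `H⁰(O_{D + Γ_i})` -/
theorem isField_step (a : Fin n → ℕ) (i : Fin n)
    (ha : ∀ j, a j + (if j = i then 1 else 0) ≤ Models.mult R X (Γ j))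
    (hpos : 0 < ∑ j, (a j : ℤ) * ArSurf.inter R X (L i) (Γ j))
    (hF : IsField Γ((divIdeal R X Γ a).subscheme, ⊤)) :
    IsField Γ((divIdeal R X Γ a * (Γ i).ι.ker).subscheme, ⊤) := by
  have hle : Models.specialFibreIdeal R X ≤ divIdeal R X Γ a * (Γ i).ι.ker := by
    have h := specialFibreIdeal_le_prod R X Γ hΓ hflat hreg (fun j => a j + if j = i then 1 else 0) ha
    rwa [divIdeal_succ R X Γ a i] at h
  exact isField_thicken R X (Γ i).ι _ hle
    (subsingleton_H0_thicken R X Γ hΓ hflat hft hreg L hL a i hpos) hF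

end divisor

end Groth.Agent.Lib.Helper1.Inter29
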