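import Groth.Agent.Lib.Helper1.Inter2
import Groth.Agent.Lib.Helper2.TensEq

/-!
# Intersection numbers of a vertical prime divisor with an effective Cartier divisor not containing it (helper1)
-/

set_option autoImplicit false
universe u
open CategoryTheory CategoryTheory.Limits AlgebraicGeometry Opposite TopologicalSpace
noncomputable section

namespace Groth.Agent.Lib.Helper1.Inter

open Groth.Agent.Lib.Helper28 Groth.Agent.Lib.Helper28.QCohLoc Groth.Agent.Lib.Helper1.VertDiv
  Groth.Agent.Lib.Helper1.FibGeom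

section Zero

variable {Z : Scheme.{u}}

/-- a zero module has empty support. -/
theorem support_eq_empty_of_isZero (M : Z.Modules) (hM : IsZero M) : CohB1.support M = ∅ := by
  rw [Set.eq_empty_iff_forall_notMem]
  intro z hz
  apply hz
  refine ⟨fun a b => ?_⟩
  have key : ∀ c : M.presheaf.stalk z, c = 0 := by
    intro c
    obtain ⟨W, hzW, t, rfl⟩ := TopCat.Presheaf.exists_germ_eq M.presheaf c
    have h1 : (𝟙 M : M ⟶ M) = 0 := hM.eq_of_src _ _
    have h2 : t = 0 := by
      have h3 : (𝟙 M : M ⟶ M).app W t = t := rfl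
      rw [h1] at h3
      exact h3.symm
    rw [h2, map_zero]
  rw [key a, key b]

variable (k : Type u) [Field k] [Z.Over (Spec (CommRingCat.of k))]
  [IsProper (Z ↘ Spec (CommRingCat.of k))]

/-- `h⁰(O_D) = 0` iff `D` is empty, for `D` supported in closed points. -/
theorem finrank_quotMod_eq_zero_iff (D : Z.IdealSheafData)
    (hpt : ∀ x ∈ D.support, IsClosed ({x} : Set Z)) :
    Module.finrank k (Coh.HH Z (ClSub.quotMod D) 0) = 0 ↔ (D.support : Set Z) = ∅ := by
  haveI : IsLocallyNoetherian Z := Groth.Agent.Lib.Helper8.EulerK.isLocallyNoetherian k Z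
  have hcQ : Coh.IsCoh (ClSub.quotMod D) := Groth.Agent.Lib.Helper6.DevRed.isCoh_quotMod D
  haveI : Module.Finite k (Coh.HH Z (ClSub.quotMod D) 0) :=
    Groth.Agent.Lib.Helper8.EulerK.finite_HH k Z _ hcQ 0
  have hsupp := Groth.Agent.Lib.Helper6.DevRed.support_quotMod (I := D)
  constructor
  · intro h0
    by_contra hne
    have hnz : ¬ IsZero (ClSub.quotMod D) := by
      intro hz
      apply hne
      rw [← hsupp]
      exact support_eq_empty_of_isZero _ hz
    haveI := Groth.Agent.Lib.Helper8.CurveDeg.nontrivial_HH_zero (ClSub.quotMod D) hcQ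
      (by rw [hsupp]; exact hpt) hnz
    have : 0 < Module.finrank k (Coh.HH Z (ClSub.quotMod D) 0) := Module.finrank_pos
    omega
  · intro hempty
    have hz : IsZero (ClSub.quotMod D) :=
      Groth.Agent.Lib.Helper6.DevCore.isZero_of_support_eq_empty _ (by rw [hsupp]; exact hempty)
    haveI : Subsingleton (Coh.HH Z (ClSub.quotMod D) 0) := by
      let e := Groth.Agent.Lib.Helper8.PtSupp.e0 (ClSub.quotMod D)
      refine ⟨fun a b => e.injective ?_⟩
      have key : ∀ s : Γ(ClSub.quotMod D, ⊤), s = 0 := fun s =>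
        Groth.Agent.Lib.Helper8.PtSupp.eq_zero_of_gm_eq_zero _ ∅
          (by rw [hsupp, hempty]) s (fun z hz => hz.elim)
      rw [key (e a), key (e b)]
    exact Module.finrank_zero_of_subsingleton

end Zero

section Vert

variable (R : Type u) [CommRing R] [IsDomain R] [IsDiscreteValuationRing R]
  (X : Over (Spec (CommRingCat.of R))) (Γ : ArSurf.VertComp R X)

/-- a vertical prime divisor of a proper `R`-scheme is proper over the residue field. -/
theorem isProper_curve [IsProper X.hom] :
    IsProper (Γ.curve.left ↘ Spec (CommRingCat.of (IsLocalRing.ResidueField R))) := by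
  have h1 : IsProper (Γ.ι ≫ X.hom) := inferInstance
  rw [Γ.w] at h1
  exact IsProper.of_comp Γ.curve.hom (Spec.map (CommRingCat.ofHom (IsLocalRing.residue R)))

variable [IsProper X.hom] (J : X.left.IdealSheafData) (hJ : BlowUp.IsEffCartierIdeal J)
  (hgen : Models.genPtOf R X Γ ∉ J.support)
  (L : X.left.Modules) (hL : PicF.IsInvertible L) (hLJ : ClSub.IsInverseOf L (ClSub.idealMod J))

include hJ hgen hL hLJ in
/-- **`(O(D) · Γ) = h⁰(O_{Γ ∩ D})`** for `Γ` not contained in `D`. -/
theorem inter_eq_finrank :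
    ArSurf.inter R X L Γ =
      (Module.finrank (IsLocalRing.ResidueField R)
        (Coh.HH Γ.curve.left (ClSub.quotMod (J.comap Γ.ι)) 0) : ℤ) := by
  haveI := isProper_curve R X Γ
  exact curveDeg_pullback_eq (IsLocalRing.ResidueField R) Γ.curve.left Γ.ι J
    (le_of_eq Γ.dim_eq) hJ hgen L hL hLJ

include hJ hgen hL hLJ in
theorem inter_nonneg : 0 ≤ ArSurf.inter R X L Γ := by
  rw [inter_eq_finrank R X Γ J hJ hgen L hL hLJ]
  exact Int.natCast_nonneg _

include hJ hgen hL hLJ in
theorem inter_eq_zero_iff :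
    ArSurf.inter R X L Γ = 0 ↔
      Disjoint (Set.range (Γ.ι.base : Γ.curve.left → X.left)) (J.support : Set X.left) := by
  haveI := isProper_curve R X Γ
  rw [inter_eq_finrank R X Γ J hJ hgen L hL hLJ, Int.natCast_eq_zero,
    finrank_quotMod_eq_zero_iff (IsLocalRing.ResidueField R) (J.comap Γ.ι)
      (isClosed_singleton_of_mem_support_comap Γ.curve.left Γ.ι J (le_of_eq Γ.dim_eq) hgen),
    Scheme.IdealSheafData.support_comap, Set.disjoint_iff_inter_eq_empty]
  constructor
  · intro h
    rw [Set.eq_empty_iff_forall_notMem] at h ⊢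
    rintro _ ⟨⟨z, rfl⟩, hz⟩
    exact h z hz
  · intro h
    rw [Set.eq_empty_iff_forall_notMem] at h ⊢
    intro z hz
    exact h _ ⟨⟨z, rfl⟩, hz⟩

end Vert

end Groth.Agent.Lib.Helper1.Inter
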