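import Groth.Agent.Lib.Helper1.Inter29

/-!
# Helper1 — the chain of vertical divisors `Σ Γ_i = Z_0 ⊂ ⋯ ⊂ Z_s = X_k / d` with fields of global functions
(S3323), and `1 - g_C = d χ(O_D)` (S3324)
-/
set_option backward.isDefEq.respectTransparency.types false
set_option autoImplicit false
set_option maxHeartbeats 400000
universe u
open CategoryTheory CategoryTheory.Limits AlgebraicGeometry Opposite TopologicalSpace

noncomputable section

namespace Groth.Agent.Lib.Helper1.Inter30

open Groth.Agent.Lib.Helper1.Inter Groth.Agent.Lib.Helper1.Inter25 Groth.Agent.Lib.Helper1.Inter29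
  Groth.Agent.Lib.Helper1.VertDiv Groth.Agent.Lib.Helper1.FibGeom

/-- the arithmetic step: a divisor `a` strictly between `0` and `t = m/d` has a component `i` with `a_i < t_i` meeting it
positively, for a negative semi-definite symmetric form with radical spanned by `m` -/
theorem exists_step {n : ℕ} (c : Fin n → Fin n → ℤ) (m t a : Fin n → ℕ) (d : ℕ) (hd : 0 < d)
    (hm : ∀ i, m i = d * t i) (hgcd : Finset.univ.gcd t = 1)
    (ha1 : ∀ i, 1 ≤ a i) (hat : ∀ i, a i ≤ t i) (hne : a ≠ t)
    (hkill : ∀ i, ∑ j, (m j : ℤ) * c i j = 0)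
    (hform : ∀ b : Fin n → ℤ, (∑ q : Fin n × Fin n, b q.1 * b q.2 * c q.1 q.2) ≤ 0 ∧
      ((∑ q : Fin n × Fin n, b q.1 * b q.2 * c q.1 q.2) = 0 → ∃ r : ℚ, ∀ i, (b i : ℚ) = r * (m i : ℚ))) :
    ∃ i, a i < t i ∧ 0 < ∑ j, (a j : ℤ) * c i j := by
  set b : Fin n → ℤ := fun i => (t i : ℤ) - (a i : ℤ) with hb
  have hb0 : ∀ i, 0 ≤ b i := fun i => by
    have := hat i
    simp only [hb]
    omega
  have hQ : (∑ q : Fin n × Fin n, b q.1 * b q.2 * c q.1 q.2) < 0 := by
    rcases lt_or_eq_of_le (hform b).1 with h | h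
    · exact h
    · exfalso
      obtain ⟨r, hr⟩ := (hform b).2 h
      -- proportionality in integers
      have hprop : ∀ i j, b i * (m j : ℤ) = b j * (m i : ℤ) := by
        intro i j
        have : ((b i * (m j : ℤ) : ℤ) : ℚ) = ((b j * (m i : ℤ) : ℤ) : ℚ) := by
          push_cast
          rw [hr i, hr j]
          ring
        exact_mod_cast this
      have hat' : ∀ i j, a i * t j = a j * t i := by
        intro i j
        have h1 := hprop i j
        simp only [hb, hm] at h1
        push_cast at h1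
        have hd' : (d : ℤ) ≠ 0 := by exact_mod_cast hd.ne'
        have h2 : (d : ℤ) * ((a i : ℤ) * t j) = d * ((a j : ℤ) * t i) := by linarith
        have h3 := mul_left_cancel₀ hd' h2
        exact_mod_cast h3
      apply hne
      funext i
      have hdvd : t i ∣ a i := by
        have h1 : t i ∣ Finset.univ.gcd (fun j => a i * t j) :=
          Finset.dvd_gcd fun j _ => ⟨a j, by rw [hat' i j]; ring⟩
        rw [Finset.gcd_mul_left, hgcd, mul_one, normalize_eq] at h1
        exact h1
      exact le_antisymm (hat i) (Nat.le_of_dvd (ha1 i) hdvd)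
  have ht0 : ∀ i, ∑ j, (t j : ℤ) * c i j = 0 := by
    intro i
    have h1 := hkill i
    have h2 : ∑ j, (m j : ℤ) * c i j = (d : ℤ) * ∑ j, (t j : ℤ) * c i j := by
      rw [Finset.mul_sum]
      refine Finset.sum_congr rfl fun j _ => ?_
      rw [hm j]
      push_cast
      ring
    rw [h2] at h1
    have hd' : (d : ℤ) ≠ 0 := by exact_mod_cast hd.ne'
    exact (mul_eq_zero.1 h1).resolve_left hd'
  have hS : ∑ i, b i * ∑ j, (a j : ℤ) * c i j =
      - ∑ q : Fin n × Fin n, b q.1 * b q.2 * c q.1 q.2 := by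
    rw [Fintype.sum_prod_type, ← Finset.sum_neg_distrib]
    refine Finset.sum_congr rfl fun i _ => ?_
    have h1 : ∑ j, (a j : ℤ) * c i j = ∑ j, (t j : ℤ) * c i j - ∑ j, b j * c i j := by
      rw [← Finset.sum_sub_distrib]
      refine Finset.sum_congr rfl fun j _ => ?_
      simp only [hb]
      ring
    rw [h1, ht0 i, zero_sub, mul_neg, Finset.mul_sum]
    congr 1
    exact Finset.sum_congr rfl fun j _ => by ring
  have hpos : 0 < ∑ i, b i * ∑ j, (a j : ℤ) * c i j := by rw [hS]; linarith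
  obtain ⟨i, -, hi⟩ := Finset.exists_lt_of_sum_lt (s := Finset.univ) (f := fun _ => (0 : ℤ))
    (g := fun i => b i * ∑ j, (a j : ℤ) * c i j) (by simpa using hpos)
  refine ⟨i, ?_, ?_⟩
  · have hbi : 0 < b i := by
      rcases (hb0 i).lt_or_eq with h | h
      · exact h
      · rw [← h, zero_mul] at hi; exact absurd hi (lt_irrefl _)
    simp only [hb] at hbi
    omega
  · have hbi : 0 < b i := by
      rcases (hb0 i).lt_or_eq with h | h
      · exact h
      · rw [← h, zero_mul] at hi; exact absurd hi (lt_irrefl _)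
    exact (pos_iff_pos_of_mul_pos hi).1 hbi

/-- build a chain from `a₀` to `t`, adding one basis vector at a time, along which `Good` holds -/
theorem exists_chain {n : ℕ} (Good : (Fin n → ℕ) → Prop) (t : Fin n → ℕ)
    (hstep : ∀ a : Fin n → ℕ, (∀ i, 1 ≤ a i) → (∀ i, a i ≤ t i) → a ≠ t → Good a →
       ∃ i, a i < t i ∧ Good (a + Pi.single i 1)) :
    ∀ (N : ℕ) (a₀ : Fin n → ℕ), (∑ i, (t i - a₀ i)) = N → (∀ i, 1 ≤ a₀ i) → (∀ i, a₀ i ≤ t i) → Good a₀ →
    ∃ (s : ℕ) (a : Fin (s + 1) → Fin n → ℕ), a 0 = a₀ ∧ a (Fin.last s) = t ∧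
      (∀ j : Fin s, ∃ i, a j.succ = a j.castSucc + Pi.single i 1) ∧ ∀ j, Good (a j) := by
  intro N
  induction N with
  | zero =>
    intro a₀ hN h1 hle hG
    have heq : a₀ = t := by
      funext i
      have := (Finset.sum_eq_zero_iff.1 hN) i (Finset.mem_univ i)
      have := hle i
      omega
    refine ⟨0, fun _ => a₀, rfl, heq, fun j => j.elim0, fun _ => hG⟩
  | succ N ih =>
    intro a₀ hN h1 hle hG
    have hne : a₀ ≠ t := by
      rintro rfl
      simp at hN
    obtain ⟨i, hi, hG'⟩ := hstep a₀ h1 hle hne hG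
    have ha₁ : ∀ j, (a₀ + Pi.single i 1 : Fin n → ℕ) j = a₀ j + if j = i then 1 else 0 := fun j => by
      simp only [Pi.add_apply, Pi.single_apply]
    have hN' : (∑ j, (t j - (a₀ + Pi.single i 1 : Fin n → ℕ) j)) = N := by
      have h2 : ∑ j, (t j - a₀ j) = ∑ j, (t j - (a₀ + Pi.single i 1 : Fin n → ℕ) j) +
          ∑ j, (Pi.single i 1 : Fin n → ℕ) j := by
        rw [← Finset.sum_add_distrib]
        refine Finset.sum_congr rfl fun j _ => ?_
        rw [ha₁ j, Pi.single_apply]
        split_ifs with hji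
        · subst hji; omega
        · omega
      rw [Finset.sum_pi_single' i 1 Finset.univ, if_pos (Finset.mem_univ i)] at h2
      omega
    have h1' : ∀ j, 1 ≤ (a₀ + Pi.single i 1 : Fin n → ℕ) j := fun j => by
      rw [ha₁ j]; exact le_trans (h1 j) (Nat.le_add_right _ _)
    have hle' : ∀ j, (a₀ + Pi.single i 1 : Fin n → ℕ) j ≤ t j := by
      intro j
      rw [ha₁ j]
      split_ifs with hji
      · subst hji; omega
      · have := hle j; omega
    obtain ⟨s, a, ha0, hal, hstp, hgood⟩ := ih (a₀ + Pi.single i 1) hN' h1' hle' hG'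
    refine ⟨s + 1, Fin.cons a₀ a, rfl, ?_, ?_, ?_⟩
    · rw [show Fin.last (s + 1) = (Fin.last s).succ from rfl, Fin.cons_succ]
      exact hal
    · intro j
      refine Fin.cases ?_ (fun j' => ?_) j
      · refine ⟨i, ?_⟩
        rw [show (0 : Fin (s + 1)).succ = (1 : Fin (s + 2)) from rfl,
          show (1 : Fin (s + 2)) = (0 : Fin (s + 1)).succ from rfl, Fin.cons_succ]
        rw [show (0 : Fin (s + 1)).castSucc = (0 : Fin (s + 2)) from rfl, Fin.cons_zero]
        exact ha0
      · obtain ⟨i', hi'⟩ := hstp j'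
        refine ⟨i', ?_⟩
        rw [Fin.cons_succ, show j'.succ.castSucc = j'.castSucc.succ from rfl, Fin.cons_succ]
        exact hi'
    · intro j
      refine Fin.cases ?_ (fun j' => ?_) j
      · rw [Fin.cons_zero]; exact hG
      · rw [Fin.cons_succ]; exact hgood j'

section pre

variable (R : Type u) [CommRing R] [IsDomain R] [IsDiscreteValuationRing R]
  (X : Over (Spec (CommRingCat.of R)))
  {n : ℕ} (Γ : Fin n → ArSurf.VertComp R X) (hΓ : Models.IsComponentList R X Γ)
  (hflat : Flat X.hom) (hft : LocallyOfFiniteType X.hom)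
  (hreg : ∀ x : X.left, IsRegularLocalRing (X.left.presheaf.stalk x))
  (L : Fin n → X.left.Modules) (hL : ∀ i, ClSub.IsInverseOf (L i) (ClSub.idealMod (Γ i).ι.ker))

/-- `H⁰(O_D)` is a field -/
def Good (a : Fin n → ℕ) : Prop := IsField Γ((divIdeal R X Γ a).subscheme, ⊤)

theorem divIdeal_single (i : Fin n) : divIdeal R X Γ (Pi.single i 1) = (Γ i).ι.ker := by
  unfold divIdeal
  rw [Finset.prod_eq_single i]
  · rw [Pi.single_eq_same, pow_one]
  · intro j _ hji
    rw [Pi.single_eq_of_ne hji, pow_zero]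
  · intro h; exact absurd (Finset.mem_univ i) h

/-- the multiplicities divided by their gcd -/
abbrev tt (j : Fin n) : ℕ := Models.mult R X (Γ j) / Models.multGcd R X Γ

include hΓ hflat hreg in
theorem multGcd_pos (i₀ : Fin n) : 0 < Models.multGcd R X Γ := by
  unfold Models.multGcd
  apply Nat.pos_of_ne_zero
  intro h
  have := (Finset.gcd_eq_zero_iff.1 h) i₀ (Finset.mem_univ _)
  have := mult_pos R X Γ hΓ hflat hreg i₀
  omega

theorem mult_eq (j : Fin n) : Models.mult R X (Γ j) = Models.multGcd R X Γ * tt R X Γ j :=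
  (Nat.mul_div_cancel' (Finset.gcd_dvd (f := fun j => Models.mult R X (Γ j)) (Finset.mem_univ j))).symm

variable [IsProper X.hom]

/-- a single component has a field of global functions -/
theorem good_single (i : Fin n) : Good R X Γ (Pi.single i 1) := by
  unfold Good
  rw [divIdeal_single]
  haveI := isProper_curve R X (Γ i)
  have hF := Inter27.isField_Γ (IsLocalRing.ResidueField R) (Γ i).curve.left
  haveI : IsIso ((Γ i).ι.toImage.appTop) := by
    have : (Γ i).ι.toImage.appTop = Scheme.Γ.map ((Γ i).ι.toImage).op := rfl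
    rw [this]
    haveI h1 : IsIso (Γ i).ι.toImage := inferInstance
    haveI h2 : IsIso ((Γ i).ι.toImage).op := inferInstance
    exact Functor.map_isIso Scheme.Γ _
  let e : Γ((Γ i).ι.ker.subscheme, ⊤) ≃+* Γ((Γ i).curve.left, ⊤) :=
    (asIso ((Γ i).ι.toImage.appTop)).commRingCatIsoToRingEquiv
  exact MulEquiv.isField hF e.toMulEquiv

include hΓ hflat hft hreg hL in
/-- the field step, in terms of `Good` -/
theorem good_step (a : Fin n → ℕ) (i : Fin n)
    (ha : ∀ j, a j + (if j = i then 1 else 0) ≤ Models.mult R X (Γ j))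
    (hpos : 0 < ∑ j, (a j : ℤ) * ArSurf.inter R X (L i) (Γ j))
    (hF : Good R X Γ a) : Good R X Γ (fun j => a j + if j = i then 1 else 0) := by
  unfold Good
  have h : divIdeal R X Γ (fun j => a j + if j = i then 1 else 0) = divIdeal R X Γ a * (Γ i).ι.ker :=
    divIdeal_succ R X Γ a i
  rw [h]
  exact isField_step R X Γ hΓ hflat hft hreg L hL a i ha hpos hF

include hΓ hflat hft hreg hL in
/-- the reduced closed fibre `Σ Γ_j` has a field of global functions -/
theorem good_indicator (hconn : _root_.IsPreconnected (Models.specialFibreSet R X)) (i₀ : Fin n) :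
    ∀ k : ℕ, k < n → ∃ S : Finset (Fin n), S.card = k + 1 ∧
      Good R X Γ (fun j => if j ∈ S then 1 else 0) := by
  intro k
  induction k with
  | zero =>
    intro _
    refine ⟨{i₀}, Finset.card_singleton _, ?_⟩
    have : (fun j => if j ∈ ({i₀} : Finset (Fin n)) then 1 else 0) = (Pi.single i₀ 1 : Fin n → ℕ) := by
      funext j
      simp only [Finset.mem_singleton, Pi.single_apply]
    rw [this]
    exact good_single R X Γ i₀
  | succ k ih =>
    intro hk
    obtain ⟨S, hcard, hS⟩ := ih (by omega)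
    have hSne : S.Nonempty := Finset.card_pos.1 (by omega)
    have hSuniv : S ≠ Finset.univ := by
      intro h
      rw [h, Finset.card_univ, Fintype.card_fin] at hcard
      omega
    obtain ⟨i', hi', j', hj', hne⟩ := inter_connected R X Γ hΓ hflat hft hreg L hL hconn S hSne hSuniv
    have hnonneg : ∀ l ∈ S, 0 ≤ ArSurf.inter R X (L j') (Γ l) := fun l hl =>
      (inter_offDiag R X Γ hΓ hflat hft hreg L hL (i := l) (j := j')
        (fun h => hj' (h ▸ hl))).1
    have hpos : 0 < ∑ j, (((if j ∈ S then 1 else 0 : ℕ) : ℤ)) * ArSurf.inter R X (L j') (Γ j) := by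
      have h1 : ∑ j, (((if j ∈ S then 1 else 0 : ℕ) : ℤ)) * ArSurf.inter R X (L j') (Γ j) =
          ∑ j ∈ S, ArSurf.inter R X (L j') (Γ j) := by
        rw [← Finset.sum_filter_add_sum_filter_not Finset.univ (· ∈ S)]
        have h2 : ∑ j ∈ Finset.univ.filter (fun j => ¬ j ∈ S),
            (((if j ∈ S then 1 else 0 : ℕ) : ℤ)) * ArSurf.inter R X (L j') (Γ j) = 0 :=
          Finset.sum_eq_zero fun j hj => by
            rw [if_neg (Finset.mem_filter.1 hj).2]; simp
        rw [h2, add_zero, Finset.filter_mem_eq_inter, Finset.univ_inter]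
        exact Finset.sum_congr rfl fun j hj => by rw [if_pos hj]; simp
      rw [h1]
      have h3 : 0 < ArSurf.inter R X (L j') (Γ i') := lt_of_le_of_ne (hnonneg i' hi') (Ne.symm hne)
      exact lt_of_lt_of_le h3 (Finset.single_le_sum (f := fun l => ArSurf.inter R X (L j') (Γ l))
        (fun l hl => hnonneg l hl) hi')
    have ha : ∀ j, (if j ∈ S then 1 else 0) + (if j = j' then 1 else 0) ≤ Models.mult R X (Γ j) := by
      intro j
      have hm := mult_pos R X Γ hΓ hflat hreg j
      by_cases hjS : j ∈ S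
      · have : j ≠ j' := fun h => hj' (h ▸ hjS)
        rw [if_pos hjS, if_neg this]; omega
      · rw [if_neg hjS]; split_ifs <;> omega
    have hstep := good_step R X Γ hΓ hflat hft hreg L hL _ j' ha hpos hS
    refine ⟨insert j' S, by rw [Finset.card_insert_of_notMem hj', hcard], ?_⟩
    have : (fun j => if j ∈ insert j' S then 1 else 0) =
        (fun j => (if j ∈ S then 1 else 0) + if j = j' then 1 else 0 : Fin n → ℕ) := by
      funext j
      by_cases hjS : j ∈ S
      · have : j ≠ j' := fun h => hj' (h ▸ hjS)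
        rw [if_pos (Finset.mem_insert_of_mem hjS), if_pos hjS, if_neg this]
      · by_cases hjj : j = j'
        · rw [if_pos (hjj ▸ Finset.mem_insert_self j' S), if_neg hjS, if_pos hjj]
        · rw [if_neg (fun h => (Finset.mem_insert.1 h).elim hjj hjS), if_neg hjS, if_neg hjj]
    rw [this]
    exact hstep

include hΓ hflat hft hreg hL in
theorem good_ones (hconn : _root_.IsPreconnected (Models.specialFibreSet R X)) (i₀ : Fin n) :
    Good R X Γ (fun _ => 1) := by
  obtain ⟨S, hcard, hS⟩ := good_indicator R X Γ hΓ hflat hft hreg L hL hconn i₀ (n - 1)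
    (by have := i₀.pos; omega)
  have hSu : S = Finset.univ := by
    apply Finset.eq_univ_of_card
    rw [hcard, Fintype.card_fin]
    have := i₀.pos; omega
  have : (fun j => if j ∈ S then 1 else 0 : Fin n → ℕ) = fun _ => 1 := by
    funext j
    rw [if_pos (hSu ▸ Finset.mem_univ j)]
  rwa [this] at hS

include hΓ hflat hft hreg hL in
/-- **S3323 core**: the chain from the reduced fibre to `D = X_k / d` with fields of global functions -/
theorem exists_field_chain (hconn : _root_.IsPreconnected (Models.specialFibreSet R X)) (i₀ : Fin n) :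
    ∃ (s : ℕ) (a : Fin (s + 1) → Fin n → ℕ), (a 0 = fun _ => 1) ∧ (a (Fin.last s) = tt R X Γ) ∧
      (∀ j : Fin s, ∃ i, a j.succ = a j.castSucc + Pi.single i 1) ∧ ∀ j, Good R X Γ (a j) := by
  have hd := multGcd_pos R X Γ hΓ hflat hreg i₀
  have hmpos := mult_pos R X Γ hΓ hflat hreg
  have hgcd : Finset.univ.gcd (tt R X Γ) = 1 :=
    Finset.gcd_div_eq_one (f := fun j => Models.mult R X (Γ j)) (Finset.mem_univ i₀) (hmpos i₀).ne'
  have ht1 : ∀ j, 1 ≤ tt R X Γ j := fun j => by
    have h1 := mult_eq R X Γ j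
    have h2 := hmpos j
    rcases Nat.eq_zero_or_pos (tt R X Γ j) with h0 | h0
    · rw [h0, mul_zero] at h1; omega
    · exact h0
  have htm : ∀ j, tt R X Γ j ≤ Models.mult R X (Γ j) := fun j => Nat.div_le_self _ _
  refine exists_chain (Good R X Γ) (tt R X Γ) ?_ _ (fun _ => 1) rfl (fun _ => le_rfl) ht1
    (good_ones R X Γ hΓ hflat hft hreg L hL hconn i₀)
  intro a ha1 hat hne hG
  obtain ⟨i, hi, hpos⟩ := exists_step (fun i j => ArSurf.inter R X (L j) (Γ i))
    (fun j => Models.mult R X (Γ j)) (tt R X Γ) a (Models.multGcd R X Γ) hd (mult_eq R X Γ) hgcd ha1 hat hne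
    (fun i => sum_mult_mul_inter_eq_zero_left R X Γ hΓ L hL hflat hft hreg i)
    (fun b => by
      have h := inter_form_nonpos R X Γ hΓ hflat hft hreg L hL hconn b
      exact ⟨h.1, fun h0 => by
        obtain ⟨r, hr⟩ := h.2.1 h0
        exact ⟨r, fun i => by rw [hr i]⟩⟩)
  refine ⟨i, hi, ?_⟩
  have hpos' : 0 < ∑ j, (a j : ℤ) * ArSurf.inter R X (L i) (Γ j) := by
    have : ∑ j, (a j : ℤ) * ArSurf.inter R X (L i) (Γ j) = ∑ j, (a j : ℤ) * ArSurf.inter R X (L j) (Γ i) :=
      Finset.sum_congr rfl fun j _ => by rw [inter_symm R X Γ hΓ hflat hft hreg L hL i j]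
    rw [this]; exact hpos
  have hale : ∀ j, a j + (if j = i then 1 else 0) ≤ Models.mult R X (Γ j) := by
    intro j
    have h1 := hat j
    have h2 := htm j
    split_ifs with hji
    · subst hji; omega
    · omega
  have hstep := good_step R X Γ hΓ hflat hft hreg L hL a i hale hpos' hG
  have : (a + Pi.single i 1 : Fin n → ℕ) = fun j => a j + if j = i then 1 else 0 := by
    funext j
    simp only [Pi.add_apply, Pi.single_apply]
  rw [this]
  exact hstep

end pre

variable (R : Type u) [CommRing R] [IsDomain R] [IsDiscreteValuationRing R]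
  (C X : Scheme.{u}) (f : C ⟶ Spec (CommRingCat.of (FractionRing R))) (p : X ⟶ Spec (CommRingCat.of R))

/-- auxiliary inverses `L_i = O(Γ_i)` -/
theorem exists_L (hX : Models.IsRegularProperModel R X p C f)
    {n : ℕ} (Γ : Fin n → ArSurf.VertComp R (Over.mk p)) (hΓ : Models.IsComponentList R (Over.mk p) Γ) :
    ∃ L : Fin n → X.Modules, ∀ i, ClSub.IsInverseOf (L i) (ClSub.idealMod (Γ i).ι.ker) := by
  obtain ⟨⟨hflat, hft, -, -⟩, hproper, hreg⟩ := hX
  have hEC : ∀ i, BlowUp.IsEffCartierIdeal (Γ i).ι.ker := fun i =>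
    isEffCartierIdeal_ker R (Over.mk p) hflat hft hreg Γ hΓ i
  have hex : ∀ i, ∃ Li : X.Modules, PicF.IsInvertible Li ∧
      ClSub.IsInverseOf Li (ClSub.idealMod (Γ i).ι.ker) := fun i =>
    Groth.Agent.Lib.Helper8.InvInverse.exists_isInverseOf
      (Groth.Agent.Lib.Helper28.IdealDual.isInvertible_idealMod _ (hEC i))
  choose L _ hL using hex
  exact ⟨L, hL⟩

/-- **S3323** -/
theorem chain_result (hH0 : IsIso f.appTop) (hX : Models.IsRegularProperModel R X p C f)
    {n : ℕ} (Γ : Fin n → ArSurf.VertComp R (Over.mk p)) (hΓ : Models.IsComponentList R (Over.mk p) Γ) :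
    ∃ (s : ℕ) (a : Fin (s + 1) → Fin n → ℕ), (a 0 = fun _ => 1) ∧
      (a (Fin.last s) = fun i => Models.mult R (Over.mk p) (Γ i) / Models.multGcd R (Over.mk p) Γ) ∧
      (∀ j : Fin s, ∃ i, a j.succ = a j.castSucc + Pi.single i 1) ∧
      ∀ j, IsField ↑(Γ((∏ i, (Γ i).ι.ker ^ a j i).subscheme, ⊤)) ∧
        (((∏ i, (Γ i).ι.ker ^ a j i).subschemeι ≫ p).appTop.hom.comp
          (Scheme.ΓSpecIso (CommRingCat.of R)).inv.hom).Finite := by
  obtain ⟨L, hL⟩ := exists_L R C X f p hX Γ hΓ
  obtain ⟨⟨hflat, hft, hqc, g, hg⟩, hproper, hreg⟩ := hX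
  haveI : IsProper p := hproper
  haveI : Flat p := hflat
  haveI : IsProper (Over.mk p).hom := hproper
  have hconn := isPreconnected_specialFibreSet R f p g hg hH0
  obtain ⟨i₀⟩ := exists_component R C X f p hH0 g Γ hΓ
  obtain ⟨s, a, h0, hl, hstep, hgood⟩ := exists_field_chain R (Over.mk p) Γ hΓ hflat hft hreg L hL hconn i₀
  refine ⟨s, a, h0, hl, hstep, fun j => ⟨hgood j, ?_⟩⟩
  exact finite_toGlobal_subscheme R (Over.mk p) _

/-- **S3324** -/
theorem genus_D_result (hH0 : IsIso f.appTop) (hX : Models.IsRegularProperModel R X p C f)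
    {n : ℕ} (Γ : Fin n → ArSurf.VertComp R (Over.mk p)) (hΓ : Models.IsComponentList R (Over.mk p) Γ) :
    IsField ↑(Γ((∏ i, (Γ i).ι.ker ^ (Models.mult R (Over.mk p) (Γ i) / Models.multGcd R (Over.mk p) Γ)).subscheme, ⊤)) ∧
      (1 : ℤ) - (Models.curveGenus (FractionRing R) C f : ℤ) =
        (Models.multGcd R (Over.mk p) Γ : ℤ) * ((Models.lengthH R (Over.mk p) (ClSub.quotMod (∏ i, (Γ i).ι.ker ^ (Models.mult R (Over.mk p) (Γ i) / Models.multGcd R (Over.mk p) Γ))) 0 : ℤ) -
          (Models.lengthH R (Over.mk p) (ClSub.quotMod (∏ i, (Γ i).ι.ker ^ (Models.mult R (Over.mk p) (Γ i) / Models.multGcd R (Over.mk p) Γ))) 1 : ℤ)) := by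
  obtain ⟨L, hL⟩ := exists_L R C X f p hX Γ hΓ
  have hgen := Inter26.genus_formula R C X f p hH0 hX Γ hΓ L hL
  obtain ⟨⟨hflat, hft, hqc, g, hg⟩, hproper, hreg⟩ := hX
  haveI : IsProper p := hproper
  haveI : Flat p := hflat
  haveI : IsProper (Over.mk p).hom := hproper
  have hflat' : Flat (Over.mk p).hom := hflat
  have hft' : LocallyOfFiniteType (Over.mk p).hom := hft
  have hreg' : ∀ x : (Over.mk p).left, IsRegularLocalRing ((Over.mk p).left.presheaf.stalk x) := hreg
  have hconn := isPreconnected_specialFibreSet R f p g hg hH0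
  obtain ⟨i₀⟩ := exists_component R C X f p hH0 g Γ hΓ
  obtain ⟨s, a, h0, hl, hstep, hgood⟩ := exists_field_chain R (Over.mk p) Γ hΓ hflat' hft' hreg' L hL hconn i₀
  refine ⟨?_, ?_⟩
  · have := hgood (Fin.last s)
    rw [hl] at this
    exact this
  · have hd := multGcd_pos R (Over.mk p) Γ hΓ hflat' hreg' i₀
    set d := Models.multGcd R (Over.mk p) Γ with hdd
    set t : Fin n → ℕ := tt R (Over.mk p) Γ with ht
    have hmt : ∀ j, (Models.mult R (Over.mk p) (Γ j) : ℤ) = (d : ℤ) * (t j : ℤ) := fun j => by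
      exact_mod_cast mult_eq R (Over.mk p) Γ j
    obtain ⟨-, hchi⟩ := chi_formula R (Over.mk p) Γ hΓ hflat' hft' hreg' L hL _ t rfl
      (fun j => Nat.div_le_self _ _)
    have hd' : (d : ℤ) ≠ 0 := by exact_mod_cast hd.ne'
    have ht0 : ∀ j, ∑ l, (t l : ℤ) * ArSurf.inter R (Over.mk p) (L l) (Γ j) = 0 := by
      intro j
      have h1 := sum_mult_mul_inter_eq_zero_left R (Over.mk p) Γ hΓ L hL hflat' hft' hreg' j
      have h2 : ∑ l, (Models.mult R (Over.mk p) (Γ l) : ℤ) * ArSurf.inter R (Over.mk p) (L l) (Γ j) =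
          (d : ℤ) * ∑ l, (t l : ℤ) * ArSurf.inter R (Over.mk p) (L l) (Γ j) := by
        rw [Finset.mul_sum]
        exact Finset.sum_congr rfl fun l _ => by rw [hmt l]; ring
      rw [h2] at h1
      exact (mul_eq_zero.1 h1).resolve_left hd'
    have hzero : ∑ j, ∑ l, (t j : ℤ) * (t l : ℤ) * ArSurf.inter R (Over.mk p) (L l) (Γ j) = 0 := by
      apply Finset.sum_eq_zero
      intro j _
      calc ∑ l, (t j : ℤ) * (t l : ℤ) * ArSurf.inter R (Over.mk p) (L l) (Γ j)
          = (t j : ℤ) * ∑ l, (t l : ℤ) * ArSurf.inter R (Over.mk p) (L l) (Γ j) := by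
            rw [Finset.mul_sum]
            exact Finset.sum_congr rfl fun l _ => by ring
        _ = 0 := by rw [ht0 j, mul_zero]
    rw [hzero, sub_zero] at hchi
    have hsum : ∑ i, (Models.mult R (Over.mk p) (Γ i) : ℤ) *
          (2 * ((Models.h1 R (Over.mk p) (Γ i) : ℤ) - (Models.wdeg R (Over.mk p) (Γ i) : ℤ)) -
            ArSurf.inter R (Over.mk p) (L i) (Γ i)) =
        - ((d : ℤ) * ∑ j, (t j : ℤ) *
          (2 * ((Models.wdeg R (Over.mk p) (Γ j) : ℤ) - (Models.h1 R (Over.mk p) (Γ j) : ℤ)) +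
            ArSurf.inter R (Over.mk p) (L j) (Γ j))) := by
      rw [Finset.mul_sum, ← Finset.sum_neg_distrib]
      exact Finset.sum_congr rfl fun i _ => by rw [hmt i]; ring
    rw [hsum, ← hchi] at hgen
    have hfin : (1 : ℤ) - (Models.curveGenus (FractionRing R) C f : ℤ) = (d : ℤ) * chi R (Over.mk p) Γ t := by
      linarith
    exact hfin

end Groth.Agent.Lib.Helper1.Inter30
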