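import Groth.Agent.Lib.Helper1.Inter3

/-!
# Intersection numbers of distinct fibre components (helper1)
-/

set_option autoImplicit false
universe u
open CategoryTheory CategoryTheory.Limits AlgebraicGeometry Opposite TopologicalSpace
noncomputable section

namespace Groth.Agent.Lib.Helper1.Inter

open Groth.Agent.Lib.Helper1.VertDiv Groth.Agent.Lib.Helper1.FibGeom

variable (R : Type u) [CommRing R] [IsDomain R] [IsDiscreteValuationRing R]
  (X : Over (Spec (CommRingCat.of R)))

/-- the support of the ideal of a vertical prime divisor is its image. -/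
theorem support_ker_eq_range (Γ : ArSurf.VertComp R X) :
    (Γ.ι.ker.support : Set X.left) = Set.range (Γ.ι.base : Γ.curve.left → X.left) := by
  rw [Scheme.Hom.support_ker]
  exact Γ.ι.isClosedEmbedding.isClosed_range.closure_eq

variable {n : ℕ} (Γ : Fin n → ArSurf.VertComp R X) (hΓ : Models.IsComponentList R X Γ)

include hΓ in
theorem genPtOf_notMem_support_ker {i j : Fin n} (hij : i ≠ j) :
    Models.genPtOf R X (Γ i) ∉ (Γ j).ι.ker.support := by
  rw [← SetLike.mem_coe, support_ker_eq_range, range_eq_closure_genPtOf, ← specializes_iff_mem_closure]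
  exact not_specializes_of_ne R X Γ hΓ (Ne.symm hij)

variable [IsProper X.hom] (hflat : Flat X.hom) (hft : LocallyOfFiniteType X.hom)
  (hreg : ∀ x : X.left, IsRegularLocalRing (X.left.presheaf.stalk x))
  (L : Fin n → X.left.Modules) (hL : ∀ i, ClSub.IsInverseOf (L i) (ClSub.idealMod (Γ i).ι.ker))

omit [IsProper X.hom] in
include hΓ hflat hft hreg hL in
theorem isInvertible_L (i : Fin n) : PicF.IsInvertible (L i) :=
  Groth.Agent.Lib.Helper2.TensEq.isInvertible_of_isInverseOf
    (Groth.Agent.Lib.Helper28.IdealDual.isInvertible_idealMod _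
      (isEffCartierIdeal_ker R X hflat hft hreg Γ hΓ i)) (hL i)

include hΓ hflat hft hreg hL in
/-- **S3317 core**: for `i ≠ j`, `(Γ_i · Γ_j) ≥ 0` with equality iff `Γ_i ∩ Γ_j = ∅`. -/
theorem inter_offDiag {i j : Fin n} (hij : i ≠ j) :
    0 ≤ ArSurf.inter R X (L j) (Γ i) ∧
      (ArSurf.inter R X (L j) (Γ i) = 0 ↔
        Disjoint (Set.range ((Γ i).ι.base : (Γ i).curve.left → X.left))
          (Set.range ((Γ j).ι.base : (Γ j).curve.left → X.left))) := by
  have hJ := isEffCartierIdeal_ker R X hflat hft hreg Γ hΓ j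
  have hgen := genPtOf_notMem_support_ker R X Γ hΓ hij
  have hLj := isInvertible_L R X Γ hΓ hflat hft hreg L hL j
  refine ⟨inter_nonneg R X (Γ i) _ hJ hgen (L j) hLj (hL j), ?_⟩
  rw [inter_eq_zero_iff R X (Γ i) _ hJ hgen (L j) hLj (hL j), support_ker_eq_range]

end Groth.Agent.Lib.Helper1.Inter
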