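import Groth.Agent.Lib.Helper1.Inter4
import Groth.Agent.Lib.Helper28.ProjSpaceBasic

/-!
# S8728 core: a vertical prime divisor against an effective Cartier divisor on an arithmetic surface (helper1)
-/

set_option autoImplicit false
universe u
open CategoryTheory CategoryTheory.Limits AlgebraicGeometry Opposite TopologicalSpace
noncomputable section

namespace Groth.Agent.Lib.Helper1.Inter

variable (R : Type u) [CommRing R] [IsDomain R] [IsDiscreteValuationRing R]
  (X : Over (Spec (CommRingCat.of R)))

omit [IsDomain R] [IsDiscreteValuationRing R] in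
theorem isProper_of_isArithSurface (hX : ArSurf.IsArithSurface R X) : IsProper X.hom := by
  obtain ⟨-, -, -, -, n, i, hi, hcomp⟩ := hX
  rw [← hcomp]
  haveI := hi
  haveI := Groth.Agent.Lib.Helper28.ProjSpaceBasic.isProper_toBase n (Spec (CommRingCat.of R))
  infer_instance

theorem isEffCartierIdeal_of_isEffCartier {Y : Scheme.{u}} (I : Y.IdealSheafData)
    (hI : FGA.IsEffCartier I) : BlowUp.IsEffCartierIdeal I := hI

theorem inter_effCartier (hX : ArSurf.IsArithSurface R X) (Γ : ArSurf.VertComp R X)
    (I : X.left.IdealSheafData) (hI : FGA.IsEffCartier I)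
    (hΓ : Γ.ι.base (genericPoint ↥Γ.curve.left) ∉ (I.support : Set ↥X.left))
    (L : X.left.Modules) (hL : ClSub.IsInverseOf L (ClSub.idealMod I)) :
    0 ≤ ArSurf.inter R X L Γ ∧
      (ArSurf.inter R X L Γ = 0 ↔ Disjoint (Set.range Γ.ι.base) (I.support : Set ↥X.left)) := by
  haveI := isProper_of_isArithSurface R X hX
  have hI' : BlowUp.IsEffCartierIdeal I := hI
  have hLinv : PicF.IsInvertible L :=
    Groth.Agent.Lib.Helper2.TensEq.isInvertible_of_isInverseOf
      (Groth.Agent.Lib.Helper28.IdealDual.isInvertible_idealMod _ hI') hL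
  exact ⟨inter_nonneg R X Γ I hI' hΓ L hLinv hL, inter_eq_zero_iff R X Γ I hI' hΓ L hLinv hL⟩

end Groth.Agent.Lib.Helper1.Inter
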