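import Groth.Agent.Lib.Helper1.Inter5

/-!
# The scheme-theoretic intersection: `H⁰(Γ, O_Γ / D O_Γ)` versus `H⁰(X, O_X / (D + I_Γ))` (helper1)
-/

set_option autoImplicit false
universe u
open CategoryTheory CategoryTheory.Limits AlgebraicGeometry Opposite TopologicalSpace
noncomputable section

namespace Groth.Agent.Lib.Helper1.Inter

open Groth.Agent.Lib.Helper28 Groth.Agent.Lib.Helper28.QCohLoc

section StepA

variable {Z X : Scheme.{u}} (ι : Z ⟶ X) [IsClosedImmersion ι] (D : X.IdealSheafData)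

/-- the ideal of the scheme-theoretic intersection of `V(D)` with a closed subscheme. -/
theorem map_comap_eq_sup : (D.comap ι).map ι = D ⊔ ι.ker := by
  apply Scheme.IdealSheafData.ext
  funext U
  rw [Scheme.IdealSheafData.ideal_map_of_isAffineHom, Scheme.IdealSheafData.ideal_sup]
  have e : (ι ⁻¹ᵁ U.1 : Z.Opens) ≤ ι ⁻¹ᵁ U.1 := le_rfl
  have h1 := Groth.Agent.Lib.Helper29.EffCart.ideal_comap_eq_map D ι U
    ⟨ι ⁻¹ᵁ U.1, U.2.preimage ι⟩ e
  rw [h1]
  have h2 : ι.appLE U.1 (ι ⁻¹ᵁ U.1) e = ι.app U.1 := Scheme.Hom.appLE_eq_app ι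
  rw [h2, Ideal.comap_map_of_surjective _ (ι.app_surjective U.1 U.2)]
  show D.ideal U ⊔ _ = D.ideal U ⊔ ι.ker.ideal U
  rw [Scheme.Hom.ker_apply]
  rfl

end StepA

section E0

variable (A : Type u) [CommRing A] {Y : Scheme.{u}} [Y.Over (Spec (CommRingCat.of A))] (M : Y.Modules)

/-- `H⁰(Y, M) ≃ Γ(Y, M)`, additive. -/
def e0 : Coh.HH Y M 0 ≃+ Γ(M, ⊤) := Sheaf.H.equiv₀ (Coh.toAb M) Limits.isTerminalTop

/-- the structure map `A → Γ(Y, O_Y)`. -/
def toΓ : A →+* Γ(Y, ⊤) := Coh.toGlobal (Y ↘ Spec (CommRingCat.of A))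

theorem e0_smul (c : A) (x : Coh.HH Y M 0) :
    e0 M (c • x) = (toΓ A (Y := Y) c • e0 M x : Γ(M, ⊤)) := by
  have h := Sheaf.H.equiv₀_naturality (Limits.isTerminalTop (α := Opens Y))
    (Coh.smulAb M (Coh.toGlobal (Y ↘ Spec (CommRingCat.of A)) c)) x
  refine h.symm.trans ?_
  rw [Coh.smulAb_app]
  have : Coh.resTop Y (op ⊤) (Coh.toGlobal (Y ↘ Spec (CommRingCat.of A)) c) =
      Coh.toGlobal (Y ↘ Spec (CommRingCat.of A)) c := by
    change (Y.ringCatSheaf.obj.map (𝟙 _)).hom _ = _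
    rw [CategoryTheory.Functor.map_id]
    rfl
  rw [this]
  rfl

/-- the module structure of `O_Y / K` on global sections. -/
theorem smul_quotMod_top (K : Y.IdealSheafData) (a : Γ(Y, ⊤)) (s : Γ(ClSub.quotMod K, ⊤)) :
    (a • s : Γ(ClSub.quotMod K, ⊤)) =
      ((show Γ(K.subscheme, ⊤) from (K.subschemeι.app ⊤).hom a) *
        (show Γ(K.subscheme, ⊤) from s) : Γ(K.subscheme, ⊤)) := rfl

end E0

end Groth.Agent.Lib.Helper1.Inter
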