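import Groth.Agent.Lib.Helper1.Inter6

/-!
# `(O(D) · Γ) = length_R H⁰(X, O_X / (I_D + I_Γ))` (helper1)
-/

set_option autoImplicit false
universe u
open CategoryTheory CategoryTheory.Limits AlgebraicGeometry Opposite TopologicalSpace
noncomputable section

namespace Groth.Agent.Lib.Helper1.Inter

open Groth.Agent.Lib.Helper28 Groth.Agent.Lib.Helper28.QCohLoc

variable (R : Type u) [CommRing R] [IsDomain R] [IsDiscreteValuationRing R]
  (X : Over (Spec (CommRingCat.of R))) (Γ : ArSurf.VertComp R X)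

/-- compatibility of the structure maps `R → Γ(X, O)` and `k → Γ(Γ, O)`. -/
theorem toGlobal_residue (r : R) :
    Coh.toGlobal Γ.curve.hom (IsLocalRing.residue R r) = Γ.ι.appTop.hom (Coh.toGlobal X.hom r) := by
  show Γ.curve.hom.appTop.hom ((Scheme.ΓSpecIso _).inv.hom (IsLocalRing.residue R r)) =
    Γ.ι.appTop.hom (X.hom.appTop.hom ((Scheme.ΓSpecIso _).inv.hom r))
  have h3 := Scheme.ΓSpecIso_inv_naturality (CommRingCat.ofHom (IsLocalRing.residue R))
  have h4 := congrArg (fun φ => φ.hom r) h3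
  simp only [CommRingCat.hom_comp, RingHom.comp_apply, CommRingCat.hom_ofHom] at h4
  rw [h4]
  have h5 := congrArg (fun φ => φ.appTop) Γ.w
  simp only [Scheme.Hom.comp_appTop] at h5
  have h6 := congrArg (fun φ => φ.hom ((Scheme.ΓSpecIso (CommRingCat.of R)).inv.hom r)) h5
  simp only [CommRingCat.hom_comp, RingHom.comp_apply] at h6
  exact h6.symm

variable (D : X.left.IdealSheafData)

/-- the closed immersion of `Γ ∩ V(D)` into `X`. -/
abbrev interHom : (D.comap Γ.ι).subscheme ⟶ X.left := (D.comap Γ.ι).subschemeι ≫ Γ.ι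

instance : IsIso ((interHom R X Γ D).toImage.app ⊤) := inferInstance

/-- the ring isomorphism on global sections induced by `T ≅ image`. -/
def secEquiv : Γ((interHom R X Γ D).ker.subscheme, ⊤) ≃+* Γ((D.comap Γ.ι).subscheme, ⊤) :=
  (asIso ((interHom R X Γ D).toImage.app ⊤)).commRingCatIsoToRingEquiv

theorem secEquiv_apply (s : Γ((interHom R X Γ D).ker.subscheme, ⊤)) :
    secEquiv R X Γ D s = ((interHom R X Γ D).toImage.app ⊤).hom s := rfl

/-- the same, on sections of the quotient modules. -/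
def secAddEquiv : Γ(ClSub.quotMod (interHom R X Γ D).ker, ⊤) ≃+ Γ(ClSub.quotMod (D.comap Γ.ι), ⊤) :=
  (secEquiv R X Γ D).toAddEquiv

/-- the comparison `H⁰(X, O_X/(D + I_Γ)) ≃ H⁰(Γ, O_Γ / D O_Γ)`, additive. -/
def interEquiv : Coh.HH X.left (ClSub.quotMod (interHom R X Γ D).ker) 0 ≃+
    Coh.HH Γ.curve.left (ClSub.quotMod (D.comap Γ.ι)) 0 :=
  (e0 (ClSub.quotMod (interHom R X Γ D).ker)).trans
    ((secAddEquiv R X Γ D).trans (e0 (ClSub.quotMod (D.comap Γ.ι))).symm)

theorem e0_interEquiv (w : Coh.HH X.left (ClSub.quotMod (interHom R X Γ D).ker) 0) :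
    e0 (ClSub.quotMod (D.comap Γ.ι)) (interEquiv R X Γ D w) =
      secAddEquiv R X Γ D (e0 (ClSub.quotMod (interHom R X Γ D).ker) w) :=
  AddEquiv.apply_symm_apply _ _

theorem interEquiv_smul (r : R) (w : Coh.HH X.left (ClSub.quotMod (interHom R X Γ D).ker) 0) :
    interEquiv R X Γ D (r • w) = (IsLocalRing.residue R r) • interEquiv R X Γ D w := by
  apply (e0 (ClSub.quotMod (D.comap Γ.ι))).injective
  rw [e0_smul (IsLocalRing.ResidueField R), e0_interEquiv, e0_interEquiv, e0_smul R,
    smul_quotMod_top, smul_quotMod_top]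
  have ha : toΓ R (Y := X.left) r = Coh.toGlobal X.hom r := rfl
  have hb : toΓ (IsLocalRing.ResidueField R) (Y := Γ.curve.left) (IsLocalRing.residue R r) =
      Coh.toGlobal Γ.curve.hom (IsLocalRing.residue R r) := rfl
  rw [ha, hb, toGlobal_residue]
  generalize Coh.toGlobal X.hom r = a
  generalize e0 (ClSub.quotMod (interHom R X Γ D).ker) w = s
  show secEquiv R X Γ D ((show Γ((interHom R X Γ D).ker.subscheme, ⊤) from
      ((interHom R X Γ D).ker.subschemeι.app ⊤).hom a) *
        (show Γ((interHom R X Γ D).ker.subscheme, ⊤) from s)) =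
    (show Γ((D.comap Γ.ι).subscheme, ⊤) from
      ((D.comap Γ.ι).subschemeι.app ⊤).hom (Γ.ι.appTop.hom a)) *
        secEquiv R X Γ D (show Γ((interHom R X Γ D).ker.subscheme, ⊤) from s)
  rw [map_mul]
  congr 1
  have h1 : (interHom R X Γ D).toImage ≫ (interHom R X Γ D).ker.subschemeι = interHom R X Γ D :=
    (interHom R X Γ D).toImage_imageι
  have h2 := congrArg (fun φ => φ.appTop.hom a) h1
  simp only [Scheme.Hom.comp_appTop, CommRingCat.hom_comp, RingHom.comp_apply] at h2
  exact h2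

end Groth.Agent.Lib.Helper1.Inter
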