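import Groth.Agent.Lib.Helper1.Inter7

/-!
# `(O(D) · Γ) = length_R H⁰(X, O_X / (I_D + I_Γ))`, and symmetry of intersection numbers (helper1)
-/

set_option autoImplicit false
universe u
open CategoryTheory CategoryTheory.Limits AlgebraicGeometry Opposite TopologicalSpace
noncomputable section

namespace Groth.Agent.Lib.Helper1.Inter

open Groth.Agent.Lib.Helper1.VertDiv Groth.Agent.Lib.Helper1.FibGeom

variable (R : Type u) [CommRing R] [IsDomain R] [IsDiscreteValuationRing R]
  (X : Over (Spec (CommRingCat.of R))) (Γ : ArSurf.VertComp R X) (D : X.left.IdealSheafData)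

theorem length_eq_finrank
    [Module.Finite (IsLocalRing.ResidueField R) (Coh.HH Γ.curve.left (ClSub.quotMod (D.comap Γ.ι)) 0)] :
    Module.length R (Coh.HH X.left (ClSub.quotMod (interHom R X Γ D).ker) 0) =
      (Module.finrank (IsLocalRing.ResidueField R)
        (Coh.HH Γ.curve.left (ClSub.quotMod (D.comap Γ.ι)) 0) : ℕ∞) := by
  set V := Coh.HH Γ.curve.left (ClSub.quotMod (D.comap Γ.ι)) 0 with hV
  letI : Module R V := Module.compHom V (algebraMap R (IsLocalRing.ResidueField R))
  haveI : IsScalarTower R (IsLocalRing.ResidueField R) V := ⟨fun r c v => by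
    show (algebraMap R (IsLocalRing.ResidueField R) r * c) • v =
      algebraMap R (IsLocalRing.ResidueField R) r • (c • v)
    rw [mul_smul]⟩
  let e : Coh.HH X.left (ClSub.quotMod (interHom R X Γ D).ker) 0 ≃ₗ[R] V :=
    { interEquiv R X Γ D with
      map_smul' := fun r w => interEquiv_smul R X Γ D r w }
  rw [e.length_eq, Module.length_eq_of_surjective (R := IsLocalRing.ResidueField R)
    (IsLocalRing.residue_surjective), Module.length_eq_finrank]

theorem sup_ker_eq (D : X.left.IdealSheafData) : D ⊔ Γ.ι.ker = (interHom R X Γ D).ker :=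
  (map_comap_eq_sup Γ.ι D).symm

variable [IsProper X.hom] (hD : BlowUp.IsEffCartierIdeal D)
  (hgen : Models.genPtOf R X Γ ∉ D.support)
  (L : X.left.Modules) (hL : PicF.IsInvertible L) (hLD : ClSub.IsInverseOf L (ClSub.idealMod D))

include hD hgen hL hLD in
/-- **S7926 core**: `(O(D) · Γ) = length_R H⁰(X, O_X/(I_D + I_Γ))`. -/
theorem inter_eq_lengthH :
    ArSurf.inter R X L Γ = (Models.lengthH R X (ClSub.quotMod (D ⊔ Γ.ι.ker)) 0 : ℤ) := by
  haveI := isProper_curve R X Γ
  haveI : Module.Finite (IsLocalRing.ResidueField R)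
      (Coh.HH Γ.curve.left (ClSub.quotMod (D.comap Γ.ι)) 0) :=
    Groth.Agent.Lib.Helper8.EulerK.finite_HH (IsLocalRing.ResidueField R) Γ.curve.left _
      (Groth.Agent.Lib.Helper6.DevRed.isCoh_quotMod _) 0
  rw [inter_eq_finrank R X Γ D hD hgen L hL hLD]
  unfold Models.lengthH
  rw [sup_ker_eq, length_eq_finrank, ENat.toNat_natCast]

end Groth.Agent.Lib.Helper1.Inter

namespace Groth.Agent.Lib.Helper1.Inter

open Groth.Agent.Lib.Helper1.VertDiv Groth.Agent.Lib.Helper1.FibGeom

variable (R : Type u) [CommRing R] [IsDomain R] [IsDiscreteValuationRing R]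
  (X : Over (Spec (CommRingCat.of R)))

/-- **S7926 core** on an arithmetic surface. -/
theorem inter_eq_lengthH_of_isArithSurface (hX : ArSurf.IsArithSurface R X) (Γ : ArSurf.VertComp R X)
    (D : X.left.IdealSheafData) (hD : FGA.IsEffCartier D)
    (hΓD : Γ.ι.base (genericPoint Γ.curve.left) ∉ (D.support : Set X.left))
    (L : X.left.Modules) (hL : ClSub.IsInverseOf L (ClSub.idealMod D)) :
    ArSurf.inter R X L Γ = (Models.lengthH R X (ClSub.quotMod (D ⊔ Γ.ι.ker)) 0 : ℤ) := by
  haveI := isProper_of_isArithSurface R X hX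
  have hD' : BlowUp.IsEffCartierIdeal D := hD
  have hLinv : PicF.IsInvertible L :=
    Groth.Agent.Lib.Helper2.TensEq.isInvertible_of_isInverseOf
      (Groth.Agent.Lib.Helper28.IdealDual.isInvertible_idealMod _ hD') hL
  exact inter_eq_lengthH R X Γ D hD' hΓD L hLinv hL

variable {n : ℕ} (Γ : Fin n → ArSurf.VertComp R X) (hΓ : Models.IsComponentList R X Γ)
  [IsProper X.hom] (hflat : Flat X.hom) (hft : LocallyOfFiniteType X.hom)
  (hreg : ∀ x : X.left, IsRegularLocalRing (X.left.presheaf.stalk x))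
  (L : Fin n → X.left.Modules) (hL : ∀ i, ClSub.IsInverseOf (L i) (ClSub.idealMod (Γ i).ι.ker))

include hΓ hflat hft hreg hL in
/-- **S3316 core**: the intersection matrix of the fibre components is symmetric. -/
theorem inter_symm (i j : Fin n) :
    ArSurf.inter R X (L j) (Γ i) = ArSurf.inter R X (L i) (Γ j) := by
  by_cases hij : i = j
  · subst hij; rfl
  have h1 := inter_eq_lengthH R X (Γ i) (Γ j).ι.ker
    (isEffCartierIdeal_ker R X hflat hft hreg Γ hΓ j) (genPtOf_notMem_support_ker R X Γ hΓ hij)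
    (L j) (isInvertible_L R X Γ hΓ hflat hft hreg L hL j) (hL j)
  have h2 := inter_eq_lengthH R X (Γ j) (Γ i).ι.ker
    (isEffCartierIdeal_ker R X hflat hft hreg Γ hΓ i)
    (genPtOf_notMem_support_ker R X Γ hΓ (Ne.symm hij))
    (L i) (isInvertible_L R X Γ hΓ hflat hft hreg L hL i) (hL i)
  rw [h1, h2, sup_comm]

end Groth.Agent.Lib.Helper1.Inter
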