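import Groth.Agent.Lib.Helper1.Inter8

/-!
# Additivity of intersection numbers; the closed fibre is numerically trivial (helper1)
-/

set_option autoImplicit false
universe u
open CategoryTheory CategoryTheory.Limits AlgebraicGeometry Opposite TopologicalSpace
noncomputable section

namespace Groth.Agent.Lib.Helper1.Inter

open Groth.Agent.Lib.Helper8.PicCl Groth.Agent.Lib.Helper1.CartCl Groth.Agent.Lib.Helper1.VertDiv
  Groth.Agent.Lib.Helper1.FibGeom

attribute [local instance] Groth.Agent.Lib.Helper8.PicCl.commMonoid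

variable (R : Type u) [CommRing R] [IsDomain R] [IsDiscreteValuationRing R]
  (X : Over (Spec (CommRingCat.of R))) (Γ : ArSurf.VertComp R X)

/-- `ArSurf.curveDeg` as `Curv2.deg` on a vertical prime divisor of a proper scheme. -/
theorem curveDeg_eq_deg [IsProper X.hom] (M : Γ.curve.left.Modules) :
    ArSurf.curveDeg (IsLocalRing.ResidueField R) Γ.curve.left M =
      Curv2.deg (IsLocalRing.ResidueField R) Γ.curve.left M 1 := by
  haveI := isProper_curve R X Γ
  have hdim : topologicalKrullDim Γ.curve.left ≤ ((1 : ℕ) : WithBot ℕ∞) := by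
    rw [Γ.dim_eq]; rfl
  unfold ArSurf.curveDeg Curv2.deg
  rw [Groth.Agent.Lib.Helper2.IntNum1.eulerCharLE_eq_euler _ Γ.curve.left 1 hdim,
    Groth.Agent.Lib.Helper2.IntNum1.eulerCharLE_eq_euler _ Γ.curve.left 1 hdim]
  push_cast
  ring

theorem inter_congr {M M' : X.left.Modules} (e : M ≅ M') :
    ArSurf.inter R X M Γ = ArSurf.inter R X M' Γ := by
  unfold ArSurf.inter ArSurf.curveDeg FGA.eulerCharLE
  have h : ∀ i, Module.finrank (IsLocalRing.ResidueField R)
      (Coh.HH Γ.curve.left ((Scheme.Modules.pullback Γ.ι).obj M) i) =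
      Module.finrank (IsLocalRing.ResidueField R)
        (Coh.HH Γ.curve.left ((Scheme.Modules.pullback Γ.ι).obj M') i) := fun i =>
    Groth.Agent.Lib.Helper8.EulerK.hh_congr _ ((Scheme.Modules.pullback Γ.ι).mapIso e) i
  simp only [h]

theorem inter_eq_of_cl_eq {M M' : X.left.Modules} (h : PicF.cl M = PicF.cl M') :
    ArSurf.inter R X M Γ = ArSurf.inter R X M' Γ := by
  rw [cl_eq_iff] at h
  obtain ⟨e⟩ := h
  exact inter_congr R X Γ e

variable [IsProper X.hom]

theorem inter_structureModule : ArSurf.inter R X (Coh.structureModule X.left) Γ = 0 := by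
  haveI := isProper_curve R X Γ
  unfold ArSurf.inter
  rw [curveDeg_eq_deg]
  have h1 := Groth.Agent.Lib.Helper8.CurveDeg.deg_structureModule (IsLocalRing.ResidueField R)
    Γ.curve.left
  unfold Curv2.deg at h1 ⊢
  rw [Groth.Agent.Lib.Helper8.EulerK.euler_congr _
    (Groth.Agent.Lib.Helper16.RS.pullbackUnitIso Γ.ι)]
  exact h1

theorem inter_tensorMod {M M' : X.left.Modules} (hM : PicF.IsInvertible M)
    (hM' : PicF.IsInvertible M') :
    ArSurf.inter R X (CohB1.tensorMod M M') Γ = ArSurf.inter R X M Γ + ArSurf.inter R X M' Γ := by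
  haveI := isProper_curve R X Γ
  have hdim : topologicalKrullDim Γ.curve.left ≤ 1 := le_of_eq Γ.dim_eq
  unfold ArSurf.inter
  rw [curveDeg_eq_deg, curveDeg_eq_deg, curveDeg_eq_deg]
  obtain ⟨ψ, -⟩ := Groth.Agent.Lib.Helper28.PullbackInv.exists_pullback_tensorMod_iso Γ.ι hM hM'
  have h1 := Groth.Agent.Lib.Helper8.DegGroup.deg_tensorMod (IsLocalRing.ResidueField R)
    Γ.curve.left hdim (Groth.Agent.Lib.Helper28.PullbackInv.isInvertible_pullback Γ.ι hM)
    (Groth.Agent.Lib.Helper28.PullbackInv.isInvertible_pullback Γ.ι hM')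
  rw [← h1]
  unfold Curv2.deg
  rw [Groth.Agent.Lib.Helper8.EulerK.euler_congr _ ψ]

theorem inter_tensorPow {M : X.left.Modules} (hM : PicF.IsInvertible M) (n : ℕ) :
    ArSurf.inter R X (CohB1.tensorPow M n) Γ = n * ArSurf.inter R X M Γ := by
  induction n with
  | zero =>
    rw [Nat.cast_zero, zero_mul]
    exact inter_structureModule R X Γ
  | succ n ih =>
    show ArSurf.inter R X (CohB1.tensorMod (CohB1.tensorPow M n) M) Γ = _
    rw [inter_tensorMod R X Γ (Groth.Agent.Lib.Helper28.GenLocus.isInvertible_tensorPow hM n) hM, ih]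
    push_cast
    ring

theorem inter_tensorList (l : List X.left.Modules) (hl : ∀ M ∈ l, PicF.IsInvertible M) :
    ArSurf.inter R X (FGA.tensorList l) Γ = (l.map fun M => ArSurf.inter R X M Γ).sum := by
  induction l with
  | nil => exact inter_structureModule R X Γ
  | cons M l ih =>
    rw [List.map_cons, List.sum_cons, ← ih fun M' hM' => hl M' (List.mem_cons_of_mem _ hM')]
    exact inter_tensorMod R X Γ (hl M List.mem_cons_self)
      (Groth.Agent.Lib.Helper6.K0Op.isInvertible_tensorList l
        fun M' hM' => hl M' (List.mem_cons_of_mem _ hM'))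

theorem inter_multiTwist {n : ℕ} (L : Fin n → X.left.Modules) (hL : ∀ i, PicF.IsInvertible (L i))
    (a : Fin n → ℕ) :
    ArSurf.inter R X (FGA.multiTwist L a) Γ = ∑ i, (a i : ℤ) * ArSurf.inter R X (L i) Γ := by
  unfold FGA.multiTwist
  rw [inter_tensorList, List.map_map, Fin.sum_univ_def]
  · congr 1
    apply List.map_congr_left
    intro i _
    exact inter_tensorPow R X Γ (hL i) (a i)
  · intro M hM
    rw [List.mem_map] at hM
    obtain ⟨i, -, rfl⟩ := hM
    exact Groth.Agent.Lib.Helper28.GenLocus.isInvertible_tensorPow (hL i) _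

end Groth.Agent.Lib.Helper1.Inter
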