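import Groth.Agent.Lib.Helper1.ShriekProj

/-!
# Left unit for the tensor product of sheaves of modules; `freeOn ⊗ M ≅ j_! j^* M`
-/

set_option autoImplicit false
universe u
open CategoryTheory CategoryTheory.Limits MonoidalCategory Opposite

namespace Groth.Agent.Lib.Helper1.TensorUnit

open Groth.Agent.Lib.Helper1.TensorAdj Groth.Agent.Lib.Helper1.ShriekProj

variable {C : Type u} [SmallCategory C] {J : GrothendieckTopology C} (O : Sheaf J CommRingCat.{u})

instance isIso_counit (M : ModSite.Mod O) : IsIso ((adj O).counit.app M) := by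
  haveI : IsIso (adj O).counit :=
    inferInstanceAs (IsIso (PresheafOfModules.sheafificationAdjunction
      (𝟙 (ModSite.ringSh O).obj)).counit)
  infer_instance

/-- `O ⊗ M ≅ M` -/
noncomputable def leftUnitIso (M : ModSite.Mod O) :
    ((ModSite.tensorBi O).obj (ModSite.unit O)).obj M ≅ M :=
  (shf O).mapIso (λ_ (under O M)) ≪≫ @asIso _ _ _ _ _ (isIso_counit O M)

/-- `freeOn O X ⊗ M ≅ j_! j^* M` -/
noncomputable def freeOnTensorIso (X : C) (M : ModSite.Mod O) :
    ((ModSite.tensorBi O).obj (ModSite.freeOn O X)).obj M ≅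
      (ModSite.extZero O X).obj ((ModSite.restr O X).obj M) :=
  (projIso O X (ModSite.unit (O.over X)) M).symm ≪≫
    (ModSite.extZero O X).mapIso (leftUnitIso (O.over X) ((ModSite.restr O X).obj M))

end Groth.Agent.Lib.Helper1.TensorUnit
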