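import Groth.Agent.Lib.Helper1.ShriekProjNat
import Groth.Agent.Lib.Helper1.TensorUnit

/-!
# More flatness: the unit is flat, flatness is iso-invariant, extension by zero of flat is flat
-/

set_option autoImplicit false
universe u
open CategoryTheory CategoryTheory.Limits MonoidalCategory Opposite

namespace Groth.Agent.Lib.Helper1.ModFlatMore

open Groth.Agent.Lib.Helper1.TensorAdj Groth.Agent.Lib.Helper1.ShriekProj
  Groth.Agent.Lib.Helper1.ShriekProjNat Groth.Agent.Lib.Helper1.ModFlat
  Groth.Agent.Lib.Helper1.TensorUnit Groth.Agent.Lib.Helper1.ShriekSheaf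

variable {C : Type u} [SmallCategory C] {J : GrothendieckTopology C} (O : Sheaf J CommRingCat.{u})

/-- the left unit isomorphism is natural -/
noncomputable def leftUnitNatIso : tensL O (ModSite.unit O) ≅ 𝟭 (ModSite.Mod O) :=
  NatIso.ofComponents (fun M => leftUnitIso O M) (by
    intro M M' f
    show (shf O).map (under O (ModSite.unit O) ◁ underMap O f) ≫
        ((shf O).map (λ_ (under O M')).hom ≫ (adj O).counit.app M') =
      ((shf O).map (λ_ (under O M)).hom ≫ (adj O).counit.app M) ≫ f
    have h1 : (shf O).map (under O (ModSite.unit O) ◁ underMap O f) ≫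
        (shf O).map (λ_ (under O M')).hom =
        (shf O).map (λ_ (under O M)).hom ≫ (shf O).map ((incl O).map f) := by
      rw [← Functor.map_comp, ← Functor.map_comp]
      congr 1
      exact leftUnitor_naturality (underMap O f)
    have h2 : (shf O).map ((incl O).map f) ≫ (adj O).counit.app M' = (adj O).counit.app M ≫ f :=
      (adj O).counit.naturality f
    refine (Category.assoc _ _ _).symm.trans ?_
    rw [h1]
    refine (Category.assoc _ _ _).trans ?_
    refine (congrArg (fun t => (shf O).map (λ_ (under O M)).hom ≫ t) h2).trans ?_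
    exact (Category.assoc _ _ _).symm)

/-- flatness is invariant under isomorphism -/
theorem isFlat_of_iso {F F' : ModSite.Mod O} (e : F ≅ F') (hF : ModSite.IsFlat F) :
    ModSite.IsFlat F' := by
  rw [isFlat_iff] at hF ⊢
  haveI := hF
  exact Functor.PreservesMonomorphisms.of_iso ((ModSite.tensorBi O).flip.mapIso e)

/-- the structure sheaf is flat -/
theorem isFlat_unit : ModSite.IsFlat (ModSite.unit O) := by
  rw [isFlat_iff]
  haveI : (tensL O (ModSite.unit O)).PreservesMonomorphisms :=
    Functor.PreservesMonomorphisms.of_iso (leftUnitNatIso O).symm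
  exact Functor.PreservesMonomorphisms.of_iso (tensLIso O (ModSite.unit O))

/-- extension by zero (explicit form) of a flat module is flat -/
theorem isFlat_ez' (X : C) (M : ModSite.Mod (O.over X)) (hM : ModSite.IsFlat M) :
    ModSite.IsFlat ((ez' O X).obj M) := by
  rw [isFlat_iff] at hM ⊢
  haveI := hM
  haveI : (tensL (O.over X) M).PreservesMonomorphisms :=
    Functor.PreservesMonomorphisms.of_iso (tensLIso (O.over X) M).symm
  haveI : (ez' O X).PreservesMonomorphisms :=
    inferInstanceAs (extZero' (ModSite.ringSh O) X).PreservesMonomorphisms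
  haveI : (ModSite.restr O X ⋙ tensL (O.over X) M ⋙ ez' O X).PreservesMonomorphisms :=
    inferInstance
  haveI : (tensL O ((ez' O X).obj M)).PreservesMonomorphisms :=
    Functor.PreservesMonomorphisms.of_iso (projNatRight O X M)
  exact Functor.PreservesMonomorphisms.of_iso (tensLIso O ((ez' O X).obj M))

/-- extension by zero of a flat module is flat -/
theorem isFlat_extZero (X : C) (M : ModSite.Mod (O.over X)) (hM : ModSite.IsFlat M) :
    ModSite.IsFlat ((ModSite.extZero O X).obj M) :=
  isFlat_of_iso O ((extZeroIso O X).app M).symm (isFlat_ez' O X M hM)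

/-- the free module on an object is flat -/
theorem isFlat_freeOn (X : C) : ModSite.IsFlat (ModSite.freeOn O X) :=
  isFlat_extZero O X _ (isFlat_unit (O.over X))

end Groth.Agent.Lib.Helper1.ModFlatMore
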