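import Groth.Agent.Lib.Helper1.TensorAssoc
import Groth.Agent.Lib.Helper1.ModFlatMore

/-!
# Invertible modules on a ringed site
-/

set_option autoImplicit false
universe u
open CategoryTheory CategoryTheory.Limits

namespace Groth.Agent.Lib.Helper1.Invertible

open Groth.Agent.Lib.Helper1.TensorAdj Groth.Agent.Lib.Helper1.ModFlat
  Groth.Agent.Lib.Helper1.ModFlatMore Groth.Agent.Lib.Helper1.TensorAssoc

variable {C : Type u} [SmallCategory C] {J : GrothendieckTopology C}
  (O : Sheaf J CommRingCat.{u})

/-- right unit: `- ⊗ O ≅ 𝟭` -/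
noncomputable def rightUnitNatIso : tens O (ModSite.unit O) ≅ 𝟭 (ModSite.Mod O) :=
  (tensLIso O (ModSite.unit O)).symm ≪≫ leftUnitNatIso O

lemma isEquivalence_tens_iff (L : ModSite.Mod O) :
    (tens O L).IsEquivalence ↔ (tensL O L).IsEquivalence :=
  ⟨fun h => Functor.isEquivalence_of_iso (tensLIso O L).symm,
    fun h => Functor.isEquivalence_of_iso (tensLIso O L)⟩

/-- the tensor product of invertible modules is invertible -/
theorem isEquivalence_tensL_tensor (L N : ModSite.Mod O) (hL : (tensL O L).IsEquivalence)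
    (hN : (tensL O N).IsEquivalence) :
    (tensL O (((ModSite.tensorBi O).obj L).obj N)).IsEquivalence := by
  haveI := (isEquivalence_tens_iff O L).2 hL
  haveI := (isEquivalence_tens_iff O N).2 hN
  rw [← isEquivalence_tens_iff]
  exact Functor.isEquivalence_of_iso (tensAssoc O L N)

/-- the dual of an invertible module is invertible, and evaluation is an isomorphism -/
theorem dual_invertible (L : ModSite.Mod O) (hL : (tensL O L).IsEquivalence)
    [ModSite.HasSheafHom L] :
    (tensL O ((ModSite.sheafHom L).obj (ModSite.unit O))).IsEquivalence ∧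
      IsIso ((ModSite.sheafHomAdj L).counit.app (ModSite.unit O)) := by
  haveI hE := (isEquivalence_tens_iff O L).2 hL
  haveI : (ModSite.sheafHom L).IsEquivalence :=
    (ModSite.sheafHomAdj L).isEquivalence_right_of_isEquivalence_left
  haveI : IsIso (ModSite.sheafHomAdj L).counit := inferInstance
  have hc : IsIso ((ModSite.sheafHomAdj L).counit.app (ModSite.unit O)) := inferInstance
  refine ⟨?_, hc⟩
  rw [← isEquivalence_tens_iff]
  let L' := (ModSite.sheafHom L).obj (ModSite.unit O)
  let ev : ((ModSite.tensorBi O).obj L').obj L ≅ ModSite.unit O :=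
    @asIso _ _ _ _ _ hc
  let e : tens O L' ⋙ tens O L ≅ 𝟭 _ :=
    tensAssoc O L' L ≪≫ (ModSite.tensorBi O).flip.mapIso ev ≪≫ rightUnitNatIso O
  -- `tens L'` is isomorphic to the inverse of `tens L`
  let e2 : tens O L' ≅ (tens O L).inv :=
    (Functor.rightUnitor _).symm ≪≫
      Functor.isoWhiskerLeft (tens O L') (tens O L).asEquivalence.unitIso ≪≫
      (Functor.associator _ _ _).symm ≪≫
      Functor.isoWhiskerRight e (tens O L).inv ≪≫ Functor.leftUnitor _
  exact Functor.isEquivalence_of_iso e2.symm

end Groth.Agent.Lib.Helper1.Invertible
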