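import Mathlib
import Groth.Agent.Lib.Helper1.KFlatZeroD
import Groth.Agent.Lib.Helper1.StupidGE

/-!
# Helper1 — KFlatBdd: bounded above complexes with "flat" terms are K-flat
(abstract bifunctor version)
-/

set_option autoImplicit false
open CategoryTheory CategoryTheory.Limits HomologicalComplex

namespace Groth.Agent.Lib.Helper1.KFlatA

open Groth.Agent.Lib.Helper16.BiCx Groth.Agent.Lib.Helper1.StupidGE
open Groth.Agent.Lib.Helper16.KF (Idx)

section FlatR

variable {C₁ C₂ D : Type*} [Category C₁] [Category C₂] [Category D]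
  [Abelian C₁] [Abelian C₂] [Abelian D] (F : C₁ ⥤ C₂ ⥤ D) [F.Additive] [∀ X, (F.obj X).Additive]

/-- `F(-, Y)` preserves exact sequences. -/
def FlatR (Y : C₂) : Prop :=
  ∀ S : ShortComplex C₁, S.Exact → (S.map (F.flip.obj Y)).Exact

variable {F}

lemma FlatR.of_iso {Y Y' : C₂} (h : FlatR F Y) (e : Y ≅ Y') : FlatR F Y' := fun S hS =>
  (ShortComplex.exact_iff_of_iso (S.mapNatIso (F.flip.mapIso e))).1 (h S hS)

lemma flatR_of_isZero {Y : C₂} (h : IsZero Y) : FlatR F Y := fun S _ => by
  apply ShortComplex.exact_of_isZero_X₂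
  exact (F.obj S.X₂).map_isZero h

end FlatR

variable {C₁ C₂ D : Type*} [Category C₁] [Category C₂] [Category D]
  [Abelian C₁] [Abelian C₂] [Abelian D]
  (F : C₁ ⥤ C₂ ⥤ D) [F.Additive] [∀ X, (F.obj X).Additive]
  [∀ (K₁ : CochainComplex C₁ ℤ) (K₂ : CochainComplex C₂ ℤ),
    HasMapBifunctor K₁ K₂ F (ComplexShape.up ℤ)]
  [∀ n : ℤ, HasColimitsOfShape (Discrete (Idx n)) D]
  [∀ n : ℤ, HasExactColimitsOfShape (Discrete (Idx n)) D]
  [HasColimitsOfShape (Discrete ℤ) D] [HasExactColimitsOfShape (Discrete ℤ) D]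

/-- bounded complexes with flat terms are K-flat. -/
theorem isKFlatR_ge_of_bounded (K : CochainComplex C₂ ℤ) (hK : ∀ i, FlatR F (K.X i)) (m : ℕ) :
    ∀ p : ℤ, (∀ i, p + m ≤ i → IsZero (K.X i)) → IsKFlatR F (ge K p) := by
  induction m with
  | zero =>
    intro p hp
    refine isKFlatR_of_d_eq_zero F _ (fun i j => ?_) (fun q => flatR_of_isZero ?_)
    · by_cases hi : p ≤ i
      · exact (isZero_ge_X_of_isZero K (hp i (by simpa using hi))).eq_of_src _ _
      · exact (isZero_ge_X_of_lt K (by omega)).eq_of_src _ _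
    · by_cases hq : p ≤ q
      · exact isZero_ge_X_of_isZero K (hp q (by simpa using hq))
      · exact isZero_ge_X_of_lt K (by omega)
  | succ m ih =>
    intro p hp
    have h1 : IsKFlatR F (ge K (p + 1)) := ih (p + 1) (fun i hi => hp i (by push_cast; omega))
    have h3 : IsKFlatR F (gr K p) := by
      refine isKFlatR_of_d_eq_zero F _ (gr_d_eq_zero K p) (fun q => ?_)
      by_cases hq : q = p
      · subst hq
        exact (hK q).of_iso (grXIso K q).symm
      · exact flatR_of_isZero (isZero_gr_X K p hq)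
    exact (isKFlatR_dSplit_two_out_of_three F (dSplit_grSC K p)).2.1 h1 h3

variable [HasColimitsOfShape ℕ C₂] [HasColimitsOfShape ℕ D] [HasExactColimitsOfShape ℕ D]
  [∀ X : C₁, PreservesColimitsOfShape ℕ (F.obj X)]

/-- **bounded above complexes with flat terms are K-flat.** -/
theorem isKFlatR_of_boundedAbove (K : CochainComplex C₂ ℤ) (hK : ∀ i, FlatR F (K.X i)) (b : ℤ)
    (hb : ∀ i, b < i → IsZero (K.X i)) : IsKFlatR F K := by
  refine isKFlatR_of_isColimit F (isColimitGeCocone K) (fun n => ?_)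
  change IsKFlatR F (ge K (-(n : ℤ)))
  refine isKFlatR_ge_of_bounded F K hK (b + 1 + n).toNat _ (fun i hi => hb i ?_)
  have := Int.self_le_toNat (b + 1 + n)
  omega

end Groth.Agent.Lib.Helper1.KFlatA
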