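import Mathlib
import Groth.Prelude.Def_KFlatSite
import Groth.Agent.Lib.Helper1.KFlatBdd
import Groth.Agent.Lib.Helper16.BiCx6
import Groth.Agent.Lib.Helper1.FlatSES

/-!
# Helper1 — KFlatSite1: K-flat complexes on a ringed site: zero differential, bounded above,
short exact sequences with flat cokernel
-/

set_option autoImplicit false
universe u
open CategoryTheory CategoryTheory.Limits HomologicalComplex

namespace Groth.Agent.Lib.Helper1.KFlatSite

open Groth.Agent.Lib.Helper16.BiCx Groth.Agent.Lib.Helper1.KFlatA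
open Groth.Agent.Lib.Helper1.ModFlat Groth.Agent.Lib.Helper1.FlatSES
open Groth.Agent.Lib.Helper16.KF (Idx)

variable {C : Type u} [SmallCategory C] {J : GrothendieckTopology C} (O : Sheaf J CommRingCat.{u})

instance hasExactColimitsOfShape_int :
    HasExactColimitsOfShape (Discrete ℤ) (ModSite.Mod O) :=
  Groth.Agent.Lib.Helper16.SMod.ab4₀ O _

instance hasExactColimitsOfShape_nat : HasExactColimitsOfShape ℕ (ModSite.Mod O) :=
  Groth.Agent.Lib.Helper16.SMod.ab5Nat O

lemma flatR_of_isFlat {M : ModSite.Mod O} (hM : ModSite.IsFlat M) :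
    FlatR (ModSite.tensorBi O) M := fun S hS => by
  haveI := hM.1
  haveI := hM.2
  exact hS.map ((ModSite.tensorBi O).flip.obj M)

/-- a complex with zero differential and flat terms is K-flat. -/
theorem isKFlat_of_d_eq_zero (N : CochainComplex (ModSite.Mod O) ℤ) (hd : ∀ i j, N.d i j = 0)
    (hN : ∀ q, ModSite.IsFlat (N.X q)) : ModSite.IsKFlat N :=
  isKFlatR_of_d_eq_zero (ModSite.tensorBi O) N hd (fun q => flatR_of_isFlat O (hN q))

/-- a bounded above complex with flat terms is K-flat. -/
theorem isKFlat_of_boundedAbove (K : CochainComplex (ModSite.Mod O) ℤ) (b : ℤ)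
    (hb : ∀ i, b < i → IsZero (K.X i)) (hK : ∀ q, ModSite.IsFlat (K.X q)) : ModSite.IsKFlat K :=
  isKFlatR_of_boundedAbove (ModSite.tensorBi O) K (fun q => flatR_of_isFlat O (hK q)) b hb

/-- tensoring (on the left) a short exact sequence with flat cokernel stays short exact -/
theorem shortExact_map_tensL (S : ShortComplex (ModSite.Mod O)) (hS : S.ShortExact)
    (hF : ModSite.IsFlat S.X₃) (G : ModSite.Mod O) : (S.map (tensL O G)).ShortExact :=
  ShortComplex.shortExact_of_iso (S.mapNatIso (tensLIso O G)).symm (shortExact_map_tens O S hS hF G)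

theorem shortExact_funR_of_flat
    (S : ShortComplex (CochainComplex (ModSite.Mod O) ℤ)) (hS : S.ShortExact)
    (h3 : ∀ n : ℤ, ModSite.IsFlat (S.X₃.X n)) (L : CochainComplex (ModSite.Mod O) ℤ) :
    (S.map (funR (ModSite.tensorBi O) L)).ShortExact := by
  apply shortExact_funR
  intro p q
  exact shortExact_map_tensL O (S.map (HomologicalComplex.eval _ _ q))
    (hS.map_of_exact (HomologicalComplex.eval _ _ q)) (h3 q) (L.X p)

/-- two-out-of-three for K-flatness in short exact sequences with flat-term cokernel. -/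
theorem isKFlat_ses_two_out_of_three
    (S : ShortComplex (CochainComplex (ModSite.Mod O) ℤ)) (hS : S.ShortExact)
    (h3 : ∀ n : ℤ, ModSite.IsFlat (S.X₃.X n)) :
    (ModSite.IsKFlat S.X₁ → ModSite.IsKFlat S.X₂ → ModSite.IsKFlat S.X₃) ∧
    (ModSite.IsKFlat S.X₁ → ModSite.IsKFlat S.X₃ → ModSite.IsKFlat S.X₂) ∧
    (ModSite.IsKFlat S.X₂ → ModSite.IsKFlat S.X₃ → ModSite.IsKFlat S.X₁) := by
  have key := fun L => shortExact_funR_of_flat O S hS h3 L
  refine ⟨fun h1 h2 L hL => ?_, fun h1 h3' L hL => ?_, fun h2 h3' L hL => ?_⟩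
  · exact acyc_X₃ (key L) (h1 L hL) (h2 L hL)
  · exact acyc_X₂ (key L) (h1 L hL) (h3' L hL)
  · exact acyc_X₁ (key L) (h2 L hL) (h3' L hL)

end Groth.Agent.Lib.Helper1.KFlatSite
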