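import Mathlib
import Groth.Prelude.Def_KFlatSite
import Groth.Agent.Lib.Helper1.KFlatSite1
import Groth.Agent.Lib.Helper1.ExtZeroExact
import Groth.Agent.Lib.Helper1.ShriekProjNat
import Groth.Agent.Lib.Helper1.RestrExact
import Groth.Agent.Lib.Helper16.BiCx7

/-!
# Helper1 — KFlatRestr: the restriction of a K-flat complex to a localised site is K-flat
-/

set_option autoImplicit false
universe u
open CategoryTheory CategoryTheory.Limits HomologicalComplex

namespace Groth.Agent.Lib.Helper1.KFlatSite

open Groth.Agent.Lib.Helper16.BiCx Groth.Agent.Lib.Helper1.KFlatA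
open Groth.Agent.Lib.Helper1.ModFlat Groth.Agent.Lib.Helper1.ShriekProj
open Groth.Agent.Lib.Helper1.ShriekProjNat Groth.Agent.Lib.Helper1.ExtZeroExact
open Groth.Agent.Lib.Helper1.RestrExact
open Groth.Agent.Lib.Helper16.KF (Idx)

section General

variable {A B : Type*} [Category A] [Abelian A] [Category B] [Abelian B]

lemma acyc_map_id_iff (X : CochainComplex A ℤ) :
    Acyc (((𝟭 A).mapHomologicalComplex (ComplexShape.up ℤ)).obj X) ↔ Acyc X :=
  ⟨fun h => h.of_iso ((Functor.mapHomologicalComplexIdIso A (ComplexShape.up ℤ)).app X),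
    fun h => h.of_iso ((Functor.mapHomologicalComplexIdIso A (ComplexShape.up ℤ)).app X).symm⟩

/-- an exact functor preserves acyclicity -/
lemma acyc_map_of_preservesHomology (Φ : A ⥤ B) [Φ.Additive] [Φ.PreservesHomology]
    (X : CochainComplex A ℤ) (h : Acyc X) :
    Acyc ((Φ.mapHomologicalComplex (ComplexShape.up ℤ)).obj X) := fun i =>
  IsZero.of_iso (Φ.map_isZero (h i)) ((X.sc i).mapHomologyIso Φ)

/-- a faithful exact functor reflects acyclicity -/
lemma acyc_of_acyc_map (Φ : A ⥤ B) [Φ.Additive] [Φ.PreservesHomology] [Φ.Faithful]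
    (X : CochainComplex A ℤ)
    (h : Acyc ((Φ.mapHomologicalComplex (ComplexShape.up ℤ)).obj X)) : Acyc X := fun i => by
  have h1 : IsZero (Φ.obj (X.homology i)) :=
    IsZero.of_iso (h i) ((X.sc i).mapHomologyIso Φ).symm
  rw [IsZero.iff_id_eq_zero]
  apply Φ.map_injective
  rw [Φ.map_zero]
  exact h1.eq_of_src _ _

end General

variable {C : Type u} [SmallCategory C] {J : GrothendieckTopology C} (O : Sheaf J CommRingCat.{u})
  (U : C)

/-- the bifunctor `(P, N) ↦ P ⊗_{O_U} N|_U` -/
noncomputable def tensRestr : ModSite.Mod (O.over U) ⥤ ModSite.Mod O ⥤ ModSite.Mod (O.over U) :=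
  ModSite.tensorBi (O.over U) ⋙ (Functor.whiskeringLeft _ _ _).obj (ModSite.restr O U)

instance additive_tensRestr : (tensRestr O U).Additive :=
  inferInstanceAs (ModSite.tensorBi (O.over U) ⋙
    (Functor.whiskeringLeft _ _ _).obj (ModSite.restr O U)).Additive

instance additive_tensRestr_obj (P : ModSite.Mod (O.over U)) : ((tensRestr O U).obj P).Additive :=
  inferInstanceAs (ModSite.restr O U ⋙ (ModSite.tensorBi (O.over U)).obj P).Additive

instance hasMapBifunctor_tensRestr (G : CochainComplex (ModSite.Mod (O.over U)) ℤ)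
    (K : CochainComplex (ModSite.Mod O) ℤ) :
    HomologicalComplex.HasMapBifunctor G K (tensRestr O U) (ComplexShape.up ℤ) :=
  fun _ => inferInstance

/-- naturality of the projection formula in the first variable -/
lemma projIso_natural_left {P P' : ModSite.Mod (O.over U)} (f : P ⟶ P') (N : ModSite.Mod O) :
    (ModSite.extZero O U).map ((tens (O.over U) ((ModSite.restr O U).obj N)).map f) ≫
        (projIso O U P' N).hom =
      (projIso O U P N).hom ≫ (tens O N).map ((ModSite.extZero O U).map f) := by
  have h1 : (ModSite.extZero O U).map ((tens (O.over U) ((ModSite.restr O U).obj N)).map f) ≫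
      (extZeroIso O U).hom.app (((ModSite.tensorBi (O.over U)).obj P').obj
        ((ModSite.restr O U).obj N)) =
      (extZeroIso O U).hom.app (((ModSite.tensorBi (O.over U)).obj P).obj
        ((ModSite.restr O U).obj N)) ≫
      (ez' O U).map ((tens (O.over U) ((ModSite.restr O U).obj N)).map f) :=
    (extZeroIso O U).hom.naturality ((tens (O.over U) ((ModSite.restr O U).obj N)).map f)
  have h2 := projIso'_natural_left O U f N
  have h3 : (tens O N).map ((ez' O U).map f) ≫
      ((ModSite.tensorBi O).map ((extZeroIso O U).inv.app P')).app N =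
      ((ModSite.tensorBi O).map ((extZeroIso O U).inv.app P)).app N ≫
        (tens O N).map ((ModSite.extZero O U).map f) := by
    change ((ModSite.tensorBi O).map _).app N ≫ ((ModSite.tensorBi O).map _).app N =
      ((ModSite.tensorBi O).map _).app N ≫ ((ModSite.tensorBi O).map _).app N
    rw [← NatTrans.comp_app, ← NatTrans.comp_app, ← Functor.map_comp, ← Functor.map_comp,
      (extZeroIso O U).inv.naturality f]
  change _ ≫ ((extZeroIso O U).hom.app _ ≫ (projIso' O U P' N).hom ≫
      ((ModSite.tensorBi O).map ((extZeroIso O U).inv.app P')).app N) =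
    ((extZeroIso O U).hom.app _ ≫ (projIso' O U P N).hom ≫
      ((ModSite.tensorBi O).map ((extZeroIso O U).inv.app P)).app N) ≫ _
  rw [reassoc_of% h1, reassoc_of% h2, h3]
  simp only [Category.assoc]

/-- naturality of the projection formula in the second variable -/
lemma projIso_natural_right (P : ModSite.Mod (O.over U)) {N N' : ModSite.Mod O} (g : N ⟶ N') :
    (ModSite.extZero O U).map ((tensL (O.over U) P).map ((ModSite.restr O U).map g)) ≫
        (projIso O U P N').hom =
      (projIso O U P N).hom ≫ (tensL O ((ModSite.extZero O U).obj P)).map g := by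
  have h1 : (ModSite.extZero O U).map ((tensL (O.over U) P).map ((ModSite.restr O U).map g)) ≫
      (extZeroIso O U).hom.app (((ModSite.tensorBi (O.over U)).obj P).obj
        ((ModSite.restr O U).obj N')) =
      (extZeroIso O U).hom.app (((ModSite.tensorBi (O.over U)).obj P).obj
        ((ModSite.restr O U).obj N)) ≫
      (ez' O U).map ((tensL (O.over U) P).map ((ModSite.restr O U).map g)) :=
    (extZeroIso O U).hom.naturality ((tensL (O.over U) P).map ((ModSite.restr O U).map g))
  have h2 := projIso'_natural_right O U P g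
  have h3 : (tensL O ((ez' O U).obj P)).map g ≫
      ((ModSite.tensorBi O).map ((extZeroIso O U).inv.app P)).app N' =
      ((ModSite.tensorBi O).map ((extZeroIso O U).inv.app P)).app N ≫
        (tensL O ((ModSite.extZero O U).obj P)).map g :=
    ((ModSite.tensorBi O).map ((extZeroIso O U).inv.app P)).naturality g
  change _ ≫ ((extZeroIso O U).hom.app _ ≫ (projIso' O U P N').hom ≫
      ((ModSite.tensorBi O).map ((extZeroIso O U).inv.app P)).app N') =
    ((extZeroIso O U).hom.app _ ≫ (projIso' O U P N).hom ≫
      ((ModSite.tensorBi O).map ((extZeroIso O U).inv.app P)).app N) ≫ _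
  rw [reassoc_of% h1, reassoc_of% h2, h3]
  simp only [Category.assoc]

/-- **the restriction of a K-flat complex to a localised site is K-flat.** -/
theorem isKFlat_restr (K : CochainComplex (ModSite.Mod O) ℤ) (hK : ModSite.IsKFlat K) :
    ModSite.IsKFlat (((ModSite.restr O U).mapHomologicalComplex (ComplexShape.up ℤ)).obj K) := by
  intro G hG
  change Acyc (T (ModSite.tensorBi (O.over U)) G
    (((ModSite.restr O U).mapHomologicalComplex (ComplexShape.up ℤ)).obj K))
  replace hG : Acyc G := hG
  have e1 := cmpIso (tensRestr O U) (ModSite.tensorBi (O.over U)) (𝟭 _) (ModSite.restr O U) (𝟭 _)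
    (fun X Y => Iso.refl _)
    (fun {X X'} f Y => (Category.comp_id _).trans (Category.id_comp _).symm)
    (fun X {Y Y'} g => (Category.comp_id _).trans (Category.id_comp _).symm) G K
  have e2 := cmpIso (tensRestr O U) (ModSite.tensorBi O) (ModSite.extZero O U) (𝟭 _)
    (ModSite.extZero O U) (fun P N => (projIso O U P N).symm)
    (fun {P P'} f N => by
      rw [Iso.symm_hom, Iso.symm_hom, Iso.comp_inv_eq, Category.assoc, Iso.eq_inv_comp]
      exact (projIso_natural_left O U f N).symm)
    (fun P {N N'} g => by
      rw [Iso.symm_hom, Iso.symm_hom, Iso.comp_inv_eq, Category.assoc, Iso.eq_inv_comp]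
      exact (projIso_natural_right O U P g).symm) G K
  -- acyclicity of `j_! G ⊗ K`
  have h1 : Acyc (T (ModSite.tensorBi O)
      (((ModSite.extZero O U).mapHomologicalComplex (ComplexShape.up ℤ)).obj G) K) :=
    hK _ (acyc_map_of_preservesHomology (ModSite.extZero O U) G hG)
  have h2 : Acyc (T (ModSite.tensorBi O)
      (((ModSite.extZero O U).mapHomologicalComplex (ComplexShape.up ℤ)).obj G)
      (((𝟭 _).mapHomologicalComplex (ComplexShape.up ℤ)).obj K)) :=
    h1.of_iso ((funR (ModSite.tensorBi O) _).mapIso
      ((Functor.mapHomologicalComplexIdIso _ (ComplexShape.up ℤ)).app K).symm)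
  have h3 : Acyc (T (tensRestr O U) G K) :=
    acyc_of_acyc_map (ModSite.extZero O U) _ (h2.of_iso e2)
  have h4 : Acyc (T (ModSite.tensorBi (O.over U))
      (((𝟭 _).mapHomologicalComplex (ComplexShape.up ℤ)).obj G)
      (((ModSite.restr O U).mapHomologicalComplex (ComplexShape.up ℤ)).obj K)) :=
    ((acyc_map_id_iff _).2 h3).of_iso e1.symm
  exact h4.of_iso ((funL (ModSite.tensorBi (O.over U)) _).mapIso
    ((Functor.mapHomologicalComplexIdIso _ (ComplexShape.up ℤ)).app G))

end Groth.Agent.Lib.Helper1.KFlatSite
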