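import Mathlib
import Groth.Prelude.Def_KFlatSite
import Groth.Agent.Lib.Helper1.KFlatSite1
import Groth.Agent.Lib.Helper1.CellRes
import Groth.Agent.Lib.Helper1.EnoughFlat
import Groth.Agent.Lib.Helper1.FlatAcyclic

/-!
# Helper1 — KFlatSite2: K-flat resolutions on a ringed site
-/

set_option autoImplicit false
universe u
open CategoryTheory CategoryTheory.Limits HomologicalComplex CochainComplex

namespace Groth.Agent.Lib.Helper1.KFlatSite

open Groth.Agent.Lib.Helper16.BiCx Groth.Agent.Lib.Helper1.KFlatA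
open Groth.Agent.Lib.Helper1.ModFlat Groth.Agent.Lib.Helper1.FlatSES
open Groth.Agent.Lib.Helper1.CellRes Groth.Agent.Lib.Helper1.EnoughFlat

variable {C : Type u} [SmallCategory C] {J : GrothendieckTopology C} (O : Sheaf J CommRingCat.{u})

/-- A colimit of flat modules along a shape with exact colimits is flat (any universe of shapes). -/
theorem isFlat_of_isColimit' {I : Type*} [Category I] [HasColimitsOfShape I (ModSite.Mod O)]
    [HasExactColimitsOfShape I (ModSite.Mod O)]
    [∀ M : ModSite.Mod O, PreservesColimitsOfShape I ((ModSite.tensorBi O).obj M)]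
    (D : I ⥤ ModSite.Mod O) (hD : ∀ i, ModSite.IsFlat (D.obj i)) (c : Cocone D) (hc : IsColimit c) :
    ModSite.IsFlat c.pt := by
  rw [isFlat_iff]
  constructor
  intro M' M f hf
  let τ : tensL O M' ⟶ tensL O M := (ModSite.tensorBi O).map f
  have hmono : ∀ j, Mono (τ.app (D.obj j)) := by
    intro j
    haveI := (isFlat_iff O (D.obj j)).1 (hD j)
    exact inferInstanceAs (Mono ((tens O (D.obj j)).map f))
  haveI : Mono (Functor.whiskerLeft D τ) := by
    haveI : ∀ j, Mono ((Functor.whiskerLeft D τ).app j) := hmono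
    exact NatTrans.mono_of_mono_app _
  exact colim.map_mono' (Functor.whiskerLeft D τ)
    (isColimitOfPreserves (tensL O M') hc) (isColimitOfPreserves (tensL O M) hc)
    (τ.app c.pt) (fun j => τ.naturality (c.ι.app j))

/-- the canonical flat covers -/
noncomputable def cov : Cov (ModSite.Mod O) where
  obj := cover O
  π := coverπ O
  epi := fun F => epi_coverπ O F

/-- the terms of a mapping cone of complexes with flat terms are flat -/
theorem isFlat_mappingCone_X {N P : CochainComplex (ModSite.Mod O) ℤ} (φ : N ⟶ P)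
    (hN : ∀ n, ModSite.IsFlat (N.X n)) (hP : ∀ n, ModSite.IsFlat (P.X n)) (n : ℤ) :
    ModSite.IsFlat ((mappingCone φ).X n) :=
  isFlat_X₂ O _ (mappingCone.triangleRotateShortComplexSplitting φ n).shortExact (hP n) (hN (n + 1))

/-- the terms of a sequential colimit of complexes with flat terms are flat -/
theorem isFlat_colimit_X (F : ℕ ⥤ CochainComplex (ModSite.Mod O) ℤ)
    (hF : ∀ n m, ModSite.IsFlat ((F.obj n).X m)) (m : ℤ) : ModSite.IsFlat ((colimit F).X m) :=
  isFlat_of_isColimit' O (F ⋙ HomologicalComplex.eval _ _ m) (fun n => hF n m) _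
    (isColimitOfPreserves (HomologicalComplex.eval _ _ m) (colimit.isColimit F))

/-- **K-flat resolutions**: every complex of modules on a ringed site receives a degreewise
epimorphic quasi-isomorphism from a K-flat complex with flat terms. -/
theorem exists_kflat_resolution (G : CochainComplex (ModSite.Mod O) ℤ) :
    ∃ (K : CochainComplex (ModSite.Mod O) ℤ) (q : K ⟶ G), ModSite.IsKFlat K ∧
      (∀ n : ℤ, ModSite.IsFlat (K.X n)) ∧ QuasiIso q ∧ ∀ n : ℤ, Epi (q.f n) := by
  obtain ⟨K, q, ⟨h1, h2⟩, h3, h4⟩ := exists_resolution (cov O) G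
    (fun K => ModSite.IsKFlat K ∧ ∀ n : ℤ, ModSite.IsFlat (K.X n))
    (fun N hd hN => by
      have hfl : ∀ q, ModSite.IsFlat (N.X q) := fun q => by
        obtain ⟨X, hX⟩ := hN q
        rw [hX]
        exact isFlat_cover O X
      exact ⟨isKFlat_of_d_eq_zero O N hd hfl, hfl⟩)
    (fun {N P} φ hN hP =>
      ⟨(isKFlat_mappingCone_two_out_of_three O φ).1 hN.1 hP.1,
        isFlat_mappingCone_X O φ hN.2 hP.2⟩)
    (fun F hF => ⟨isKFlat_colimit_nat O F (fun n => (hF n).1),
      isFlat_colimit_X O F (fun n => (hF n).2)⟩)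
  exact ⟨K, q, h1, h2, h3, h4⟩

end Groth.Agent.Lib.Helper1.KFlatSite
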