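import Mathlib
import Groth.Prelude.Def_KFlatSite
import Groth.Agent.Lib.Helper1.KFlatSite2
import Groth.Agent.Lib.Helper1.BiCxNat
import Groth.Agent.Lib.Helper16.BiCx8

/-!
# Helper1 — KFlatSite3: symmetry of the tensor product of complexes on a ringed site;
acyclic K-flat complexes stay acyclic after tensoring with anything
-/

set_option autoImplicit false
universe u
open CategoryTheory CategoryTheory.Limits HomologicalComplex CochainComplex MonoidalCategory

namespace Groth.Agent.Lib.Helper1.KFlatSite

open Groth.Agent.Lib.Helper16.BiCx Groth.Agent.Lib.Helper1.KFlatA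
open Groth.Agent.Lib.Helper1.ModFlat Groth.Agent.Lib.Helper1.FlatSES
open Groth.Agent.Lib.Helper1.BiCxNat Groth.Agent.Lib.Helper1.TensorAdj

variable {C : Type u} [SmallCategory C] {J : GrothendieckTopology C} (O : Sheaf J CommRingCat.{u})

/-- the symmetry of the tensor product, as an isomorphism of bifunctors -/
noncomputable def tensorBiSymm : ModSite.tensorBi O ≅ (ModSite.tensorBi O).flip :=
  NatIso.ofComponents (fun M => tensLIso O M) (by
    intro M M' f
    apply NatTrans.ext
    funext N
    show (shf O).map (underMap O f ▷ under O N) ≫ (shf O).map (β_ (under O M') (under O N)).hom =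
      (shf O).map (β_ (under O M) (under O N)).hom ≫ (shf O).map (under O N ◁ underMap O f)
    rw [← Functor.map_comp, ← Functor.map_comp, BraidedCategory.braiding_naturality_left])

/-- `Tot(L ⊗ K)` is acyclic iff `Tot(K ⊗ L)` is. -/
theorem acyc_T_symm_site (L K : CochainComplex (ModSite.Mod O) ℤ) :
    Acyc (T (ModSite.tensorBi O) L K) ↔ Acyc (T (ModSite.tensorBi O) K L) :=
  acyc_T_symm (ModSite.tensorBi O) (tensorBiSymm O) L K

/-- **an acyclic K-flat complex stays acyclic after tensoring with any complex.** -/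
theorem acyc_T_of_acyc_of_isKFlat (L K : CochainComplex (ModSite.Mod O) ℤ) (hK : Acyc K)
    (hKF : ModSite.IsKFlat K) : Acyc (T (ModSite.tensorBi O) L K) := by
  obtain ⟨L', q, hL', -, hq, -⟩ := exists_kflat_resolution O L
  haveI := hq
  haveI : QuasiIso (mapL (ModSite.tensorBi O) q K) := quasiIso_mapL_of_isKFlat O hKF q
  have h2 : Acyc (T (ModSite.tensorBi O) L' K) := (acyc_T_symm_site O L' K).2 (hL' K hK)
  exact h2.of_quasiIso (mapL (ModSite.tensorBi O) q K)

/-- tensoring (on the left) with any complex preserves quasi-isomorphisms between K-flat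
complexes. -/
theorem quasiIso_mapR_of_isKFlat (L : CochainComplex (ModSite.Mod O) ℤ)
    {K₁ K₂ : CochainComplex (ModSite.Mod O) ℤ} (f : K₁ ⟶ K₂) [QuasiIso f]
    (h1 : ModSite.IsKFlat K₁) (h2 : ModSite.IsKFlat K₂) :
    QuasiIso (mapR (ModSite.tensorBi O) L f) :=
  quasiIso_mapR_of_isKFlatR_of_isKFlatR (ModSite.tensorBi O) L
    (fun C hC hCF => acyc_T_of_acyc_of_isKFlat O L C hC hCF) f h1 h2

end Groth.Agent.Lib.Helper1.KFlatSite
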