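import Mathlib
import Groth.Prelude.Def_KFlatSite
import Groth.Agent.Lib.Helper1.KFlatSite3
import Groth.Agent.Lib.Helper1.KFlatSingle

/-!
# Helper1 — KFlatSite4: cycles of an acyclic K-flat complex with flat terms are flat
-/

set_option autoImplicit false
universe u
open CategoryTheory CategoryTheory.Limits HomologicalComplex CochainComplex

namespace Groth.Agent.Lib.Helper1.KFlatSite

open Groth.Agent.Lib.Helper16.BiCx Groth.Agent.Lib.Helper1.KFlatA
open Groth.Agent.Lib.Helper1.ModFlat Groth.Agent.Lib.Helper1.FlatSES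

section Abelian

variable {ℬ : Type*} [Category ℬ] [Abelian ℬ]

lemma mono_of_exact_of_epi {X A B C : ℬ} (x : X ⟶ A) (p : A ⟶ B) (f : B ⟶ C) [Epi p]
    (w : x ≫ p = 0) (w' : x ≫ p ≫ f = 0)
    (h : (ShortComplex.mk x (p ≫ f) w').Exact) : Mono f := by
  rw [Preadditive.mono_iff_cancel_zero]
  intro T t ht
  obtain ⟨T', π, hπ, t', ht'⟩ := surjective_up_to_refinements_of_epi p t
  have h0 : t' ≫ (p ≫ f) = 0 := by rw [← Category.assoc, ← ht', Category.assoc, ht, comp_zero]
  obtain ⟨T'', π', hπ', t'', ht''⟩ := h.exact_up_to_refinements t' h0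
  replace ht'' : π' ≫ t' = t'' ≫ x := ht''
  have h1 : π' ≫ π ≫ t = 0 := by
    rw [ht', ← Category.assoc, ht'', Category.assoc, w, comp_zero]
  rw [← cancel_epi π, ← cancel_epi π', h1, comp_zero, comp_zero]

section Ker

variable {ι : Type*} {c : ComplexShape ι} (M : HomologicalComplex ℬ c)

/-- cycles, as a kernel -/
noncomputable abbrev kZ (j k : ι) : ℬ := kernel (M.d j k)

/-- the inclusion of the cycles -/
noncomputable abbrev kι (j k : ι) : kZ M j k ⟶ M.X j := kernel.ι _

/-- the differential, corestricted to the cycles -/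
noncomputable abbrev ke (i j k : ι) : M.X i ⟶ kZ M j k :=
  kernel.lift (M.d j k) (M.d i j) (M.d_comp_d i j k)

@[reassoc (attr := simp)]
lemma ke_kι (i j k : ι) : ke M i j k ≫ kι M j k = M.d i j := kernel.lift_ι _ _ _

@[reassoc (attr := simp)]
lemma d_ke (h i j k : ι) : M.d h i ≫ ke M i j k = 0 := by
  rw [← cancel_mono (kι M j k), Category.assoc, ke_kι, M.d_comp_d, zero_comp]

lemma epi_ke (i j k : ι) (hex : (M.sc' i j k).Exact) : Epi (ke M i j k) :=
  (ShortComplex.exact_iff_epi_kernel_lift (M.sc' i j k)).1 hex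

end Ker

end Abelian

variable {C : Type u} [SmallCategory C] {J : GrothendieckTopology C} (O : Sheaf J CommRingCat.{u})

/-- for an acyclic K-flat complex `K` and any module `G`, the complex `G ⊗ K` is acyclic. -/
theorem exact_map_tensL_sc' (K : CochainComplex (ModSite.Mod O) ℤ) (hK : ModSite.IsKFlat K)
    (hac : Acyc K) (G : ModSite.Mod O) (n : ℤ) :
    ((K.sc' n (n + 1) (n + 1 + 1)).map (tensL O G)).Exact := by
  let L : CochainComplex (ModSite.Mod O) ℤ := (HomologicalComplex.single _ _ 0).obj G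
  have hL : ∀ p, p ≠ 0 → IsZero (L.X p) := fun p hp => isZero_single_obj_X _ _ _ _ hp
  have h := exact_map_sc'_of_acyc_T (ModSite.tensorBi O) L hL K
    (acyc_T_of_acyc_of_isKFlat O L K hac hK) n
  let e : L.X 0 ≅ G := HomologicalComplex.singleObjXSelf _ 0 G
  exact (ShortComplex.exact_iff_of_iso
    ((K.sc' n (n + 1) (n + 1 + 1)).mapNatIso ((ModSite.tensorBi O).mapIso e))).1 h

/-- for an acyclic K-flat complex `K`, the inclusion of the cycles stays a monomorphism after
tensoring with any module. -/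
theorem mono_tensL_map_kι (K : CochainComplex (ModSite.Mod O) ℤ) (hK : ModSite.IsKFlat K)
    (hac : Acyc K) (G : ModSite.Mod O) (m : ℤ) :
    Mono ((tensL O G).map (kι K (m + 1 + 1) (m + 1 + 1 + 1))) := by
  haveI : Epi (ke K (m + 1) (m + 1 + 1) (m + 1 + 1 + 1)) :=
    epi_ke K _ _ _ (exact_sc'_of_acyc K hac (m + 1))
  haveI : Epi ((tensL O G).map (ke K (m + 1) (m + 1 + 1) (m + 1 + 1 + 1))) := inferInstance
  have w : (tensL O G).map (K.d m (m + 1)) ≫
      (tensL O G).map (ke K (m + 1) (m + 1 + 1) (m + 1 + 1 + 1)) = 0 := by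
    rw [← Functor.map_comp, d_ke, Functor.map_zero]
  have w' : (tensL O G).map (K.d m (m + 1)) ≫
      (tensL O G).map (ke K (m + 1) (m + 1 + 1) (m + 1 + 1 + 1)) ≫
      (tensL O G).map (kι K (m + 1 + 1) (m + 1 + 1 + 1)) = 0 := by
    rw [reassoc_of% w, zero_comp]
  have h := exact_map_tensL_sc' O K hK hac G m
  have e : (K.sc' m (m + 1) (m + 1 + 1)).map (tensL O G) ≅ ShortComplex.mk _ _ w' :=
    ShortComplex.isoMk (Iso.refl _) (Iso.refl _) (Iso.refl _)
      ((Category.id_comp _).trans (Category.comp_id _).symm) (by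
      change 𝟙 _ ≫ _ ≫ _ = (tensL O G).map (K.d (m + 1) (m + 1 + 1)) ≫ 𝟙 _
      rw [Category.comp_id, Category.id_comp, ← Functor.map_comp, ke_kι])
  exact mono_of_exact_of_epi _ _ _ w w' ((ShortComplex.exact_iff_of_iso e).1 h)

/-- **the cycles of an acyclic K-flat complex with flat terms are flat** (kernel form). -/
theorem isFlat_kernel_d (K : CochainComplex (ModSite.Mod O) ℤ) (hK : ModSite.IsKFlat K)
    (hac : Acyc K) (hfl : ∀ i : ℤ, ModSite.IsFlat (K.X i)) (m : ℤ) :
    ModSite.IsFlat (kernel (K.d (m + 1 + 1) (m + 1 + 1 + 1))) := by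
  rw [isFlat_iff]
  constructor
  intro G' G u hu
  haveI := mono_tensL_map_kι O K hK hac G' m
  haveI : (tens O (K.X (m + 1 + 1))).PreservesMonomorphisms := (isFlat_iff O _).1 (hfl _)
  haveI : Mono ((tens O (K.X (m + 1 + 1))).map u) := inferInstance
  have sq : (tens O (kZ K (m + 1 + 1) (m + 1 + 1 + 1))).map u ≫
      (tensL O G).map (kι K (m + 1 + 1) (m + 1 + 1 + 1)) =
      (tensL O G').map (kι K (m + 1 + 1) (m + 1 + 1 + 1)) ≫ (tens O (K.X (m + 1 + 1))).map u :=
    (((ModSite.tensorBi O).map u).naturality (kι K (m + 1 + 1) (m + 1 + 1 + 1))).symm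
  haveI : Mono ((tens O (kZ K (m + 1 + 1) (m + 1 + 1 + 1))).map u ≫
      (tensL O G).map (kι K (m + 1 + 1) (m + 1 + 1 + 1))) := by
    rw [sq]
    infer_instance
  exact mono_of_mono _ ((tensL O G).map (kι K (m + 1 + 1) (m + 1 + 1 + 1)))

/-- **the cycles of an acyclic K-flat complex with flat terms are flat.** -/
theorem isFlat_cycles (K : CochainComplex (ModSite.Mod O) ℤ) (hK : ModSite.IsKFlat K)
    (hac : Acyc K) (hfl : ∀ i : ℤ, ModSite.IsFlat (K.X i)) (n : ℤ) :
    ModSite.IsFlat (K.cycles n) := by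
  obtain ⟨m, rfl⟩ : ∃ m, n = m + 1 + 1 := ⟨n - 2, by omega⟩
  have e : K.cycles (m + 1 + 1) ≅ kernel (K.d (m + 1 + 1) (m + 1 + 1 + 1)) :=
    IsLimit.conePointUniqueUpToIso (K.cyclesIsKernel (m + 1 + 1) (m + 1 + 1 + 1) (by simp))
      (limit.isLimit _)
  exact Groth.Agent.Lib.Helper1.ModFlatMore.isFlat_of_iso O e.symm (isFlat_kernel_d O K hK hac hfl m)

end Groth.Agent.Lib.Helper1.KFlatSite
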