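import Groth.Agent.Lib.Helper1.ModFlat

/-!
# Associativity of the tensor product of sheaves of modules, as a natural isomorphism
`(- ⊗ G) ⊗ F ≅ - ⊗ (G ⊗ F)`
-/

set_option autoImplicit false
universe u
open CategoryTheory CategoryTheory.Limits MonoidalCategory Opposite

namespace Groth.Agent.Lib.Helper1.TensorAssoc

open Groth.Agent.Lib.Helper1.TensorAdj Groth.Agent.Lib.Helper1.ModFlat Groth.Agent.Lib.Helper1

variable {C : Type u} [SmallCategory C] {J : GrothendieckTopology C} (O : Sheaf J CommRingCat.{u})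

lemma unit_locInj (P : PMod O) : Presheaf.IsLocallyInjective J
    ((PresheafOfModules.toPresheaf _).map ((adj O).unit.app P)) := by
  show Presheaf.IsLocallyInjective J (toSheafify J P.presheaf)
  infer_instance

lemma unit_locSurj (P : PMod O) : Presheaf.IsLocallySurjective J
    ((PresheafOfModules.toPresheaf _).map ((adj O).unit.app P)) := by
  show Presheaf.IsLocallySurjective J (toSheafify J P.presheaf)
  infer_instance

/-- `a(Q ◁ η_P)` is an isomorphism -/
lemma isIso_shf_map_whiskerLeft_unit (Q P : PMod O) :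
    IsIso ((shf O).map (Q ◁ (adj O).unit.app P)) := by
  have h1 := TensorLoc.isLocallyInjective_whiskerLeft (R := O.obj) J Q ((adj O).unit.app P)
    (unit_locInj O P) (unit_locSurj O P)
  have h2 := TensorLoc.isLocallySurjective_tensorHom (R := O.obj) J (𝟙 Q) ((adj O).unit.app P)
    (by rw [CategoryTheory.Functor.map_id]; infer_instance) (unit_locSurj O P)
  rw [id_tensorHom] at h2
  exact TensorLoc.isIso_sheafification_map (𝟙 (ModSite.ringSh O).obj) _ h1 h2

/-- `M ↦ a((M ⊗ G') ⊗ F')` -/
noncomputable abbrev A₁ (G' F' : PMod O) : ModSite.Mod O ⥤ ModSite.Mod O :=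
  incl O ⋙ tensorRight G' ⋙ tensorRight F' ⋙ shf O

/-- step 1 -/
noncomputable def iso₁ (G' F' : PMod O) : A₁ O G' F' ≅ T O G' ⋙ T O F' :=
  NatIso.ofComponents (fun M =>
    haveI := isIso_G_map_unit O F' ((incl O).obj M ⊗ G')
    asIso ((G O F').map ((adj O).unit.app ((incl O).obj M ⊗ G')))) (by
    intro M M' f
    dsimp only [asIso_hom]
    show (shf O).map (((incl O).map f ▷ G') ▷ F') ≫
        (shf O).map ((adj O).unit.app ((incl O).obj M' ⊗ G') ▷ F') =
      (shf O).map ((adj O).unit.app ((incl O).obj M ⊗ G') ▷ F') ≫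
        (shf O).map ((incl O).map ((shf O).map ((incl O).map f ▷ G')) ▷ F')
    rw [← Functor.map_comp, ← Functor.map_comp, ← comp_whiskerRight, ← comp_whiskerRight]
    congr 2
    exact (adj O).unit.naturality ((incl O).map f ▷ G'))

/-- step 2: the associator -/
noncomputable def iso₂ (G' F' : PMod O) : A₁ O G' F' ≅ T O (G' ⊗ F') :=
  NatIso.ofComponents (fun M => (shf O).mapIso (α_ ((incl O).obj M) G' F')) (by
    intro M M' f
    show (shf O).map (((incl O).map f ▷ G') ▷ F') ≫ (shf O).map (α_ ((incl O).obj M') G' F').hom =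
      (shf O).map (α_ ((incl O).obj M) G' F').hom ≫ (shf O).map ((incl O).map f ▷ (G' ⊗ F'))
    rw [← Functor.map_comp, ← Functor.map_comp, associator_naturality_left])

/-- step 3: replacing the second factor by its sheafification -/
noncomputable def iso₃ (P : PMod O) : T O P ≅ T O ((incl O).obj ((shf O).obj P)) :=
  NatIso.ofComponents (fun M =>
    haveI := isIso_shf_map_whiskerLeft_unit O ((incl O).obj M) P
    asIso ((shf O).map ((incl O).obj M ◁ (adj O).unit.app P))) (by
    intro M M' f
    dsimp only [asIso_hom]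
    show (shf O).map ((incl O).map f ▷ P) ≫ (shf O).map ((incl O).obj M' ◁ (adj O).unit.app P) =
      (shf O).map ((incl O).obj M ◁ (adj O).unit.app P) ≫
        (shf O).map ((incl O).map f ▷ (incl O).obj ((shf O).obj P))
    rw [← Functor.map_comp, ← Functor.map_comp, ← whisker_exchange]
    rfl)

/-- `(- ⊗ G) ⊗ F ≅ - ⊗ (G ⊗ F)` for sheaves of modules -/
noncomputable def tensAssoc (G F : ModSite.Mod O) :
    tens O G ⋙ tens O F ≅ tens O (((ModSite.tensorBi O).obj G).obj F) :=
  (Functor.isoWhiskerRight (tensorFlipIso O G) _ ≪≫ Functor.isoWhiskerLeft _ (tensorFlipIso O F)) ≪≫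
    (iso₁ O (under O G) (under O F)).symm ≪≫ iso₂ O (under O G) (under O F) ≪≫
    iso₃ O (under O G ⊗ under O F) ≪≫
    (tensorFlipIso O (((ModSite.tensorBi O).obj G).obj F)).symm

/-- the tensor product of flat modules is flat -/
theorem isFlat_tensor (G F : ModSite.Mod O) (hG : ModSite.IsFlat G) (hF : ModSite.IsFlat F) :
    ModSite.IsFlat (((ModSite.tensorBi O).obj G).obj F) := by
  rw [isFlat_iff] at hG hF ⊢
  haveI := hG
  haveI := hF
  exact Functor.PreservesMonomorphisms.of_iso (tensAssoc O G F)

end Groth.Agent.Lib.Helper1.TensorAssoc
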