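import Mathlib
import Groth.Agent.Lib.Helper1.TensorAssoc

/-!
# Helper1 — TensorAssoc3: the associator of the tensor product of sheaves of modules on a ringed
site, natural in all three variables
-/

set_option autoImplicit false
universe u
open CategoryTheory CategoryTheory.Limits MonoidalCategory Opposite

namespace Groth.Agent.Lib.Helper1.TensorAssoc3

open Groth.Agent.Lib.Helper1.TensorAdj Groth.Agent.Lib.Helper1.ModFlat
  Groth.Agent.Lib.Helper1.TensorAssoc

variable {C : Type u} [SmallCategory C] {J : GrothendieckTopology C} (O : Sheaf J CommRingCat.{u})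

/-- `M ⊗ N` -/
noncomputable abbrev t (M N : ModSite.Mod O) : ModSite.Mod O := ((ModSite.tensorBi O).obj M).obj N

/-- `f ⊗ N` -/
noncomputable abbrev tL {M M' : ModSite.Mod O} (f : M ⟶ M') (N : ModSite.Mod O) :
    t O M N ⟶ t O M' N := ((ModSite.tensorBi O).map f).app N

/-- `M ⊗ g` -/
noncomputable abbrev tR (M : ModSite.Mod O) {N N' : ModSite.Mod O} (g : N ⟶ N') :
    t O M N ⟶ t O M N' := ((ModSite.tensorBi O).obj M).map g

lemma tL_eq {M M' : ModSite.Mod O} (f : M ⟶ M') (N : ModSite.Mod O) :
    tL O f N = (shf O).map (underMap O f ▷ under O N) := rfl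

lemma tR_eq (M : ModSite.Mod O) {N N' : ModSite.Mod O} (g : N ⟶ N') :
    tR O M g = (shf O).map (under O M ◁ underMap O g) := rfl

/-- the unit of the sheafification adjunction at `P`, with target the underlying presheaf of the
sheafification -/
noncomputable def η (P : PMod O) : P ⟶ under O ((shf O).obj P) := (adj O).unit.app P

lemma η_naturality {P Q : PMod O} (φ : P ⟶ Q) :
    φ ≫ η O Q = η O P ≫ underMap O ((shf O).map φ) :=
  (adj O).unit.naturality φ

/-- the left comparison map -/
noncomputable def ℓ (M G F : ModSite.Mod O) :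
    (shf O).obj ((under O M ⊗ under O G) ⊗ under O F) ⟶ t O (t O M G) F :=
  (shf O).map (η O (under O M ⊗ under O G) ▷ under O F)

instance (M G F : ModSite.Mod O) : IsIso (ℓ O M G F) :=
  isIso_G_map_unit O (under O F) (under O M ⊗ under O G)

/-- the right comparison map -/
noncomputable def r (M G F : ModSite.Mod O) :
    (shf O).obj (under O M ⊗ (under O G ⊗ under O F)) ⟶ t O M (t O G F) :=
  (shf O).map (under O M ◁ η O (under O G ⊗ under O F))

instance (M G F : ModSite.Mod O) : IsIso (r O M G F) :=
  isIso_shf_map_whiskerLeft_unit O (under O M) (under O G ⊗ under O F)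

/-- the associator `(M ⊗ G) ⊗ F ≅ M ⊗ (G ⊗ F)` -/
noncomputable def assoc (M G F : ModSite.Mod O) : t O (t O M G) F ≅ t O M (t O G F) :=
  (asIso (ℓ O M G F)).symm ≪≫ (shf O).mapIso (α_ (under O M) (under O G) (under O F)) ≪≫
    asIso (r O M G F)

lemma assoc_hom (M G F : ModSite.Mod O) :
    (assoc O M G F).hom = inv (ℓ O M G F) ≫
      (shf O).map (α_ (under O M) (under O G) (under O F)).hom ≫ r O M G F := rfl

/-! ### naturality in the first variable -/

section Nat₁

variable {M M' : ModSite.Mod O} (f : M ⟶ M') (G F : ModSite.Mod O)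

lemma ℓ_nat₁ : (shf O).map ((underMap O f ▷ under O G) ▷ under O F) ≫ ℓ O M' G F =
    ℓ O M G F ≫ tL O (tL O f G) F := by
  show (shf O).map ((underMap O f ▷ under O G) ▷ under O F) ≫
      (shf O).map (η O (under O M' ⊗ under O G) ▷ under O F) =
    (shf O).map (η O (under O M ⊗ under O G) ▷ under O F) ≫
      (shf O).map (underMap O ((shf O).map (underMap O f ▷ under O G)) ▷ under O F)
  rw [← Functor.map_comp, ← Functor.map_comp, ← comp_whiskerRight,
    ← comp_whiskerRight, η_naturality]

lemma α_nat₁ : (shf O).map ((underMap O f ▷ under O G) ▷ under O F) ≫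
      (shf O).map (α_ (under O M') (under O G) (under O F)).hom =
    (shf O).map (α_ (under O M) (under O G) (under O F)).hom ≫
      (shf O).map (underMap O f ▷ (under O G ⊗ under O F)) := by
  rw [← Functor.map_comp, ← Functor.map_comp, associator_naturality_left]

lemma r_nat₁ : (shf O).map (underMap O f ▷ (under O G ⊗ under O F)) ≫ r O M' G F =
    r O M G F ≫ tL O f (t O G F) := by
  show (shf O).map (underMap O f ▷ (under O G ⊗ under O F)) ≫
      (shf O).map (under O M' ◁ η O (under O G ⊗ under O F)) =
    (shf O).map (under O M ◁ η O (under O G ⊗ under O F)) ≫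
      (shf O).map (underMap O f ▷ under O ((shf O).obj (under O G ⊗ under O F)))
  rw [← Functor.map_comp, ← Functor.map_comp, whisker_exchange]

lemma assoc_nat₁ : tL O (tL O f G) F ≫ (assoc O M' G F).hom =
    (assoc O M G F).hom ≫ tL O f (t O G F) := by
  have h : tL O (tL O f G) F ≫ inv (ℓ O M' G F) =
      inv (ℓ O M G F) ≫ (shf O).map ((underMap O f ▷ under O G) ▷ under O F) := by
    rw [IsIso.comp_inv_eq, Category.assoc, IsIso.eq_inv_comp, ℓ_nat₁]
  rw [assoc_hom, assoc_hom, reassoc_of% h, reassoc_of% (α_nat₁ O f G F), r_nat₁]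
  simp only [Category.assoc]

end Nat₁

/-! ### naturality in the second variable -/

section Nat₂

variable (M : ModSite.Mod O) {G G' : ModSite.Mod O} (g : G ⟶ G') (F : ModSite.Mod O)

lemma ℓ_nat₂ : (shf O).map ((under O M ◁ underMap O g) ▷ under O F) ≫ ℓ O M G' F =
    ℓ O M G F ≫ tL O (tR O M g) F := by
  show (shf O).map ((under O M ◁ underMap O g) ▷ under O F) ≫
      (shf O).map (η O (under O M ⊗ under O G') ▷ under O F) =
    (shf O).map (η O (under O M ⊗ under O G) ▷ under O F) ≫
      (shf O).map (underMap O ((shf O).map (under O M ◁ underMap O g)) ▷ under O F)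
  rw [← Functor.map_comp, ← Functor.map_comp, ← comp_whiskerRight,
    ← comp_whiskerRight, η_naturality]

lemma α_nat₂ : (shf O).map ((under O M ◁ underMap O g) ▷ under O F) ≫
      (shf O).map (α_ (under O M) (under O G') (under O F)).hom =
    (shf O).map (α_ (under O M) (under O G) (under O F)).hom ≫
      (shf O).map (under O M ◁ (underMap O g ▷ under O F)) := by
  rw [← Functor.map_comp, ← Functor.map_comp, associator_naturality_middle]

lemma r_nat₂ : (shf O).map (under O M ◁ (underMap O g ▷ under O F)) ≫ r O M G' F =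
    r O M G F ≫ tR O M (tL O g F) := by
  show (shf O).map (under O M ◁ (underMap O g ▷ under O F)) ≫
      (shf O).map (under O M ◁ η O (under O G' ⊗ under O F)) =
    (shf O).map (under O M ◁ η O (under O G ⊗ under O F)) ≫
      (shf O).map (under O M ◁ underMap O ((shf O).map (underMap O g ▷ under O F)))
  rw [← Functor.map_comp, ← Functor.map_comp, ← whiskerLeft_comp, ← whiskerLeft_comp,
    η_naturality]

lemma assoc_nat₂ : tL O (tR O M g) F ≫ (assoc O M G' F).hom =
    (assoc O M G F).hom ≫ tR O M (tL O g F) := by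
  have h : tL O (tR O M g) F ≫ inv (ℓ O M G' F) =
      inv (ℓ O M G F) ≫ (shf O).map ((under O M ◁ underMap O g) ▷ under O F) := by
    rw [IsIso.comp_inv_eq, Category.assoc, IsIso.eq_inv_comp, ℓ_nat₂]
  rw [assoc_hom, assoc_hom, reassoc_of% h, reassoc_of% (α_nat₂ O M g F), r_nat₂]
  simp only [Category.assoc]

end Nat₂

/-! ### naturality in the third variable -/

section Nat₃

variable (M G : ModSite.Mod O) {F F' : ModSite.Mod O} (h : F ⟶ F')

lemma ℓ_nat₃ : (shf O).map ((under O M ⊗ under O G) ◁ underMap O h) ≫ ℓ O M G F' =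
    ℓ O M G F ≫ tR O (t O M G) h := by
  show (shf O).map ((under O M ⊗ under O G) ◁ underMap O h) ≫
      (shf O).map (η O (under O M ⊗ under O G) ▷ under O F') =
    (shf O).map (η O (under O M ⊗ under O G) ▷ under O F) ≫
      (shf O).map (under O ((shf O).obj (under O M ⊗ under O G)) ◁ underMap O h)
  rw [← Functor.map_comp, ← Functor.map_comp, whisker_exchange]

lemma α_nat₃ : (shf O).map ((under O M ⊗ under O G) ◁ underMap O h) ≫
      (shf O).map (α_ (under O M) (under O G) (under O F')).hom =
    (shf O).map (α_ (under O M) (under O G) (under O F)).hom ≫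
      (shf O).map (under O M ◁ (under O G ◁ underMap O h)) := by
  rw [← Functor.map_comp, ← Functor.map_comp, associator_naturality_right]

lemma r_nat₃ : (shf O).map (under O M ◁ (under O G ◁ underMap O h)) ≫ r O M G F' =
    r O M G F ≫ tR O M (tR O G h) := by
  show (shf O).map (under O M ◁ (under O G ◁ underMap O h)) ≫
      (shf O).map (under O M ◁ η O (under O G ⊗ under O F')) =
    (shf O).map (under O M ◁ η O (under O G ⊗ under O F)) ≫
      (shf O).map (under O M ◁ underMap O ((shf O).map (under O G ◁ underMap O h)))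
  rw [← Functor.map_comp, ← Functor.map_comp, ← whiskerLeft_comp, ← whiskerLeft_comp,
    η_naturality]

lemma assoc_nat₃ : tR O (t O M G) h ≫ (assoc O M G F').hom =
    (assoc O M G F).hom ≫ tR O M (tR O G h) := by
  have h' : tR O (t O M G) h ≫ inv (ℓ O M G F') =
      inv (ℓ O M G F) ≫ (shf O).map ((under O M ⊗ under O G) ◁ underMap O h) := by
    rw [IsIso.comp_inv_eq, Category.assoc, IsIso.eq_inv_comp, ℓ_nat₃]
  rw [assoc_hom, assoc_hom, reassoc_of% h', reassoc_of% (α_nat₃ O M G h), r_nat₃]
  simp only [Category.assoc]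

end Nat₃

/-- **the associator of the tensor product, as an isomorphism of trifunctors.** -/
noncomputable def tensorBiAssoc :
    bifunctorComp₁₂ (ModSite.tensorBi O) (ModSite.tensorBi O) ≅
      bifunctorComp₂₃ (ModSite.tensorBi O) (ModSite.tensorBi O) :=
  NatIso.ofComponents (fun M => NatIso.ofComponents (fun G =>
    NatIso.ofComponents (fun F => assoc O M G F) (fun h => assoc_nat₃ O M G h))
    (fun g => by
      apply NatTrans.ext
      funext F
      exact assoc_nat₂ O M g F))
    (fun f => by
      apply NatTrans.ext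
      funext G
      apply NatTrans.ext
      funext F
      exact assoc_nat₁ O f G F)

end Groth.Agent.Lib.Helper1.TensorAssoc3
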