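import Mathlib
import Groth.Prelude.Def_KFlatSite
import Groth.Agent.Lib.Helper1.KFlatSite1
import Groth.Agent.Lib.Helper1.TensorAssoc3

/-!
# Helper1 — KFlatSite5: the tensor product of K-flat complexes is K-flat
-/

set_option autoImplicit false
universe u
open CategoryTheory CategoryTheory.Limits HomologicalComplex

namespace Groth.Agent.Lib.Helper1.KFlatSite

open Groth.Agent.Lib.Helper16.BiCx Groth.Agent.Lib.Helper1.KFlatA
open Groth.Agent.Lib.Helper1.ModFlat Groth.Agent.Lib.Helper1.TensorAssoc3

variable {C : Type u} [SmallCategory C] {J : GrothendieckTopology C} (O : Sheaf J CommRingCat.{u})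

instance preservesColimitsOfSize_zero_tensL (M : ModSite.Mod O) :
    PreservesColimitsOfSize.{0, 0} ((ModSite.tensorBi O).obj M) := by
  haveI : PreservesColimitsOfSize.{u, u} ((ModSite.tensorBi O).obj M) :=
    inferInstanceAs (PreservesColimitsOfSize.{u, u} (tensL O M))
  exact preservesColimitsOfSize_shrink.{0, u, 0, u} _

instance preservesColimitsOfSize_zero_tens (M : ModSite.Mod O) :
    PreservesColimitsOfSize.{0, 0} ((ModSite.tensorBi O).flip.obj M) := by
  haveI : (tens O M).IsLeftAdjoint := inferInstance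
  exact inferInstanceAs (PreservesColimitsOfSize.{0, 0} (tens O M))

/-- the associativity isomorphism for the tensor product of complexes -/
noncomputable def tensorCxAssoc (K₁ K₂ K₃ : CochainComplex (ModSite.Mod O) ℤ) :
    T (ModSite.tensorBi O) (T (ModSite.tensorBi O) K₁ K₂) K₃ ≅
      T (ModSite.tensorBi O) K₁ (T (ModSite.tensorBi O) K₂ K₃) :=
  haveI : HasGoodTrifunctor₁₂Obj (ModSite.tensorBi O) (ModSite.tensorBi O) K₁ K₂ K₃
      (ComplexShape.up ℤ) (ComplexShape.up ℤ) := fun _ _ => inferInstance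
  haveI : HasGoodTrifunctor₂₃Obj (ModSite.tensorBi O) (ModSite.tensorBi O) K₁ K₂ K₃
      (ComplexShape.up ℤ) (ComplexShape.up ℤ) (ComplexShape.up ℤ) := fun _ _ => inferInstance
  mapBifunctorAssociator (tensorBiAssoc O) K₁ K₂ K₃ (ComplexShape.up ℤ) (ComplexShape.up ℤ)
    (ComplexShape.up ℤ)

/-- **the tensor product of K-flat complexes is K-flat.** -/
theorem isKFlat_tensorCx (K L : CochainComplex (ModSite.Mod O) ℤ) (hK : ModSite.IsKFlat K)
    (hL : ModSite.IsKFlat L) : ModSite.IsKFlat (((ModSite.tensorCx O).obj K).obj L) := by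
  intro F hF
  change Acyc (T (ModSite.tensorBi O) F (T (ModSite.tensorBi O) K L))
  have h : Acyc (T (ModSite.tensorBi O) (T (ModSite.tensorBi O) F K) L) := hL _ (hK F hF)
  exact h.of_iso (tensorCxAssoc O F K L)

end Groth.Agent.Lib.Helper1.KFlatSite
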