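import Mathlib
import Groth.Prelude.Def_KFlatSite
import Groth.Agent.Lib.Helper1.KFlatSite3
import Groth.Agent.Lib.Helper16.FRes1
import Groth.Agent.Lib.Helper16.LD1
import Groth.Agent.Lib.Helper16.LD2
import Groth.Agent.Lib.Helper16.LD3

/-!
# Helper1 — KFlatSite6: functorial K-flat resolutions on a ringed site, the K-flat left
derivability structure, and the values of `- ⊗^L E`
-/

set_option autoImplicit false
universe u v' u'
open CategoryTheory CategoryTheory.Limits HomologicalComplex CochainComplex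

attribute [local instance] HasDerivedCategory.standard

namespace Groth.Agent.Lib.Helper1.KFlatSite

open Groth.Agent.Lib.Helper16.BiCx Groth.Agent.Lib.Helper1.EnoughFlat
open Groth.Agent.Lib.Helper1.ModFlatMore Groth.Agent.Lib.Helper1.KFlatA

variable {C : Type u} [SmallCategory C] {J : GrothendieckTopology C} (O : Sheaf J CommRingCat.{u})

section Cover

/-- the canonical flat cover is functorial -/
noncomputable def coverMap {F G : ModSite.Mod O} (g : F ⟶ G) : cover O F ⟶ cover O G :=
  Sigma.desc (fun i : CoverIdx O F =>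
    Sigma.ι (fun j : CoverIdx O G => ModSite.freeOn O j.1) ⟨i.1, i.2 ≫ g⟩)

@[reassoc (attr := simp)]
lemma ι_coverMap {F G : ModSite.Mod O} (g : F ⟶ G) (i : CoverIdx O F) :
    Sigma.ι (fun j : CoverIdx O F => ModSite.freeOn O j.1) i ≫ coverMap O g =
      Sigma.ι (fun j : CoverIdx O G => ModSite.freeOn O j.1) ⟨i.1, i.2 ≫ g⟩ := by
  simp [coverMap]

lemma ι_congr {G : ModSite.Mod O} (X : C) {a b : ModSite.freeOn O X ⟶ G} (h : a = b) :
    Sigma.ι (fun j : CoverIdx O G => ModSite.freeOn O j.1) ⟨X, a⟩ =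
      Sigma.ι (fun j : CoverIdx O G => ModSite.freeOn O j.1) ⟨X, b⟩ := by
  subst h; rfl

/-- the canonical flat cover, as a functor -/
noncomputable def coverF : ModSite.Mod O ⥤ ModSite.Mod O where
  obj := cover O
  map g := coverMap O g
  map_id F := by
    apply Sigma.hom_ext
    rintro ⟨X, a⟩
    rw [ι_coverMap, Category.comp_id]
    exact ι_congr O X (Category.comp_id a)
  map_comp g h := by
    apply Sigma.hom_ext
    rintro ⟨X, a⟩
    rw [ι_coverMap, ι_coverMap_assoc, ι_coverMap]
    exact ι_congr O X (Category.assoc a g h).symm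

/-- the natural covering map -/
noncomputable def coverNat : coverF O ⟶ 𝟭 (ModSite.Mod O) where
  app F := coverπ O F
  naturality F G g := by
    apply Sigma.hom_ext
    rintro ⟨X, a⟩
    change _ ≫ coverMap O g ≫ coverπ O G = _ ≫ coverπ O F ≫ g
    rw [ι_coverMap_assoc]
    simp [coverπ]

end Cover

section Resolution

/-- K-flat with flat terms -/
def KFF (K : CochainComplex (ModSite.Mod O) ℤ) : Prop :=
  ModSite.IsKFlat K ∧ ∀ n : ℤ, ModSite.IsFlat (K.X n)

variable {O}

lemma isKFlat_of_iso {K L : CochainComplex (ModSite.Mod O) ℤ} (e : K ≅ L)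
    (h : ModSite.IsKFlat K) : ModSite.IsKFlat L := fun M hM =>
  Acyc.of_iso (h M hM) ((funR (ModSite.tensorBi O) M).mapIso e)

lemma kff_of_iso {K L : CochainComplex (ModSite.Mod O) ℤ} (e : K ≅ L) (h : KFF O K) : KFF O L :=
  ⟨isKFlat_of_iso e h.1, fun n => isFlat_of_iso O
    ((HomologicalComplex.eval (ModSite.Mod O) (ComplexShape.up ℤ) n).mapIso e) (h.2 n)⟩

variable (O)

/-- **Functorial K-flat resolutions with flat terms, by termwise epimorphic
quasi-isomorphisms.** -/
theorem exists_functorial_kflat_resolution :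
    ∃ (P : CochainComplex (ModSite.Mod O) ℤ ⥤ CochainComplex (ModSite.Mod O) ℤ)
      (ψ : P ⟶ 𝟭 (CochainComplex (ModSite.Mod O) ℤ)),
      ∀ G : CochainComplex (ModSite.Mod O) ℤ, ModSite.IsKFlat (P.obj G) ∧
        (∀ n : ℤ, ModSite.IsFlat ((P.obj G).X n)) ∧ QuasiIso (ψ.app G) ∧
        ∀ n : ℤ, Epi ((ψ.app G).f n) := by
  obtain ⟨P, ψ, h⟩ := Groth.Agent.Lib.Helper16.Res.exists_functorial_resolution
    (W := fun M : ModSite.Mod O => ModSite.IsFlat M)
    (coverF O) (coverNat O) (fun M => epi_coverπ O M) (fun M => isFlat_cover O M)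
    (KFF O) (fun e h => kff_of_iso e h)
    (fun X hX => ⟨isKFlat_of_d_eq_zero O _ (fun i j => rfl) hX, hX⟩)
    (fun φ hK hL => ⟨(isKFlat_mappingCone_two_out_of_three O φ).1 hK.1 hL.1,
      isFlat_mappingCone_X O φ hK.2 hL.2⟩)
    (fun F c hc hF => ⟨isKFlatR_of_isColimit (ModSite.tensorBi O) hc (fun n => (hF n).1),
      fun m => isFlat_of_isColimit' O (F ⋙ HomologicalComplex.eval _ _ m) (fun n => (hF n).2 m) _
        (isColimitOfPreserves (HomologicalComplex.eval _ _ m) hc)⟩)
  exact ⟨P, ψ, fun G => ⟨(h G).1.1, (h G).1.2, (h G).2.1, (h G).2.2⟩⟩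

end Resolution

section Derivability

open Groth.Agent.Lib.Helper16

/-- the property of being K-flat. -/
def kflat : ObjectProperty (CochainComplex (ModSite.Mod O) ℤ) := fun K => ModSite.IsKFlat K

/-- quasi-isomorphisms of complexes. -/
abbrev qis : MorphismProperty (CochainComplex (ModSite.Mod O) ℤ) :=
  HomologicalComplex.quasiIso (ModSite.Mod O) (ComplexShape.up ℤ)

/-- the localizer morphism from K-flat complexes to all complexes. -/
noncomputable abbrev Φ : LocalizerMorphism ((qis O).inverseImage (kflat O).ι) (qis O) :=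
  LD.locMor (kflat O) (qis O)

instance isLeftDerivabilityStructure : (Φ O).IsLeftDerivabilityStructure := by
  obtain ⟨P, ψ, h⟩ := exists_functorial_kflat_resolution O
  exact LD.isLeftDerivabilityStructure P ψ (fun G => (h G).1)
    (fun G => (HomologicalComplex.mem_quasiIso_iff _).2 (h G).2.2.1)

variable {O} {H : Type u'} [Category.{v'} H]

/-- the condition that `F` sends quasi-isomorphisms between K-flat complexes to isomorphisms. -/
def InvertsKFlat (F : CochainComplex (ModSite.Mod O) ℤ ⥤ H) : Prop :=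
  ∀ {P P' : CochainComplex (ModSite.Mod O) ℤ} (s : P ⟶ P'), ModSite.IsKFlat P →
    ModSite.IsKFlat P' → QuasiIso s → IsIso (F.map s)

lemma InvertsKFlat.derives {F : CochainComplex (ModSite.Mod O) ℤ ⥤ H} (hF : InvertsKFlat F) :
    (Φ O).Derives F := by
  intro P P' s hs
  exact hF s.hom P.property P'.property ((HomologicalComplex.mem_quasiIso_iff _).1 hs)

/-- **Existence of total left derived functors (on complexes).** -/
theorem hasLeftDerivedFunctor {F : CochainComplex (ModSite.Mod O) ℤ ⥤ H} (hF : InvertsKFlat F) :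
    F.HasLeftDerivedFunctor (qis O) :=
  LD.hasLeftDerivedFunctor hF.derives

/-- **The counit of a left derived functor is an isomorphism on K-flat complexes.** -/
theorem isIso_app_of_isKFlat {F : CochainComplex (ModSite.Mod O) ℤ ⥤ H} (hF : InvertsKFlat F)
    {D₂ : Type*} [Category D₂] {L₂ : CochainComplex (ModSite.Mod O) ℤ ⥤ D₂}
    [L₂.IsLocalization (qis O)]
    {LF : D₂ ⥤ H} (α : L₂ ⋙ LF ⟶ F) [LF.IsLeftDerivedFunctor α (qis O)]
    (P : CochainComplex (ModSite.Mod O) ℤ) (hP : ModSite.IsKFlat P) : IsIso (α.app P) :=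
  LD.isIso_of_isLeftDerivedFunctor hF.derives α ⟨P, hP⟩

/-- characterization of left derived functors. -/
theorem isLeftDerivedFunctor_of_isIso {F : CochainComplex (ModSite.Mod O) ℤ ⥤ H}
    (hF : InvertsKFlat F)
    {D₂ : Type*} [Category D₂] {L₂ : CochainComplex (ModSite.Mod O) ℤ ⥤ D₂}
    [L₂.IsLocalization (qis O)]
    {LF : D₂ ⥤ H} (α : L₂ ⋙ LF ⟶ F)
    (hα : ∀ P : CochainComplex (ModSite.Mod O) ℤ, ModSite.IsKFlat P → IsIso (α.app P)) :
    LF.IsLeftDerivedFunctor α (qis O) :=
  LD.isLeftDerivedFunctor_of_isIso hF.derives α (fun P => hα P.obj P.property)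

end Derivability

section LTensor

variable {O}

/-- **an acyclic K-flat complex tensored (on the right) with any complex is acyclic.** -/
theorem acyc_T_left_of_acyc_of_isKFlat (K : CochainComplex (ModSite.Mod O) ℤ) (hK : Acyc K)
    (hKF : ModSite.IsKFlat K) (E : CochainComplex (ModSite.Mod O) ℤ) :
    Acyc (T (ModSite.tensorBi O) K E) :=
  (acyc_T_symm_site O K E).2 (acyc_T_of_acyc_of_isKFlat O E K hK hKF)

/-- **a quasi-isomorphism between K-flat complexes remains a quasi-isomorphism after tensoring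
(on the right) with any complex.** -/
theorem quasiIso_mapL_of_isKFlat_of_isKFlat {P Q : CochainComplex (ModSite.Mod O) ℤ} (α : P ⟶ Q)
    [QuasiIso α] (hP : ModSite.IsKFlat P) (hQ : ModSite.IsKFlat Q)
    (E : CochainComplex (ModSite.Mod O) ℤ) :
    QuasiIso (mapL (ModSite.tensorBi O) α E) :=
  quasiIso_map_of_acyc_cylSC (funL (ModSite.tensorBi O) E)
    (fun e => (funLHomotopyEquiv (ModSite.tensorBi O) e E).quasiIso_hom)
    (fun _ hS => shortExact_funL_of_dSplit (ModSite.tensorBi O) hS E) α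
    (acyc_T_left_of_acyc_of_isKFlat _ (acyc_cylSC_X₃ α)
      (isKFlatR_cylSC_X₃ (ModSite.tensorBi O) α hP hQ) E)

variable (E : CochainComplex (ModSite.Mod O) ℤ)

lemma invertsKFlat_tensorCxQ : InvertsKFlat (ModSite.tensorCxQ E) := by
  intro P P' s hP hP' hs
  haveI := hs
  haveI : QuasiIso (mapL (ModSite.tensorBi O) s E) :=
    quasiIso_mapL_of_isKFlat_of_isKFlat s hP hP' E
  exact inferInstanceAs (IsIso (DerivedCategory.Q.map (mapL (ModSite.tensorBi O) s E)))

/-- **`- ⊗^L E` exists.** -/
theorem hasLTensorCx : ModSite.HasLTensorCx E := hasLeftDerivedFunctor (invertsKFlat_tensorCxQ E)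

variable [ModSite.HasLTensorCx E]

/-- the counit of `- ⊗^L E`. -/
noncomputable abbrev LTensorCxCounit :
    DerivedCategory.Q ⋙ ModSite.LTensorCx E ⟶ ModSite.tensorCxQ E :=
  (ModSite.tensorCxQ E).totalLeftDerivedCounit DerivedCategory.Q (qis O)

lemma isIso_LTensorCxCounit_app (P : CochainComplex (ModSite.Mod O) ℤ) (hP : ModSite.IsKFlat P) :
    IsIso ((LTensorCxCounit E).app P) :=
  isIso_app_of_isKFlat (invertsKFlat_tensorCxQ E) (LTensorCxCounit E) P hP

/-- **`P ⊗^L E` is the total tensor product for K-flat `P`.** -/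
noncomputable def LTensorCxIso (P : CochainComplex (ModSite.Mod O) ℤ) (hP : ModSite.IsKFlat P) :
    (ModSite.LTensorCx E).obj (DerivedCategory.Q.obj P) ≅
      DerivedCategory.Q.obj (((ModSite.tensorCx O).obj P).obj E) :=
  @asIso _ _ _ _ ((LTensorCxCounit E).app P) (isIso_LTensorCxCounit_app E P hP)

/-- if `E` is K-flat, the counit of `- ⊗^L E` is an isomorphism everywhere. -/
lemma isIso_LTensorCxCounit_app_of_isKFlat (hE : ModSite.IsKFlat E)
    (K : CochainComplex (ModSite.Mod O) ℤ) :
    IsIso ((LTensorCxCounit E).app K) := by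
  obtain ⟨P, ψ, hP⟩ := exists_functorial_kflat_resolution O
  haveI : QuasiIso (ψ.app K) := (hP K).2.2.1
  haveI : IsIso (DerivedCategory.Q.map (ψ.app K)) := inferInstance
  haveI : QuasiIso (mapL (ModSite.tensorBi O) (ψ.app K) E) :=
    quasiIso_mapL_of_isKFlat O hE (ψ.app K)
  haveI : IsIso ((ModSite.tensorCxQ E).map (ψ.app K)) :=
    inferInstanceAs (IsIso (DerivedCategory.Q.map (mapL (ModSite.tensorBi O) (ψ.app K) E)))
  haveI := isIso_LTensorCxCounit_app E (P.obj K) (hP K).1
  haveI : IsIso ((DerivedCategory.Q ⋙ ModSite.LTensorCx E).map (ψ.app K)) :=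
    inferInstanceAs (IsIso ((ModSite.LTensorCx E).map (DerivedCategory.Q.map (ψ.app K))))
  have nat := (LTensorCxCounit E).naturality (ψ.app K)
  have : (LTensorCxCounit E).app K =
      inv ((DerivedCategory.Q ⋙ ModSite.LTensorCx E).map (ψ.app K)) ≫
        (LTensorCxCounit E).app (P.obj K) ≫ (ModSite.tensorCxQ E).map (ψ.app K) := by
    rw [IsIso.eq_inv_comp]; exact nat
  rw [this]
  infer_instance

/-- **`K ⊗^L E` is the total tensor product for K-flat `E`.** -/
noncomputable def LTensorCxIso' (hE : ModSite.IsKFlat E) (K : CochainComplex (ModSite.Mod O) ℤ) :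
    (ModSite.LTensorCx E).obj (DerivedCategory.Q.obj K) ≅
      DerivedCategory.Q.obj (((ModSite.tensorCx O).obj K).obj E) :=
  @asIso _ _ _ _ ((LTensorCxCounit E).app K) (isIso_LTensorCxCounit_app_of_isKFlat E hE K)

end LTensor

end Groth.Agent.Lib.Helper1.KFlatSite
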