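import Mathlib
import Groth.Prelude.Def_KFlatSite
import Groth.Agent.Lib.Helper1.KFlatSite6
import Groth.Agent.Lib.Helper1.BiCxSingle

/-!
# Helper1 — KFlatSite7: `M ⊗^L E` for a module `M` through a K-flat resolution of `E`;
the long exact sequence of `M ↦ H^i(M ⊗ P)`
-/

set_option autoImplicit false
universe u
open CategoryTheory CategoryTheory.Limits HomologicalComplex CochainComplex

attribute [local instance] HasDerivedCategory.standard

namespace Groth.Agent.Lib.Helper1.KFlatSite

open Groth.Agent.Lib.Helper16.BiCx Groth.Agent.Lib.Helper1.KFlatA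
open Groth.Agent.Lib.Helper1.BiCxSingle

variable {C : Type u} [SmallCategory C] {J : GrothendieckTopology C} {O : Sheaf J CommRingCat.{u}}

/-- **tensoring a K-flat complex (on the left) with a quasi-isomorphism gives a
quasi-isomorphism.** -/
theorem quasiIso_mapR_of_isKFlat_left (X : CochainComplex (ModSite.Mod O) ℤ)
    (hX : ModSite.IsKFlat X) {K₁ K₂ : CochainComplex (ModSite.Mod O) ℤ} (f : K₁ ⟶ K₂)
    [QuasiIso f] : QuasiIso (mapR (ModSite.tensorBi O) X f) :=
  quasiIso_map_of_acyc_cylSC (funR (ModSite.tensorBi O) X)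
    (fun e => (funRHomotopyEquiv (ModSite.tensorBi O) X e).quasiIso_hom)
    (fun _ hS => shortExact_funR_of_dSplit (ModSite.tensorBi O) X hS) f
    ((acyc_T_symm_site O X _).2 (hX _ (acyc_cylSC_X₃ f)))

/-- for `P` K-flat, `- ⊗ P` inverts all quasi-isomorphisms -/
lemma isInvertedBy_tensorCxQ (P : CochainComplex (ModSite.Mod O) ℤ) (hP : ModSite.IsKFlat P) :
    (qis O).IsInvertedBy (ModSite.tensorCxQ P) := by
  intro X Y s hs
  haveI : QuasiIso s := (HomologicalComplex.mem_quasiIso_iff _).1 hs
  haveI : QuasiIso (mapL (ModSite.tensorBi O) s P) := quasiIso_mapL_of_isKFlat O hP s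
  exact inferInstanceAs (IsIso (DerivedCategory.Q.map (mapL (ModSite.tensorBi O) s P)))

section Res

variable (E : CochainComplex (ModSite.Mod O) ℤ) [ModSite.HasLTensorCx E]
  {P : CochainComplex (ModSite.Mod O) ℤ} (ψ : P ⟶ E) [QuasiIso ψ] (hP : ModSite.IsKFlat P)

/-- the functor `D(O) ⥤ D(O)` induced by `- ⊗ P` for `P` K-flat -/
noncomputable def tensD (P : CochainComplex (ModSite.Mod O) ℤ) (hP : ModSite.IsKFlat P) :
    DerivedCategory (ModSite.Mod O) ⥤ DerivedCategory (ModSite.Mod O) :=
  Localization.lift (ModSite.tensorCxQ P) (isInvertedBy_tensorCxQ P hP) DerivedCategory.Q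

/-- `Q ⋙ tensD P ≅ - ⊗ P` -/
noncomputable def tensDIso (P : CochainComplex (ModSite.Mod O) ℤ) (hP : ModSite.IsKFlat P) :
    DerivedCategory.Q ⋙ tensD P hP ≅ ModSite.tensorCxQ P :=
  Localization.fac _ _ _

/-- the natural transformation `- ⊗ P ⟶ - ⊗ E` induced by `ψ` -/
noncomputable def tensNat : ModSite.tensorCxQ P ⟶ ModSite.tensorCxQ E :=
  Functor.whiskerRight ((ModSite.tensorCx O).flip.map ψ) DerivedCategory.Q

omit [ModSite.HasLTensorCx E] [QuasiIso ψ] in
lemma tensNat_app (X : CochainComplex (ModSite.Mod O) ℤ) :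
    (tensNat E ψ).app X = DerivedCategory.Q.map (mapR (ModSite.tensorBi O) X ψ) := rfl

/-- the structure map exhibiting `tensD P` as a left derived functor of `- ⊗ E` -/
noncomputable def resα : DerivedCategory.Q ⋙ tensD P hP ⟶ ModSite.tensorCxQ E :=
  (tensDIso P hP).hom ≫ tensNat E ψ

instance isLeftDerivedFunctor_tensD :
    (tensD P hP).IsLeftDerivedFunctor (resα E ψ hP) (qis O) := by
  refine isLeftDerivedFunctor_of_isIso (invertsKFlat_tensorCxQ E) _ (fun X hX => ?_)
  haveI : QuasiIso (mapR (ModSite.tensorBi O) X ψ) := quasiIso_mapR_of_isKFlat_left X hX ψ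
  haveI : IsIso ((tensNat E ψ).app X) := by
    rw [tensNat_app]
    exact (DerivedCategory.isIso_Q_map_iff_quasiIso _ _).2 inferInstance
  change IsIso ((tensDIso P hP).hom.app X ≫ (tensNat E ψ).app X)
  infer_instance

/-- **`- ⊗^L E` is computed by `- ⊗ P` for a K-flat resolution `P → E`.** -/
noncomputable def LTensorCxResIso :
    DerivedCategory.Q ⋙ ModSite.LTensorCx E ≅ ModSite.tensorCxQ P :=
  Functor.isoWhiskerLeft DerivedCategory.Q
    (Functor.leftDerivedUnique (tensD P hP) (ModSite.LTensorCx E) (LTensorCxCounit E)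
      (resα E ψ hP) (qis O)) ≪≫ tensDIso P hP

end Res

section Tor

variable (P : CochainComplex (ModSite.Mod O) ℤ)

/-- `M ↦ H^i(M ⊗ P)` (termwise tensor product) -/
noncomputable def torF (i : ℤ) : ModSite.Mod O ⥤ ModSite.Mod O :=
  tw (ModSite.tensorBi O) P ⋙ HomologicalComplex.homologyFunctor _ _ i

instance (i : ℤ) : (torF P i).Additive := by
  unfold torF
  infer_instance

/-- **`H^i(M ⊗^L E)` is `H^i(M ⊗ P)` for a K-flat resolution `P → E`, naturally in `M`.** -/
noncomputable def singleLTensorHomologyIso (E : CochainComplex (ModSite.Mod O) ℤ)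
    [ModSite.HasLTensorCx E] (ψ : P ⟶ E) [QuasiIso ψ] (hP : ModSite.IsKFlat P) (i : ℤ) :
    DerivedCategory.singleFunctor (ModSite.Mod O) 0 ⋙ ModSite.LTensorCx E ⋙
      DerivedCategory.homologyFunctor (ModSite.Mod O) i ≅ torF P i :=
  Functor.isoWhiskerRight (DerivedCategory.singleFunctorIsoCompQ (ModSite.Mod O) 0)
      (ModSite.LTensorCx E ⋙ DerivedCategory.homologyFunctor (ModSite.Mod O) i) ≪≫
    Functor.associator _ _ _ ≪≫
    Functor.isoWhiskerLeft (CochainComplex.singleFunctor (ModSite.Mod O) 0)
      ((Functor.associator _ _ _).symm ≪≫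
        Functor.isoWhiskerRight (LTensorCxResIso E ψ hP)
          (DerivedCategory.homologyFunctor (ModSite.Mod O) i) ≪≫
        Functor.associator _ _ _ ≪≫
        Functor.isoWhiskerLeft (funL (ModSite.tensorBi O) P)
          (DerivedCategory.homologyFunctorFactors (ModSite.Mod O) i)) ≪≫
    (Functor.associator _ _ _).symm ≪≫
    Functor.isoWhiskerRight (twIso (ModSite.tensorBi O) P).symm
      (HomologicalComplex.homologyFunctor _ _ i)

end Tor

section LES

open Groth.Agent.Lib.Helper1.ModFlat

variable (P : CochainComplex (ModSite.Mod O) ℤ) (hP : ∀ n : ℤ, ModSite.IsFlat (P.X n))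

include hP in
/-- `M ↦ M ⊗ P` (termwise) is exact when `P` has flat terms -/
theorem shortExact_map_tw (S : ShortComplex (ModSite.Mod O)) (hS : S.ShortExact) :
    (S.map (tw (ModSite.tensorBi O) P)).ShortExact := by
  apply HomologicalComplex.shortExact_of_degreewise_shortExact
  intro n
  haveI := (hP n).1
  haveI := (hP n).2
  exact hS.map_of_exact ((ModSite.tensorBi O).flip.obj (P.X n))

include hP in
theorem torF_rightExact_iff_δ (p : ℤ) :
    PreservesFiniteColimits (torF P p) ↔
      ∀ (S : ShortComplex (ModSite.Mod O)) (hS : S.ShortExact),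
        (shortExact_map_tw P hP S hS).δ p (p + 1) rfl = 0 := by
  rw [Functor.preservesFiniteColimits_iff_forall_exact_map_and_epi]
  constructor
  · intro h S hS
    have h2 : Epi ((torF P p).map S.g) := (h S hS).2
    exact (((shortExact_map_tw P hP S hS).homology_exact₃ p (p + 1) rfl).epi_f_iff).1 h2
  · intro h S hS
    refine ⟨(shortExact_map_tw P hP S hS).homology_exact₂ p, ?_⟩
    exact (((shortExact_map_tw P hP S hS).homology_exact₃ p (p + 1) rfl).epi_f_iff).2 (h S hS)

include hP in
theorem torF_leftExact_iff_δ (p : ℤ) :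
    PreservesFiniteLimits (torF P (p + 1)) ↔
      ∀ (S : ShortComplex (ModSite.Mod O)) (hS : S.ShortExact),
        (shortExact_map_tw P hP S hS).δ p (p + 1) rfl = 0 := by
  rw [Functor.preservesFiniteLimits_iff_forall_exact_map_and_mono]
  constructor
  · intro h S hS
    have h2 : Mono ((torF P (p + 1)).map S.f) := (h S hS).2
    exact (((shortExact_map_tw P hP S hS).homology_exact₁ p (p + 1) rfl).mono_g_iff).1 h2
  · intro h S hS
    refine ⟨(shortExact_map_tw P hP S hS).homology_exact₂ (p + 1), ?_⟩
    exact (((shortExact_map_tw P hP S hS).homology_exact₁ p (p + 1) rfl).mono_g_iff).2 (h S hS)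

include hP in
/-- **`M ↦ H^p(M ⊗ P)` is right exact iff `M ↦ H^{p+1}(M ⊗ P)` is left exact.** -/
theorem torF_rightExact_iff_leftExact (p : ℤ) :
    PreservesFiniteColimits (torF P p) ↔ PreservesFiniteLimits (torF P (p + 1)) :=
  (torF_rightExact_iff_δ P hP p).trans (torF_leftExact_iff_δ P hP p).symm

include hP in
theorem torF_leftExact_iff_mono (q : ℤ) :
    PreservesFiniteLimits (torF P q) ↔
      ∀ {M' M : ModSite.Mod O} (f : M' ⟶ M) [Mono f], Mono ((torF P q).map f) := by
  rw [Functor.preservesFiniteLimits_iff_forall_exact_map_and_mono]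
  constructor
  · intro h M' M f _
    exact (h (ShortComplex.mk f (cokernel.π f) (cokernel.condition f))
      { exact := ShortComplex.exact_cokernel f }).2
  · intro h S hS
    haveI := hS.mono_f
    exact ⟨(shortExact_map_tw P hP S hS).homology_exact₂ q, h S.f⟩

/-- `M ⊗ coker(d)` is the cokernel of `M ⊗ d` -/
noncomputable def opcyclesIso (M : ModSite.Mod O) (p : ℤ) :
    ((ModSite.tensorBi O).obj M).obj (cokernel (P.d p (p + 1))) ≅
      ((tw (ModSite.tensorBi O) P).obj M).opcycles (p + 1) :=
  IsColimit.coconePointUniqueUpToIso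
    (CokernelCofork.mapIsColimit _ (cokernelIsCokernel (P.d p (p + 1)))
      ((ModSite.tensorBi O).obj M))
    (((tw (ModSite.tensorBi O) P).obj M).opcyclesIsCokernel p (p + 1) (by simp))

@[reassoc]
lemma π_opcyclesIso_hom (M : ModSite.Mod O) (p : ℤ) :
    ((ModSite.tensorBi O).obj M).map (cokernel.π (P.d p (p + 1))) ≫ (opcyclesIso P M p).hom =
      ((tw (ModSite.tensorBi O) P).obj M).pOpcycles (p + 1) :=
  IsColimit.comp_coconePointUniqueUpToIso_hom
    (CokernelCofork.mapIsColimit _ (cokernelIsCokernel (P.d p (p + 1)))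
      ((ModSite.tensorBi O).obj M))
    (((tw (ModSite.tensorBi O) P).obj M).opcyclesIsCokernel p (p + 1) (by simp))
    WalkingParallelPair.one

lemma opcyclesIso_naturality {M' M : ModSite.Mod O} (f : M' ⟶ M) (p : ℤ) :
    ((ModSite.tensorBi O).map f).app (cokernel (P.d p (p + 1))) ≫ (opcyclesIso P M p).hom =
      (opcyclesIso P M' p).hom ≫
        HomologicalComplex.opcyclesMap ((tw (ModSite.tensorBi O) P).map f) (p + 1) := by
  haveI : Epi (((ModSite.tensorBi O).obj M').map (cokernel.π (P.d p (p + 1)))) :=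
    inferInstance
  rw [← cancel_epi (((ModSite.tensorBi O).obj M').map (cokernel.π (P.d p (p + 1))))]
  have h1 := π_opcyclesIso_hom P M' p
  have h2 := π_opcyclesIso_hom P M p
  have h3 := HomologicalComplex.p_opcyclesMap ((tw (ModSite.tensorBi O) P).map f) (p + 1)
  have h4 := ((ModSite.tensorBi O).map f).naturality (cokernel.π (P.d p (p + 1)))
  have hL : ((ModSite.tensorBi O).obj M').map (cokernel.π (P.d p (p + 1))) ≫
      ((ModSite.tensorBi O).map f).app (cokernel (P.d p (p + 1))) ≫ (opcyclesIso P M p).hom =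
      ((ModSite.tensorBi O).map f).app (P.X (p + 1)) ≫
        ((tw (ModSite.tensorBi O) P).obj M).pOpcycles (p + 1) := by
    rw [← Category.assoc, h4, Category.assoc, h2]
  have hR : ((ModSite.tensorBi O).obj M').map (cokernel.π (P.d p (p + 1))) ≫
      (opcyclesIso P M' p).hom ≫
        HomologicalComplex.opcyclesMap ((tw (ModSite.tensorBi O) P).map f) (p + 1) =
      ((ModSite.tensorBi O).map f).app (P.X (p + 1)) ≫
        ((tw (ModSite.tensorBi O) P).obj M).pOpcycles (p + 1) := by
    rw [← Category.assoc, h1]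
    exact h3
  exact hL.trans hR.symm

lemma opcyclesMap_fromOpcycles {K L : CochainComplex (ModSite.Mod O) ℤ} (φ : K ⟶ L) (i j : ℤ) :
    HomologicalComplex.opcyclesMap φ i ≫ L.fromOpcycles i j = K.fromOpcycles i j ≫ φ.f j := by
  rw [← cancel_epi (K.pOpcycles i), HomologicalComplex.p_opcyclesMap_assoc,
    HomologicalComplex.p_fromOpcycles, HomologicalComplex.p_fromOpcycles_assoc, φ.comm]

include hP in
/-- **`M ↦ H^{p+1}(M ⊗ P)` is left exact iff `coker(P^p → P^{p+1})` is flat** (`P` with flat
terms). -/
theorem torF_leftExact_iff_isFlat_cokernel (p : ℤ) :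
    PreservesFiniteLimits (torF P (p + 1)) ↔ ModSite.IsFlat (cokernel (P.d p (p + 1))) := by
  rw [torF_leftExact_iff_mono P hP, isFlat_iff]
  constructor
  · intro h
    constructor
    intro M' M f hf
    change Mono (((ModSite.tensorBi O).map f).app (cokernel (P.d p (p + 1))))
    let φ := (tw (ModSite.tensorBi O) P).map f
    suffices hm : Mono (HomologicalComplex.opcyclesMap φ (p + 1)) by
      have e := opcyclesIso_naturality P f p
      have : ((ModSite.tensorBi O).map f).app (cokernel (P.d p (p + 1))) =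
          ((opcyclesIso P M' p).hom ≫ HomologicalComplex.opcyclesMap φ (p + 1)) ≫
            (opcyclesIso P M p).inv := by
        rw [← e, Category.assoc, Iso.hom_inv_id, Category.comp_id]
      rw [this]
      infer_instance
    haveI hmh : Mono (HomologicalComplex.homologyMap φ (p + 1)) := h f
    haveI hm2 : Mono (φ.f (p + 1 + 1)) := by
      haveI := (isFlat_iff O (P.X (p + 1 + 1))).1 (hP _)
      exact inferInstanceAs (Mono ((tens O (P.X (p + 1 + 1))).map f))
    apply Preadditive.mono_of_cancel_zero
    intro A g hg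
    have h1 : g ≫ ((tw (ModSite.tensorBi O) P).obj M').fromOpcycles (p + 1) (p + 1 + 1) = 0 := by
      rw [← cancel_mono (φ.f (p + 1 + 1)), Category.assoc,
        ← opcyclesMap_fromOpcycles, reassoc_of% hg, zero_comp, zero_comp]
    let g' := (((tw (ModSite.tensorBi O) P).obj M').homologyIsKernel (p + 1) (p + 1 + 1)
      (by simp)).lift (KernelFork.ofι g h1)
    have hg' : g' ≫ ((tw (ModSite.tensorBi O) P).obj M').homologyι (p + 1) = g :=
      (((tw (ModSite.tensorBi O) P).obj M').homologyIsKernel (p + 1) (p + 1 + 1)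
        (by simp)).fac (KernelFork.ofι g h1) WalkingParallelPair.zero
    have h2 : g' ≫ HomologicalComplex.homologyMap φ (p + 1) = 0 := by
      rw [← cancel_mono (((tw (ModSite.tensorBi O) P).obj M).homologyι (p + 1)), Category.assoc,
        HomologicalComplex.homologyι_naturality, reassoc_of% hg', hg, zero_comp]
    have h3 : g' = 0 := by
      rw [← cancel_mono (HomologicalComplex.homologyMap φ (p + 1)), h2, zero_comp]
    rw [← hg', h3, zero_comp]
  · intro h M' M f _
    let φ := (tw (ModSite.tensorBi O) P).map f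
    change Mono (HomologicalComplex.homologyMap φ (p + 1))
    haveI : Mono (HomologicalComplex.opcyclesMap φ (p + 1)) := by
      have e := opcyclesIso_naturality P f p
      have : HomologicalComplex.opcyclesMap φ (p + 1) =
          (opcyclesIso P M' p).inv ≫ ((ModSite.tensorBi O).map f).app (cokernel (P.d p (p + 1))) ≫
            (opcyclesIso P M p).hom := by
        rw [e, Iso.inv_hom_id_assoc]
      rw [this]
      haveI : Mono (((ModSite.tensorBi O).map f).app (cokernel (P.d p (p + 1)))) :=
        inferInstanceAs (Mono ((tens O (cokernel (P.d p (p + 1)))).map f))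
      infer_instance
    haveI : Mono (HomologicalComplex.homologyMap φ (p + 1) ≫
        ((tw (ModSite.tensorBi O) P).obj M).homologyι (p + 1)) := by
      rw [HomologicalComplex.homologyι_naturality]
      infer_instance
    exact mono_of_mono _ (((tw (ModSite.tensorBi O) P).obj M).homologyι (p + 1))

end LES

end Groth.Agent.Lib.Helper1.KFlatSite
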