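import Groth.Agent.Lib.Helper1.Koszul
import Mathlib.LinearAlgebra.Finsupp.Supported
import Mathlib.RingTheory.Ideal.Span
import Mathlib.RingTheory.Ideal.Operations

set_option autoImplicit false
universe u

namespace Groth.Agent.Lib.Helper1.Koszul

open Finsupp

variable {S : Type u} [CommRing S] {n : ℕ} (z : Fin n → S)

lemma single_tot_sub_mem (i₀ : Fin n) (d : Fin n →₀ S) :
    single i₀ (tot z d) - z i₀ • d ∈ K z := by
  induction d using Finsupp.induction_linear with
  | zero => simp
  | add f g hf hg =>
    rw [map_add, single_add, smul_add, add_sub_add_comm]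
    exact Submodule.add_mem _ hf hg
  | single k b =>
    have h1 : single i₀ (tot z (single k b)) - z i₀ • single k b =
        b • (single i₀ (z k) - single k (z i₀)) := by
      rw [tot_single, smul_sub, smul_single, smul_single, smul_single, smul_eq_mul, smul_eq_mul,
        smul_eq_mul, mul_comm (z i₀) b]
    rw [h1]
    exact Submodule.smul_mem _ _ (Submodule.subset_span ⟨k, i₀, rfl⟩)

/-- Relations among a (weakly) regular sequence are Koszul. -/
theorem mem_K_of_regular
    (H : ∀ (i : Fin n) (a : S), z i * a ∈ Ideal.span (z '' {k | k < i}) →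
      a ∈ Ideal.span (z '' {k | k < i})) :
    ∀ m, m ≤ n → ∀ c : Fin n →₀ S, (∀ k ∈ c.support, k.val < m) → tot z c = 0 → c ∈ K z := by
  intro m
  induction m with
  | zero =>
    intro _ c hc _
    have : c = 0 := by
      rw [← Finsupp.support_eq_empty, Finset.eq_empty_iff_forall_notMem]
      intro k hk
      exact Nat.not_lt_zero _ (hc k hk)
    rw [this]
    exact Submodule.zero_mem _
  | succ m ih =>
    intro hm c hc hc0
    classical
    let i₀ : Fin n := ⟨m, hm⟩
    have hsupp' : ∀ k ∈ (c.erase i₀).support, k.val < m := by
      intro k hk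
      rw [Finsupp.support_erase, Finset.mem_erase] at hk
      have h1 := hc k hk.2
      have h2 : k.val ≠ m := fun h => hk.1 (Fin.ext h)
      omega
    have hdecomp : c = c.erase i₀ + single i₀ (c i₀) := by
      rw [add_comm]; exact (Finsupp.single_add_erase i₀ c).symm
    have htot : tot z (c.erase i₀) + c i₀ * z i₀ = 0 := by
      rw [← tot_single, ← map_add, ← hdecomp, hc0]
    have hmem : tot z (c.erase i₀) ∈ Ideal.span (z '' {k | k < i₀}) := by
      rw [tot, Finsupp.linearCombination_apply, Finsupp.sum]
      refine Submodule.sum_mem _ fun k hk => ?_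
      rw [smul_eq_mul]
      refine Ideal.mul_mem_left _ _ (Ideal.subset_span ⟨k, ?_, rfl⟩)
      exact hsupp' k hk
    have ha : c i₀ ∈ Ideal.span (z '' {k | k < i₀}) := by
      apply H i₀
      have : z i₀ * c i₀ = - tot z (c.erase i₀) := by linear_combination htot
      rw [this]
      exact Ideal.neg_mem_iff _ |>.2 hmem
    obtain ⟨d, hd, hda⟩ := (Finsupp.mem_span_image_iff_linearCombination S).1 ha
    have hK := single_tot_sub_mem z i₀ d
    have hda' : tot z d = c i₀ := hda
    rw [hda'] at hK
    have hc'' : c.erase i₀ + z i₀ • d ∈ K z := by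
      apply ih (Nat.le_of_succ_le hm)
      · intro k hk
        have := Finsupp.support_add hk
        rcases Finset.mem_union.1 this with h | h
        · exact hsupp' k h
        · have h1 : k ∈ d.support := Finsupp.support_smul h
          exact (Finsupp.mem_supported _ _).1 hd h1
      · have h1 := K_le_ker z hK
        rw [LinearMap.mem_ker, map_sub, tot_single] at h1
        rw [map_add]
        linear_combination htot - h1
    have : c = (c.erase i₀ + z i₀ • d) + (single i₀ (c i₀) - z i₀ • d) := by
      nth_rewrite 1 [hdecomp]; abel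
    rw [this]
    exact Submodule.add_mem _ hc'' hK

end Groth.Agent.Lib.Helper1.Koszul
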