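import Mathlib
import Groth.Agent.Lib.Helper20.GaCharIface

/-!
# Lazard lemma: bridge between polynomial identities and coefficient identities (helper1)
-/

set_option autoImplicit false

namespace Groth.Agent.Lib.Helper1.LazBridge

open MvPolynomial

variable {R : Type*} [CommRing R]

/-- exponent vector `(i,j)` -/
noncomputable def e2 (i j : ℕ) : Fin 2 →₀ ℕ := Finsupp.single 0 i + Finsupp.single 1 j

/-- exponent vector `(i,j,k)` -/
noncomputable def e3 (i j k : ℕ) : Fin 3 →₀ ℕ :=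
  Finsupp.single 0 i + Finsupp.single 1 j + Finsupp.single 2 k

@[simp] lemma e2_zero (i j : ℕ) : e2 i j 0 = i := by simp [e2]
@[simp] lemma e2_one (i j : ℕ) : e2 i j 1 = j := by simp [e2]
@[simp] lemma e3_zero (i j k : ℕ) : e3 i j k 0 = i := by simp [e3]
@[simp] lemma e3_one (i j k : ℕ) : e3 i j k 1 = j := by simp [e3]
@[simp] lemma e3_two (i j k : ℕ) : e3 i j k 2 = k := by simp [e3]

lemma e2_eta (e : Fin 2 →₀ ℕ) : e2 (e 0) (e 1) = e := by
  ext t; fin_cases t <;> simp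

lemma e3_eta (e : Fin 3 →₀ ℕ) : e3 (e 0) (e 1) (e 2) = e := by
  ext t; fin_cases t <;> simp

lemma e2_inj {a b i j : ℕ} : e2 a b = e2 i j ↔ a = i ∧ b = j := by
  constructor
  · intro h
    have h0 := DFunLike.congr_fun h 0
    have h1 := DFunLike.congr_fun h 1
    simp at h0 h1
    exact ⟨h0, h1⟩
  · rintro ⟨rfl, rfl⟩; rfl

lemma e3_inj {a b c i j k : ℕ} : e3 a b c = e3 i j k ↔ a = i ∧ b = j ∧ c = k := by
  constructor
  · intro h
    have h0 := DFunLike.congr_fun h 0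
    have h1 := DFunLike.congr_fun h 1
    have h2 := DFunLike.congr_fun h 2
    simp at h0 h1 h2
    exact ⟨h0, h1, h2⟩
  · rintro ⟨rfl, rfl, rfl⟩; rfl

lemma X_pow_two (a b : ℕ) :
    (X 0 : MvPolynomial (Fin 2) R) ^ a * X 1 ^ b = monomial (e2 a b) 1 := by
  rw [X_pow_eq_monomial, X_pow_eq_monomial, monomial_mul, one_mul]; rfl

lemma X_pow_three (a b c : ℕ) :
    (X 0 : MvPolynomial (Fin 3) R) ^ a * X 1 ^ b * X 2 ^ c = monomial (e3 a b c) 1 := by
  rw [X_pow_eq_monomial, X_pow_eq_monomial, X_pow_eq_monomial, monomial_mul, monomial_mul,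
    one_mul, one_mul]; rfl

/-- general coefficient formula for `aeval` on a 2-variable polynomial -/
lemma coeff_aeval_two {σ : Type*} (v : Fin 2 → MvPolynomial σ R) (F : MvPolynomial (Fin 2) R)
    (e : σ →₀ ℕ) :
    coeff e (aeval v F) = ∑ m ∈ F.support, coeff m F * coeff e (v 0 ^ m 0 * v 1 ^ m 1) := by
  rw [aeval_def, eval₂_eq', coeff_sum]
  apply Finset.sum_congr rfl
  intro m _
  rw [Fin.prod_univ_two, algebraMap_eq, coeff_C_mul]

lemma sum_collapse (F : MvPolynomial (Fin 2) R) (a b : ℕ) (K : R) :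
    ∑ m ∈ F.support, coeff m F * (if (m 0 = a ∧ m 1 = b) then K else 0) =
      coeff (e2 a b) F * K := by
  by_cases h : e2 a b ∈ F.support
  · rw [Finset.sum_eq_single (e2 a b)]
    · simp
    · intro m _ hm
      rw [if_neg, mul_zero]
      rintro ⟨rfl, rfl⟩
      exact hm (e2_eta m).symm
    · intro h'; exact absurd h h'
  · rw [notMem_support_iff.mp h, zero_mul]
    apply Finset.sum_eq_zero
    intro m hm
    by_cases hc : m 0 = a ∧ m 1 = b
    · obtain ⟨rfl, rfl⟩ := hc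
      rw [e2_eta] at h
      exact absurd hm h
    · rw [if_neg hc, mul_zero]


/-- coefficient of `X0^a (X1+X2)^b` -/
lemma coeff_C1 (a b i j k : ℕ) :
    coeff (e3 i j k) ((X 0 : MvPolynomial (Fin 3) R) ^ a * (X 1 + X 2) ^ b) =
      if (a = i ∧ b = j + k) then ((b.choose j : ℕ) : R) else 0 := by
  rw [add_pow, Finset.mul_sum, coeff_sum]
  have hterm : ∀ t, coeff (e3 i j k) ((X 0 : MvPolynomial (Fin 3) R) ^ a *
      (X 1 ^ t * X 2 ^ (b - t) * ((b.choose t : ℕ) : MvPolynomial (Fin 3) R))) =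
      if (a = i ∧ t = j ∧ b - t = k) then ((b.choose t : ℕ) : R) else 0 := by
    intro t
    have : (X 0 : MvPolynomial (Fin 3) R) ^ a *
      (X 1 ^ t * X 2 ^ (b - t) * ((b.choose t : ℕ) : MvPolynomial (Fin 3) R)) =
      C ((b.choose t : ℕ) : R) * (X 0 ^ a * X 1 ^ t * X 2 ^ (b - t)) := by
      rw [map_natCast]; ring
    rw [this, coeff_C_mul, X_pow_three, coeff_monomial]
    by_cases h : a = i ∧ t = j ∧ b - t = k
    · rw [if_pos h, if_pos (e3_inj.mpr h), mul_one]
    · rw [if_neg h, if_neg (fun h' => h (e3_inj.mp h')), mul_zero]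
  simp only [hterm]
  by_cases h : a = i ∧ b = j + k
  · obtain ⟨rfl, rfl⟩ := h
    rw [if_pos ⟨rfl, rfl⟩, Finset.sum_eq_single j]
    · rw [if_pos ⟨rfl, rfl, by omega⟩]
    · intro t _ ht
      rw [if_neg]; rintro ⟨-, h2, -⟩; exact ht h2
    · intro h; exact absurd (Finset.mem_range.mpr (by omega)) h
  · rw [if_neg h]
    apply Finset.sum_eq_zero
    intro t ht
    rw [Finset.mem_range] at ht
    rw [if_neg]
    rintro ⟨h1, h2, h3⟩
    exact h ⟨h1, by omega⟩

/-- coefficient of `(X0+X1)^a X2^b` -/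
lemma coeff_C3 (a b i j k : ℕ) :
    coeff (e3 i j k) (((X 0 : MvPolynomial (Fin 3) R) + X 1) ^ a * X 2 ^ b) =
      if (a = i + j ∧ b = k) then ((a.choose i : ℕ) : R) else 0 := by
  rw [add_pow, Finset.sum_mul, coeff_sum]
  have hterm : ∀ t, coeff (e3 i j k) ((X 0 : MvPolynomial (Fin 3) R) ^ t * X 1 ^ (a - t) *
      ((a.choose t : ℕ) : MvPolynomial (Fin 3) R) * X 2 ^ b) =
      if (t = i ∧ a - t = j ∧ b = k) then ((a.choose t : ℕ) : R) else 0 := by
    intro t
    have : (X 0 : MvPolynomial (Fin 3) R) ^ t * X 1 ^ (a - t) *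
      ((a.choose t : ℕ) : MvPolynomial (Fin 3) R) * X 2 ^ b =
      C ((a.choose t : ℕ) : R) * (X 0 ^ t * X 1 ^ (a - t) * X 2 ^ b) := by
      rw [map_natCast]; ring
    rw [this, coeff_C_mul, X_pow_three, coeff_monomial]
    by_cases h : t = i ∧ a - t = j ∧ b = k
    · rw [if_pos h, if_pos (e3_inj.mpr h), mul_one]
    · rw [if_neg h, if_neg (fun h' => h (e3_inj.mp h')), mul_zero]
  simp only [hterm]
  by_cases h : a = i + j ∧ b = k
  · obtain ⟨rfl, rfl⟩ := h
    rw [if_pos ⟨rfl, rfl⟩, Finset.sum_eq_single i]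
    · rw [if_pos ⟨rfl, by omega, rfl⟩]
    · intro t _ ht
      rw [if_neg]; rintro ⟨h2, -, -⟩; exact ht h2
    · intro h; exact absurd (Finset.mem_range.mpr (by omega)) h
  · rw [if_neg h]
    apply Finset.sum_eq_zero
    intro t ht
    rw [Finset.mem_range] at ht
    rw [if_neg]
    rintro ⟨h1, h2, h3⟩
    exact h ⟨by omega, h3⟩

/-- coefficient of `X1^a X2^b` -/
lemma coeff_C2 (a b i j k : ℕ) :
    coeff (e3 i j k) ((X 1 : MvPolynomial (Fin 3) R) ^ a * X 2 ^ b) =
      if (a = j ∧ b = k) then (if i = 0 then 1 else 0) else 0 := by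
  have : (X 1 : MvPolynomial (Fin 3) R) ^ a * X 2 ^ b = X 0 ^ 0 * X 1 ^ a * X 2 ^ b := by
    rw [pow_zero, one_mul]
  rw [this, X_pow_three, coeff_monomial]
  simp only [e3_inj]
  by_cases h1 : a = j <;> by_cases h2 : b = k <;> by_cases hi : i = 0 <;>
    simp [h1, h2, hi, Ne.symm]

/-- coefficient of `X0^a X1^b` -/
lemma coeff_C4 (a b i j k : ℕ) :
    coeff (e3 i j k) ((X 0 : MvPolynomial (Fin 3) R) ^ a * X 1 ^ b) =
      if (a = i ∧ b = j) then (if k = 0 then 1 else 0) else 0 := by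
  have : (X 0 : MvPolynomial (Fin 3) R) ^ a * X 1 ^ b = X 0 ^ a * X 1 ^ b * X 2 ^ 0 := by
    rw [pow_zero, mul_one]
  rw [this, X_pow_three, coeff_monomial]
  simp only [e3_inj]
  by_cases h1 : a = i <;> by_cases h2 : b = j <;> by_cases hk : k = 0 <;>
    simp [h1, h2, hk, Ne.symm]

/-- the additive 2-cocycle defect of a polynomial in two variables -/
noncomputable def coc3 (F : MvPolynomial (Fin 2) R) : MvPolynomial (Fin 3) R :=
  aeval ![X 0, X 1 + X 2] F + aeval ![X 1, X 2] F - aeval ![X 0 + X 1, X 2] F - aeval ![X 0, X 1] F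

lemma coeff_Phi1 (F : MvPolynomial (Fin 2) R) (i j k : ℕ) :
    coeff (e3 i j k) (aeval ![(X 0 : MvPolynomial (Fin 3) R), X 1 + X 2] F) =
      (((j + k).choose j : ℕ) : R) * coeff (e2 i (j + k)) F := by
  rw [coeff_aeval_two]
  simp only [Matrix.cons_val_zero, Matrix.cons_val_one, coeff_C1]
  have : ∀ m : Fin 2 →₀ ℕ, (if (m 0 = i ∧ m 1 = j + k) then (((m 1).choose j : ℕ) : R) else 0) =
      (if (m 0 = i ∧ m 1 = j + k) then (((j + k).choose j : ℕ) : R) else 0) := by
    intro m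
    by_cases h : m 0 = i ∧ m 1 = j + k
    · rw [if_pos h, if_pos h, h.2]
    · rw [if_neg h, if_neg h]
  simp only [this]
  rw [sum_collapse, mul_comm]

lemma coeff_Phi3 (F : MvPolynomial (Fin 2) R) (i j k : ℕ) :
    coeff (e3 i j k) (aeval ![(X 0 : MvPolynomial (Fin 3) R) + X 1, X 2] F) =
      (((i + j).choose i : ℕ) : R) * coeff (e2 (i + j) k) F := by
  rw [coeff_aeval_two]
  simp only [Matrix.cons_val_zero, Matrix.cons_val_one, coeff_C3]
  have : ∀ m : Fin 2 →₀ ℕ, (if (m 0 = i + j ∧ m 1 = k) then (((m 0).choose i : ℕ) : R) else 0) =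
      (if (m 0 = i + j ∧ m 1 = k) then (((i + j).choose i : ℕ) : R) else 0) := by
    intro m
    by_cases h : m 0 = i + j ∧ m 1 = k
    · rw [if_pos h, if_pos h, h.1]
    · rw [if_neg h, if_neg h]
  simp only [this]
  rw [sum_collapse, mul_comm]

lemma coeff_Phi2 (F : MvPolynomial (Fin 2) R) (i j k : ℕ) :
    coeff (e3 i j k) (aeval ![(X 1 : MvPolynomial (Fin 3) R), X 2] F) =
      if i = 0 then coeff (e2 j k) F else 0 := by
  rw [coeff_aeval_two]
  simp only [Matrix.cons_val_zero, Matrix.cons_val_one, coeff_C2]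
  rw [sum_collapse]
  by_cases hi : i = 0
  · rw [if_pos hi, if_pos hi, mul_one]
  · rw [if_neg hi, if_neg hi, mul_zero]

lemma coeff_Phi4 (F : MvPolynomial (Fin 2) R) (i j k : ℕ) :
    coeff (e3 i j k) (aeval ![(X 0 : MvPolynomial (Fin 3) R), X 1] F) =
      if k = 0 then coeff (e2 i j) F else 0 := by
  rw [coeff_aeval_two]
  simp only [Matrix.cons_val_zero, Matrix.cons_val_one, coeff_C4]
  rw [sum_collapse]
  by_cases hk : k = 0
  · rw [if_pos hk, if_pos hk, mul_one]
  · rw [if_neg hk, if_neg hk, mul_zero]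

lemma coeff_coc3 (F : MvPolynomial (Fin 2) R) (i j k : ℕ) :
    coeff (e3 i j k) (coc3 F) =
      (((j + k).choose j : ℕ) : R) * coeff (e2 i (j + k)) F
        + (if i = 0 then coeff (e2 j k) F else 0)
        - (((i + j).choose i : ℕ) : R) * coeff (e2 (i + j) k) F
        - (if k = 0 then coeff (e2 i j) F else 0) := by
  unfold coc3
  rw [coeff_sub, coeff_sub, coeff_add, coeff_Phi1, coeff_Phi2, coeff_Phi3, coeff_Phi4]

end Groth.Agent.Lib.Helper1.LazBridge
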