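import Mathlib

/-!
# Lazard's symmetric 2-cocycle lemma in characteristic `p`: coefficient level core (helper1)

`c : ℕ → ℕ → A` (coefficients of `X^i Y^j`), `(p : A) = 0`, symmetric, satisfying the coefficient
form of the additive 2-cocycle identity.  Then in each total degree `n`
`c i j = C(n,i) g + σ(i,j) r` for `i, j ≥ 1`, `i + j = n`, with `g, r` in any ideal containing
all the `c i j`.
-/

set_option autoImplicit false

namespace Groth.Agent.Lib.Helper1.LazCore

variable {p : ℕ} [hp : Fact p.Prime] {A : Type*} [CommRing A]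

omit hp in
lemma cast_eq_of_modEq (hp0 : (p : A) = 0) {a b : ℕ} (h : a ≡ b [MOD p]) :
    (a : A) = (b : A) := by
  have key : ∀ a : ℕ, (a : A) = ((a % p : ℕ) : A) := by
    intro a
    conv_lhs => rw [← Nat.div_add_mod a p]
    push_cast
    rw [hp0, zero_mul, zero_add]
  rw [key a, key b]
  exact congrArg _ h

lemma exists_inv (hp0 : (p : A) = 0) {m : ℕ} (hm : ¬ p ∣ m) :
    ∃ u : ℕ, (u : A) * (m : A) = 1 := by
  have hcop : Nat.Coprime m p := ((Nat.Prime.coprime_iff_not_dvd hp.out).mpr hm).symm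
  obtain ⟨u, -, hu⟩ := Nat.exists_mul_mod_eq_one_of_coprime hcop hp.out.one_lt
  refine ⟨u, ?_⟩
  have h1 : (m * u) ≡ 1 [MOD p] := by
    unfold Nat.ModEq; rw [hu, Nat.mod_eq_of_lt hp.out.one_lt]
  have h2 := cast_eq_of_modEq hp0 (A := A) h1
  push_cast at h2
  rw [mul_comm]; exact h2

omit hp in
lemma cast_eq_zero_of_dvd (hp0 : (p : A) = 0) {a : ℕ} (h : p ∣ a) : (a : A) = 0 := by
  obtain ⟨b, rfl⟩ := h
  push_cast; rw [hp0, zero_mul]

/-- coefficient of `X^i Y^j` in `S(X^q, Y^q)`, `S = ((X+Y)^p - X^p - Y^p)/p`, as a natural. -/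
def sigq (p q i j : ℕ) : ℕ :=
  ∑ m ∈ Finset.Ioo 0 p, if (i = q * m ∧ j = q * (p - m)) then p.choose m / p else 0

omit hp in
lemma sigq_ne_zero {q i j : ℕ} (h : sigq p q i j ≠ 0) :
    ∃ m, 0 < m ∧ m < p ∧ i = q * m ∧ j = q * (p - m) := by
  unfold sigq at h
  obtain ⟨m, hm, hne⟩ := Finset.exists_ne_zero_of_sum_ne_zero h
  rw [Finset.mem_Ioo] at hm
  by_cases hc : i = q * m ∧ j = q * (p - m)
  · exact ⟨m, hm.1, hm.2, hc.1, hc.2⟩
  · rw [if_neg hc] at hne; exact absurd rfl hne

omit hp in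
lemma sigq_eq {q m : ℕ} (hq : 0 < q) (hm0 : 0 < m) (hmp : m < p) :
    sigq p q (q * m) (q * (p - m)) = p.choose m / p := by
  unfold sigq
  rw [Finset.sum_eq_single m]
  · rw [if_pos ⟨rfl, rfl⟩]
  · intro b _ hb
    rw [if_neg]
    rintro ⟨h1, -⟩
    exact hb (Nat.eq_of_mul_eq_mul_left hq h1).symm
  · intro h
    exact absurd (Finset.mem_Ioo.mpr ⟨hm0, hmp⟩) h

omit hp in
lemma sigq_add {q i j : ℕ} (h : sigq p q i j ≠ 0) : i + j = q * p := by
  obtain ⟨m, hm0, hmp, rfl, rfl⟩ := sigq_ne_zero h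
  rw [← Nat.mul_add]; congr 1; omega

lemma sigq_mul (q i j : ℕ) : sigq p (p * q) (p * i) (p * j) = sigq p q i j := by
  unfold sigq
  apply Finset.sum_congr rfl
  intro m _
  have hpp : 0 < p := hp.out.pos
  have e1 : (p * i = p * q * m) ↔ (i = q * m) := by
    rw [mul_assoc]; exact ⟨fun h => Nat.eq_of_mul_eq_mul_left hpp h, fun h => by rw [h]⟩
  have e2 : (p * j = p * q * (p - m)) ↔ (j = q * (p - m)) := by
    rw [mul_assoc]; exact ⟨fun h => Nat.eq_of_mul_eq_mul_left hpp h, fun h => by rw [h]⟩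
  simp only [e1, e2]

/-- total `σ`: sum over all `q = p^k`, `k < K`. -/
def sigK (p K i j : ℕ) : ℕ := ∑ k ∈ Finset.range K, sigq p (p ^ k) i j

lemma sigK_mono {K K' i j : ℕ} (hK : i + j ≤ K) (hKK' : K ≤ K') :
    sigK p K' i j = sigK p K i j := by
  unfold sigK
  symm
  apply Finset.sum_subset (Finset.range_subset_range.mpr hKK')
  intro k hk hnk
  rw [Finset.mem_range] at hk hnk
  by_contra hne
  have h1 := sigq_add hne
  have h2 : k < p ^ k := Nat.lt_pow_self hp.out.one_lt
  have h3 : p ^ k * 1 < p ^ k * p :=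
    Nat.mul_lt_mul_of_pos_left hp.out.one_lt (pow_pos hp.out.pos k)
  omega


/-- the coefficient form of the additive 2-cocycle identity (interior part). -/
def IsCoc (c : ℕ → ℕ → A) : Prop :=
  ∀ i j k, 1 ≤ i → 1 ≤ k →
    ((j + k).choose j : A) * c i (j + k) = ((i + j).choose i : A) * c (i + j) k

omit hp in
lemma rel1 {c : ℕ → ℕ → A} (hc : IsCoc c) (i' j : ℕ) (hj : 1 ≤ j) :
    ((i' + 1 : ℕ) : A) * c (i' + 1) j = ((i' + j).choose i' : A) * c 1 (i' + j) := by
  have h := hc 1 i' j le_rfl hj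
  rw [Nat.choose_one_right, add_comm 1 i'] at h
  exact h.symm

omit hp in
lemma rel2 {c : ℕ → ℕ → A} (hc : IsCoc c) (hs : ∀ i j, c i j = c j i) (i' j' : ℕ) :
    ((i' + j' + 2 : ℕ) : A) * c (i' + 1) (j' + 1) =
      ((i' + j' + 2).choose (i' + 1) : A) * c 1 (i' + j' + 1) := by
  have h1 := rel1 hc i' (j' + 1) (by omega)
  have h2 := rel1 hc j' (i' + 1) (by omega)
  rw [hs (j' + 1) (i' + 1)] at h2
  have e1 : i' + (j' + 1) = i' + j' + 1 := by omega
  have e2 : j' + (i' + 1) = i' + j' + 1 := by omega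
  rw [e1] at h1
  rw [e2] at h2
  have hch : (i' + j' + 1).choose j' = (i' + j' + 1).choose (i' + 1) :=
    Nat.choose_symm_of_eq_add (by omega)
  have hpas : (i' + j' + 2).choose (i' + 1) =
      (i' + j' + 1).choose i' + (i' + j' + 1).choose (i' + 1) := Nat.choose_succ_succ' _ _
  rw [hch] at h2
  rw [hpas]
  have : ((i' + j' + 2 : ℕ) : A) = ((i' + 1 : ℕ) : A) + ((j' + 1 : ℕ) : A) := by
    push_cast; ring
  rw [this, add_mul, h1, h2]
  push_cast; ring

lemma choose_mul_self (n' i' : ℕ) : (p * n').choose (p * i') ≡ n'.choose i' [MOD p] := by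
  have h := Choose.choose_modEq_choose_mod_mul_choose_div_nat (p := p) (n := p * n') (k := p * i')
  rw [Nat.mul_mod_right, Nat.mul_mod_right, Nat.choose_self, one_mul,
    Nat.mul_div_cancel_left _ hp.out.pos, Nat.mul_div_cancel_left _ hp.out.pos] at h
  exact h

lemma choose_pred (n' : ℕ) (hn' : 1 ≤ n') : (p * n' - 1).choose (p - 1) ≡ 1 [MOD p] := by
  obtain ⟨m, rfl⟩ : ∃ m, n' = m + 1 := ⟨n' - 1, by omega⟩
  have hp1 : 1 ≤ p := hp.out.pos
  have e : p * (m + 1) - 1 = p * m + (p - 1) := by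
    rw [Nat.mul_succ]; omega
  have h := Choose.choose_modEq_choose_mod_mul_choose_div_nat (p := p) (n := p * (m+1) - 1)
    (k := p - 1)
  have hlt : p - 1 < p := by omega
  rw [e, Nat.mul_add_mod, Nat.mod_eq_of_lt hlt, Nat.choose_self, one_mul,
    Nat.div_eq_of_lt hlt, Nat.choose_zero_right] at h
  rw [e]; exact h

lemma choose_dvd_of_not_dvd {n i : ℕ} (hn : p ∣ n) (hi : ¬ p ∣ i) (hi0 : 1 ≤ i) :
    p ∣ n.choose i := by
  obtain ⟨i', rfl⟩ : ∃ i', i = i' + 1 := ⟨i - 1, by omega⟩
  rcases n with _ | n'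
  · simp
  have h := Nat.add_one_mul_choose_eq n' i'
  -- (n'+1) * C(n', i') = C(n'+1, i'+1) * (i'+1)
  have hd : p ∣ (n' + 1).choose (i' + 1) * (i' + 1) := by
    rw [← h]; exact Dvd.dvd.mul_right hn _
  exact ((Nat.Prime.dvd_mul hp.out).mp hd).resolve_right hi

lemma mul_choose_div (m : ℕ) (hm0 : 1 ≤ m) (hmp : m < p) :
    m * (p.choose m / p) = (p - 1).choose (m - 1) := by
  obtain ⟨m', rfl⟩ : ∃ m', m = m' + 1 := ⟨m - 1, by omega⟩
  obtain ⟨p', hp'⟩ : ∃ p', p = p' + 1 := ⟨p - 1, by have := hp.out.pos; omega⟩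
  have hdvd : p ∣ p.choose (m' + 1) := hp.out.dvd_choose_self (by omega) hmp
  obtain ⟨t, ht⟩ := hdvd
  have h := Nat.add_one_mul_choose_eq p' m'
  -- (p'+1) * C(p', m') = C(p'+1, m'+1) * (m'+1)
  rw [ht, Nat.mul_div_cancel_left _ hp.out.pos]
  have e1 : p - 1 = p' := by omega
  rw [e1, Nat.add_sub_cancel]
  rw [← hp', ht] at h
  have : p * (p'.choose m') = p * (t * (m' + 1)) := by rw [h]; ring
  have := Nat.eq_of_mul_eq_mul_left hp.out.pos this
  rw [this]; ring


lemma sigK_self (i j : ℕ) (hi : 1 ≤ i) (hj : 1 ≤ j) (hij : i + j = p) :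
    sigK p p i j = p.choose i / p := by
  unfold sigK
  rw [Finset.sum_eq_single 0]
  · have h := sigq_eq (p := p) (q := 1) (m := i) one_pos hi (by omega)
    rw [one_mul, one_mul] at h
    have hj' : j = p - i := by omega
    rw [pow_zero, hj']; exact h
  · intro k _ hk
    by_contra hne
    have h1 := sigq_add hne
    have h2 : p ^ 1 ≤ p ^ k := Nat.pow_le_pow_right hp.out.pos (by omega)
    have h3 : p * 2 ≤ p ^ k * p := by
      rw [pow_one] at h2
      calc p * 2 ≤ p * p := Nat.mul_le_mul_left _ hp.out.two_le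
        _ ≤ p ^ k * p := Nat.mul_le_mul_right _ h2
    have := hp.out.pos
    omega
  · intro h
    exact absurd (Finset.mem_range.mpr hp.out.pos) h

lemma sigK_of_not_dvd (K i j n' : ℕ) (hn' : 2 ≤ n') (hij : i + j = p * n') (hi : ¬ p ∣ i) :
    sigK p K i j = 0 := by
  unfold sigK
  apply Finset.sum_eq_zero
  intro k _
  by_contra hne
  obtain ⟨m, hm0, hmp, h1, h2⟩ := sigq_ne_zero hne
  have h3 := sigq_add hne
  rcases k with _ | k
  · rw [pow_zero, one_mul] at h3
    have : p * 2 ≤ p * n' := Nat.mul_le_mul_left _ hn'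
    have := hp.out.pos
    omega
  · apply hi
    rw [h1, pow_succ', mul_assoc]
    exact Dvd.intro _ rfl

lemma sigK_mul (K i' j' : ℕ) (hi' : 1 ≤ i') :
    sigK p (K + 1) (p * i') (p * j') = sigK p K i' j' := by
  unfold sigK
  rw [Finset.sum_range_succ']
  have h0 : sigq p (p ^ 0) (p * i') (p * j') = 0 := by
    by_contra hne
    obtain ⟨m, hm0, hmp, h1, h2⟩ := sigq_ne_zero hne
    rw [pow_zero, one_mul] at h1
    have : p * 1 ≤ p * i' := Nat.mul_le_mul_left _ hi'
    omega
  rw [h0, add_zero]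
  apply Finset.sum_congr rfl
  intro k _
  rw [pow_succ']
  exact sigq_mul _ _ _

theorem core (hp0 : (p : A) = 0) (I : Ideal A) :
    ∀ n : ℕ, ∀ c : ℕ → ℕ → A, (∀ i j, c i j ∈ I) → (∀ i j, c i j = c j i) → IsCoc c →
    ∃ g ∈ I, ∃ r ∈ I, ∀ i j, 1 ≤ i → 1 ≤ j → i + j = n →
      c i j = (n.choose i : A) * g + ((sigK p n i j : ℕ) : A) * r := by
  intro n
  induction n using Nat.strong_induction_on with
  | _ n ih =>
  intro c hcI hs hc
  by_cases hpn : p ∣ n
  swap
  · -- p ∤ n
    obtain ⟨u, hu⟩ := exists_inv hp0 (A := A) hpn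
    refine ⟨(u : A) * c 1 (n - 1), I.mul_mem_left _ (hcI _ _), 0, I.zero_mem, ?_⟩
    intro i j hi hj hij
    obtain ⟨i', rfl⟩ : ∃ i', i = i' + 1 := ⟨i - 1, by omega⟩
    obtain ⟨j', rfl⟩ : ∃ j', j = j' + 1 := ⟨j - 1, by omega⟩
    have hn : n = i' + j' + 2 := by omega
    subst hn
    have h2 := rel2 hc hs i' j'
    rw [mul_zero, add_zero]
    have e : i' + j' + 2 - 1 = i' + j' + 1 := by omega
    rw [e]
    calc c (i'+1) (j'+1) = ((u:A) * ((i'+j'+2 : ℕ) : A)) * c (i'+1) (j'+1) := by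
          rw [hu, one_mul]
      _ = (u:A) * (((i'+j'+2 : ℕ) : A) * c (i'+1) (j'+1)) := by ring
      _ = _ := by rw [h2]; ring
  · -- p ∣ n
    obtain ⟨n', rfl⟩ := hpn
    have hppos : 0 < p := hp.out.pos
    rcases Nat.lt_or_ge n' 2 with hn' | hn'
    · interval_cases n'
      · -- n = 0: vacuous
        exact ⟨0, I.zero_mem, 0, I.zero_mem, fun i j hi hj hij => by omega⟩
      · -- n = p
        rw [mul_one]
        refine ⟨0, I.zero_mem, c 1 (p - 1), hcI _ _, ?_⟩
        intro i j hi hj hij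
        rw [mul_zero, zero_add, sigK_self i j hi hj hij]
        obtain ⟨i', rfl⟩ : ∃ i', i = i' + 1 := ⟨i - 1, by omega⟩
        have h1 := rel1 hc i' j hj
        have e : i' + j = p - 1 := by omega
        rw [e] at h1
        have hnd : ¬ p ∣ (i' + 1) := Nat.not_dvd_of_pos_of_lt (by omega) (by omega)
        obtain ⟨u, hu⟩ := exists_inv hp0 (A := A) hnd
        have hm := mul_choose_div (p := p) (i' + 1) (by omega) (by omega)
        rw [Nat.add_sub_cancel] at hm
        calc c (i'+1) j = ((u:A) * ((i'+1 : ℕ) : A)) * c (i'+1) j := by rw [hu, one_mul]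
          _ = (u:A) * (((i'+1 : ℕ) : A) * c (i'+1) j) := by ring
          _ = (u:A) * ((((i' + 1) * (p.choose (i'+1) / p) : ℕ) : A) * c 1 (p - 1)) := by
              rw [h1, hm]
          _ = ((u:A) * ((i'+1 : ℕ) : A)) * (((p.choose (i'+1) / p : ℕ) : A) * c 1 (p - 1)) := by
              push_cast; ring
          _ = _ := by rw [hu, one_mul]
    · -- n = p n', n' ≥ 2
      have hnp : 1 ≤ p * n' - p := by
        have : p * 2 ≤ p * n' := Nat.mul_le_mul_left _ hn'
        omega
      have ha1 : c 1 (p * n' - 1) = 0 := by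
        have h1 := rel1 hc (p - 1) (p * n' - p) hnp
        have e1 : p - 1 + 1 = p := by omega
        have e2 : p - 1 + (p * n' - p) = p * n' - 1 := by omega
        rw [e1, e2, hp0, zero_mul] at h1
        have h2 := cast_eq_of_modEq hp0 (A := A) (choose_pred (p := p) n' (by omega))
        rw [h2, Nat.cast_one, one_mul] at h1
        exact h1.symm
      have hz : ∀ i j, 1 ≤ i → 1 ≤ j → i + j = p * n' → ¬ p ∣ i → c i j = 0 := by
        intro i j hi hj hij hnd
        obtain ⟨i', rfl⟩ : ∃ i', i = i' + 1 := ⟨i - 1, by omega⟩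
        have h1 := rel1 hc i' j hj
        have e : i' + j = p * n' - 1 := by omega
        rw [e, ha1, mul_zero] at h1
        obtain ⟨u, hu⟩ := exists_inv hp0 (A := A) hnd
        calc c (i'+1) j = ((u:A) * ((i'+1 : ℕ) : A)) * c (i'+1) j := by rw [hu, one_mul]
          _ = (u:A) * (((i'+1 : ℕ) : A) * c (i'+1) j) := by ring
          _ = 0 := by rw [h1, mul_zero]
      -- induction hypothesis for c' i j = c (p i) (p j)
      have hlt : n' < p * n' := by
        have := hp.out.two_le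
        nlinarith
      obtain ⟨g, hg, r, hr, hgr⟩ := ih n' hlt (fun i j => c (p * i) (p * j))
        (fun i j => hcI _ _) (fun i j => hs _ _) (by
          intro i j k hi hk
          have h := hc (p * i) (p * j) (p * k) (by nlinarith) (by nlinarith)
          have e1 := cast_eq_of_modEq hp0 (A := A) (choose_mul_self (p := p) (j + k) j)
          have e2 := cast_eq_of_modEq hp0 (A := A) (choose_mul_self (p := p) (i + j) i)
          rw [← Nat.mul_add, ← Nat.mul_add, e1, e2] at h
          exact h)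
      refine ⟨g, hg, r, hr, ?_⟩
      intro i j hi hj hij
      by_cases hdi : p ∣ i
      · obtain ⟨i', rfl⟩ := hdi
        have hj' : j = p * (n' - i') := by
          rw [Nat.mul_sub]; omega
        have hi' : 1 ≤ i' := by
          rcases i' with _ | i'
          · simp at hi
          · omega
        have hle : i' ≤ n' := by
          by_contra hcon
          rw [not_le] at hcon
          have : p * n' < p * i' := Nat.mul_lt_mul_of_pos_left hcon hppos |>.trans_le le_rfl
          omega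
        have hj1 : 1 ≤ n' - i' := by
          rcases Nat.eq_zero_or_pos (n' - i') with h0 | h0
          · rw [h0, mul_zero] at hj'; omega
          · exact h0
        rw [hj']
        have h := hgr i' (n' - i') hi' hj1 (by omega)
        rw [h]
        have e1 := cast_eq_of_modEq hp0 (A := A) (choose_mul_self (p := p) n' i')
        rw [e1]
        have e2 : sigK p (p * n') (p * i') (p * (n' - i')) = sigK p n' i' (n' - i') := by
          have hK : p * n' = (p * n' - 1) + 1 := by omega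
          rw [hK, sigK_mul _ _ _ hi']
          exact sigK_mono (by omega) (by omega)
        rw [e2]
      · rw [hz i j hi hj hij hdi, sigK_of_not_dvd _ i j n' hn' hij hdi]
        rw [cast_eq_zero_of_dvd hp0 (choose_dvd_of_not_dvd (Dvd.intro _ rfl) hdi hi)]
        simp

end Groth.Agent.Lib.Helper1.LazCore
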