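import Mathlib
import Groth.Agent.Lib.Helper1.LazCore
import Groth.Agent.Lib.Helper1.LazBridge

/-!
# Lazard lemma: polynomial level statement modulo an ideal (helper1)
-/

set_option autoImplicit false

namespace Groth.Agent.Lib.Helper1.LazAsm

open MvPolynomial Groth.Agent.Lib.Helper1.LazCore Groth.Agent.Lib.Helper1.LazBridge

variable {R : Type*} [CommRing R]

/-- `S(X0,X1) = Σ_{0<j<p} (C(p,j)/p) X0^j X1^(p-j)` -/
noncomputable def Spoly (p : ℕ) (R : Type*) [CommRing R] : MvPolynomial (Fin 2) R :=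
  ∑ j ∈ Finset.Ioo 0 p, C ((p.choose j / p : ℕ) : R) * X 0 ^ j * X 1 ^ (p - j)

/-- `S(X0^q, X1^q)` -/
noncomputable def Sq (p : ℕ) (R : Type*) [CommRing R] (q : ℕ) : MvPolynomial (Fin 2) R :=
  aeval ![(X 0 : MvPolynomial (Fin 2) R) ^ q, X 1 ^ q] (Spoly p R)

lemma coeff_Sq (p q i j : ℕ) : coeff (e2 i j) (Sq p R q) = ((sigq p q i j : ℕ) : R) := by
  unfold Sq Spoly sigq
  rw [map_sum, coeff_sum, Nat.cast_sum]
  apply Finset.sum_congr rfl
  intro m _
  rw [map_mul, map_mul, map_pow, map_pow, aeval_C, aeval_X, aeval_X, algebraMap_eq]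
  simp only [Matrix.cons_val_zero, Matrix.cons_val_one]
  rw [← pow_mul, ← pow_mul, mul_assoc, coeff_C_mul, X_pow_two, coeff_monomial]
  by_cases h : i = q * m ∧ j = q * (p - m)
  · rw [if_pos h, if_pos (e2_inj.mpr ⟨h.1.symm, h.2.symm⟩), mul_one]
  · rw [if_neg h, if_neg (fun h' => h ⟨(e2_inj.mp h').1.symm, (e2_inj.mp h').2.symm⟩), mul_zero,
      Nat.cast_zero]

/-- additive coboundary of a one-variable polynomial -/
noncomputable def dG (G : Polynomial R) : MvPolynomial (Fin 2) R :=
  Polynomial.aeval (X 0 + X 1 : MvPolynomial (Fin 2) R) G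
    - Polynomial.aeval (X 0 : MvPolynomial (Fin 2) R) G
    - Polynomial.aeval (X 1 : MvPolynomial (Fin 2) R) G

lemma coeff_aeval_X0 (G : Polynomial R) (i j : ℕ) :
    coeff (e2 i j) (Polynomial.aeval (X 0 : MvPolynomial (Fin 2) R) G) =
      if j = 0 then G.coeff i else 0 := by
  have h := Groth.Agent.Lib.Helper20.GaChar.coeff_aeval_mul G (1 : Polynomial R) (e2 i j)
  rw [map_one, mul_one] at h
  rw [h, e2_zero, e2_one, Polynomial.coeff_one]
  by_cases hj : j = 0
  · rw [if_pos hj, if_pos hj, mul_one]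
  · rw [if_neg hj, if_neg hj, mul_zero]

lemma coeff_aeval_X1 (G : Polynomial R) (i j : ℕ) :
    coeff (e2 i j) (Polynomial.aeval (X 1 : MvPolynomial (Fin 2) R) G) =
      if i = 0 then G.coeff j else 0 := by
  have h := Groth.Agent.Lib.Helper20.GaChar.coeff_aeval_mul (1 : Polynomial R) G (e2 i j)
  rw [map_one, one_mul] at h
  rw [h, e2_zero, e2_one, Polynomial.coeff_one]
  by_cases hi : i = 0
  · rw [if_pos hi, if_pos hi, one_mul]
  · rw [if_neg hi, if_neg hi, zero_mul]

lemma coeff_dG (G : Polynomial R) (i j : ℕ) :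
    coeff (e2 i j) (dG G) =
      (((i + j).choose i : ℕ) : R) * G.coeff (i + j) - (if j = 0 then G.coeff i else 0)
        - (if i = 0 then G.coeff j else 0) := by
  unfold dG
  rw [coeff_sub, coeff_sub, coeff_aeval_X0, coeff_aeval_X1,
    Groth.Agent.Lib.Helper20.GaChar.coeff_aeval_add, e2_zero, e2_one]

/-- coefficient of the swap -/
lemma coeff_swap (F : MvPolynomial (Fin 2) R) (i j : ℕ) :
    coeff (e2 i j) (aeval ![(X 1 : MvPolynomial (Fin 2) R), X 0] F) = coeff (e2 j i) F := by
  rw [coeff_aeval_two]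
  simp only [Matrix.cons_val_zero, Matrix.cons_val_one]
  have : ∀ m : Fin 2 →₀ ℕ, coeff (e2 i j) ((X 1 : MvPolynomial (Fin 2) R) ^ m 0 * X 0 ^ m 1) =
      if (m 0 = j ∧ m 1 = i) then 1 else 0 := by
    intro m
    rw [mul_comm, X_pow_two, coeff_monomial]
    simp only [e2_inj]
    by_cases h1 : m 0 = j <;> by_cases h2 : m 1 = i <;> simp [h1, h2]
  simp only [this]
  rw [LazBridge.sum_collapse, mul_one]


lemma coeff_e2_eq_zero_of_lt (F : MvPolynomial (Fin 2) R) {i j : ℕ} (h : F.totalDegree < i + j) :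
    coeff (e2 i j) F = 0 := by
  apply coeff_eq_zero_of_totalDegree_lt
  have : (∑ t ∈ (e2 i j).support, (e2 i j) t) = i + j := by
    have h1 : (e2 i j).support ⊆ Finset.univ := Finset.subset_univ _
    rw [Finset.sum_subset h1 (by
      intro t _ ht
      exact Finsupp.notMem_support_iff.mp ht), Fin.sum_univ_two, e2_zero, e2_one]
  rw [this]; exact h

omit [CommRing R] in
lemma sigq_zero_left {p : ℕ} (k j : ℕ) (hp : 0 < p) : sigq p (p ^ k) 0 j = 0 := by
  by_contra hne
  obtain ⟨m, hm0, hmp, h1, h2⟩ := sigq_ne_zero hne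
  have : 0 < p ^ k * m := Nat.mul_pos (pow_pos hp k) hm0
  omega

omit [CommRing R] in
lemma sigq_zero_right {p : ℕ} (k i : ℕ) (hp : 0 < p) : sigq p (p ^ k) i 0 = 0 := by
  by_contra hne
  obtain ⟨m, hm0, hmp, h1, h2⟩ := sigq_ne_zero hne
  have : 0 < p ^ k * (p - m) := Nat.mul_pos (pow_pos hp k) (by omega)
  omega

theorem lazard_mod {p : ℕ} [hp : Fact p.Prime] (hp0 : (p : R) = 0) (𝔞 𝔟 : Ideal R)
    (F : MvPolynomial (Fin 2) R)
    (hFa : ∀ m, coeff m F ∈ 𝔞)
    (hsym : ∀ i j, coeff (e2 i j) F - coeff (e2 j i) F ∈ 𝔟)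
    (hcoc : ∀ m, coeff m (coc3 F) ∈ 𝔟) :
    ∃ (G : Polynomial R) (N : ℕ) (r : ℕ → R), (∀ n, G.coeff n ∈ 𝔞) ∧ (∀ k, r k ∈ 𝔞) ∧
      ∀ m, coeff m (F - (dG G + ∑ k ∈ Finset.range N, C (r k) * Sq p R (p ^ k))) ∈ 𝔟 := by
  classical
  have hppos : 0 < p := hp.out.pos
  set π := Ideal.Quotient.mk 𝔟 with hπ
  set c : ℕ → ℕ → R := fun i j => coeff (e2 i j) F with hc
  have hp0' : (p : R ⧸ 𝔟) = 0 := by rw [← map_natCast π, hp0, map_zero]
  -- axis vanishing
  have hax0 : ∀ k, 1 ≤ k → c 0 k ∈ 𝔟 := by
    intro k hk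
    have h := hcoc (e3 0 0 k)
    rw [coeff_coc3] at h
    simp only [zero_add, Nat.choose_zero_right, Nat.cast_one, one_mul, if_true,
      Nat.choose_self] at h
    rw [if_neg (by omega)] at h
    simpa [hc] using h
  have hax1 : ∀ k, 1 ≤ k → c k 0 ∈ 𝔟 := by
    intro k hk
    have h1 := hax0 k hk
    have h2 := hsym k 0
    have : c k 0 = (coeff (e2 k 0) F - coeff (e2 0 k) F) + c 0 k := by simp [hc]
    rw [this]; exact 𝔟.add_mem h2 h1
  -- the core lemma in the quotient
  have hcore : ∀ n, ∃ g ∈ 𝔞, ∃ r ∈ 𝔞, ∀ i j, 1 ≤ i → 1 ≤ j → i + j = n →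
      c i j - ((n.choose i : ℕ) * g + ((sigK p n i j : ℕ) : R) * r) ∈ 𝔟 := by
    intro n
    obtain ⟨g', hg', r', hr', h⟩ := core (p := p) hp0' (𝔞.map π) n (fun i j => π (c i j))
      (fun i j => Ideal.mem_map_of_mem π (hFa _))
      (fun i j => Ideal.Quotient.eq.mpr (hsym i j))
      (by
        intro i j k hi hk
        have h := hcoc (e3 i j k)
        rw [coeff_coc3, if_neg (by omega), if_neg (by omega), add_zero, sub_zero] at h
        have h' := Ideal.Quotient.eq.mpr h
        simp only [map_mul, map_natCast] at h'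
        exact h')
    obtain ⟨g, hg, rfl⟩ := (Ideal.mem_map_iff_of_surjective π Ideal.Quotient.mk_surjective).mp hg'
    obtain ⟨r, hr, rfl⟩ := (Ideal.mem_map_iff_of_surjective π Ideal.Quotient.mk_surjective).mp hr'
    refine ⟨g, hg, r, hr, ?_⟩
    intro i j hi hj hij
    have := h i j hi hj hij
    apply Ideal.Quotient.eq.mp
    rw [this]
    simp only [map_add, map_mul, map_natCast, hπ]
  choose gg hgg rr hrr hrel using hcore
  set D := F.totalDegree with hD
  set g' : ℕ → R := fun n => if n = 0 then - c 0 0 else gg n with hg'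
  have hg'a : ∀ n, g' n ∈ 𝔞 := by
    intro n
    simp only [hg']
    split_ifs
    · exact 𝔞.neg_mem (hFa _)
    · exact hgg n
  set G : Polynomial R := ∑ n ∈ Finset.range (D + 1), Polynomial.monomial n (g' n) with hG
  have hGc : ∀ n, G.coeff n = if n ≤ D then g' n else 0 := by
    intro n
    rw [hG, Polynomial.finsetSum_coeff]
    simp only [Polynomial.coeff_monomial]
    rw [Finset.sum_ite_eq' (Finset.range (D + 1)) n]
    simp only [Finset.mem_range, Nat.lt_succ_iff]
  set r : ℕ → R := fun k => if p ^ (k + 1) ≤ D then rr (p ^ (k + 1)) else 0 with hr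
  refine ⟨G, D, r, ?_, ?_, ?_⟩
  · intro n; rw [hGc]; split_ifs
    · exact hg'a n
    · exact 𝔞.zero_mem
  · intro k; simp only [hr]; split_ifs
    · exact hrr _
    · exact 𝔞.zero_mem
  · intro m
    rw [← e2_eta m]
    set i := m 0
    set j := m 1
    rw [coeff_sub, coeff_add, coeff_dG, coeff_sum]
    simp only [coeff_C_mul, coeff_Sq]
    rcases Nat.eq_zero_or_pos i with hi | hi
    · rcases Nat.eq_zero_or_pos j with hj | hj
      · -- (0,0)
        rw [hi, hj]
        simp only [sigq_zero_left _ _ hppos, Nat.cast_zero, mul_zero, Finset.sum_const_zero,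
          add_zero, Nat.choose_self, Nat.cast_one, one_mul, if_true, hGc, Nat.zero_le, hg']
        have : coeff (e2 0 0) F - (-c 0 0 - -c 0 0 - -c 0 0) = 0 := by simp [hc]
        rw [this]; exact 𝔟.zero_mem
      · -- (0,j)
        rw [hi]
        simp only [sigq_zero_left _ _ hppos, Nat.cast_zero, mul_zero, Finset.sum_const_zero,
          add_zero, zero_add, Nat.choose_zero_right, Nat.cast_one, one_mul, if_true]
        rw [if_neg (by omega)]
        have : coeff (e2 0 j) F - (G.coeff j - 0 - G.coeff j) = c 0 j := by simp [hc]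
        rw [this]; exact hax0 j hj
    · rcases Nat.eq_zero_or_pos j with hj | hj
      · -- (i,0)
        rw [hj]
        simp only [sigq_zero_right _ _ hppos, Nat.cast_zero, mul_zero, Finset.sum_const_zero,
          add_zero, Nat.choose_self, Nat.cast_one, one_mul, if_true]
        rw [if_neg (by omega)]
        have : coeff (e2 i 0) F - (G.coeff i - G.coeff i - 0) = c i 0 := by simp [hc]
        rw [this]; exact hax1 i hi
      · -- interior
        rw [if_neg (by omega), if_neg (by omega), sub_zero, sub_zero]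
        rcases Nat.lt_or_ge D (i + j) with hlt | hle
        · -- beyond the degree
          rw [coeff_e2_eq_zero_of_lt F hlt, hGc, if_neg (by omega), mul_zero, zero_add]
          have : ∑ k ∈ Finset.range D, r k * ((sigq p (p ^ k) i j : ℕ) : R) = 0 := by
            apply Finset.sum_eq_zero
            intro k _
            by_cases hne : sigq p (p ^ k) i j = 0
            · rw [hne, Nat.cast_zero, mul_zero]
            · have h1 := sigq_add hne
              have : ¬ p ^ (k + 1) ≤ D := by rw [pow_succ]; omega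
              simp only [hr, if_neg this, zero_mul]
          rw [this, sub_zero]; exact 𝔟.zero_mem
        · -- within the degree
          have hn0 : i + j ≠ 0 := by omega
          rw [hGc, if_pos hle]
          have hg'n : g' (i + j) = gg (i + j) := by simp only [hg', if_neg hn0]
          rw [hg'n]
          have hsum : ∑ k ∈ Finset.range D, r k * ((sigq p (p ^ k) i j : ℕ) : R) =
              ((sigK p (i + j) i j : ℕ) : R) * rr (i + j) := by
            rw [← sigK_mono (p := p) (le_refl (i + j)) hle]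
            unfold sigK
            rw [Nat.cast_sum, Finset.sum_mul]
            apply Finset.sum_congr rfl
            intro k _
            by_cases hne : sigq p (p ^ k) i j = 0
            · rw [hne, Nat.cast_zero, mul_zero, zero_mul]
            · have h1 := sigq_add hne
              have h2 : p ^ (k + 1) = i + j := by rw [pow_succ]; exact h1.symm
              have : p ^ (k + 1) ≤ D := by omega
              simp only [hr, if_pos this, h2]
              ring
          rw [hsum]
          exact hrel (i + j) i j hi hj rfl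

end Groth.Agent.Lib.Helper1.LazAsm
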