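import Mathlib
import Groth.Agent.Lib.Helper20.GaCharCore

/-!
# Truncated exponential: refined additivity modulo an ideal (helper1)
-/

set_option autoImplicit false

namespace Groth.Agent.Lib.Helper1.LazExp

open Groth.Agent.Lib.Helper20.GaChar

variable {p : ℕ} [hp : Fact p.Prime] {R : Type*} [CommRing R] [CharP R p]

lemma wilson_cast : (((p - 1).factorial : ℕ) : R) = -1 := by
  have h := ZMod.wilsons_lemma (p := p)
  have h2 := congrArg (ZMod.castHom (dvd_refl p) R) h
  rw [map_natCast, map_neg, map_one] at h2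
  exact h2

lemma nat_choose_div_mul (m : ℕ) (hm0 : 0 < m) (hmp : m < p) :
    (p.choose m / p) * m.factorial * (p - m).factorial = (p - 1).factorial := by
  have hdvd : p ∣ p.choose m := hp.out.dvd_choose_self (by omega) hmp
  have h1 := Nat.choose_mul_factorial_mul_factorial (le_of_lt hmp)
  have h2 : p.factorial = p * (p - 1).factorial := by
    obtain ⟨p', hp'⟩ : ∃ p', p = p' + 1 := ⟨p - 1, by have := hp.out.pos; omega⟩
    rw [hp', Nat.factorial_succ, Nat.add_sub_cancel]
  apply Nat.eq_of_mul_eq_mul_left hp.out.pos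
  rw [← h2, ← h1, ← mul_assoc, ← mul_assoc, Nat.mul_div_cancel' hdvd]

lemma inv_fact_mul (m : ℕ) (hm0 : 0 < m) (hmp : m < p) :
    Ring.inverse ((m.factorial : ℕ) : R) * Ring.inverse (((p - m).factorial : ℕ) : R) =
      - ((p.choose m / p : ℕ) : R) := by
  have hu1 := isUnit_fact (A := R) (p := p) hmp
  have hu2 := isUnit_fact (A := R) (p := p) (k := p - m) (by omega)
  have h := congrArg (fun n : ℕ => (n : R)) (nat_choose_div_mul (p := p) m hm0 hmp)
  simp only [Nat.cast_mul] at h
  rw [wilson_cast] at h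
  have e1 := Ring.mul_inverse_cancel _ hu1
  have e2 := Ring.mul_inverse_cancel _ hu2
  set a := ((m.factorial : ℕ) : R)
  set b := (((p - m).factorial : ℕ) : R)
  set c := ((p.choose m / p : ℕ) : R)
  calc Ring.inverse a * Ring.inverse b
      = - ((c * a * b) * (Ring.inverse a * Ring.inverse b)) := by rw [h]; ring
    _ = - (c * (a * Ring.inverse a) * (b * Ring.inverse b)) := by ring
    _ = - c := by rw [e1, e2]; ring

omit hp [CharP R p] in
lemma β_mul_β (s : R) (m m' : ℕ) :
    β s m * β s m' = Ring.inverse ((m.factorial : ℕ) : R) * Ring.inverse ((m'.factorial : ℕ) : R) *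
      s ^ (m + m') := by
  unfold β; rw [pow_add]; ring

theorem exp_mod {σ : Type*} (𝔟 : Ideal R) (s r : R) (h1 : s ^ p - r ∈ 𝔟) (h2 : s * r ∈ 𝔟)
    (U V : MvPolynomial σ R) :
    (∑ k ∈ Finset.range p, β s k • U ^ k) * (∑ k ∈ Finset.range p, β s k • V ^ k)
      - ∑ k ∈ Finset.range p, β s k • (U + V) ^ k
      + MvPolynomial.C r * (∑ m ∈ Finset.Ioo 0 p,
          MvPolynomial.C ((p.choose m / p : ℕ) : R) * U ^ m * V ^ (p - m))
      ∈ Ideal.map MvPolynomial.C 𝔟 := by
  classical
  have hL : ∑ k ∈ Finset.range p, β s k • (U + V) ^ k =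
      ∑ m ∈ Finset.range p, ∑ m' ∈ Finset.range (p - m),
        (β s m * β s m') • (U ^ m * V ^ m') := by
    have hL1 : ∑ k ∈ Finset.range p, β s k • (U + V) ^ k =
        ∑ k ∈ Finset.range p, ∑ m ∈ Finset.range (k + 1),
          (β s m * β s (k - m)) • (U ^ m * V ^ (k - m)) := by
      apply Finset.sum_congr rfl
      intro k hk
      rw [Finset.mem_range] at hk
      rw [add_pow, Finset.smul_sum]
      apply Finset.sum_congr rfl
      intro m hm
      rw [Finset.mem_range] at hm
      rw [← β_mul_choose s k m hk (by omega), mul_smul]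
      congr 1
      rw [Algebra.smul_def, map_natCast, mul_comm]
    rw [hL1, Finset.sum_range_diag_flip p (fun m m' => (β s m * β s m') • (U ^ m * V ^ m'))]
  have hP : (∑ k ∈ Finset.range p, β s k • U ^ k) * (∑ k ∈ Finset.range p, β s k • V ^ k) =
      ∑ m ∈ Finset.range p, ∑ m' ∈ Finset.range p, (β s m * β s m') • (U ^ m * V ^ m') := by
    rw [Finset.sum_mul_sum]
    apply Finset.sum_congr rfl
    intro m _
    apply Finset.sum_congr rfl
    intro m' _
    rw [smul_mul_smul_comm]
  have hS : MvPolynomial.C r * (∑ m ∈ Finset.Ioo 0 p,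
          MvPolynomial.C ((p.choose m / p : ℕ) : R) * U ^ m * V ^ (p - m)) =
      ∑ m ∈ Finset.range p, ∑ m' ∈ Finset.Ico (p - m) p,
        (if m' = p - m then MvPolynomial.C r * (MvPolynomial.C ((p.choose m / p : ℕ) : R) *
          U ^ m * V ^ m') else 0) := by
    have hfil : Finset.Ioo 0 p = (Finset.range p).filter (fun m => 0 < m) := by
      ext m; simp [Finset.mem_Ioo, Finset.mem_filter, and_comm]
    rw [Finset.mul_sum, hfil, Finset.sum_filter]
    apply Finset.sum_congr rfl
    intro m hm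
    rw [Finset.mem_range] at hm
    by_cases hm0 : 0 < m
    · rw [if_pos hm0, Finset.sum_ite_eq' (Finset.Ico (p - m) p) (p - m), if_pos]
      rw [Finset.mem_Ico]; omega
    · have : m = 0 := by omega
      subst this
      rw [if_neg hm0, Nat.sub_zero, Finset.Ico_self, Finset.sum_empty]
  rw [hP, hL, ← Finset.sum_sub_distrib, hS, ← Finset.sum_add_distrib]
  apply Ideal.sum_mem
  intro m hm
  rw [Finset.mem_range] at hm
  rw [← Finset.sum_Ico_eq_sub _ (Nat.sub_le p m), ← Finset.sum_add_distrib]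
  apply Ideal.sum_mem
  intro m' hm'
  rw [Finset.mem_Ico] at hm'
  have hs1 : s ^ (p + 1) ∈ 𝔟 := by
    have : s ^ (p + 1) = s * (s ^ p - r) + s * r := by ring
    rw [this]; exact 𝔟.add_mem (𝔟.mul_mem_left _ h1) h2
  by_cases hc : m' = p - m
  · rw [if_pos hc]
    subst hc
    have hm0 : 0 < m := by omega
    have e : m + (p - m) = p := by omega
    rw [β_mul_β, e, inv_fact_mul m hm0 hm, MvPolynomial.smul_eq_C_mul]
    have : MvPolynomial.C (-((p.choose m / p : ℕ) : R) * s ^ p) * (U ^ m * V ^ (p - m)) +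
        MvPolynomial.C r * (MvPolynomial.C ((p.choose m / p : ℕ) : R) * U ^ m * V ^ (p - m)) =
        MvPolynomial.C (-((p.choose m / p : ℕ) : R) * (s ^ p - r)) * (U ^ m * V ^ (p - m)) := by
      simp only [map_mul, map_neg, map_sub]; ring
    rw [this]
    exact Ideal.mul_mem_right _ _ (Ideal.mem_map_of_mem _ (𝔟.mul_mem_left _ h1))
  · rw [if_neg hc, add_zero, β_mul_β, MvPolynomial.smul_eq_C_mul]
    have e : m + m' = (p + 1) + (m + m' - (p + 1)) := by omega
    rw [e, pow_add]
    apply Ideal.mul_mem_right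
    apply Ideal.mem_map_of_mem
    rw [← mul_assoc]
    exact 𝔟.mul_mem_right _ (𝔟.mul_mem_left _ hs1)

end Groth.Agent.Lib.Helper1.LazExp
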