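import Mathlib
import Groth.Agent.Lib.Helper1.LazAsm

/-!
# Lazard lemma: the converse direction (coboundaries and `S(X^q,Y^q)` are symmetric cocycles)
-/

set_option autoImplicit false

namespace Groth.Agent.Lib.Helper1.LazS

open MvPolynomial Groth.Agent.Lib.Helper1.LazCore Groth.Agent.Lib.Helper1.LazBridge
  Groth.Agent.Lib.Helper1.LazAsm

variable {R : Type*} [CommRing R]

lemma sigq_one (p a b : ℕ) :
    sigq p 1 a b = if (0 < a ∧ a < p ∧ a + b = p) then p.choose a / p else 0 := by
  unfold sigq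
  by_cases h : 0 < a ∧ a < p ∧ a + b = p
  · rw [if_pos h, Finset.sum_eq_single a]
    · rw [if_pos]; constructor <;> omega
    · intro m _ hm
      rw [if_neg]; rintro ⟨h1, -⟩; omega
    · intro h'; exact absurd (Finset.mem_Ioo.mpr ⟨h.1, h.2.1⟩) h'
  · rw [if_neg h]
    apply Finset.sum_eq_zero
    intro m hm
    rw [Finset.mem_Ioo] at hm
    rw [if_neg]
    rintro ⟨h1, h2⟩
    apply h
    omega

lemma sigq_one_symm (p a b : ℕ) : sigq p 1 a b = sigq p 1 b a := by
  rw [sigq_one, sigq_one]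
  by_cases h : 0 < a ∧ a < p ∧ a + b = p
  · rw [if_pos h, if_pos (by omega)]
    have : b = p - a := by omega
    rw [this, Nat.choose_symm (by omega)]
  · rw [if_neg h, if_neg (by omega)]

lemma sigq_one_coc {p : ℕ} (hp : p.Prime) (i j k : ℕ) (hi : 1 ≤ i) (hk : 1 ≤ k) :
    (j + k).choose j * sigq p 1 i (j + k) = (i + j).choose i * sigq p 1 (i + j) k := by
  rw [sigq_one, sigq_one]
  by_cases h : i + j + k = p
  · rw [if_pos (by omega), if_pos (by omega)]
    have h1 : p ∣ p.choose i := hp.dvd_choose_self (by omega) (by omega)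
    have h2 : p ∣ p.choose (i + j) := hp.dvd_choose_self (by omega) (by omega)
    rw [← Nat.mul_div_assoc _ h1, ← Nat.mul_div_assoc _ h2]
    congr 1
    have := Nat.choose_mul (n := p) (k := i + j) (s := i) (by omega)
    have e1 : p - i = j + k := by omega
    have e2 : i + j - i = j := by omega
    rw [e1, e2] at this
    rw [mul_comm ((i + j).choose i), this, mul_comm]
  · rw [if_neg (by omega), if_neg (by omega), mul_zero, mul_zero]

lemma Sq_one (p : ℕ) : Sq p R 1 = Spoly p R := by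
  unfold Sq
  have : (![(X 0 : MvPolynomial (Fin 2) R) ^ 1, X 1 ^ 1]) = X := by
    funext t; fin_cases t <;> simp
  rw [this, aeval_X_left, AlgHom.id_apply]

lemma coc3_Spoly {p : ℕ} (hp : p.Prime) : coc3 (Spoly p R) = 0 := by
  ext m
  rw [← e3_eta m, coeff_coc3, coeff_zero, ← Sq_one]
  simp only [coeff_Sq]
  set i := m 0
  set j := m 1
  set k := m 2
  rcases Nat.eq_zero_or_pos i with hi | hi
  · rw [hi]
    have h0 : ∀ b, sigq p 1 0 b = 0 := by
      intro b; rw [sigq_one, if_neg (by omega)]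
    simp [h0]
  · rcases Nat.eq_zero_or_pos k with hk | hk
    · rw [hk]
      have h0 : ∀ b, sigq p 1 b 0 = 0 := by
        intro b; rw [sigq_one_symm, sigq_one, if_neg (by omega)]
      simp [h0]
    · rw [if_neg (by omega), if_neg (by omega), add_zero, sub_zero]
      rw [← Nat.cast_mul, ← Nat.cast_mul, sigq_one_coc hp i j k hi hk, sub_self]

lemma swap_Spoly (p : ℕ) :
    aeval ![(X 1 : MvPolynomial (Fin 2) R), X 0] (Spoly p R) = Spoly p R := by
  ext m
  rw [← e2_eta m, coeff_swap, ← Sq_one]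
  simp only [coeff_Sq]
  rw [sigq_one_symm]


lemma aeval_aeval2 {σ τ : Type*} (w : σ → MvPolynomial τ R) (a b : MvPolynomial σ R)
    (P : MvPolynomial (Fin 2) R) :
    aeval w (aeval ![a, b] P) = aeval ![aeval w a, aeval w b] P := by
  rw [comp_aeval_apply]
  congr 2
  funext t; fin_cases t <;> simp

/-- `coc3` as a linear map -/
noncomputable def coc3L : MvPolynomial (Fin 2) R →ₗ[R] MvPolynomial (Fin 3) R :=
  (aeval ![(X 0 : MvPolynomial (Fin 3) R), X 1 + X 2]).toLinearMap
    + (aeval ![(X 1 : MvPolynomial (Fin 3) R), X 2]).toLinearMap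
    - (aeval ![(X 0 : MvPolynomial (Fin 3) R) + X 1, X 2]).toLinearMap
    - (aeval ![(X 0 : MvPolynomial (Fin 3) R), X 1]).toLinearMap

lemma coc3L_apply (F : MvPolynomial (Fin 2) R) : coc3L F = coc3 F := rfl

lemma coc3_dG (G : Polynomial R) : coc3 (dG G) = 0 := by
  unfold coc3 dG
  simp only [map_sub, ← Polynomial.aeval_algHom_apply, map_add, aeval_X, Matrix.cons_val_zero,
    Matrix.cons_val_one]
  rw [add_assoc (X 0 : MvPolynomial (Fin 3) R) (X 1) (X 2)]
  abel

lemma swap_dG (G : Polynomial R) :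
    aeval ![(X 1 : MvPolynomial (Fin 2) R), X 0] (dG G) = dG G := by
  unfold dG
  simp only [map_sub, ← Polynomial.aeval_algHom_apply, map_add, aeval_X, Matrix.cons_val_zero,
    Matrix.cons_val_one]
  rw [add_comm (X 1 : MvPolynomial (Fin 2) R) (X 0)]
  abel

lemma swap_Sq (p q : ℕ) :
    aeval ![(X 1 : MvPolynomial (Fin 2) R), X 0] (Sq p R q) = Sq p R q := by
  unfold Sq
  rw [aeval_aeval2]
  simp only [map_pow, aeval_X, Matrix.cons_val_zero, Matrix.cons_val_one]
  -- aeval ![X1^q, X0^q] S = aeval ![X0^q, X1^q] (swap S)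
  conv_rhs => rw [← swap_Spoly (R := R) p, aeval_aeval2]
  simp only [aeval_X, Matrix.cons_val_zero, Matrix.cons_val_one]

lemma coc3_Sq {p : ℕ} [hp : Fact p.Prime] [CharP R p] (k : ℕ) : coc3 (Sq p R (p ^ k)) = 0 := by
  have key : coc3 (Sq p R (p ^ k)) =
      aeval (fun t : Fin 3 => (X t : MvPolynomial (Fin 3) R) ^ p ^ k) (coc3 (Spoly p R)) := by
    unfold coc3 Sq
    simp only [map_sub, map_add, aeval_aeval2, map_pow, aeval_X, Matrix.cons_val_zero,
      Matrix.cons_val_one]
    rw [add_pow_char_pow, add_pow_char_pow]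
  rw [key, coc3_Spoly hp.out, map_zero]

end Groth.Agent.Lib.Helper1.LazS
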