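import Mathlib
import Groth.Agent.Lib.Helper1.LazS

/-!
# Multiplicative symmetric 2-cocycles of `G_a` with values in `G_m`: basic transfer lemmas (helper1)
-/

set_option autoImplicit false

namespace Groth.Agent.Lib.Helper1.LazMC

open MvPolynomial Groth.Agent.Lib.Helper1.LazBridge Groth.Agent.Lib.Helper1.LazAsm

variable {R : Type*} [CommRing R]

/-- `f(X0)` -/
noncomputable def ev0 (f : Polynomial R) : MvPolynomial (Fin 2) R :=
  Polynomial.aeval (X 0 : MvPolynomial (Fin 2) R) f
/-- `f(X1)` -/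
noncomputable def ev1 (f : Polynomial R) : MvPolynomial (Fin 2) R :=
  Polynomial.aeval (X 1 : MvPolynomial (Fin 2) R) f
/-- `f(X0+X1)` -/
noncomputable def ev01 (f : Polynomial R) : MvPolynomial (Fin 2) R :=
  Polynomial.aeval (X 0 + X 1 : MvPolynomial (Fin 2) R) f

lemma ev0_mul (f g : Polynomial R) : ev0 (f * g) = ev0 f * ev0 g := map_mul _ _ _
lemma ev1_mul (f g : Polynomial R) : ev1 (f * g) = ev1 f * ev1 g := map_mul _ _ _
lemma ev01_mul (f g : Polynomial R) : ev01 (f * g) = ev01 f * ev01 g := map_mul _ _ _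
lemma ev0_one : ev0 (1 : Polynomial R) = 1 := map_one _
lemma ev1_one : ev1 (1 : Polynomial R) = 1 := map_one _
lemma ev01_one : ev01 (1 : Polynomial R) = 1 := map_one _

/-- symmetric multiplicative 2-cocycle -/
def IsMC (h : MvPolynomial (Fin 2) R) : Prop :=
  aeval ![(X 1 : MvPolynomial (Fin 2) R), X 0] h = h ∧
  aeval ![(X 1 : MvPolynomial (Fin 3) R), X 2] h * aeval ![(X 0 : MvPolynomial (Fin 3) R), X 1 + X 2] h =
    aeval ![(X 0 : MvPolynomial (Fin 3) R) + X 1, X 2] h * aeval ![(X 0 : MvPolynomial (Fin 3) R), X 1] h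

lemma isMC_one : IsMC (1 : MvPolynomial (Fin 2) R) := by
  constructor
  · exact map_one _
  · simp only [map_one]

lemma algHom_mem_map {A B : Type*} [CommRing A] [CommRing B] [Algebra R A] [Algebra R B]
    (Φ : A →ₐ[R] B) (𝔞 : Ideal R) {x : A} (hx : x ∈ Ideal.map (algebraMap R A) 𝔞) :
    Φ x ∈ Ideal.map (algebraMap R B) 𝔞 := by
  have : Ideal.map Φ.toRingHom (Ideal.map (algebraMap R A) 𝔞) = Ideal.map (algebraMap R B) 𝔞 := by
    rw [Ideal.map_map]; congr 1; exact Φ.comp_algebraMap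
  rw [← this]; exact Ideal.mem_map_of_mem _ hx

lemma isMC_of_rel {h h'' : MvPolynomial (Fin 2) R} {f : Polynomial R} (hf : IsUnit f)
    (hh : IsMC h) (hrel : h'' * ev01 f = h * ev0 f * ev1 f) : IsMC h'' := by
  have hu : ∀ {τ : Type} (y : MvPolynomial τ R), IsUnit (Polynomial.aeval y f) :=
    fun y => hf.map (Polynomial.aeval y)
  constructor
  · have h1 := congrArg (aeval ![(X 1 : MvPolynomial (Fin 2) R), X 0]) hrel
    simp only [map_mul, ev0, ev1, ev01, ← Polynomial.aeval_algHom_apply, map_add, aeval_X,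
      Matrix.cons_val_zero, Matrix.cons_val_one] at h1
    rw [hh.1, add_comm (X 1 : MvPolynomial (Fin 2) R) (X 0)] at h1
    have h2 : aeval ![(X 1 : MvPolynomial (Fin 2) R), X 0] h'' *
        Polynomial.aeval (X 0 + X 1 : MvPolynomial (Fin 2) R) f =
        h'' * Polynomial.aeval (X 0 + X 1 : MvPolynomial (Fin 2) R) f := by
      rw [h1]
      have := hrel
      simp only [ev0, ev1, ev01] at this
      rw [this]; ring
    exact (hu _).mul_left_injective h2
  · have e1 := congrArg (aeval ![(X 0 : MvPolynomial (Fin 3) R), X 1 + X 2]) hrel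
    have e2 := congrArg (aeval ![(X 1 : MvPolynomial (Fin 3) R), X 2]) hrel
    have e3 := congrArg (aeval ![(X 0 : MvPolynomial (Fin 3) R) + X 1, X 2]) hrel
    have e4 := congrArg (aeval ![(X 0 : MvPolynomial (Fin 3) R), X 1]) hrel
    simp only [map_mul, ev0, ev1, ev01, ← Polynomial.aeval_algHom_apply, map_add, aeval_X,
      Matrix.cons_val_zero, Matrix.cons_val_one] at e1 e2 e3 e4
    rw [← add_assoc] at e1
    set A1 := Polynomial.aeval (X 0 : MvPolynomial (Fin 3) R) f
    set A2 := Polynomial.aeval (X 1 : MvPolynomial (Fin 3) R) f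
    set A3 := Polynomial.aeval (X 2 : MvPolynomial (Fin 3) R) f
    set A12 := Polynomial.aeval (X 0 + X 1 : MvPolynomial (Fin 3) R) f
    set A23 := Polynomial.aeval (X 1 + X 2 : MvPolynomial (Fin 3) R) f
    set A123 := Polynomial.aeval (X 0 + X 1 + X 2 : MvPolynomial (Fin 3) R) f
    have hU : IsUnit (A23 * A123 * A12) := ((hu _).mul (hu _)).mul (hu _)
    have hmc := hh.2
    apply hU.mul_left_injective
    show _ * (A23 * A123 * A12) = _ * (A23 * A123 * A12)
    set H1 := aeval ![(X 0 : MvPolynomial (Fin 3) R), X 1 + X 2] h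
    set H2 := aeval ![(X 1 : MvPolynomial (Fin 3) R), X 2] h
    set H3 := aeval ![(X 0 : MvPolynomial (Fin 3) R) + X 1, X 2] h
    set H4 := aeval ![(X 0 : MvPolynomial (Fin 3) R), X 1] h
    set K1 := aeval ![(X 0 : MvPolynomial (Fin 3) R), X 1 + X 2] h''
    set K2 := aeval ![(X 1 : MvPolynomial (Fin 3) R), X 2] h''
    set K3 := aeval ![(X 0 : MvPolynomial (Fin 3) R) + X 1, X 2] h''
    set K4 := aeval ![(X 0 : MvPolynomial (Fin 3) R), X 1] h''
    linear_combination (K1 * A123 * A12) * e2 + (H2 * A2 * A3 * A12) * e1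
      - (K4 * A12 * A23) * e3 - (H3 * A12 * A3 * A23) * e4 + (A1 * A2 * A3 * A12 * A23) * hmc

/-- a polynomial congruent to `1` modulo a nil ideal is a unit -/
lemma isUnit_of_sub_one_mem {𝔰 : Ideal R} (hnil : 𝔰 ≤ nilradical R) {g : Polynomial R}
    (hg : g - 1 ∈ Ideal.map Polynomial.C 𝔰) : IsUnit g := by
  rw [Ideal.mem_map_C_iff] at hg
  rw [Polynomial.isUnit_iff_coeff_isUnit_isNilpotent]
  constructor
  · have h0 := hnil (hg 0)
    rw [Polynomial.coeff_sub, Polynomial.coeff_one_zero, mem_nilradical] at h0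
    have : g.coeff 0 = (g.coeff 0 - 1) + 1 := by ring
    rw [this]
    exact h0.isUnit_add_one
  · intro i hi
    have h0 := hnil (hg i)
    rw [Polynomial.coeff_sub, Polynomial.coeff_one, if_neg hi, sub_zero,
      mem_nilradical] at h0
    exact h0

end Groth.Agent.Lib.Helper1.LazMC
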