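import Mathlib
import Groth.Agent.Lib.Helper1.LazMC
import Groth.Agent.Lib.Helper1.LazExp

/-!
# The step lemma: improving a multiplicative cocycle `≡ 1 mod 𝔞` to `≡ 1 mod 𝔞𝔰` (helper1)
-/

set_option autoImplicit false

namespace Groth.Agent.Lib.Helper1.LazStep

open MvPolynomial Groth.Agent.Lib.Helper1.LazCore Groth.Agent.Lib.Helper1.LazBridge
  Groth.Agent.Lib.Helper1.LazAsm Groth.Agent.Lib.Helper1.LazS Groth.Agent.Lib.Helper1.LazMC
  Groth.Agent.Lib.Helper1.LazExp Groth.Agent.Lib.Helper20.GaChar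

variable {p : ℕ} [hp : Fact p.Prime] {R : Type*} [CommRing R]

omit hp in
lemma coc3_sub_one_mem {𝔞 : Ideal R} {h : MvPolynomial (Fin 2) R} (hh : IsMC h)
    (h1 : h - 1 ∈ Ideal.map C 𝔞) : coc3 (h - 1) ∈ Ideal.map C (𝔞 * 𝔞) := by
  have hmc := hh.2
  have key : coc3 (h - 1) =
      aeval ![(X 0 : MvPolynomial (Fin 3) R) + X 1, X 2] (h - 1) *
        aeval ![(X 0 : MvPolynomial (Fin 3) R), X 1] (h - 1)
      - aeval ![(X 1 : MvPolynomial (Fin 3) R), X 2] (h - 1) *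
        aeval ![(X 0 : MvPolynomial (Fin 3) R), X 1 + X 2] (h - 1) := by
    unfold coc3
    simp only [map_sub, map_one]
    linear_combination hmc
  rw [key, Ideal.map_mul]
  have hm : ∀ Φ : MvPolynomial (Fin 2) R →ₐ[R] MvPolynomial (Fin 3) R,
      Φ (h - 1) ∈ Ideal.map C 𝔞 := fun Φ => algHom_mem_map Φ 𝔞 h1
  exact Ideal.sub_mem _ (Ideal.mul_mem_mul (hm _) (hm _)) (Ideal.mul_mem_mul (hm _) (hm _))

omit hp in
lemma prod_one_sub {Q : Type*} [CommRing Q] (x : ℕ → Q) (hx : ∀ i j, x i * x j = 0) (N : ℕ) :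
    ∏ k ∈ Finset.range N, (1 - x k) = 1 - ∑ k ∈ Finset.range N, x k := by
  induction N with
  | zero => simp
  | succ N ih =>
    rw [Finset.prod_range_succ, Finset.sum_range_succ, ih]
    have : (∑ k ∈ Finset.range N, x k) * x N = 0 := by
      rw [Finset.sum_mul]; exact Finset.sum_eq_zero (fun k _ => hx k N)
    linear_combination this

lemma E_sub_one_mem [CharP R p] {𝔰 : Ideal R} {s : R} (hs : s ∈ 𝔰) (k : ℕ) :
    E p s k - 1 ∈ Ideal.map Polynomial.C 𝔰 := by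
  obtain ⟨p', hp'⟩ : ∃ p', p = p' + 1 := ⟨p - 1, by have := hp.out.pos; omega⟩
  unfold E
  have hr : Finset.range p = Finset.range (p' + 1) := by rw [hp']
  rw [hr, Finset.sum_range_succ']
  simp only [Nat.factorial_zero, Nat.cast_one, Ring.inverse_one, pow_zero, mul_one, zero_mul,
    map_one, add_sub_cancel_right]
  apply Ideal.sum_mem
  intro j _
  apply Ideal.mul_mem_right
  apply Ideal.mem_map_of_mem
  apply Ideal.mul_mem_left
  exact Ideal.pow_mem_of_mem _ hs _ (by omega)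

omit hp in
lemma Sq_eq_sum (q : ℕ) :
    Sq p R q = ∑ m ∈ Finset.Ioo 0 p, C ((p.choose m / p : ℕ) : R) *
      ((X 0 : MvPolynomial (Fin 2) R) ^ q) ^ m * ((X 1 : MvPolynomial (Fin 2) R) ^ q) ^ (p - m) := by
  unfold Sq Spoly
  rw [map_sum]
  apply Finset.sum_congr rfl
  intro m _
  simp only [map_mul, map_pow, aeval_C, aeval_X, algebraMap_eq, Matrix.cons_val_zero,
    Matrix.cons_val_one]


theorem step [CharP R p] (𝔞 𝔰 𝔟 : Ideal R) (h𝔞𝔰 : 𝔞 * 𝔰 ≤ 𝔟) (hle : 𝔞 ≤ 𝔰) (hnil : 𝔰 ≤ nilradical R)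
    (hroot : ∀ r ∈ 𝔞, ∃ s ∈ 𝔰, s ^ p - r ∈ 𝔟)
    (h : MvPolynomial (Fin 2) R) (hh : IsMC h) (h1 : h - 1 ∈ Ideal.map C 𝔞) :
    ∃ (f : Polynomial R) (h'' : MvPolynomial (Fin 2) R), IsUnit f ∧ IsMC h'' ∧
      h'' * ev01 f = h * ev0 f * ev1 f ∧ h'' - 1 ∈ Ideal.map C 𝔟 := by
  classical
  have h𝔞𝔞 : 𝔞 * 𝔞 ≤ 𝔟 := le_trans (Ideal.mul_mono_right hle) h𝔞𝔰
  set n := h - 1 with hn
  -- Lazard
  have hFa : ∀ m, coeff m n ∈ 𝔞 := mem_map_C_iff.mp h1
  have hsw : aeval ![(X 1 : MvPolynomial (Fin 2) R), X 0] n = n := by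
    rw [hn, map_sub, map_one, hh.1]
  have hsym : ∀ i j, coeff (e2 i j) n - coeff (e2 j i) n ∈ 𝔟 := by
    intro i j
    have : coeff (e2 i j) n = coeff (e2 j i) n := by
      conv_lhs => rw [← hsw]
      exact coeff_swap n i j
    rw [this, sub_self]; exact 𝔟.zero_mem
  have hcoc : ∀ m, coeff m (coc3 n) ∈ 𝔟 :=
    mem_map_C_iff.mp (Ideal.map_mono h𝔞𝔞 (coc3_sub_one_mem hh h1))
  obtain ⟨G, N, r, hG, hr, hlaz⟩ := lazard_mod (p := p) (CharP.cast_eq_zero R p) 𝔞 𝔟 n hFa hsym hcoc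
  have hlaz' : n - (dG G + ∑ k ∈ Finset.range N, C (r k) * Sq p R (p ^ k)) ∈ Ideal.map C 𝔟 :=
    mem_map_C_iff.mpr hlaz
  choose sfun hs1 hs2 using fun k => hroot (r k) (hr k)
  -- the polynomial f
  set f : Polynomial R := (1 + G) * ∏ k ∈ Finset.range N, E p (sfun k) k with hf
  have hGmem : G ∈ Ideal.map Polynomial.C 𝔞 := Ideal.mem_map_C_iff.mpr hG
  have hfu : IsUnit f := by
    apply IsUnit.mul
    · apply isUnit_of_sub_one_mem hnil
      rw [add_sub_cancel_left]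
      exact Ideal.map_mono hle hGmem
    · rw [IsUnit.prod_iff]
      intro k _
      exact isUnit_of_sub_one_mem hnil (E_sub_one_mem (hs1 k) k)
  -- the ideals in the polynomial ring
  set 𝔄 := Ideal.map (C : R →+* MvPolynomial (Fin 2) R) 𝔞 with h𝔄
  set 𝔖 := Ideal.map (C : R →+* MvPolynomial (Fin 2) R) 𝔰 with h𝔖
  set 𝔅 := Ideal.map (C : R →+* MvPolynomial (Fin 2) R) 𝔟 with h𝔅
  set π := Ideal.Quotient.mk 𝔅 with hπ
  have sqz : ∀ x y, x ∈ 𝔄 → y ∈ 𝔖 → π (x * y) = 0 := by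
    intro x y hx hy
    apply Ideal.Quotient.eq_zero_iff_mem.mpr
    have : x * y ∈ 𝔄 * 𝔖 := Ideal.mul_mem_mul hx hy
    rw [h𝔄, h𝔖, ← Ideal.map_mul] at this
    exact Ideal.map_mono h𝔞𝔰 this
  have h𝔄𝔖 : 𝔄 ≤ 𝔖 := Ideal.map_mono hle
  have sqz' : ∀ x y, x ∈ 𝔄 → y ∈ 𝔄 → π x * π y = 0 := by
    intro x y hx hy
    rw [← map_mul]; exact sqz x y hx (h𝔄𝔖 hy)
  -- elements of 𝔄
  have hev : ∀ y : MvPolynomial (Fin 2) R, Polynomial.aeval y G ∈ 𝔄 := by
    intro y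
    have := algHom_mem_map (Polynomial.aeval y : Polynomial R →ₐ[R] MvPolynomial (Fin 2) R) 𝔞
      (x := G) (by rw [Polynomial.algebraMap_eq]; exact hGmem)
    rwa [MvPolynomial.algebraMap_eq] at this
  have hg0 : ev0 G ∈ 𝔄 := hev _
  have hg1 : ev1 G ∈ 𝔄 := hev _
  have hg01 : ev01 G ∈ 𝔄 := hev _
  set ρ : ℕ → MvPolynomial (Fin 2) R := fun k => C (r k) * Sq p R (p ^ k) with hρ
  have hρmem : ∀ k, ρ k ∈ 𝔄 := fun k => Ideal.mul_mem_right _ _ (Ideal.mem_map_of_mem _ (hr k))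
  have hρtot : (∑ k ∈ Finset.range N, ρ k) ∈ 𝔄 := Ideal.sum_mem _ (fun k _ => hρmem k)
  -- (A)
  have hA : π n = π (ev01 G) - π (ev0 G) - π (ev1 G) + π (∑ k ∈ Finset.range N, ρ k) := by
    have := Ideal.Quotient.eq.mpr hlaz'
    rw [this, map_add]
    unfold dG ev0 ev1 ev01
    simp only [map_sub]
    rfl
  -- (B)
  have hB : ∀ k, π (ev0 (E p (sfun k) k)) * π (ev1 (E p (sfun k) k)) =
      π (ev01 (E p (sfun k) k)) * (1 - π (ρ k)) := by
    intro k
    have hsr : sfun k * r k ∈ 𝔟 := by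
      rw [mul_comm]; exact h𝔞𝔰 (Ideal.mul_mem_mul (hr k) (hs1 k))
    have hexp := exp_mod (σ := Fin 2) 𝔟 (sfun k) (r k) (hs2 k) hsr
      ((X 0 : MvPolynomial (Fin 2) R) ^ p ^ k) ((X 1 : MvPolynomial (Fin 2) R) ^ p ^ k)
    rw [← Sq_eq_sum, ← add_pow_char_pow] at hexp
    have e0 : ev0 (E p (sfun k) k) =
        ∑ j ∈ Finset.range p, β (sfun k) j • ((X 0 : MvPolynomial (Fin 2) R) ^ p ^ k) ^ j :=
      aeval_E _ _ _
    have e1 : ev1 (E p (sfun k) k) =
        ∑ j ∈ Finset.range p, β (sfun k) j • ((X 1 : MvPolynomial (Fin 2) R) ^ p ^ k) ^ j :=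
      aeval_E _ _ _
    have e01 : ev01 (E p (sfun k) k) =
        ∑ j ∈ Finset.range p, β (sfun k) j • (((X 0 : MvPolynomial (Fin 2) R) + X 1) ^ p ^ k) ^ j :=
      aeval_E _ _ _
    rw [← e0, ← e1, ← e01] at hexp
    have h1' : π (ev0 (E p (sfun k) k) * ev1 (E p (sfun k) k)) =
        π (ev01 (E p (sfun k) k)) - π (ρ k) := by
      rw [← map_sub]
      apply Ideal.Quotient.eq.mpr
      have : ev0 (E p (sfun k) k) * ev1 (E p (sfun k) k) - (ev01 (E p (sfun k) k) - ρ k) =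
          ev0 (E p (sfun k) k) * ev1 (E p (sfun k) k) - ev01 (E p (sfun k) k) +
            C (r k) * Sq p R (p ^ k) := by
        show _ - (_ - C (r k) * Sq p R (p ^ k)) = _
        ring
      rw [this]; exact hexp
    have h2' : π (ev01 (E p (sfun k) k)) * π (ρ k) = π (ρ k) := by
      have hmem : ev01 (E p (sfun k) k) - 1 ∈ 𝔖 := by
        have := algHom_mem_map (Polynomial.aeval ((X 0 : MvPolynomial (Fin 2) R) + X 1) :
          Polynomial R →ₐ[R] MvPolynomial (Fin 2) R) 𝔰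
          (x := E p (sfun k) k - 1) (by rw [Polynomial.algebraMap_eq]; exact E_sub_one_mem (hs1 k) k)
        rw [MvPolynomial.algebraMap_eq, map_sub, map_one] at this
        exact this
      have hz := sqz (ρ k) (ev01 (E p (sfun k) k) - 1) (hρmem k) hmem
      rw [map_mul, map_sub, map_one] at hz
      linear_combination hz
    rw [← map_mul, h1']
    linear_combination h2'
  -- (C)
  have hC : ∏ k ∈ Finset.range N, (1 - π (ρ k)) = 1 - π (∑ k ∈ Finset.range N, ρ k) := by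
    rw [prod_one_sub (fun k => π (ρ k)) (fun i j => sqz' _ _ (hρmem i) (hρmem j)), map_sum]
  -- (D)
  have hmain : π (h * ev0 f * ev1 f) = π (ev01 f) := by
    have hh' : π h = 1 + π n := by rw [hn, map_sub, map_one]; ring
    have f0 : ev0 f = (1 + ev0 G) * ∏ k ∈ Finset.range N, ev0 (E p (sfun k) k) := by
      unfold ev0; rw [hf, map_mul, map_prod, map_add, map_one]
    have f1 : ev1 f = (1 + ev1 G) * ∏ k ∈ Finset.range N, ev1 (E p (sfun k) k) := by
      unfold ev1; rw [hf, map_mul, map_prod, map_add, map_one]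
    have f01 : ev01 f = (1 + ev01 G) * ∏ k ∈ Finset.range N, ev01 (E p (sfun k) k) := by
      unfold ev01; rw [hf, map_mul, map_prod, map_add, map_one]
    rw [f0, f1, f01]
    simp only [map_mul, map_add, map_one, map_prod]
    have hprod : (∏ k ∈ Finset.range N, π (ev0 (E p (sfun k) k))) *
        (∏ k ∈ Finset.range N, π (ev1 (E p (sfun k) k))) =
        (∏ k ∈ Finset.range N, π (ev01 (E p (sfun k) k))) *
          (1 - π (∑ k ∈ Finset.range N, ρ k)) := by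
      rw [← Finset.prod_mul_distrib, ← hC, ← Finset.prod_mul_distrib]
      exact Finset.prod_congr rfl (fun k _ => hB k)
    set x1 := π n
    set x2 := π (ev0 G)
    set x3 := π (ev1 G)
    set x4 := π (∑ k ∈ Finset.range N, ρ k)
    set x5 := π (ev01 G)
    set P0 := ∏ k ∈ Finset.range N, π (ev0 (E p (sfun k) k))
    set P1 := ∏ k ∈ Finset.range N, π (ev1 (E p (sfun k) k))
    set P01 := ∏ k ∈ Finset.range N, π (ev01 (E p (sfun k) k))
    have h12 : x1 * x2 = 0 := sqz' _ _ h1 hg0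
    have h13 : x1 * x3 = 0 := sqz' _ _ h1 hg1
    have h14 : x1 * x4 = 0 := sqz' _ _ h1 hρtot
    have h23 : x2 * x3 = 0 := sqz' _ _ hg0 hg1
    have h24 : x2 * x4 = 0 := sqz' _ _ hg0 hρtot
    have h34 : x3 * x4 = 0 := sqz' _ _ hg1 hρtot
    rw [hh']
    have hkey : (1 + x1) * (1 + x2) * (1 + x3) * (1 - x4) = 1 + x5 := by
      linear_combination (1 + x3 - x4 - x3 * x4) * h12 + (1 - x4) * h13 + (1 - x4) * h23
        - h14 - h24 - h34 + hA
    calc (1 + x1) * ((1 + x2) * P0) * ((1 + x3) * P1)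
        = (1 + x1) * (1 + x2) * (1 + x3) * (P0 * P1) := by ring
      _ = (1 + x1) * (1 + x2) * (1 + x3) * (P01 * (1 - x4)) := by rw [hprod]
      _ = ((1 + x1) * (1 + x2) * (1 + x3) * (1 - x4)) * P01 := by ring
      _ = (1 + x5) * P01 := by rw [hkey]
  have hmain' : h * ev0 f * ev1 f - ev01 f ∈ 𝔅 := Ideal.Quotient.eq.mp hmain
  have hu01 : IsUnit (ev01 f) := hfu.map (Polynomial.aeval _)
  refine ⟨f, h * ev0 f * ev1 f * Ring.inverse (ev01 f), hfu, ?_, ?_, ?_⟩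
  · apply isMC_of_rel hfu hh
    rw [mul_assoc, Ring.inverse_mul_cancel _ hu01, mul_one]
  · rw [mul_assoc, Ring.inverse_mul_cancel _ hu01, mul_one]
  · have : h * ev0 f * ev1 f * Ring.inverse (ev01 f) - 1 =
        (h * ev0 f * ev1 f - ev01 f) * Ring.inverse (ev01 f) := by
      rw [sub_mul, Ring.mul_inverse_cancel _ hu01]
    rw [this]
    exact Ideal.mul_mem_right _ _ hmain'

end Groth.Agent.Lib.Helper1.LazStep
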