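import Mathlib
import Groth.Agent.Lib.Helper1.LazStep

/-!
# Splitting multiplicative cocycles over rings with surjective Frobenius (helper1)
-/

set_option autoImplicit false

namespace Groth.Agent.Lib.Helper1.LazChain

open MvPolynomial Groth.Agent.Lib.Helper1.LazMC Groth.Agent.Lib.Helper1.LazStep

variable {p : ℕ} [hp : Fact p.Prime] {R : Type*} [CommRing R]

omit hp in
lemma bernoulli_nat (p T : ℕ) : p ^ T * (p + T) ≤ p * (p + 1) ^ T := by
  induction T with
  | zero => simp
  | succ T ih =>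
    calc p ^ (T + 1) * (p + (T + 1)) = p ^ T * (p * (p + T + 1)) := by ring
      _ ≤ p ^ T * ((p + 1) * (p + T)) := by
          apply Nat.mul_le_mul_left
          nlinarith
      _ = (p + 1) * (p ^ T * (p + T)) := by ring
      _ ≤ (p + 1) * (p * (p + 1) ^ T) := Nat.mul_le_mul_left _ ih
      _ = p * (p + 1) ^ (T + 1) := by ring

omit hp in
lemma exists_T (p e : ℕ) (hp : 0 < p) : ∃ T, e * p ^ T ≤ (p + 1) ^ T := by
  refine ⟨p * e, ?_⟩
  have h := bernoulli_nat p (p * e)
  have h2 : p * (e * p ^ (p * e)) ≤ p * (p + 1) ^ (p * e) := by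
    calc p * (e * p ^ (p * e)) ≤ p ^ (p * e) * (p + p * e) := by nlinarith [Nat.zero_le (p ^ (p * e))]
      _ ≤ _ := h
  exact Nat.le_of_mul_le_mul_left h2 hp

omit hp in
lemma sup_mul_sup_le (x y : R) (𝔠 : Ideal R) :
    (Ideal.span {x} ⊔ 𝔠) * (Ideal.span {y} ⊔ 𝔠) ≤ Ideal.span {x * y} ⊔ 𝔠 := by
  rw [Ideal.mul_le]
  intro u hu v hv
  obtain ⟨α, c, hc, rfl⟩ := Ideal.mem_span_singleton_sup.mp hu
  obtain ⟨β, c', hc', rfl⟩ := Ideal.mem_span_singleton_sup.mp hv
  have : (α * x + c) * (β * y + c') = (α * β) * (x * y) + (α * x * c' + c * (β * y) + c * c') := by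
    ring
  rw [this]
  apply Ideal.mem_span_singleton_sup.mpr
  exact ⟨α * β, _, 𝔠.add_mem (𝔠.add_mem (𝔠.mul_mem_left _ hc') (𝔠.mul_mem_right _ hc))
    (𝔠.mul_mem_left _ hc'), rfl⟩


/-- composing two splitting steps -/
lemma compose_rel {h h' h'' : MvPolynomial (Fin 2) R} {f f' : Polynomial R}
    (h1 : h' * ev01 f = h * ev0 f * ev1 f) (h2 : h'' * ev01 f' = h' * ev0 f' * ev1 f') :
    h'' * ev01 (f * f') = h * ev0 (f * f') * ev1 (f * f') := by
  rw [ev01_mul, ev0_mul, ev1_mul]
  linear_combination (ev01 f) * h2 + (ev0 f' * ev1 f') * h1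

theorem chain [CharP R p] (hF : ∀ x : R, ∃ y, y ^ p = x) (𝔠 : Ideal R) (h𝔠 : 𝔠 ≤ nilradical R)
    (a : R) (ha : IsNilpotent a) (h : MvPolynomial (Fin 2) R) (hh : IsMC h)
    (h1 : h - 1 ∈ Ideal.map C (Ideal.span {a} ⊔ 𝔠)) :
    ∃ (f : Polynomial R) (h' : MvPolynomial (Fin 2) R), IsUnit f ∧ IsMC h' ∧
      h' * ev01 f = h * ev0 f * ev1 f ∧ h' - 1 ∈ Ideal.map C 𝔠 := by
  classical
  choose root hroot using hF
  set b : ℕ → R := fun t => root^[t] a with hb
  have hb0 : b 0 = a := rfl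
  have hbs : ∀ t, b (t + 1) ^ p = b t := by
    intro t
    simp only [hb, Function.iterate_succ_apply']
    exact hroot _
  have hbpow : ∀ t, b t ^ (p ^ t) = a := by
    intro t
    induction t with
    | zero => simp [hb0]
    | succ t ih => rw [pow_succ', pow_mul, hbs, ih]
  have hbnil : ∀ t, IsNilpotent (b t) := by
    intro t
    obtain ⟨e, he⟩ := ha
    exact ⟨p ^ t * e, by rw [pow_mul, hbpow, he]⟩
  set N : ℕ → ℕ := fun t => (p + 1) ^ t with hN
  have key : ∀ t, ∃ (f : Polynomial R) (h' : MvPolynomial (Fin 2) R), IsUnit f ∧ IsMC h' ∧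
      h' * ev01 f = h * ev0 f * ev1 f ∧
      h' - 1 ∈ Ideal.map C (Ideal.span {b t ^ N t} ⊔ 𝔠) := by
    intro t
    induction t with
    | zero =>
      refine ⟨1, h, isUnit_one, hh, by rw [ev01_one, ev0_one, ev1_one]; ring, ?_⟩
      simpa [hN, hb0] using h1
    | succ t ih =>
      obtain ⟨f, h', hfu, hh', hrel, hmem⟩ := ih
      have hxy : b t ^ N t * b (t + 1) ^ N t = b (t + 1) ^ N (t + 1) := by
        rw [← hbs t, ← pow_mul, ← pow_add]
        congr 1
        simp only [hN]; ring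
      obtain ⟨f', h'', hfu', hh'', hrel', hmem'⟩ :=
        step (p := p) (Ideal.span {b t ^ N t} ⊔ 𝔠) (Ideal.span {b (t + 1) ^ N t} ⊔ 𝔠)
          (Ideal.span {b (t + 1) ^ N (t + 1)} ⊔ 𝔠)
          (by rw [← hxy]; exact sup_mul_sup_le _ _ _)
          (by
            apply sup_le_sup_right
            rw [Ideal.span_singleton_le_span_singleton]
            rw [← hbs t, ← pow_mul, mul_comm, pow_mul]
            exact dvd_pow_self _ hp.out.ne_zero)
          (by
            apply sup_le _ h𝔠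
            rw [Ideal.span_singleton_le_iff_mem, mem_nilradical]
            exact (hbnil (t + 1)).pow_of_pos (by simp [hN]))
          (by
            intro r hr
            obtain ⟨α, c, hc, rfl⟩ := Ideal.mem_span_singleton_sup.mp hr
            refine ⟨root α * b (t + 1) ^ N t, ?_, ?_⟩
            · exact Ideal.mem_sup_left (Ideal.mul_mem_left _ _ (Ideal.mem_span_singleton_self _))
            · have : (root α * b (t + 1) ^ N t) ^ p - (α * b t ^ N t + c) = -c := by
                rw [mul_pow, hroot, ← pow_mul, mul_comm (N t) p, pow_mul, hbs]; ring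
              rw [this]
              exact Ideal.mem_sup_right (𝔠.neg_mem hc))
          h' hh' hmem
      exact ⟨f * f', h'', hfu.mul hfu', hh'', compose_rel hrel hrel', hmem'⟩
  obtain ⟨e, he⟩ := ha
  obtain ⟨T, hT⟩ := exists_T p e hp.out.pos
  obtain ⟨f, h', hfu, hh', hrel, hmem⟩ := key T
  refine ⟨f, h', hfu, hh', hrel, ?_⟩
  have hz : b T ^ N T = 0 := by
    have : N T = e * p ^ T + (N T - e * p ^ T) := by simp only [hN]; omega
    rw [this, pow_add, mul_comm e, pow_mul, hbpow, he, zero_mul]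
  rw [hz] at hmem
  simpa using hmem

end Groth.Agent.Lib.Helper1.LazChain
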