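import Groth.Agent.Lib.Helper1.FinFreeSections
import Groth.Prelude.Def_ModSite

/-!
# Factoring a map out of a finitely presented module through a finite free module, from
matrix data on global sections (site with a final object)
-/

set_option autoImplicit false
universe u
open CategoryTheory CategoryTheory.Limits Opposite

namespace Groth.Agent.Lib.Helper1.LazardB

open Groth.Agent.Lib.Helper1.FinFreeSections

variable {C : Type u} [SmallCategory C] {J : GrothendieckTopology C} {R : Sheaf J RingCat.{u}}
  {X : C} (hX : IsTerminal X)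

/-- the morphism `free I ⟶ N` with prescribed values on the basis (given as elements of `N(X)`) -/
noncomputable def ofVals {I : Type u} (N : SheafOfModules.{u} R) (v : I → N.val.obj (op X)) :
    SheafOfModules.free I ⟶ N :=
  N.freeHomEquiv.symm (fun i => secOf hX N (v i))

lemma ofVals_bas {I : Type u} (N : SheafOfModules.{u} R) (v : I → N.val.obj (op X)) (i : I) :
    ((Γ R (X := X)).map (ofVals hX N v)).hom (bas (R := R) (X := X) I i) = v i := by
  have key : N.freeHomEquiv (ofVals hX N v) i = secOf hX N (v i) :=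
    congrFun (Equiv.apply_symm_apply _ _) i
  have h1 := freeHomEquiv_val (X := X) I N (ofVals hX N v) i
  rw [key] at h1
  exact h1.symm.trans (secOf_val hX N _)

include hX in
/-- morphisms out of a finite free module agree if they agree on the basis sections -/
lemma free_hom_ext {I : Type u} [Finite I] {N : SheafOfModules.{u} R}
    (a b : SheafOfModules.free I ⟶ N)
    (h : ∀ i, ((Γ R (X := X)).map a).hom (bas (R := R) (X := X) I i) =
      ((Γ R (X := X)).map b).hom (bas (R := R) (X := X) I i)) : a = b := by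
  apply (bijective_Γ_map_free hX I N).1
  exact Γfree_hom_ext I _ _ h

lemma eq_sum_bas {I : Type u} [Fintype I] (y : (Γ R (X := X)).obj (SheafOfModules.free I)) :
    y = ∑ j, (ΓfreeEquiv (R := R) (X := X) I y) j • bas (R := R) (X := X) I j := by
  conv_lhs => rw [← (ΓfreeEquiv (R := R) (X := X) I).symm_apply_apply y]
  show Finsupp.linearCombination _ (bas (R := R) (X := X) I) _ = _
  rw [Finsupp.linearCombination_apply]
  exact Finsupp.sum_fintype _ _ (fun i => zero_smul _ _)

include hX in
theorem factor_of_matrix {G Rl : Type u} [Fintype G] [Finite Rl] {F H : SheafOfModules.{u} R}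
    (φ : F ⟶ H) (ρ : SheafOfModules.free Rl ⟶ SheafOfModules.free G)
    (π : SheafOfModules.free G ⟶ F) (w : ρ ≫ π = 0)
    (hc : IsColimit (CokernelCofork.ofπ π w)) (l : ℕ) (t : Fin l → H.val.obj (op X))
    (a : G → Fin l → R.obj.obj (op X))
    (h1 : ∀ γ, ((Γ R (X := X)).map (π ≫ φ)).hom (bas (R := R) (X := X) G γ) = ∑ k, a γ k • t k)
    (h2 : ∀ r k, ∑ γ, (ΓfreeEquiv (R := R) (X := X) G
      (((Γ R (X := X)).map ρ).hom (bas (R := R) (X := X) Rl r))) γ * a γ k = 0) :
    ∃ (α : F ⟶ SheafOfModules.free (ULift.{u} (Fin l)))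
      (β : SheafOfModules.free (ULift.{u} (Fin l)) ⟶ H), α ≫ β = φ := by
  let L := ULift.{u} (Fin l)
  let A : SheafOfModules.free G ⟶ SheafOfModules.free L :=
    ofVals hX _ (fun γ => ∑ k : Fin l, a γ k • bas (R := R) (X := X) L ⟨k⟩)
  let β : SheafOfModules.free L ⟶ H := ofVals hX H (fun k => t k.down)
  have hA : ∀ γ, ((Γ R (X := X)).map A).hom (bas (R := R) (X := X) G γ) =
      ∑ k : Fin l, a γ k • bas (R := R) (X := X) L ⟨k⟩ := fun γ => ofVals_bas hX _ _ γ
  have hβ : ∀ k : L, ((Γ R (X := X)).map β).hom (bas (R := R) (X := X) L k) = t k.down :=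
    fun k => ofVals_bas hX _ _ k
  have hρA : ρ ≫ A = 0 := by
    apply free_hom_ext hX
    intro r
    rw [Functor.map_comp, Functor.map_zero]
    show ((Γ R (X := X)).map A).hom (((Γ R (X := X)).map ρ).hom (bas (R := R) (X := X) Rl r)) = 0
    rw [eq_sum_bas (((Γ R (X := X)).map ρ).hom (bas (R := R) (X := X) Rl r)), map_sum]
    simp only [map_smul, hA, Finset.smul_sum, smul_smul]
    rw [Finset.sum_comm]
    refine Finset.sum_eq_zero (fun k _ => ?_)
    rw [← Finset.sum_smul, h2, zero_smul]
  let α : F ⟶ SheafOfModules.free L := hc.desc (CokernelCofork.ofπ A hρA)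
  have hα : π ≫ α = A := hc.fac (CokernelCofork.ofπ A hρA) WalkingParallelPair.one
  refine ⟨α, β, ?_⟩
  apply Cofork.IsColimit.hom_ext hc
  show π ≫ α ≫ β = π ≫ φ
  rw [← Category.assoc, hα]
  apply free_hom_ext hX
  intro γ
  rw [h1, Functor.map_comp]
  show ((Γ R (X := X)).map β).hom (((Γ R (X := X)).map A).hom (bas (R := R) (X := X) G γ)) = _
  rw [hA, map_sum]
  refine Finset.sum_congr rfl (fun k _ => ?_)
  rw [map_smul, hβ]
  rfl

end Groth.Agent.Lib.Helper1.LazardB
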