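import Groth.Agent.Lib.Helper1.LazardSite

/-!
# Maps from a module of finite presentation to a flat module factor locally through finite free
modules (Mathlib's `IsFinitePresentation`)
-/

set_option autoImplicit false
universe u
open CategoryTheory CategoryTheory.Limits Opposite

namespace Groth.Agent.Lib.Helper1.LazardFP

open Groth.Agent.Lib.Helper1.PresRestrict Groth.Agent.Lib.Helper1.LazardSite

variable {C : Type u} [SmallCategory C] {J : GrothendieckTopology C}
  (O : Sheaf J CommRingCat.{u})

/-- at an object mapping to a member of the covering family: local factorisations -/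
theorem factor_over (F H : ModSite.Mod O) (hH : ModSite.IsFlat H) (φ : F ⟶ H)
    {X₀ : C} (P : ((ModSite.restr O X₀).obj F).Presentation) (hG : Finite P.generators.I)
    (hR : Finite P.relations.I) {W : C} (h : W ⟶ X₀) :
    ∃ S ∈ J W, ∀ ⦃V : C⦄ (g : V ⟶ W), S g →
      ∃ (l : ℕ) (α : (ModSite.restr O V).obj F ⟶ SheafOfModules.free (ULift.{u} (Fin l)))
        (β : SheafOfModules.free (ULift.{u} (Fin l)) ⟶ (ModSite.restr O V).obj H),
        α ≫ β = (ModSite.restr O V).map φ := by
  classical
  haveI : Fintype P.generators.I := Fintype.ofFinite _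
  haveI : Fintype P.relations.I := Fintype.ofFinite _
  have w : ((SheafOfModules.freeHomEquiv _).symm P.relations.s ≫ kernel.ι _) ≫
      P.generators.π = 0 := by simp
  exact local_factor O F H hH φ W (ρ' O h _) (π' O h _) (w' O h w) (hc' O h w P.isColimit)

theorem factor_locally (F H : ModSite.Mod O) [F.IsFinitePresentation] (hH : ModSite.IsFlat H)
    (φ : F ⟶ H) (X : C) :
    ∃ (ι : Type u) (Y : ι → C) (g : ∀ i, Y i ⟶ X), Sieve.ofArrows Y g ∈ J X ∧
      ∀ i, ∃ (n : ℕ) (a : (ModSite.restr O (Y i)).obj F ⟶ SheafOfModules.free (ULift.{u} (Fin n)))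
        (b : SheafOfModules.free (ULift.{u} (Fin n)) ⟶ (ModSite.restr O (Y i)).obj H),
        a ≫ b = (ModSite.restr O (Y i)).map φ := by
  obtain ⟨σ, hσ⟩ := SheafOfModules.IsFinitePresentation.exists_quasicoherentData F
  have hT := σ.coversTop X
  -- local data
  have key : ∀ ⦃W : C⦄ (p : W ⟶ X), (Sieve.ofObjects σ.X X) p →
      ∃ S ∈ J W, ∀ ⦃V : C⦄ (g : V ⟶ W), S g →
        ∃ (l : ℕ) (α : (ModSite.restr O V).obj F ⟶ SheafOfModules.free (ULift.{u} (Fin l)))
          (β : SheafOfModules.free (ULift.{u} (Fin l)) ⟶ (ModSite.restr O V).obj H),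
          α ≫ β = (ModSite.restr O V).map φ := by
    intro W p hp
    obtain ⟨i, ⟨h⟩⟩ := (Sieve.mem_ofObjects_iff ..).mp hp
    have hfin := hσ.isFinite_presentation i
    exact factor_over O F H hH φ (σ.presentation i)
      hfin.isFiniteType_generators.finite hfin.isFiniteType_relations.finite h
  choose S hS hfac using key
  let B : Sieve X := Sieve.bind (Sieve.ofObjects σ.X X) (fun W p hp => S p hp)
  have hB : B ∈ J X := J.bind_covering hT (fun W p hp => hS p hp)
  refine ⟨Σ V : C, {f : V ⟶ X // B f}, fun x => x.1, fun x => x.2.1, ?_, ?_⟩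
  · refine J.superset_covering ?_ hB
    intro V f hf
    exact ⟨V, 𝟙 V, f, Presieve.ofArrows.mk (ι := Σ V : C, {f : V ⟶ X // B f}) ⟨V, f, hf⟩,
      Category.id_comp f⟩
  · rintro ⟨V, f, hf⟩
    obtain ⟨W, g, p, hp, hg, rfl⟩ := hf
    exact hfac p hp g hg

end Groth.Agent.Lib.Helper1.LazardFP
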