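import Groth.Agent.Lib.Helper1.PresRestrict
import Groth.Agent.Lib.Helper1.EqCritMatrix

/-!
# Maps from a finitely presented module to a flat module factor locally through finite free modules
-/

set_option autoImplicit false
universe u
open CategoryTheory CategoryTheory.Limits Opposite

namespace Groth.Agent.Lib.Helper1.LazardSite

open Groth.Agent.Lib.Helper1.OverMapExact Groth.Agent.Lib.Helper1.FinFreeSections
  Groth.Agent.Lib.Helper1.LazardB Groth.Agent.Lib.Helper1.PresRestrict
  Groth.Agent.Lib.Helper1.EqCritMatrix Groth.Agent.Lib.Helper1.TensorAdj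

variable {C : Type u} [SmallCategory C] {J : GrothendieckTopology C}
  (O : Sheaf J CommRingCat.{u})

theorem local_factor (F H : ModSite.Mod O) (hH : ModSite.IsFlat H) (φ : F ⟶ H) (W : C)
    {G Rl : Type u} [Fintype G] [Fintype Rl] [DecidableEq G]
    (ρ : SheafOfModules.free (R := ModSite.ringSh (O.over W)) Rl ⟶
      SheafOfModules.free (R := ModSite.ringSh (O.over W)) G)
    (π : SheafOfModules.free (R := ModSite.ringSh (O.over W)) G ⟶ (ModSite.restr O W).obj F)
    (w : ρ ≫ π = 0) (hc : IsColimit (CokernelCofork.ofπ π w)) :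
    ∃ S ∈ J W, ∀ ⦃V : C⦄ (g : V ⟶ W), S g →
      ∃ (l : ℕ) (α : (ModSite.restr O V).obj F ⟶ SheafOfModules.free (ULift.{u} (Fin l)))
        (β : SheafOfModules.free (ULift.{u} (Fin l)) ⟶ (ModSite.restr O V).obj H),
        α ≫ β = (ModSite.restr O V).map φ := by
  -- data at `W`
  let s : G → (under O H).obj (op W) := fun γ =>
    ((ModSite.restr O W).map φ).val.app (op (top W))
      (π.val.app (op (top W)) (bas (R := ModSite.ringSh (O.over W)) (X := top W) G γ))
  let c : Rl → G → O.obj.obj (op W) := fun r γ =>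
    (ΓfreeEquiv (R := ModSite.ringSh (O.over W)) (X := top W) G
      (ρ.val.app (op (top W)) (bas (R := ModSite.ringSh (O.over W)) (X := top W) Rl r))) γ
  have hrel : ∀ r, ∑ γ, c r γ • s γ = 0 := by
    intro r
    let ψ : SheafOfModules.free (R := ModSite.ringSh (O.over W)) G ⟶ (ModSite.restr O W).obj H :=
      π ≫ (ModSite.restr O W).map φ
    have hy := eq_sum_bas (R := ModSite.ringSh (O.over W)) (X := top W)
      (ρ.val.app (op (top W)) (bas (R := ModSite.ringSh (O.over W)) (X := top W) Rl r))
    have h0 : ρ ≫ ψ = 0 := by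
      show ρ ≫ π ≫ _ = 0
      rw [← Category.assoc, w, zero_comp]
    have h1 := congrArg (fun χ => ((Γ (ModSite.ringSh (O.over W)) (X := top W)).map χ).hom
      (bas (R := ModSite.ringSh (O.over W)) (X := top W) Rl r)) h0
    have h2 : ((Γ (ModSite.ringSh (O.over W)) (X := top W)).map ψ).hom
        (((Γ (ModSite.ringSh (O.over W)) (X := top W)).map ρ).hom
          (bas (R := ModSite.ringSh (O.over W)) (X := top W) Rl r)) = 0 := h1
    have h3 := (congrArg ((Γ (ModSite.ringSh (O.over W)) (X := top W)).map ψ).hom hy).symm.trans h2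
    rw [map_sum] at h3
    refine Eq.trans ?_ h3
    refine Finset.sum_congr rfl (fun γ _ => ?_)
    rw [map_smul]
    rfl
  let eG := Fintype.equivFin G
  let eR := Fintype.equivFin Rl
  obtain ⟨S, hS, h⟩ := eqCrit_matrix H hH (Fintype.card Rl) W (Fintype.card G)
    (fun r i => c (eR.symm r) (eG.symm i)) (fun i => s (eG.symm i)) (by
      intro r
      rw [← hrel (eR.symm r)]
      exact Fintype.sum_equiv eG.symm _ _ (fun _ => rfl))
  refine ⟨S, hS, fun V g hg => ?_⟩
  obtain ⟨l, t, a, h1, h2⟩ := h g hg
  refine ⟨l, ?_⟩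
  refine factor_of_matrix (R := ModSite.ringSh (O.over V)) (topIsTerminal V)
    ((ModSite.restr O V).map φ) (ρ' O g ρ) (π' O g π) (w' O g w) (hc' O g w hc) l t
    (fun γ k => a (eG γ) k) ?_ ?_
  · intro γ
    have e1 := h1 (eG γ)
    rw [Equiv.symm_apply_apply] at e1
    refine Eq.trans ?_ e1
    rw [Functor.map_comp]
    show ((ModSite.restr O V).map φ).val.app (op (top V))
      ((π' O g π).val.app (op (top V)) (bas (R := ModSite.ringSh (O.over V)) (X := top V) G γ)) = _
    rw [π'_bas]
    have e2 := PresheafOfModules.naturality_apply φ.val (Q g).hom.op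
      (π.val.app (op (top W)) (bas (R := ModSite.ringSh (O.over W)) (X := top W) G γ))
    refine Eq.trans e2 ?_
    show res H (Q g).hom (s γ) = res H g (s γ)
    have e3 : (Q g).hom = g := Category.id_comp g
    rw [e3]
  · intro r k
    have e1 := h2 (eR r) k
    simp only [Equiv.symm_apply_apply] at e1
    refine Eq.trans ?_ e1
    rw [Fintype.sum_equiv eG.symm (fun i => a i k * O.obj.map g.op (c r (eG.symm i)))
      (fun γ => a (eG γ) k * O.obj.map g.op (c r γ)) (fun i => by simp)]
    refine Finset.sum_congr rfl (fun γ _ => ?_)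
    have e3 : (Q g).hom = g := Category.id_comp g
    have e4 : (ModSite.ringSh (O.over W)).obj.map (toTop g).op (c r γ) = O.obj.map g.op (c r γ) := by
      show O.obj.map (Q g).hom.op (c r γ) = O.obj.map g.op (c r γ)
      rw [e3]
    have e5 : (show O.obj.obj (op V) from
        (ΓfreeEquiv (R := ModSite.ringSh (O.over V)) (X := top V) G
          (((Γ (ModSite.ringSh (O.over V)) (X := top V)).map (ρ' O g ρ)).hom
            (bas (R := ModSite.ringSh (O.over V)) (X := top V) Rl r))) γ) =
        O.obj.map g.op (c r γ) := (ρ'_coord O g (ρ := ρ) r γ).trans e4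
    exact (congrArg (fun x : O.obj.obj (op V) => x * a (eG γ) k) e5).trans (mul_comm _ _)

end Groth.Agent.Lib.Helper1.LazardSite
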