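import Mathlib
import Groth.Agent.Lib.Helper1.LocFree1
import Groth.Agent.Lib.Helper1.LocPC3

/-!
# Helper1 — LocFree2: cycles of complexes of finite locally free modules that are exact in high
degrees
-/

set_option autoImplicit false
universe u
open CategoryTheory CategoryTheory.Limits AlgebraicGeometry

namespace Groth.Agent.Lib.Helper1.LocFree

open Groth.Agent.Lib.Helper16.RS Groth.Agent.Lib.Helper1.LocPerf Groth.Agent.Lib.Helper1.LocPC

variable {X : Scheme.{u}}

/-- the kernel of `toCycles i (i+1)` is `cycles i`. -/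
noncomputable def kernelToCyclesIso (E : CochainComplex X.Modules ℤ) (i j : ℤ) (hij : i + 1 = j) :
    kernel (E.toCycles i j) ≅ E.cycles i :=
  IsLimit.conePointUniqueUpToIso (kernelIsKernel _)
    (isKernelOfComp (f := E.toCycles i j) (E.iCycles j) (E.d i j)
      (E.cyclesIsKernel i j (by simp [← hij]))
      (by rw [← cancel_mono (E.iCycles j), Category.assoc, E.toCycles_i, zero_comp]
          exact E.iCycles_d i j)
      (E.toCycles_i i j))

theorem epi_toCycles (E : CochainComplex X.Modules ℤ) (i j : ℤ) (hij : i + 1 = j)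
    (h : IsZero (E.homology j)) : Epi (E.toCycles i j) :=
  Preadditive.epi_of_isZero_cokernel' _ (E.homologyIsCokernel i j (by simp [← hij])) h

/-- cycles of a bounded above complex of finite locally free modules, exact above degree `n`. -/
theorem isFinLocFree_cycles (E : CochainComplex X.Modules ℤ)
    (hE : ∀ i : ℤ, FlatMod.IsFinLocFree (E.X i)) (b : ℤ) (hb : ∀ i : ℤ, b < i → IsZero (E.X i))
    (n : ℤ) (hn : ∀ i : ℤ, n < i → IsZero (E.homology i)) :
    ∀ i : ℤ, n ≤ i → FlatMod.IsFinLocFree (E.cycles i) := by
  have key : ∀ (k : ℕ) (i : ℤ), n ≤ i → b < i + k → FlatMod.IsFinLocFree (E.cycles i) := by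
    intro k
    induction k with
    | zero =>
      intro i _ hi
      have hz : IsZero (E.cycles i) := by
        rw [IsZero.iff_id_eq_zero, ← cancel_mono (E.iCycles i)]
        exact (hb i (by simpa using hi)).eq_of_tgt _ _
      exact isFinLocFree_of_isZero _ hz
    | succ k ih =>
      intro i hni hi
      have h1 : FlatMod.IsFinLocFree (E.cycles (i + 1)) := ih (i + 1) (by omega) (by push_cast at hi; omega)
      haveI := epi_toCycles E i (i + 1) rfl (hn (i + 1) (by omega))
      exact isFinLocFree_of_iso (kernelToCyclesIso E i (i + 1) rfl)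
        (isFinLocFree_kernel (E.toCycles i (i + 1)) (hE i) h1)
  intro i hi
  obtain ⟨k, hk⟩ : ∃ k : ℕ, b < i + k := ⟨(b - i + 1).toNat, by omega⟩
  exact key k i hi hk

end Groth.Agent.Lib.Helper1.LocFree
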