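import Mathlib
import Groth.Agent.Lib.Helper1.LocFree2
import Groth.Agent.Lib.Helper17.FinTypeConv
import Groth.Agent.Lib.Helper28.QCohConv

/-!
# Helper1 — LocFree3: finite type and finite presentation of `O_X`-modules are local properties
-/

set_option autoImplicit false
universe u
open CategoryTheory CategoryTheory.Limits AlgebraicGeometry Opposite TopologicalSpace

namespace Groth.Agent.Lib.Helper1.LocFree

open Groth.Agent.Lib.Helper16.RS Groth.Agent.Lib.Helper1.LocPerf Groth.Agent.Lib.Helper1.LocPC
  Groth.Agent.Lib.Helper29.FPDict Groth.Agent.Lib.Helper28.QCohLoc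

variable {X : Scheme.{u}}

/-- comparison of `(M|_V)|_U` transported to `V.ι ''ᵁ U` with `M|_{V.ι ''ᵁ U}`. -/
noncomputable def restrictImageIso (M : X.Modules) (V : X.Opens) (U : (V : Scheme.{u}).Opens) :
    (Scheme.Modules.restrictFunctor (V.ι.isoImage U).inv).obj ((M.restrict V.ι).restrict U.ι) ≅
      M.restrict (V.ι ''ᵁ U).ι :=
  (Scheme.Modules.restrictFunctor (V.ι.isoImage U).inv).mapIso
      (restrictFacIso V.ι U.ι (U.ι ≫ V.ι) rfl M) ≪≫
    restrictFacIso (U.ι ≫ V.ι) (V.ι.isoImage U).inv (V.ι ''ᵁ U).ι (by simp) M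

set_option backward.isDefEq.respectTransparency false in
/-- finite type is a local property. -/
theorem isFiniteType_of_locally (M : X.Modules)
    (h : ∀ x : X, ∃ V : X.Opens, x ∈ V ∧
      SheafOfModules.IsFiniteType.{u} (R := (V : Scheme.{u}).ringCatSheaf) (M.restrict V.ι)) :
    SheafOfModules.IsFiniteType.{u} (R := X.ringCatSheaf) M := by
  choose V hxV hV using h
  have h2 : ∀ x : X, ∃ (ι : Type u) (U : ι → (V x : Scheme.{u}).Opens)
      (σ : ∀ i, ((M.restrict (V x).ι).restrict (U i).ι).GeneratingSections),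
      (∀ i, (σ i).IsFiniteType) ∧ IsOpenCover U ∧ (∀ i, IsAffineOpen (U i)) := fun x => by
    haveI := hV x
    exact Groth.Agent.Lib.Helper28.FinType.exists_isOpenCover_generatingSections (M.restrict (V x).ι)
  choose ι U σ hσ hcov _ using h2
  refine Groth.Agent.Lib.Helper17.FinTypeConv.isFiniteType_of_generatingSections_cover M
    (fun p : (Σ x : X, ι x) => (V p.1).ι ''ᵁ (U p.1 p.2)) ?_ (fun p => ?_) ?_
  · rw [IsOpenCover, eq_top_iff]
    intro y _
    have hy : (⟨y, hxV y⟩ : (V y : Scheme.{u})) ∈ (⨆ i, U y i) := by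
      rw [hcov y]; trivial
    obtain ⟨i, hi⟩ := TopologicalSpace.Opens.mem_iSup.1 hy
    exact TopologicalSpace.Opens.mem_iSup.2 ⟨⟨y, i⟩, ⟨⟨y, hxV y⟩, hi, rfl⟩⟩
  · haveI : PreservesColimitsOfSize.{u, u}
        (Scheme.Modules.restrictFunctor ((V p.1).ι.isoImage (U p.1 p.2)).inv) := inferInstance
    exact ((σ p.1 p.2).map (Scheme.Modules.restrictFunctor ((V p.1).ι.isoImage (U p.1 p.2)).inv)
      (Scheme.Modules.restrictUnitIso _).symm).ofEpi (restrictImageIso M (V p.1) (U p.1 p.2)).hom
  · intro p
    haveI := hσ p.1 p.2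
    infer_instance


attribute [local instance] map_isFinite in
set_option backward.isDefEq.respectTransparency.types false in
/-- a module with finite presentations on the members of an open cover is finitely presented. -/
theorem isFinitePresentation_of_presentation_cover (M : X.Modules) {ι : Type u} (U : ι → X.Opens)
    (hcov : IsOpenCover U) (P : ∀ i, (M.restrict (U i).ι).Presentation)
    (hP : ∀ i, (P i).IsFinite) :
    SheafOfModules.IsFinitePresentation.{u} (R := X.ringCatSheaf) M := by
  let q : SheafOfModules.QuasicoherentData.{u, u, u, u} M :=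
    { I := ι
      X := U
      coversTop := by rw [Opens.coversTop_iff]; exact hcov
      presentation := fun i => presentationOver M (U i) (P i) }
  have hfinP : ∀ i, (presentationOver M (U i) (P i)).IsFinite := by
    intro i
    haveI := hP i
    unfold presentationOver
    infer_instance
  haveI : q.IsFinitePresentation := { isFinite_presentation := fun i => hfinP i }
  exact { exists_quasicoherentData := ⟨q, inferInstance⟩ }

attribute [local instance] map_isFinite in
set_option backward.isDefEq.respectTransparency.types false in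
/-- finite presentation is a local property. -/
theorem isFinitePresentation_of_locally (M : X.Modules)
    (h : ∀ x : X, ∃ V : X.Opens, x ∈ V ∧
      SheafOfModules.IsFinitePresentation.{u} (R := (V : Scheme.{u}).ringCatSheaf)
        (M.restrict V.ι)) :
    SheafOfModules.IsFinitePresentation.{u} (R := X.ringCatSheaf) M := by
  choose V hxV hV using h
  have h2 : ∀ x : X, ∃ (ι : Type u) (U : ι → (V x : Scheme.{u}).Opens)
      (P : ∀ i, ((M.restrict (V x).ι).restrict (U i).ι).Presentation),
      (∀ i, (P i).IsFinite) ∧ IsOpenCover U ∧ (∀ i, IsAffineOpen (U i)) := fun x => by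
    haveI := hV x
    exact exists_isOpenCover_presentation_finite (M.restrict (V x).ι)
  choose ι U P hP hcov _ using h2
  refine isFinitePresentation_of_presentation_cover M
    (fun p : (Σ x : X, ι x) => (V p.1).ι ''ᵁ (U p.1 p.2)) ?_
    (fun p => SheafOfModules.Presentation.ofIsIso.{u, u, u}
      (restrictImageIso M (V p.1) (U p.1 p.2)).hom
      (Scheme.Modules.presentationRestrict ((V p.1).ι.isoImage (U p.1 p.2)).inv (P p.1 p.2))) ?_
  · rw [IsOpenCover, eq_top_iff]
    intro y _
    have hy : (⟨y, hxV y⟩ : (V y : Scheme.{u})) ∈ (⨆ i, U y i) := by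
      rw [hcov y]; trivial
    obtain ⟨i, hi⟩ := TopologicalSpace.Opens.mem_iSup.1 hy
    exact TopologicalSpace.Opens.mem_iSup.2 ⟨⟨y, i⟩, ⟨⟨y, hxV y⟩, hi, rfl⟩⟩
  · intro p
    haveI := hP p.1 p.2
    unfold Scheme.Modules.presentationRestrict
    infer_instance

end Groth.Agent.Lib.Helper1.LocFree
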