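import Mathlib
import Groth.Agent.Lib.Helper1.LocFree3

/-!
# Helper1 — LocFree4: top cohomology of a strictly perfect complex is finitely presented
-/

set_option autoImplicit false
universe u
open CategoryTheory CategoryTheory.Limits AlgebraicGeometry Opposite TopologicalSpace

namespace Groth.Agent.Lib.Helper1.LocFree

open Groth.Agent.Lib.Helper16.RS Groth.Agent.Lib.Helper1.LocPerf Groth.Agent.Lib.Helper1.LocPC
  Groth.Agent.Lib.Helper29.FPDict Groth.Agent.Lib.Helper29.FPFree

variable {X : Scheme.{u}}

/-- the top cohomology sheaf of a bounded above complex of finite locally free modules is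
finitely presented. -/
theorem isFinitePresentation_homology (E : CochainComplex X.Modules ℤ)
    (hE : ∀ i : ℤ, FlatMod.IsFinLocFree (E.X i)) (b : ℤ) (hb : ∀ i : ℤ, b < i → IsZero (E.X i))
    (n : ℤ) (hn : ∀ i : ℤ, n < i → IsZero (E.homology i)) :
    SheafOfModules.IsFinitePresentation.{u} (R := X.ringCatSheaf) (E.homology n) := by
  have h1 : SheafOfModules.IsFinitePresentation.{u} (R := X.ringCatSheaf) (E.cycles n) :=
    isFinitePresentation_of_isFinLocFree _ (isFinLocFree_cycles E hE b hb n hn n le_rfl)
  have h2 : SheafOfModules.IsFinitePresentation.{u} (R := X.ringCatSheaf) (E.X (n - 1)) :=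
    isFinitePresentation_of_isFinLocFree _ (hE (n - 1))
  have e : cokernel (E.toCycles (n - 1) n) ≅ E.homology n :=
    (colimit.isColimit _).coconePointUniqueUpToIso (E.homologyIsCokernel (n - 1) n (by simp))
  have h3 : SheafOfModules.IsFinitePresentation.{u} (R := X.ringCatSheaf)
      (cokernel (E.toCycles (n - 1) n)) :=
    @isFinitePresentation_cokernel _ _ _ h2 h1 (E.toCycles (n - 1) n)
  exact @isFinitePresentation_of_iso _ _ _ e h3

theorem isFinitePresentation_homology_of_isStrictlyPerfect (E : CochainComplex X.Modules ℤ)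
    (hE : DCoh.IsStrictlyPerfect E) (n : ℤ) (hn : ∀ i : ℤ, n < i → IsZero (E.homology i)) :
    SheafOfModules.IsFinitePresentation.{u} (R := X.ringCatSheaf) (E.homology n) := by
  obtain ⟨⟨a, b, hab⟩, hflf⟩ := hE
  exact isFinitePresentation_homology E hflf b (fun i hi => hab i (Or.inr hi)) n hn

end Groth.Agent.Lib.Helper1.LocFree
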