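import Mathlib
import Groth.Agent.Lib.Helper1.LocFree4

/-!
# Helper1 — LocFree5: modules that are finite locally free over an open subset
-/

set_option autoImplicit false
universe u
open CategoryTheory CategoryTheory.Limits AlgebraicGeometry Opposite TopologicalSpace

namespace Groth.Agent.Lib.Helper1.LocFree

open Groth.Agent.Lib.Helper16.RS Groth.Agent.Lib.Helper1.LocPerf Groth.Agent.Lib.Helper1.LocPC
  Groth.Agent.Lib.Helper29.FPDict Groth.Agent.Lib.Helper29.FPFree
  Groth.Agent.Lib.Helper2.HZDepth5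

variable {X : Scheme.{u}}

/-- `M` is finite locally free over the open `W`. -/
def FL (M : X.Modules) (W : X.Opens) : Prop := FlatMod.IsFinLocFree (M.restrict W.ι)

theorem FL.mono {M : X.Modules} {W₁ W : X.Opens} (hM : FL M W) (h : W₁ ≤ W) : FL M W₁ :=
  isFinLocFree_of_iso (restrictFacIso W.ι (X.homOfLE h) W₁.ι (X.homOfLE_ι h) M)
    (isFinLocFree_restrict (X.homOfLE h) _ hM)

theorem FL.of_iso {M M' : X.Modules} {W : X.Opens} (hM : FL M W) (e : M ≅ M') : FL M' W :=
  isFinLocFree_of_iso ((Scheme.Modules.restrictFunctor W.ι).mapIso e) hM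

theorem FL.of_isZero {M : X.Modules} (hM : IsZero M) (W : X.Opens) : FL M W :=
  isFinLocFree_of_isZero _ ((Scheme.Modules.restrictFunctor W.ι).map_isZero hM)

theorem FL.of_isFinLocFree {M : X.Modules} (hM : FlatMod.IsFinLocFree M) (W : X.Opens) : FL M W :=
  isFinLocFree_restrict W.ι M hM

theorem FL.kernel {A B : X.Modules} (p : A ⟶ B) [Epi p] {W : X.Opens} (hA : FL A W)
    (hB : FL B W) : FL (kernel p) W := by
  haveI : Epi ((Scheme.Modules.restrictFunctor W.ι).map p) := by
    haveI : (Scheme.Modules.restrictFunctor W.ι).PreservesEpimorphisms :=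
      preservesEpimorphisms_of_preservesColimitsOfShape _
    infer_instance
  exact isFinLocFree_of_iso (PreservesKernel.iso (Scheme.Modules.restrictFunctor W.ι) p).symm
    (isFinLocFree_kernel _ hA hB)

/-- transport along the image of an open of an open subscheme. -/
theorem FL.image {M : X.Modules} (V : X.Opens) (W' : (V : Scheme.{u}).Opens)
    (h : FL (M.restrict V.ι) W') : FL M (V.ι ''ᵁ W') :=
  isFinLocFree_of_iso (restrictImageIso M V W')
    (isFinLocFree_restrict (V.ι.isoImage W').inv _ h)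

/-- the cokernel of a map between modules that are finite locally free over `W`, with a flat
stalk at `x ∈ W`, is finite locally free over a smaller neighbourhood of `x`. -/
theorem FL.exists_cokernel {A B : X.Modules} (φ : A ⟶ B) {W : X.Opens} (hA : FL A W)
    (hB : FL B W) (x : X) (hx : x ∈ W)
    (hflat : Module.Flat (X.presheaf.stalk x) ((cokernel φ).presheaf.stalk x)) :
    ∃ W₁ : X.Opens, W₁ ≤ W ∧ x ∈ W₁ ∧ FL (cokernel φ) W₁ := by
  have h1 : SheafOfModules.IsFinitePresentation.{u} (R := (W : Scheme.{u}).ringCatSheaf)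
      (A.restrict W.ι) := isFinitePresentation_of_isFinLocFree _ hA
  have h2 : SheafOfModules.IsFinitePresentation.{u} (R := (W : Scheme.{u}).ringCatSheaf)
      (B.restrict W.ι) := isFinitePresentation_of_isFinLocFree _ hB
  have h3 : SheafOfModules.IsFinitePresentation.{u} (R := (W : Scheme.{u}).ringCatSheaf)
      (cokernel ((Scheme.Modules.restrictFunctor W.ι).map φ)) :=
    @isFinitePresentation_cokernel _ _ _ h1 h2 _
  have h4 : SheafOfModules.IsFinitePresentation.{u} (R := (W : Scheme.{u}).ringCatSheaf)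
      ((cokernel φ).restrict W.ι) :=
    @isFinitePresentation_of_iso _ _ _
      (PreservesCokernel.iso (Scheme.Modules.restrictFunctor W.ι) φ).symm h3
  have h5 : Module.Flat ((W : Scheme.{u}).presheaf.stalk ⟨x, hx⟩)
      (((cokernel φ).restrict W.ι).presheaf.stalk ⟨x, hx⟩) := by
    haveI : Module.Flat (X.presheaf.stalk (W.ι ⟨x, hx⟩))
      ((cokernel φ).presheaf.stalk (W.ι ⟨x, hx⟩)) := hflat
    exact flat_of_semilinear (psi W.ι ⟨x, hx⟩)
      (hh W.ι (cokernel φ) ⟨x, hx⟩).addCommGroupIsoToAddEquiv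
      (fun r m => hh_smul W.ι (cokernel φ) ⟨x, hx⟩ r m)
  obtain ⟨W', hxW', hW'⟩ :=
    @exists_nhd_isFinLocFree_of_flat_stalk _ ((cokernel φ).restrict W.ι) h4 ⟨x, hx⟩ h5
  exact ⟨W.ι ''ᵁ W', W.ι_image_le W', ⟨⟨x, hx⟩, hxW', rfl⟩, FL.image W W' hW'⟩

end Groth.Agent.Lib.Helper1.LocFree
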