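import Mathlib
import Groth.Agent.Lib.Helper1.LocFree5

/-!
# Helper1 — LocFree6: a strictly perfect complex whose cohomology sheaves have flat stalks at a
point has finite locally free cohomology sheaves near that point
-/

set_option autoImplicit false
universe u
open CategoryTheory CategoryTheory.Limits AlgebraicGeometry Opposite TopologicalSpace

namespace Groth.Agent.Lib.Helper1.LocFree

open Groth.Agent.Lib.Helper16.RS Groth.Agent.Lib.Helper1.LocPerf Groth.Agent.Lib.Helper1.LocPC
  Groth.Agent.Lib.Helper29.FPDict Groth.Agent.Lib.Helper29.FPFree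

variable {X : Scheme.{u}}

theorem epi_lift_boundaries (P : CochainComplex X.Modules ℤ) (i j : ℤ) (hij : i + 1 = j) :
    Epi (kernel.lift (P.homologyπ j) (P.toCycles i j) (P.toCycles_comp_homologyπ i j)) := by
  let S : ShortComplex X.Modules :=
    ShortComplex.mk (P.toCycles i j) (P.homologyπ j) (P.toCycles_comp_homologyπ i j)
  have hex : S.Exact :=
    ShortComplex.exact_of_g_is_cokernel S (P.homologyIsCokernel i j (by simp [← hij]))
  exact (ShortComplex.exact_iff_epi_kernel_lift S).1 hex

/-- the kernel of `X i → B^{i+1}` is `Z^i`. -/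
noncomputable def kernelLiftBoundariesIso (P : CochainComplex X.Modules ℤ) (i j : ℤ)
    (hij : i + 1 = j) :
    kernel (kernel.lift (P.homologyπ j) (P.toCycles i j) (P.toCycles_comp_homologyπ i j)) ≅
      P.cycles i :=
  (kernelCompMono _ (kernel.ι (P.homologyπ j))).symm ≪≫
    kernelIsoOfEq (kernel.lift_ι _ _ _) ≪≫ kernelToCyclesIso P i j hij

theorem isZero_cycles_of_isZero (P : CochainComplex X.Modules ℤ) (i : ℤ) (h : IsZero (P.X i)) :
    IsZero (P.cycles i) := by
  rw [IsZero.iff_id_eq_zero, ← cancel_mono (P.iCycles i)]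
  exact h.eq_of_tgt _ _

theorem isZero_homology_of_isZero (P : CochainComplex X.Modules ℤ) (i : ℤ) (h : IsZero (P.X i)) :
    IsZero (P.homology i) :=
  IsZero.of_epi (P.homologyπ i) (isZero_cycles_of_isZero P i h)

theorem exists_nhd_FL_homology_aux (P : CochainComplex X.Modules ℤ)
    (hP : ∀ i : ℤ, FlatMod.IsFinLocFree (P.X i)) (b : ℤ) (hb : ∀ i : ℤ, b < i → IsZero (P.X i))
    (x : X)
    (hflat : ∀ i : ℤ, Module.Flat (X.presheaf.stalk x) ((P.homology i).presheaf.stalk x)) :
    ∀ k : ℕ, ∃ W : X.Opens, x ∈ W ∧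
      ∀ i : ℤ, b < i + k → FL (P.cycles i) W ∧ FL (P.homology i) W := by
  intro k
  induction k with
  | zero =>
    refine ⟨⊤, trivial, fun i hi => ?_⟩
    have hz := hb i (by simpa using hi)
    exact ⟨FL.of_isZero (isZero_cycles_of_isZero P i hz) _,
      FL.of_isZero (isZero_homology_of_isZero P i hz) _⟩
  | succ k ih =>
    obtain ⟨W, hxW, hW⟩ := ih
    obtain ⟨hZj, hHj⟩ := hW (b - k + 1) (by omega)
    have hB : FL (kernel (P.homologyπ (b - k + 1))) W := FL.kernel _ hZj hHj
    haveI := epi_lift_boundaries P (b - k) (b - k + 1) rfl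
    have hZ : FL (P.cycles (b - k)) W :=
      (FL.kernel _ (FL.of_isFinLocFree (hP (b - k)) W) hB).of_iso
        (kernelLiftBoundariesIso P (b - k) (b - k + 1) rfl)
    have e : cokernel (P.toCycles (b - k - 1) (b - k)) ≅ P.homology (b - k) :=
      (colimit.isColimit _).coconePointUniqueUpToIso
        (P.homologyIsCokernel (b - k - 1) (b - k) (by simp))
    have hfl : Module.Flat (X.presheaf.stalk x)
        ((cokernel (P.toCycles (b - k - 1) (b - k))).presheaf.stalk x) := by
      haveI : Module.Flat (X.presheaf.stalk x)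
          ((DerSch.stalkFunctor X x).obj (P.homology (b - k))) := hflat (b - k)
      exact Module.Flat.of_linearEquiv
        (((DerSch.stalkFunctor X x).mapIso e).toLinearEquiv)
    obtain ⟨W₁, hle, hx₁, hC⟩ := FL.exists_cokernel (P.toCycles (b - k - 1) (b - k))
      (FL.of_isFinLocFree (hP (b - k - 1)) W) hZ x hxW hfl
    refine ⟨W₁, hx₁, fun i hi => ?_⟩
    by_cases h : b < i + k
    · exact ⟨(hW i h).1.mono hle, (hW i h).2.mono hle⟩
    · have hi' : i = b - k := by push_cast at hi; omega
      subst hi'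
      exact ⟨hZ.mono hle, hC.of_iso e⟩

/-- **main local statement**: a strictly perfect complex whose cohomology sheaves have flat stalks
at `x` has finite locally free cohomology sheaves on a neighbourhood of `x`. -/
theorem exists_nhd_FL_homology (P : CochainComplex X.Modules ℤ) (hP : DCoh.IsStrictlyPerfect P)
    (x : X)
    (hflat : ∀ i : ℤ, Module.Flat (X.presheaf.stalk x) ((P.homology i).presheaf.stalk x)) :
    ∃ W : X.Opens, x ∈ W ∧ ∀ i : ℤ, FL (P.homology i) W := by
  obtain ⟨⟨a, b, hab⟩, hflf⟩ := hP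
  obtain ⟨W, hxW, hW⟩ := exists_nhd_FL_homology_aux P hflf b (fun i hi => hab i (Or.inr hi)) x
    hflat (b - a + 1).toNat
  refine ⟨W, hxW, fun i => ?_⟩
  by_cases hi : i < a
  · exact FL.of_isZero (isZero_homology_of_isZero P i (hab i (Or.inl hi))) W
  · exact (hW i (by omega)).2

end Groth.Agent.Lib.Helper1.LocFree
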