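import Mathlib
import Groth.Agent.Lib.Helper1.LocFree6

/-!
# Helper1 — LocFree7: `FL` is local; freeness and finiteness of stalks under restriction
-/

set_option autoImplicit false
universe u
open CategoryTheory CategoryTheory.Limits AlgebraicGeometry Opposite TopologicalSpace

namespace Groth.Agent.Lib.Helper1.LocFree

open Groth.Agent.Lib.Helper16.RS Groth.Agent.Lib.Helper1.LocPerf Groth.Agent.Lib.Helper1.LocPC
  Groth.Agent.Lib.Helper29.FPDict Groth.Agent.Lib.Helper29.FPFree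
  Groth.Agent.Lib.Helper2.HZDepth5

variable {X : Scheme.{u}}

attribute [local instance] RingHomInvPair.of_ringEquiv in
theorem free_finite_of_semilinear {R S M N : Type*} [CommRing R] [CommRing S] [AddCommGroup M]
    [AddCommGroup N] [Module R M] [Module S N] (ψ : R ≃+* S) (h : M ≃+ N)
    (hsmul : ∀ (r : R) (m : M), h (r • m) = ψ r • h m) [Module.Free R M] [Module.Finite R M] :
    Module.Free S N ∧ Module.Finite S N := by
  let e : M ≃ₛₗ[(ψ : R →+* S)] N := { h with map_smul' := fun r m => hsmul r m }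
  exact ⟨Module.Free.of_equiv e, Module.Finite.of_surjective e.toLinearMap e.surjective⟩

/-- the stalks of a module which is finite locally free over `W` are finite free at the points
of `W`. -/
theorem FL.free_finite_stalk {M : X.Modules} {W : X.Opens} (hM : FL M W) (x : X) (hx : x ∈ W) :
    Module.Free (X.presheaf.stalk x) (M.presheaf.stalk x) ∧
      Module.Finite (X.presheaf.stalk x) (M.presheaf.stalk x) := by
  haveI : Module.Free ((W : Scheme.{u}).presheaf.stalk ⟨x, hx⟩)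
      ((M.restrict W.ι).presheaf.stalk ⟨x, hx⟩) := free_stalk_of_isFinLocFree _ hM ⟨x, hx⟩
  haveI : Module.Finite ((W : Scheme.{u}).presheaf.stalk ⟨x, hx⟩)
      ((M.restrict W.ι).presheaf.stalk ⟨x, hx⟩) := by
    haveI := isFinitePresentation_of_isFinLocFree _ hM
    haveI := fp_stalk (M.restrict W.ι) ⟨x, hx⟩
    infer_instance
  exact free_finite_of_semilinear (psi W.ι ⟨x, hx⟩)
    (hh W.ι M ⟨x, hx⟩).addCommGroupIsoToAddEquiv (fun r m => hh_smul W.ι M ⟨x, hx⟩ r m)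

/-- `FL` is a local property. -/
theorem FL.of_locally {M : X.Modules} {U : X.Opens}
    (h : ∀ x ∈ U, ∃ W : X.Opens, x ∈ W ∧ FL M W) : FL M U := by
  apply isFinLocFree_of_locally
  intro y
  obtain ⟨W, hyW, hW⟩ := h y.1 y.2
  have hW' : FL M (W ⊓ U) := hW.mono inf_le_left
  refine ⟨U.ι ⁻¹ᵁ (W ⊓ U), ⟨hyW, y.2⟩, ?_⟩
  have hrange : Set.range ((U.ι ⁻¹ᵁ (W ⊓ U)).ι ≫ U.ι).base ⊆ Set.range (W ⊓ U).ι.base := by
    rintro _ ⟨v, rfl⟩
    rw [Scheme.Opens.range_ι]
    exact v.2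
  let k := IsOpenImmersion.lift (W ⊓ U).ι ((U.ι ⁻¹ᵁ (W ⊓ U)).ι ≫ U.ι) hrange
  have hk : k ≫ (W ⊓ U).ι = (U.ι ⁻¹ᵁ (W ⊓ U)).ι ≫ U.ι := IsOpenImmersion.lift_fac _ _ _
  haveI : IsOpenImmersion (k ≫ (W ⊓ U).ι) := by rw [hk]; infer_instance
  haveI : IsOpenImmersion k := IsOpenImmersion.of_comp k (W ⊓ U).ι
  exact isFinLocFree_of_iso
    (restrictFacIso (W ⊓ U).ι k ((U.ι ⁻¹ᵁ (W ⊓ U)).ι ≫ U.ι) hk M ≪≫
      (restrictFacIso U.ι (U.ι ⁻¹ᵁ (W ⊓ U)).ι _ rfl M).symm)
    (isFinLocFree_restrict k _ hW')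

end Groth.Agent.Lib.Helper1.LocFree
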