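import Mathlib
import Groth.Agent.Lib.Helper1.LocFree7

/-!
# Helper1 — LocFree8: quasi-coherence and vanishing of `O_X`-modules are local properties
-/

set_option autoImplicit false
universe u
open CategoryTheory CategoryTheory.Limits AlgebraicGeometry Opposite TopologicalSpace

namespace Groth.Agent.Lib.Helper1.LocFree

open Groth.Agent.Lib.Helper16.RS Groth.Agent.Lib.Helper1.LocPerf Groth.Agent.Lib.Helper1.LocPC
  Groth.Agent.Lib.Helper29.FPDict Groth.Agent.Lib.Helper28.QCohLoc Scheme.Modules
  Groth.Agent.Lib.Helper2.HZDepth5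

variable {X : Scheme.{u}}

set_option backward.isDefEq.respectTransparency false in
/-- a quasi-coherent module has presentations over the members of an affine open cover -/
theorem exists_isOpenCover_presentation (M : X.Modules) [M.IsQuasicoherent] :
    ∃ (ι : Type u) (U : ι → X.Opens) (_ : ∀ i, (M.restrict (U i).ι).Presentation),
      IsOpenCover U := by
  obtain ⟨I, W, cov, pres⟩ := (SheafOfModules.IsQuasicoherent.nonempty_quasicoherentData (M := M)).some
  choose κ hsub heq using fun i ↦ Opens.isBasis_iff_cover.mp X.isBasis_affineOpens (W i)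
  let u' : ∀ i : (Σ (i : I), κ i), (i.2.1 : Scheme) ⟶ (W i.1 : Scheme) := fun i =>
    X.homOfLE (U := i.2) (V := W i.1) (by simp [heq, le_sSup])
  let F : ∀ i : (Σ (i : I), κ i), SheafOfModules ((X.ringCatSheaf).over (W i.1)) ⥤ (i.2.1 : Scheme).Modules :=
    fun i => (overEquiv (W i.1)).functor ⋙ restrictFunctor (u' i)
  have iso : ∀ i : (Σ (i : I), κ i), SheafOfModules.overFunctor X.ringCatSheaf _ ⋙ F i ≅ restrictFunctor
      (Scheme.Opens.ι i.2.1) := fun i => (Functor.associator _ _ _).symm ≪≫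
        Functor.isoWhiskerRight (Scheme.Modules.overFunctorEquiv _) _ ≪≫
        (restrictFunctorComp _ _).symm ≪≫ (restrictFunctorCongr (by simp [u']))
  have hpres : ∀ i : (Σ (i : I), κ i), PreservesColimitsOfSize.{u, u} (F i) := fun i => by
    have : PreservesColimitsOfSize.{u, u} (restrictFunctor (u' i)) := inferInstance
    infer_instance
  refine ⟨Σ (i : I), κ i, fun j ↦ j.2, fun i ↦ ?_, ?_⟩
  · haveI := hpres i
    exact SheafOfModules.Presentation.ofIsIso.{u, u, u} ((iso i).app M).hom <|
      (pres i.1).map (F i) (Scheme.Modules.restrictUnitIso _).symm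
  · rw [Opens.coversTop_iff, IsOpenCover] at cov
    rw [IsOpenCover, iSup_sigma, ← cov]
    refine iSup_congr fun i ↦ ?_
    rw [heq i, sSup_eq_iSup']

set_option backward.isDefEq.respectTransparency.types false in
/-- quasi-coherence is a local property. -/
theorem isQuasicoherent_of_locally (M : X.Modules)
    (h : ∀ x : X, ∃ V : X.Opens, x ∈ V ∧ (M.restrict V.ι).IsQuasicoherent) :
    M.IsQuasicoherent := by
  choose V hxV hV using h
  have h2 : ∀ x : X, ∃ (ι : Type u) (U : ι → (V x : Scheme.{u}).Opens)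
      (_ : ∀ i, ((M.restrict (V x).ι).restrict (U i).ι).Presentation), IsOpenCover U := fun x => by
    haveI := hV x
    exact exists_isOpenCover_presentation (M.restrict (V x).ι)
  choose ι U P hcov using h2
  refine isQuasicoherent_of_presentation_cover M
    (fun p : (Σ x : X, ι x) => (V p.1).ι ''ᵁ (U p.1 p.2)) ?_
    (fun p => SheafOfModules.Presentation.ofIsIso.{u, u, u}
      (restrictImageIso M (V p.1) (U p.1 p.2)).hom
      (Scheme.Modules.presentationRestrict ((V p.1).ι.isoImage (U p.1 p.2)).inv (P p.1 p.2)))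
  rw [IsOpenCover, eq_top_iff]
  intro y _
  have hy : (⟨y, hxV y⟩ : (V y : Scheme.{u})) ∈ (⨆ i, U y i) := by
    rw [hcov y]; trivial
  obtain ⟨i, hi⟩ := TopologicalSpace.Opens.mem_iSup.1 hy
  exact TopologicalSpace.Opens.mem_iSup.2 ⟨⟨y, i⟩, ⟨⟨y, hxV y⟩, hi, rfl⟩⟩

/-- vanishing is a local property. -/
theorem isZero_of_locally (M : X.Modules)
    (h : ∀ x : X, ∃ V : X.Opens, x ∈ V ∧ IsZero (M.restrict V.ι)) : IsZero M := by
  apply Groth.Agent.Lib.Helper16.Stk.isZero_of_forall_isZero_stalk
  intro x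
  obtain ⟨V, hxV, hV⟩ := h x
  have h1 : IsZero ((DerSch.stalkFunctor (V : Scheme.{u}) ⟨x, hxV⟩).obj (M.restrict V.ι)) :=
    (DerSch.stalkFunctor (V : Scheme.{u}) ⟨x, hxV⟩).map_isZero hV
  haveI : Subsingleton ((M.restrict V.ι).presheaf.stalk ⟨x, hxV⟩) :=
    ModuleCat.subsingleton_of_isZero h1
  haveI : Subsingleton ((DerSch.stalkFunctor X x).obj M) :=
    (hh V.ι M ⟨x, hxV⟩).addCommGroupIsoToAddEquiv.symm.toEquiv.subsingleton
  exact ModuleCat.isZero_of_subsingleton _

end Groth.Agent.Lib.Helper1.LocFree
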