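import Mathlib
import Groth.Agent.Lib.Helper1.LocFree8
import Groth.Agent.Lib.Helper2.AffExt2
import Groth.Agent.Lib.Helper29.FreeIso4

/-!
# Helper1 — LocFree9: cohomology sheaves of complexes with quasi-coherent (coherent) terms
-/

set_option autoImplicit false
universe u
open CategoryTheory CategoryTheory.Limits AlgebraicGeometry Opposite TopologicalSpace

namespace Groth.Agent.Lib.Helper1.LocFree

open Groth.Agent.Lib.Helper16.RS Groth.Agent.Lib.Helper1.LocPerf Groth.Agent.Lib.Helper1.LocPC
  Groth.Agent.Lib.Helper29.FPDict Groth.Agent.Lib.Helper17.CohKer Groth.Agent.Lib.Helper2.AffExt2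

variable {X : Scheme.{u}}

theorem isQuasicoherent_cycles (P : CochainComplex X.Modules ℤ)
    (hP : ∀ i : ℤ, (P.X i).IsQuasicoherent) (i : ℤ) : (P.cycles i).IsQuasicoherent := by
  haveI := hP i
  haveI := hP (i + 1)
  haveI := isQuasicoherent_kernel (P.d i (i + 1))
  have e : kernel (P.d i (i + 1)) ≅ P.cycles i :=
    IsLimit.conePointUniqueUpToIso (kernelIsKernel _) (P.cyclesIsKernel i (i + 1) (by simp))
  exact isQuasicoherent_of_iso e

theorem isQuasicoherent_homology (P : CochainComplex X.Modules ℤ)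
    (hP : ∀ i : ℤ, (P.X i).IsQuasicoherent) (i : ℤ) : (P.homology i).IsQuasicoherent := by
  haveI := hP (i - 1)
  haveI := isQuasicoherent_cycles P hP i
  haveI := isQuasicoherent_cokernel (P.toCycles (i - 1) i)
  have e : cokernel (P.toCycles (i - 1) i) ≅ P.homology i :=
    (colimit.isColimit _).coconePointUniqueUpToIso (P.homologyIsCokernel (i - 1) i (by simp))
  exact isQuasicoherent_of_iso e

theorem isFiniteType_homology [IsLocallyNoetherian X] (P : CochainComplex X.Modules ℤ)
    (hP : ∀ i : ℤ, (P.X i).IsQuasicoherent)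
    (hft : ∀ i : ℤ, SheafOfModules.IsFiniteType.{u} (R := X.ringCatSheaf) (P.X i)) (i : ℤ) :
    SheafOfModules.IsFiniteType.{u} (R := X.ringCatSheaf) (P.homology i) := by
  haveI := hP i
  haveI := hP (i + 1)
  haveI := hft i
  haveI := isQuasicoherent_kernel (P.d i (i + 1))
  have h1 : SheafOfModules.IsFiniteType.{u} (R := X.ringCatSheaf) (kernel (P.d i (i + 1))) :=
    isFiniteType_kernel (P.d i (i + 1))
  have e : kernel (P.d i (i + 1)) ≅ P.cycles i :=
    IsLimit.conePointUniqueUpToIso (kernelIsKernel _) (P.cyclesIsKernel i (i + 1) (by simp))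
  have h2 : SheafOfModules.IsFiniteType.{u} (R := X.ringCatSheaf) (P.cycles i) :=
    @isFT_of_iso _ _ _ e _ h1
  exact @isFiniteType_of_epi _ _ _ (P.homologyπ i) _ h2

theorem isQuasicoherent_homology_of_isStrictlyPerfect (P : CochainComplex X.Modules ℤ)
    (hP : DCoh.IsStrictlyPerfect P) (i : ℤ) : (P.homology i).IsQuasicoherent :=
  isQuasicoherent_homology P
    (fun j => Groth.Agent.Lib.Helper29.FreeIso.isQuasicoherent_of_isFinLocFree _ (hP.2 j)) i

end Groth.Agent.Lib.Helper1.LocFree
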