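import Groth.Agent.Lib.Helper1.FibHom
import Groth.Agent.Lib.Helper1.ArtFunGenProrep
import Groth.Agent.Lib.Helper1.TangentCons
import Groth.Agent.Lib.Helper1.ArtFunDer
import Groth.Agent.Lib.Helper1.ArtFunPS

set_option autoImplicit false
universe u v

open CategoryTheory

namespace Groth.Agent.Lib.Helper1.LocFun

open ArtFun ArtFun.Art Groth.Agent.Lib.Helper1.ArtFunBasic
  Groth.Agent.Lib.Helper1.ArtFunAction Groth.Agent.Lib.Helper1.ArtFunPS
  Groth.Agent.Lib.Helper1.TangentCons Groth.Agent.Lib.Helper1.ArtFunDer
  Groth.Agent.Lib.Helper1.FibHom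

variable {k : Type u} [Field k]

section Alg

variable {B : Type u} [CommRing B] [Algebra k B] [IsNoetherianRing B] (χ : B →ₐ[k] k)

/-- derivations of a Noetherian augmented `k`-algebra into `k` are finite dimensional -/
theorem finite_derivation [Algebra B k] [IsScalarTower k B k]
    (hres : ∀ b : B, algebraMap B k b = χ b) : Module.Finite k (Derivation k B k) := by
  classical
  obtain ⟨T, hT⟩ := (isNoetherianRing_iff_ideal_fg B).1 inferInstance (RingHom.ker χ.toRingHom)
  let ev : Derivation k B k →ₗ[k] ({x // x ∈ T} → k) :=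
    { toFun := fun D t => D t.1
      map_add' := fun D D' => rfl
      map_smul' := fun c D => rfl }
  apply Module.Finite.of_injective ev
  rw [← LinearMap.ker_eq_bot, LinearMap.ker_eq_bot']
  intro D hD
  have hχ : ∀ (b : B) (c : k), b • c = χ b * c := fun b c => by rw [Algebra.smul_def, hres]
  have hm : ∀ y ∈ RingHom.ker χ.toRingHom, D y = 0 := by
    intro y hy
    rw [← hT] at hy
    refine Submodule.span_induction ?_ ?_ ?_ ?_ hy
    · intro t ht
      exact congrFun hD ⟨t, Finset.mem_coe.1 ht⟩
    · exact map_zero D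
    · intro a b _ _ ha hb
      rw [map_add, ha, hb, add_zero]
    · intro a y hy hy0
      have hy' : χ y = 0 := by
        have : y ∈ RingHom.ker χ.toRingHom := by rw [← hT]; exact hy
        exact this
      rw [smul_eq_mul, D.leibniz, hy0, smul_zero, zero_add, hχ, hy', zero_mul]
  ext b
  have hb : b - algebraMap k B (χ b) ∈ RingHom.ker χ.toRingHom := by
    rw [RingHom.mem_ker]
    change χ (b - algebraMap k B (χ b)) = 0
    rw [map_sub, AlgHom.commutes, Algebra.algebraMap_self_apply, sub_self]
  have := hm _ hb
  rw [map_sub, D.map_algebraMap, sub_zero] at this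
  rw [this]; rfl

/-- the local functor of an augmented Noetherian `k`-algebra is pro-representable -/
theorem isProrepresentable_hR : IsProrepresentable (hR B χ) := by
  letI T : TangentStr (hR B χ) := tangentStr (h0_hR χ) (heps_of_rs (rs_hR χ))
  letI : Algebra B k := χ.toRingHom.toAlgebra
  haveI : IsScalarTower k B k := IsScalarTower.of_algebraMap_eq (fun c => (χ.commutes c).symm)
  have hres : ∀ b : B, algebraMap B k b = χ b := fun _ => rfl
  haveI := finite_derivation χ hres
  have hfin : Hfin (hR B χ) := by
    have hs := tangentLin_surjective hres (Family.self B χ) (fun x => ⟨x, rfl⟩)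
    exact Module.Finite.of_surjective (tangentLin hres (Family.self B χ)) hs
  refine Groth.Agent.Lib.Helper1.ArtFunGenProrep.isProrepresentable_of_rs (h0_hR χ) (rs_hR χ)
    hfin ?_
  intro x₀ σ τ _
  apply Art.hom_ext
  apply AlgHom.ext
  intro c
  have h1 := σ.toAlgHom.commutes c
  have h2 := τ.toAlgHom.commutes c
  exact h1.trans h2.symm

end Alg

end Groth.Agent.Lib.Helper1.LocFun
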