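import Mathlib
import Groth.Prelude.Def_DRing2
import Groth.Prelude.Def_DDual2
import Groth.Agent.Lib.Helper1.LocPerf4
import Groth.Agent.S6946

/-!
# Helper1 — LocPerf6: finite tor dimension of all modules is invariant under ring isomorphisms
-/

set_option autoImplicit false
universe u
open CategoryTheory CategoryTheory.Limits

attribute [local instance] HasDerivedCategory.standard

namespace Groth.Agent.Lib.Helper1.LocPerf

open DerivedCategory

variable {A B : Type u} [CommRing A] [CommRing B] (ψ : A ≃+* B)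

theorem flat_restrictScalars (M : ModuleCat.{u} B) [Module.Flat B M] :
    Module.Flat A ((ModuleCat.restrictScalars.{u} ψ.toRingHom).obj M) :=
  flat_of_semilinear ψ (AddEquiv.refl M) (fun _ _ => rfl)

theorem hasTorAmplitudeIn_restrictD (a b : ℤ) (K : Dual.D B)
    (h : DRing.HasTorAmplitudeIn B a b K) :
    DRing.HasTorAmplitudeIn A a b ((DRing.restrictD ψ.toRingHom).obj K) := by
  obtain ⟨E, hE, hflat, ⟨e⟩⟩ := h
  refine ⟨((ModuleCat.restrictScalars.{u} ψ.toRingHom).mapHomologicalComplex
    (ComplexShape.up ℤ)).obj E, fun i hi =>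
      (ModuleCat.restrictScalars.{u} ψ.toRingHom).map_isZero (hE i hi), fun i => ?_,
    ⟨((ModuleCat.restrictScalars.{u} ψ.toRingHom).mapDerivedCategoryFactors.app E).symm ≪≫
      (DRing.restrictD ψ.toRingHom).mapIso e⟩⟩
  haveI : Module.Flat B (E.X i) := hflat i
  exact flat_restrictScalars ψ (E.X i)

include ψ in
theorem hasFiniteTorDim_of_ringEquiv
    (hB : ∀ (M : Type u) [AddCommGroup M] [Module B M], DRing.HasFiniteTorDim B M)
    (M' : Type u) [AddCommGroup M'] [Module A M'] : DRing.HasFiniteTorDim A M' := by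
  letI : Module B M' := Module.compHom M' ψ.symm.toRingHom
  obtain ⟨n, hn⟩ := hB M'
  refine ⟨n, ?_⟩
  rw [(Groth.Agent.S6946.result A M' n).1]
  have h1 := (Groth.Agent.S6946.result B M' n).1.1 hn
  have h2 := hasTorAmplitudeIn_restrictD ψ _ _ _ h1
  obtain ⟨E, hE, hflat, ⟨e⟩⟩ := h2
  let l : ((ModuleCat.restrictScalars.{u} ψ.toRingHom).obj (ModuleCat.of B M')) ≃ₗ[A] M' :=
    { AddEquiv.refl M' with
      map_smul' := fun r m => by
        simp only [AddEquiv.toFun_eq_coe, AddEquiv.refl_apply, RingHom.id_apply]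
        rw [ModuleCat.restrictScalars.smul_def]
        change ψ.symm.toRingHom (ψ.toRingHom r) • (show M' from m) = r • (show M' from m)
        simp }
  have il : (ModuleCat.restrictScalars.{u} ψ.toRingHom).obj (ModuleCat.of B M') ≅
      ModuleCat.of A M' := l.toModuleIso
  exact ⟨E, hE, hflat, ⟨e ≪≫ ((ModuleCat.restrictScalars.{u}
    ψ.toRingHom).mapDerivedCategorySingleFunctor 0).app (ModuleCat.of B M') ≪≫
    (DerivedCategory.singleFunctor (ModuleCat.{u} A) 0).mapIso il⟩⟩

end Groth.Agent.Lib.Helper1.LocPerf
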