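import Mathlib
import Groth.Prelude.Def_DerSch
import Groth.Agent.Lib.Helper1.LocPerf6
import Groth.Agent.Lib.Helper2.HZDepth5
import Groth.Agent.Lib.Helper16.RS2
import Groth.Agent.Lib.Helper16.Stk4

/-!
# Helper1 — LocPerf7: stalks of restriction to an open subscheme, derived version
-/

set_option autoImplicit false
universe u
open CategoryTheory CategoryTheory.Limits AlgebraicGeometry

attribute [local instance] HasDerivedCategory.standard

namespace Groth.Agent.Lib.Helper1.LocPerf

open Groth.Agent.Lib.Helper2.HZDepth5 Groth.Agent.Lib.Helper16.RS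

variable {X Y : Scheme.{u}} (f : Y ⟶ X) [IsOpenImmersion f] (y : Y)

/-- the comparison of stalks, as a semilinear (here: linear after restriction of scalars)
equivalence. -/
noncomputable def stalkRestrictLinearEquiv (F : X.Modules) :
    ((DerSch.stalkFunctor Y y).obj ((Scheme.Modules.restrictFunctor f).obj F))
      ≃ₗ[Y.presheaf.stalk y]
      ((ModuleCat.restrictScalars.{u} (psi f y).toRingHom).obj
        ((DerSch.stalkFunctor X (f y)).obj F)) :=
  { (hh f F y).addCommGroupIsoToAddEquiv with
    map_smul' := fun b n => hh_smul f F y b n }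

theorem stalkRestrictLinearEquiv_apply (F : X.Modules)
    (n : (F.restrict f).presheaf.stalk y) :
    stalkRestrictLinearEquiv f y F n = (hh f F y).hom n := rfl

/-- the natural isomorphism: stalk of the restriction = stalk, with scalars restricted. -/
noncomputable def stalkRestrictNatIso :
    Scheme.Modules.restrictFunctor f ⋙ DerSch.stalkFunctor Y y ≅
      DerSch.stalkFunctor X (f y) ⋙ ModuleCat.restrictScalars.{u} (psi f y).toRingHom :=
  NatIso.ofComponents (fun F => (stalkRestrictLinearEquiv f y F).toModuleIso) (by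
    intro F G φ
    ext n
    have h := (Scheme.Modules.restrictStalkNatIso f y).hom.naturality φ
    have h2 := ConcreteCategory.congr_hom h n
    exact h2)


open DerivedCategory Groth.Agent.Lib.Helper16.Stk in
/-- the derived category version of the comparison of stalks. -/
theorem nonempty_stalk_RD_iso (K : DCoh.D X) :
    Nonempty ((DRing.restrictD (psi f y).toRingHom).obj
        ((DerSch.stalkFunctor X (f y)).mapDerivedCategory.obj K) ≅
      (DerSch.stalkFunctor Y y).mapDerivedCategory.obj ((RD f).obj K)) := by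
  obtain ⟨G, ⟨e⟩⟩ : ∃ G : CochainComplex X.Modules ℤ, Nonempty (Q.obj G ≅ K) :=
    ⟨Q.objPreimage K, ⟨Q.objObjPreimageIso K⟩⟩
  let SX := DerSch.stalkFunctor X (f y)
  let SY := DerSch.stalkFunctor Y y
  let R := ModuleCat.restrictScalars.{u} (psi f y).toRingHom
  have i1 : (DRing.restrictD (psi f y).toRingHom).obj (SX.mapDerivedCategory.obj K) ≅
      (DRing.restrictD (psi f y).toRingHom).obj (SX.mapDerivedCategory.obj (Q.obj G)) :=
    (DRing.restrictD (psi f y).toRingHom).mapIso (SX.mapDerivedCategory.mapIso e.symm)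
  have i2 : (DRing.restrictD (psi f y).toRingHom).obj (SX.mapDerivedCategory.obj (Q.obj G)) ≅
      (DRing.restrictD (psi f y).toRingHom).obj
        (Q.obj ((SX.mapHomologicalComplex (ComplexShape.up ℤ)).obj G)) :=
    (DRing.restrictD (psi f y).toRingHom).mapIso (SX.mapDerivedCategoryFactors.app G)
  have i3 : (DRing.restrictD (psi f y).toRingHom).obj
        (Q.obj ((SX.mapHomologicalComplex (ComplexShape.up ℤ)).obj G)) ≅
      Q.obj ((R.mapHomologicalComplex (ComplexShape.up ℤ)).obj
        ((SX.mapHomologicalComplex (ComplexShape.up ℤ)).obj G)) :=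
    R.mapDerivedCategoryFactors.app _
  have i4 : ((Scheme.Modules.restrictFunctor f ⋙ SY).mapHomologicalComplex
        (ComplexShape.up ℤ)).obj G ≅
      ((SX ⋙ R).mapHomologicalComplex (ComplexShape.up ℤ)).obj G :=
    (NatIso.mapHomologicalComplex (stalkRestrictNatIso f y) (ComplexShape.up ℤ)).app G
  have i5 : Q.obj ((R.mapHomologicalComplex (ComplexShape.up ℤ)).obj
        ((SX.mapHomologicalComplex (ComplexShape.up ℤ)).obj G)) ≅
      Q.obj ((SY.mapHomologicalComplex (ComplexShape.up ℤ)).obj ((RCx f).obj G)) :=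
    Q.mapIso i4.symm
  have i6 : Q.obj ((SY.mapHomologicalComplex (ComplexShape.up ℤ)).obj ((RCx f).obj G)) ≅
      SY.mapDerivedCategory.obj (Q.obj ((RCx f).obj G)) :=
    (SY.mapDerivedCategoryFactors.app _).symm
  have i7 : SY.mapDerivedCategory.obj (Q.obj ((RCx f).obj G)) ≅
      SY.mapDerivedCategory.obj ((RD f).obj K) :=
    SY.mapDerivedCategory.mapIso ((RDQIso f G).symm ≪≫ (RD f).mapIso e)
  exact ⟨i1 ≪≫ i2 ≪≫ i3 ≪≫ i5 ≪≫ i6 ≪≫ i7⟩

open DerivedCategory Groth.Agent.Lib.Helper16.Stk in
/-- tor amplitude of the stalk of a restriction to an open subscheme. -/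
theorem stalk_torAmp_restrict (K : DCoh.D X) (a b : ℤ)
    (h : DRing.HasTorAmplitudeIn (X.presheaf.stalk (f y)) a b
      ((DerSch.stalkFunctor X (f y)).mapDerivedCategory.obj K)) :
    DRing.HasTorAmplitudeIn (Y.presheaf.stalk y) a b
      ((DerSch.stalkFunctor Y y).mapDerivedCategory.obj ((RD f).obj K)) := by
  obtain ⟨E, hE, hflat, ⟨e1⟩⟩ := hasTorAmplitudeIn_restrictD (psi f y) a b _ h
  obtain ⟨e2⟩ := nonempty_stalk_RD_iso f y K
  exact ⟨E, hE, hflat, ⟨e1 ≪≫ e2⟩⟩

end Groth.Agent.Lib.Helper1.LocPerf
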