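import Groth.Agent.Lib.Helper1.LocFun
import Groth.Prelude.Def_ArtFun4
import Mathlib.AlgebraicGeometry.Noetherian
import Mathlib.AlgebraicGeometry.AffineScheme

set_option autoImplicit false
universe u

open CategoryTheory AlgebraicGeometry

namespace Groth.Agent.Lib.Helper1.LocSch

open ArtFun ArtFun.Art

variable {k : Type u} [Field k] {M : Scheme.{u}} (m : M ⟶ Spec (CommRingCat.of k))
  (x₀ : Spec (CommRingCat.of k) ⟶ M) (hx₀ : x₀ ≫ m = 𝟙 _)
  {U : M.Opens} (hU : IsAffineOpen U) (hxU : Set.range x₀ ⊆ Set.range hU.fromSpec)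

/-- the coordinate ring of the affine neighbourhood, as a `k`-algebra via `m` -/
def BRing (_m : M ⟶ Spec (CommRingCat.of k)) (_hU : IsAffineOpen U) : Type u := Γ(M, U)

instance : CommRing (BRing m hU) := inferInstanceAs (CommRing Γ(M, U))

/-- the structure map `k → Γ(M, U)` -/
noncomputable def sHom : CommRingCat.of k ⟶ Γ(M, U) := Spec.preimage (hU.fromSpec ≫ m)

lemma map_sHom : Spec.map (sHom m hU) = hU.fromSpec ≫ m := Spec.map_preimage _

noncomputable instance : Algebra k (BRing m hU) := (sHom m hU).hom.toAlgebra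

/-- the augmentation, as a morphism of rings -/
noncomputable def χHom : Γ(M, U) ⟶ CommRingCat.of k :=
  Spec.preimage (IsOpenImmersion.lift hU.fromSpec x₀ hxU)

lemma map_χHom : Spec.map (χHom x₀ hU hxU) ≫ hU.fromSpec = x₀ := by
  rw [χHom, Spec.map_preimage, IsOpenImmersion.lift_fac]

include hx₀ in
lemma sHom_χHom : sHom m hU ≫ χHom x₀ hU hxU = 𝟙 _ := by
  apply Spec.map_injective
  rw [Spec.map_comp, map_sHom, ← Category.assoc, map_χHom, hx₀, Spec.map_id]

/-- the augmentation as an algebra map -/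
noncomputable def χ : BRing m hU →ₐ[k] k :=
  { (χHom x₀ hU hxU).hom with
    commutes' := fun c => by
      have := congrArg (fun f => f.hom c) (sHom_χHom m x₀ hx₀ hU hxU)
      exact this }

section Equiv

variable (A : Art k k)

include hxU in
/-- every point of `Spec A` maps into `U` under a morphism compatible with `x₀` -/
lemma range_subset (g : spec A ⟶ M) (hg : specRes A ≫ g = x₀) :
    Set.range g ⊆ Set.range hU.fromSpec := by
  rintro _ ⟨y, rfl⟩
  rw [hU.range_fromSpec]
  haveI : IsLocalHom A.res.toRingHom := IsLocalHom.of_surjective _ A.res_surjective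
  have hcl : (specRes A) (IsLocalRing.closedPoint k) = IsLocalRing.closedPoint A :=
    IsLocalRing.comap_closedPoint A.res.toRingHom
  have h1 : g (IsLocalRing.closedPoint A) ∈ (U : Set M) := by
    have : x₀ (IsLocalRing.closedPoint k) ∈ Set.range hU.fromSpec := hxU ⟨_, rfl⟩
    rw [hU.range_fromSpec] at this
    have e1 : x₀ (IsLocalRing.closedPoint k) = g ((specRes A) (IsLocalRing.closedPoint k)) := by
      rw [← hg]; rfl
    rw [← hcl, ← e1]
    exact this
  have hsp : y ⤳ IsLocalRing.closedPoint A := IsLocalRing.specializes_closedPoint y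
  exact (hsp.map g.continuous).mem_open U.2 h1

/-- a ring map out of `BRing` as a morphism of `CommRingCat` -/
def ringCatHom (φ : BRing m hU →+* A) : Γ(M, U) ⟶ CommRingCat.of A := CommRingCat.ofHom φ

/-- the forward map -/
noncomputable def toSch (φ : HomSet (BRing m hU) (χ m x₀ hx₀ hU hxU) A) : spec A ⟶ M :=
  Spec.map (ringCatHom m hU A φ.1.toRingHom) ≫ hU.fromSpec

lemma toSch_m (φ : HomSet (BRing m hU) (χ m x₀ hx₀ hU hxU) A) :
    toSch m x₀ hx₀ hU hxU A φ ≫ m = specMap (ofBase A) := by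
  rw [toSch, Category.assoc, ← map_sHom, ← Spec.map_comp]
  congr 1
  ext c
  exact φ.1.commutes c

lemma toSch_res (φ : HomSet (BRing m hU) (χ m x₀ hx₀ hU hxU) A) :
    specRes A ≫ toSch m x₀ hx₀ hU hxU A φ = x₀ := by
  rw [toSch, ← Category.assoc, ← Spec.map_comp]
  have : ringCatHom m hU A φ.1.toRingHom ≫ CommRingCat.ofHom A.res.toRingHom =
      χHom x₀ hU hxU := by
    ext b
    exact congrArg (fun f => f b) φ.2
  rw [this, map_χHom]

/-- the target of the equivalence -/
abbrev Pts : Type u :=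
  {g : spec A ⟶ M // g ≫ m = specMap (ofBase A) ∧ specRes A ≫ g = x₀}

/-- the ring map of a compatible morphism -/
noncomputable def ofSchHom (g : Pts m x₀ A) : Γ(M, U) ⟶ CommRingCat.of A :=
  Spec.preimage (IsOpenImmersion.lift hU.fromSpec g.1 (range_subset x₀ hU hxU A g.1 g.2.2))

lemma map_ofSchHom (g : Pts m x₀ A) :
    Spec.map (ofSchHom m x₀ hU hxU A g) ≫ hU.fromSpec = g.1 := by
  rw [ofSchHom, Spec.map_preimage, IsOpenImmersion.lift_fac]

lemma sHom_ofSchHom (g : Pts m x₀ A) :
    sHom m hU ≫ ofSchHom m x₀ hU hxU A g = CommRingCat.ofHom (algebraMap k A) := by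
  apply Spec.map_injective
  rw [Spec.map_comp, map_sHom, ← Category.assoc, map_ofSchHom, g.2.1]
  rfl

lemma ofSchHom_res (g : Pts m x₀ A) :
    ofSchHom m x₀ hU hxU A g ≫ CommRingCat.ofHom A.res.toRingHom = χHom x₀ hU hxU := by
  apply Spec.map_injective
  rw [← cancel_mono hU.fromSpec, Spec.map_comp, Category.assoc, map_ofSchHom, map_χHom]
  exact g.2.2

/-- the inverse map -/
noncomputable def ofSch (g : Pts m x₀ A) : HomSet (BRing m hU) (χ m x₀ hx₀ hU hxU) A :=
  ⟨{ (ofSchHom m x₀ hU hxU A g).hom with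
      commutes' := fun c => congrArg (fun f => f.hom c) (sHom_ofSchHom m x₀ hU hxU A g) }, by
    apply AlgHom.ext
    intro b
    exact congrArg (fun f => f.hom b) (ofSchHom_res m x₀ hU hxU A g)⟩

/-- the equivalence between augmented algebra maps and pointed morphisms -/
noncomputable def e₀ : HomSet (BRing m hU) (χ m x₀ hx₀ hU hxU) A ≃ Pts m x₀ A where
  toFun φ := ⟨toSch m x₀ hx₀ hU hxU A φ, toSch_m m x₀ hx₀ hU hxU A φ, toSch_res m x₀ hx₀ hU hxU A φ⟩
  invFun g := ofSch m x₀ hx₀ hU hxU A g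
  left_inv φ := by
    apply Subtype.ext
    apply AlgHom.ext
    intro b
    have : ofSchHom m x₀ hU hxU A ⟨toSch m x₀ hx₀ hU hxU A φ, toSch_m m x₀ hx₀ hU hxU A φ,
        toSch_res m x₀ hx₀ hU hxU A φ⟩ = ringCatHom m hU A φ.1.toRingHom := by
      apply Spec.map_injective
      rw [← cancel_mono hU.fromSpec, map_ofSchHom]
      rfl
    exact congrArg (fun f => f.hom b) this
  right_inv g := by
    apply Subtype.ext
    change Spec.map (ringCatHom m hU A (ofSch m x₀ hx₀ hU hxU A g).1.toRingHom) ≫ hU.fromSpec = g.1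
    have : ringCatHom m hU A (ofSch m x₀ hx₀ hU hxU A g).1.toRingHom =
        ofSchHom m x₀ hU hxU A g := rfl
    rw [this, map_ofSchHom]

lemma e₀_natural {A B : Art k k} (h : A ⟶ B)
    (φ : HomSet (BRing m hU) (χ m x₀ hx₀ hU hxU) A) :
    (e₀ m x₀ hx₀ hU hxU B (HomSet.map h φ)).1 = specMap h ≫ (e₀ m x₀ hx₀ hU hxU A φ).1 := by
  change Spec.map (ringCatHom m hU B (HomSet.map h φ).1.toRingHom) ≫ hU.fromSpec =
    specMap h ≫ Spec.map (ringCatHom m hU A φ.1.toRingHom) ≫ hU.fromSpec
  rw [← Category.assoc, ← Spec.map_comp]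
  rfl

end Equiv

end Groth.Agent.Lib.Helper1.LocSch
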