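import Mathlib.CategoryTheory.Adjunction.Basic
import Mathlib.CategoryTheory.Adjunction.Mates

set_option autoImplicit false
open CategoryTheory

namespace Groth.Agent.Lib.Helper1.MateBC

variable {DX DY DX' DY' : Type*} [Category DX] [Category DY] [Category DX'] [Category DY']
  {F : DX ⥤ DY} {F' : DX' ⥤ DY'} {G : DY' ⥤ DY} {G' : DX' ⥤ DX}
  {a : DY ⥤ DX} {a' : DY' ⥤ DX'} {L : DY ⥤ DY'} {L' : DX ⥤ DX'}
  (adj : F ⊣ a) (adj' : F' ⊣ a') (adjg : L ⊣ G) (adjg' : L' ⊣ G') (e : G' ⋙ F ≅ F' ⋙ G)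

/-- abstract `xi` -/
def xi (M : DY') : G'.obj (a'.obj M) ⟶ a.obj (G.obj M) :=
  adj.homEquiv _ _ (e.hom.app (a'.obj M) ≫ G.map (adj'.counit.app M))

/-- abstract `bcMap` -/
noncomputable def bcMap (K : DY) [IsIso (xi adj adj' e (L.obj K))] :
    L'.obj (a.obj K) ⟶ a'.obj (L.obj K) :=
  L'.map (a.map (adjg.unit.app K)) ≫ L'.map (inv (xi adj adj' e (L.obj K))) ≫
    adjg'.counit.app (a'.obj (L.obj K))

/-- abstract `bcPush` -/
def bcPush (K : DX) : L.obj (F.obj K) ⟶ F'.obj (L'.obj K) :=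
  (adjg.homEquiv _ _).symm (F.map (adjg'.unit.app K) ≫ e.hom.app (L'.obj K))

lemma map_xi_counit (M : DY') :
    F.map (xi adj adj' e M) ≫ adj.counit.app (G.obj M) =
      e.hom.app (a'.obj M) ≫ G.map (adj'.counit.app M) := by
  have := (adj.homEquiv _ _).symm_apply_apply (e.hom.app (a'.obj M) ≫ G.map (adj'.counit.app M))
  rwa [Adjunction.homEquiv_symm_apply] at this

@[reassoc]
lemma e_nat {X Y : DX'} (h : X ⟶ Y) :
    e.hom.app X ≫ G.map (F'.map h) = F.map (G'.map h) ≫ e.hom.app Y :=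
  (e.hom.naturality h).symm

lemma unit_bcMap (K : DY) [IsIso (xi adj adj' e (L.obj K))] :
    adjg'.unit.app (a.obj K) ≫ G'.map (bcMap adj adj' adjg adjg' e K) =
      a.map (adjg.unit.app K) ≫ inv (xi adj adj' e (L.obj K)) := by
  have n1 : ∀ {X Y : DX} (h : X ⟶ Y),
      adjg'.unit.app X ≫ G'.map (L'.map h) = h ≫ adjg'.unit.app Y :=
    fun h => adjg'.unit_naturality h
  have t : adjg'.unit.app (G'.obj (a'.obj (L.obj K))) ≫
      G'.map (adjg'.counit.app (a'.obj (L.obj K))) = 𝟙 _ := adjg'.right_triangle_components _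
  unfold bcMap
  rw [G'.map_comp, G'.map_comp, ← Category.assoc, n1, Category.assoc,
    ← Category.assoc (adjg'.unit.app _), n1, Category.assoc, t]
  simp only [Functor.id_obj, Category.comp_id]

theorem trace_compat (K : DY) [IsIso (xi adj adj' e (L.obj K))] :
    bcPush adjg adjg' e (a.obj K) ≫ F'.map (bcMap adj adj' adjg adjg' e K) ≫
      adj'.counit.app (L.obj K) = L.map (adj.counit.app K) := by
  apply (adjg.homEquiv _ _).injective
  rw [bcPush, Adjunction.homEquiv_naturality_right, Equiv.apply_symm_apply,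
    Adjunction.homEquiv_unit]
  have h1 : adjg.unit.app (F.obj (a.obj K)) ≫ G.map (L.map (adj.counit.app K)) =
      adj.counit.app K ≫ adjg.unit.app K := adjg.unit_naturality (adj.counit.app K)
  have h2 : F.map (a.map (adjg.unit.app K)) ≫ adj.counit.app (G.obj (L.obj K)) =
      adj.counit.app K ≫ adjg.unit.app K := adj.counit_naturality (adjg.unit.app K)
  rw [h1, ← h2]
  rw [Functor.map_comp, Category.assoc]
  calc F.map (adjg'.unit.app (a.obj K)) ≫ e.hom.app (L'.obj (a.obj K)) ≫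
        G.map (F'.map (bcMap adj adj' adjg adjg' e K)) ≫ G.map (adj'.counit.app (L.obj K))
      = F.map (adjg'.unit.app (a.obj K)) ≫ F.map (G'.map (bcMap adj adj' adjg adjg' e K)) ≫
          e.hom.app _ ≫ G.map (adj'.counit.app (L.obj K)) := by rw [e_nat_assoc]
    _ = F.map (adjg'.unit.app (a.obj K)) ≫ F.map (G'.map (bcMap adj adj' adjg adjg' e K)) ≫
          F.map (xi adj adj' e (L.obj K)) ≫ adj.counit.app _ := by rw [map_xi_counit]
    _ = F.map ((adjg'.unit.app (a.obj K) ≫ G'.map (bcMap adj adj' adjg adjg' e K)) ≫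
          xi adj adj' e (L.obj K)) ≫ adj.counit.app _ := by
        simp only [Functor.map_comp, Category.assoc]
    _ = F.map (a.map (adjg.unit.app K)) ≫ adj.counit.app (G.obj (L.obj K)) := by
        rw [unit_bcMap, Category.assoc, IsIso.inv_hom_id, Category.comp_id]

lemma xi_natural {N₁ N₂ : DY'} (h : N₁ ⟶ N₂) :
    G'.map (a'.map h) ≫ xi adj adj' e N₂ = xi adj adj' e N₁ ≫ a.map (G.map h) := by
  unfold xi
  rw [← Adjunction.homEquiv_naturality_left, ← Adjunction.homEquiv_naturality_right]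
  congr 1
  have hc : F'.map (a'.map h) ≫ adj'.counit.app N₂ = adj'.counit.app N₁ ≫ h :=
    adj'.counit_naturality h
  rw [← e_nat_assoc, Category.assoc, ← G.map_comp, ← G.map_comp, hc]

lemma inv_xi_natural {N₁ N₂ : DY'} (h : N₁ ⟶ N₂) [IsIso (xi adj adj' e N₁)]
    [IsIso (xi adj adj' e N₂)] :
    inv (xi adj adj' e N₁) ≫ G'.map (a'.map h) = a.map (G.map h) ≫ inv (xi adj adj' e N₂) := by
  rw [IsIso.inv_comp_eq, ← Category.assoc, IsIso.eq_comp_inv, xi_natural]

lemma unit_bcPush (M : DX) :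
    adjg.unit.app (F.obj M) ≫ G.map (bcPush adjg adjg' e M) =
      F.map (adjg'.unit.app M) ≫ e.hom.app (L'.obj M) := by
  have := (adjg.homEquiv _ _).apply_symm_apply (F.map (adjg'.unit.app M) ≫ e.hom.app (L'.obj M))
  rwa [Adjunction.homEquiv_unit] at this

theorem unit_compat (M : DX) [∀ N, IsIso (xi adj adj' e N)] :
    adj'.unit.app (L'.obj M) = L'.map (adj.unit.app M) ≫
      bcMap adj adj' adjg adjg' e (F.obj M) ≫ a'.map (bcPush adjg adjg' e M) := by
  apply (adjg'.homEquiv _ _).injective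
  rw [Adjunction.homEquiv_unit, Adjunction.homEquiv_unit]
  have n1 : adjg'.unit.app M ≫ G'.map (L'.map (adj.unit.app M)) =
      adj.unit.app M ≫ adjg'.unit.app (a.obj (F.obj M)) := adjg'.unit_naturality _
  have rhs : adjg'.unit.app M ≫ G'.map (L'.map (adj.unit.app M) ≫
      bcMap adj adj' adjg adjg' e (F.obj M) ≫ a'.map (bcPush adjg adjg' e M)) =
      adj.unit.app M ≫ a.map (F.map (adjg'.unit.app M) ≫ e.hom.app (L'.obj M)) ≫
        inv (xi adj adj' e (F'.obj (L'.obj M))) := by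
    rw [G'.map_comp, G'.map_comp, ← Category.assoc, n1, Category.assoc,
      ← Category.assoc (adjg'.unit.app _), unit_bcMap, Category.assoc, inv_xi_natural,
      ← Category.assoc (a.map _), ← a.map_comp, unit_bcPush]
  rw [rhs, ← Category.assoc (adj.unit.app M), IsIso.eq_comp_inv]
  -- LHS ≫ ξ
  have hu : ∀ {X Y : DX} (f : X ⟶ Y), f ≫ adj.unit.app Y = adj.unit.app X ≫ a.map (F.map f) :=
    fun f => (adj.unit_naturality f).symm
  have tri : F'.map (adj'.unit.app (L'.obj M)) ≫ adj'.counit.app (F'.obj (L'.obj M)) = 𝟙 _ :=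
    adj'.left_triangle_components _
  unfold xi
  rw [Adjunction.homEquiv_unit]
  dsimp only [Functor.id_obj, Functor.comp_obj] at hu tri ⊢
  rw [← Category.assoc, hu, Category.assoc, ← a.map_comp]
  congr 2
  rw [F.map_comp, Category.assoc, ← e_nat_assoc, ← G.map_comp, tri]
  simp

end Groth.Agent.Lib.Helper1.MateBC
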