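import Groth.Agent.Lib.Helper1.ArtFunQuot
import Groth.Agent.Lib.Helper1.ArtFunTangent
import Groth.Agent.Lib.Helper1.ArtFunVersalCrit
import Groth.Agent.Lib.Helper1.ArtFunPS
import Groth.Agent.Lib.Helper1.ArtFunCRing
import Groth.Agent.Lib.Helper1.ArtFunUnique
import Groth.Agent.Lib.Helper1.ArtFunProrepUnique
import Groth.Agent.S12716
import Groth.Agent.S12718
import Groth.Agent.Lib.Helper1.ArtFunAction
import Groth.Agent.Lib.Helper1.ArtFunMinimal

set_option autoImplicit false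
universe u v

open CategoryTheory

namespace Groth.Agent.Lib.Helper1.MinVersal

open ArtFun ArtFun.Art Groth.Agent.Lib.Helper1.ArtFunBasic Groth.Agent.Lib.Helper1.ArtFunCRing
  Groth.Agent.Lib.Helper1.ArtFunTangent Groth.Agent.Lib.Helper1.ArtFunVersalCrit
  Groth.Agent.Lib.Helper1.ArtFunPS Groth.Agent.Lib.Helper1.ArtFunQuot
  Groth.Agent.Lib.Helper1.ArtFunPullback

variable {Λ : Type u} {k : Type u} [CommRing Λ] [Field k] [Algebra Λ k]
variable [IsNoetherianRing Λ] [Module.Finite Λ k]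

section Pair

variable {R : Type u} [CommRing R] [Algebra Λ R] {resR : R →ₐ[Λ] k}

theorem exists_pair {B : Art Λ k} (ψ : HomSet R resR B) (δ : HomSet R resR (dual Λ k)) :
    ∃ Ψ : HomSet R resR (tObj B), HomSet.map (tFst B) Ψ = ψ ∧ HomSet.map (tSnd B) Ψ = δ := by
  have hb := rs_hR resR (tFst B) (tSnd B) (toBase B) (toBase (dual Λ k)) (tObj_isFibreProd B)
    (dual Λ k).res_surjective
  obtain ⟨Ψ, hΨ⟩ := hb.2 ⟨(ψ, δ), homSet_base_subsingleton _ _⟩
  exact ⟨Ψ, congrArg (fun t => t.1.1) hΨ, congrArg (fun t => t.1.2) hΨ⟩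

theorem pair_ext {B : Art Λ k} {Ψ Ψ' : HomSet R resR (tObj B)}
    (h₁ : HomSet.map (tFst B) Ψ = HomSet.map (tFst B) Ψ')
    (h₂ : HomSet.map (tSnd B) Ψ = HomSet.map (tSnd B) Ψ') : Ψ = Ψ' := by
  have hb := rs_hR resR (tFst B) (tSnd B) (toBase B) (toBase (dual Λ k)) (tObj_isFibreProd B)
    (dual Λ k).res_surjective
  apply hb.1
  apply Subtype.ext
  exact Prod.ext h₁ h₂

end Pair

section Stab

variable {R : Type u} [CommRing R] [Algebra Λ R] {resR : R →ₐ[Λ] k} {F : Art Λ k ⥤ Type v}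

/-- A tangent vector whose action never changes the image under the family. -/
def Stab (ξ : Family R resR F) (δ : HomSet R resR (dual Λ k)) : Prop :=
  ∀ (B : Art Λ k) (t : B) (htm : t ∈ IsLocalRing.maximalIdeal B)
    (ht : ∀ x ∈ IsLocalRing.maximalIdeal B, x * t = 0) (Ψ : HomSet R resR (tObj B)),
    HomSet.map (tSnd B) Ψ = δ →
      ξ.app B (HomSet.map (tAct t htm ht) Ψ) = ξ.app B (HomSet.map (tFst B) Ψ)

/-- Precomposition with an endomorphism. -/
def pre (θ : R →ₐ[Λ] R) (hθ : resR.comp θ = resR) {A : Art Λ k} (ψ : HomSet R resR A) :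
    HomSet R resR A := ⟨ψ.1.comp θ, by rw [← AlgHom.comp_assoc, ψ.2, hθ]⟩

omit [IsNoetherianRing Λ] [Module.Finite Λ k] in
lemma pre_map (θ : R →ₐ[Λ] R) (hθ : resR.comp θ = resR) {A B : Art Λ k} (f : A ⟶ B)
    (ψ : HomSet R resR A) : pre θ hθ (HomSet.map f ψ) = HomSet.map f (pre θ hθ ψ) := rfl

theorem stab_of_endo (ξ : Family R resR F) (θ : R →ₐ[Λ] R) (hθ : resR.comp θ = resR)
    (hξ : ∀ (A : Art Λ k) (ψ : HomSet R resR A), ξ.app A (pre θ hθ ψ) = ξ.app A ψ)
    (δ : HomSet R resR (dual Λ k))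
    (hδ : δ.1.comp θ = (baseToDual : base Λ k ⟶ dual Λ k).toAlgHom.comp resR) : Stab ξ δ := by
  intro B t htm ht Ψ hΨ
  have key : pre θ hθ Ψ = HomSet.map (tSec B) (pre θ hθ (HomSet.map (tFst B) Ψ)) := by
    apply pair_ext
    · rw [← homSet_map_comp, tSec_tFst, homSet_map_id]
      rfl
    · rw [← homSet_map_comp, tSec_tSnd, ← pre_map, hΨ]
      apply Subtype.ext
      change δ.1.comp θ = _
      rw [hδ]
      apply AlgHom.ext
      intro r
      change baseToDual.toAlgHom (resR r) = baseToDual.toAlgHom (B.res (_))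
      congr 1
      have h2 := (pre θ hθ (HomSet.map (tFst B) Ψ)).2
      exact (congrArg (fun g : R →ₐ[Λ] k => g r) h2).symm
  rw [← hξ B (HomSet.map (tAct t htm ht) Ψ), pre_map, key, ← homSet_map_comp, tSec_tAct,
    homSet_map_id, hξ]

end Stab

section Quot

variable {F : Art Λ k ⥤ Type v} (R : CRing Λ k) (ξ : Family R.carrier R.res F)

theorem isVersal_quot_of_stab (hξ : IsVersal ξ) (δ : HomSet R.carrier R.res (dual Λ k))
    (hδ : Stab ξ δ) (y : R.carrier) (hy : y ∈ IsLocalRing.maximalIdeal R.carrier)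
    (hδy : TrivSqZeroExt.snd (δ.1 y : TrivSqZeroExt k k) ≠ 0)
    (hI : Ideal.span {y} ≤ IsLocalRing.maximalIdeal R.carrier) :
    IsVersal (ξ.along (mkQ R (Ideal.span {y}) hI) (res_mkQ R (Ideal.span {y}) hI)) := by
  apply isVersal_of_smallExt
  intro B A μ hμ φ₁ yF hyF
  set I : Ideal R.carrier := Ideal.span {y} with hIdef
  have hyF' : F.map μ yF = ξ.app A (toS R I hI φ₁) := hyF
  obtain ⟨ψ, hψ1, hψ2⟩ := hξ μ hμ.1 (toS R I hI φ₁) yF hyF'
  set b : B := ψ.1 y with hb
  have hbker : b ∈ RingHom.ker μ.toAlgHom := by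
    rw [RingHom.mem_ker]
    have h1 : μ.toAlgHom (ψ.1 y) = (toS R I hI φ₁).1 y :=
      congrArg (fun g : HomSet R.carrier R.res A => g.1 y) hψ1
    rw [hb, h1, toS_apply]
    have : mkQ R I hI y = 0 := by
      have h : y ∈ RingHom.ker (mkQ R I hI) := by
        rw [ker_mkQ]; exact Ideal.mem_span_singleton_self y
      exact h
    rw [this, map_zero]
  have hbm : b ∈ IsLocalRing.maximalIdeal B := ker_le_maximalIdeal μ hbker
  have hbs : ∀ x ∈ IsLocalRing.maximalIdeal B, x * b = 0 := by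
    intro x hx
    have : x * b ∈ IsLocalRing.maximalIdeal B * RingHom.ker μ.toAlgHom :=
      Ideal.mul_mem_mul hx hbker
    rw [hμ.2.2.2] at this
    exact this
  set c : k := TrivSqZeroExt.snd (δ.1 y : TrivSqZeroExt k k) with hc
  set t' : B := -(sec B c⁻¹) * b with ht'
  have htm : t' ∈ IsLocalRing.maximalIdeal B := Ideal.mul_mem_left _ _ hbm
  have ht : ∀ x ∈ IsLocalRing.maximalIdeal B, x * t' = 0 := by
    intro x hx
    rw [ht', mul_left_comm, hbs x hx, mul_zero]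
  have hμt : μ t' = 0 := by
    have : t' ∈ RingHom.ker μ.toAlgHom := Ideal.mul_mem_left _ _ hbker
    exact this
  obtain ⟨Ψ, hΨ1, hΨ2⟩ := exists_pair ψ δ
  set ψ' : HomSet R.carrier R.res B := HomSet.map (tAct t' htm ht) Ψ with hψ'
  have hψ'y : ψ'.1 y = 0 := by
    change (tAct t' htm ht).toAlgHom (Ψ.1 y) = 0
    have e1 : (tFst B).toAlgHom (Ψ.1 y) = b :=
      congrArg (fun g : HomSet R.carrier R.res B => g.1 y) hΨ1
    have e2 : (tSnd B).toAlgHom (Ψ.1 y) = δ.1 y :=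
      congrArg (fun g : HomSet R.carrier R.res (dual Λ k) => g.1 y) hΨ2
    set X : PB (toBase B) (toBase (dual Λ k)) := Ψ.1 y with hX
    rw [tFst_apply] at e1
    rw [tSnd_apply] at e2
    rw [tAct_apply, e1, e2, ← hc, ht']
    have e3 : (sec B c * sec B c⁻¹) * b = 1 * b := by
      apply mul_eq_mul_of_res_eq hbs
      rw [map_mul, res_sec, res_sec, map_one, mul_inv_cancel₀ hδy]
    linear_combination (-1 : B) * e3
  have hμψ' : HomSet.map μ ψ' = toS R I hI φ₁ := by
    rw [hψ', ← homSet_map_comp, tAct_comp t' htm ht μ hμt, homSet_map_comp, hΨ1, hψ1]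
  have hξψ' : ξ.app B ψ' = yF := by
    rw [hψ', hδ B t' htm ht Ψ hΨ2, hΨ1, hψ2]
  have hker : I ≤ RingHom.ker ψ'.1 := by
    rw [hIdef, Ideal.span_le]
    intro z hz
    rw [Set.mem_singleton_iff] at hz
    rw [hz]
    exact hψ'y
  refine ⟨desc R I hI ψ' hker, ?_, ?_⟩
  · apply toS_injective R I hI
    rw [toS_map, toS_desc, hμψ']
  · change ξ.app B (toS R I hI (desc R I hI ψ' hker)) = yF
    rw [toS_desc, hξψ']

end Quot

section Max

variable {F : Art Λ k ⥤ Type v}

open Groth.Agent.Lib.Helper1.ArtFunDer Groth.Agent.Lib.Helper1.ArtFunMinimal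

omit [IsNoetherianRing Λ] [Module.Finite Λ k] in
lemma isVersal_congr {R : Type u} [CommRing R] [Algebra Λ R] {resR : R →ₐ[Λ] k}
    {ξ₁ ξ₂ : Family R resR F} (h : ∀ A ψ, ξ₁.app A ψ = ξ₂.app A ψ) (h1 : IsVersal ξ₁) :
    IsVersal ξ₂ := by
  intro B A μ hμ φ y hy
  rw [← h] at hy
  obtain ⟨ψ, h2, h3⟩ := h1 μ hμ φ y hy
  exact ⟨ψ, h2, by rw [← h, h3]⟩

/-- An endomorphism of a versal family none of whose principal quotients is versal is surjective. -/
theorem endo_surjective (R : CRing Λ k) (ξ : Family R.carrier R.res F) (hv : IsVersal ξ)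
    (hmax : ∀ (y : R.carrier) (hI : Ideal.span {y} ≤ IsLocalRing.maximalIdeal R.carrier), y ≠ 0 →
      ¬ IsVersal (ξ.along (mkQ R (Ideal.span {y}) hI) (res_mkQ R (Ideal.span {y}) hI)))
    (θ : R.carrier →ₐ[Λ] R.carrier) (hθ : R.res.comp θ = R.res)
    (hξ : ∀ (A : Art Λ k) (ψ : HomSet R.carrier R.res A), ξ.app A (pre θ hθ ψ) = ξ.app A ψ) :
    Function.Surjective θ := by
  letI : Algebra R.carrier k := R.res.toRingHom.toAlgebra
  haveI : IsScalarTower Λ R.carrier k :=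
    IsScalarTower.of_algebraMap_eq (fun l => (R.res.commutes l).symm)
  haveI : IsAdicComplete (IsLocalRing.maximalIdeal R.carrier) R.carrier := R.isAdicComplete
  have hres : ∀ r, algebraMap R.carrier k r = R.res r := fun _ => rfl
  apply Groth.Agent.S12716.result R R.carrier R.res_surjective θ
    (by rw [← hθ]; exact AlgHom.ext fun _ => rfl)
  intro D₁ D₂ hD
  by_contra hne
  have hex : ∃ r, D₁ r ≠ D₂ r := by
    by_contra hall
    exact hne (Derivation.ext fun r => by_contra fun h => hall ⟨r, h⟩)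
  obtain ⟨r, hr⟩ := hex
  set D : Derivation Λ R.carrier k := D₁ - D₂ with hDdef
  have hDθ : ∀ x, D (θ x) = 0 := fun x => by
    rw [hDdef, Derivation.sub_apply, hD x, sub_self]
  set y : R.carrier := r - θ r with hy
  have hDy : D y ≠ 0 := by
    rw [hy, map_sub, hDθ, sub_zero, hDdef, Derivation.sub_apply]
    exact sub_ne_zero.2 hr
  have hym : y ∈ IsLocalRing.maximalIdeal R.carrier := by
    rw [R.mem_maximalIdeal_iff, hy, map_sub]
    have : R.res (θ r) = R.res r := congrArg (fun g : R.carrier →ₐ[Λ] k => g r) hθ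
    rw [this, sub_self]
  have hy0 : y ≠ 0 := fun h0 => hDy (by rw [h0, map_zero])
  have hI : Ideal.span {y} ≤ IsLocalRing.maximalIdeal R.carrier := by
    rw [Ideal.span_le]
    intro z hz
    rw [Set.mem_singleton_iff] at hz
    rw [hz]; exact hym
  set δ : HomSet R.carrier R.res (dual Λ k) := derHom hres D with hδdef
  have hδθ : δ.1.comp θ = (baseToDual : base Λ k ⟶ dual Λ k).toAlgHom.comp R.res := by
    apply AlgHom.ext
    intro x
    refine TrivSqZeroExt.ext ?_ ?_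
    · change R.res (θ x) = _
      have : R.res (θ x) = R.res x := congrArg (fun g : R.carrier →ₐ[Λ] k => g x) hθ
      rw [this]
      change R.res x = TrivSqZeroExt.fst (algebraMap k (DualNumber k) (R.res x))
      rw [TrivSqZeroExt.algebraMap_eq_inl, TrivSqZeroExt.fst_inl]
    · change D (θ x) = _
      rw [hDθ]
      exact (snd_baseToDual (Λ := Λ) (R.res x)).symm
  have hstab : Stab ξ δ := stab_of_endo ξ θ hθ hξ δ hδθ
  exact hmax y hI hy0 (isVersal_quot_of_stab R ξ hv δ hstab y hym hDy hI)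

/-- Versal quotients. -/
def VQ (R : CRing Λ k) (ξ : Family R.carrier R.res F) (I : Ideal R.carrier) : Prop :=
  ∃ (R' : CRing Λ k) (π : R.carrier →ₐ[Λ] R'.carrier) (hπ : R'.res.comp π = R.res),
    Function.Surjective π ∧ RingHom.ker π = I ∧ IsVersal (ξ.along π hπ)

/-- Every versal family has a versal quotient all of whose endomorphisms are surjective. -/
theorem exists_versal_quot (R : CRing Λ k) (ξ : Family R.carrier R.res F) (hv : IsVersal ξ) :
    ∃ (R' : CRing Λ k) (π : R.carrier →ₐ[Λ] R'.carrier) (hπ : R'.res.comp π = R.res),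
      Function.Surjective π ∧ IsVersal (ξ.along π hπ) ∧
      ∀ (θ : R'.carrier →ₐ[Λ] R'.carrier) (hθ : R'.res.comp θ = R'.res),
        (∀ (A : Art Λ k) (ψ : HomSet R'.carrier R'.res A),
          (ξ.along π hπ).app A (pre θ hθ ψ) = (ξ.along π hπ).app A ψ) → Function.Surjective θ := by
  have hne : {I : Ideal R.carrier | VQ R ξ I}.Nonempty := by
    refine ⟨⊥, R, AlgHom.id Λ R.carrier, AlgHom.comp_id _, Function.surjective_id, ?_, ?_⟩
    · ext x; simp [RingHom.mem_ker]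
    · exact isVersal_congr (ξ₁ := ξ) (fun A ψ => rfl) hv
  obtain ⟨I, ⟨R', π, hπ, hsurj, hker, hv'⟩, hImax⟩ :=
    set_has_maximal_iff_noetherian.2 (inferInstance : IsNoetherian R.carrier R.carrier) _ hne
  refine ⟨R', π, hπ, hsurj, hv', ?_⟩
  intro θ hθ hξθ
  apply endo_surjective R' (ξ.along π hπ) hv' ?_ θ hθ hξθ
  intro y hI hy0 hvq
  set J : Ideal R.carrier := RingHom.ker ((mkQ R' (Ideal.span {y}) hI).comp π) with hJ
  have hJmem : VQ R ξ J := by
    refine ⟨quot R' (Ideal.span {y}) hI, (mkQ R' (Ideal.span {y}) hI).comp π, ?_, ?_, rfl, ?_⟩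
    · rw [← AlgHom.comp_assoc, res_mkQ, hπ]
    · exact (mkQ_surjective R' _ hI).comp hsurj
    · exact isVersal_congr (fun A ψ => rfl) hvq
  apply hImax J hJmem
  obtain ⟨y', hy'⟩ := hsurj y
  refine lt_of_le_of_ne ?_ ?_
  · intro x hx
    rw [← hker, RingHom.mem_ker] at hx
    rw [hJ, RingHom.mem_ker, AlgHom.comp_apply, hx, map_zero]
  · intro hIJ
    have h1 : y' ∈ J := by
      rw [hJ, RingHom.mem_ker, AlgHom.comp_apply, hy']
      have h : y ∈ RingHom.ker (mkQ R' (Ideal.span {y}) hI) := by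
        rw [ker_mkQ]; exact Ideal.mem_span_singleton_self y
      exact h
    rw [← hIJ, ← hker, RingHom.mem_ker, hy'] at h1
    exact hy0 h1

end Max

section Final

variable {F : Art Λ k ⥤ Type v}

open Groth.Agent.Lib.Helper1.ArtFunDer Groth.Agent.Lib.Helper1.ArtFunMinimal
  Groth.Agent.Lib.Helper1.ArtFunAction Groth.Agent.Lib.Helper1.ArtFunUnique

theorem endo_of_formal (R : CRing Λ k) (ξ : Family R.carrier R.res F)
    (θ : R.carrier →ₐ[Λ] R.carrier) (hθ : R.res.comp θ = R.res)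
    (h : (ξ.along θ hθ).toFormalElt = ξ.toFormalElt) (A : Art Λ k)
    (ψ : HomSet R.carrier R.res A) : ξ.app A (pre θ hθ ψ) = ξ.app A ψ :=
  family_app_eq_of_toFormalElt_eq R (ξ.along θ hθ) ξ h A ψ

theorem isMinimalVersal_of_endo (h0 : H0 F) (R : CRing Λ k) (ξ : Family R.carrier R.res F)
    (hv : IsVersal ξ)
    (hendo : ∀ (θ : R.carrier →ₐ[Λ] R.carrier) (hθ : R.res.comp θ = R.res),
      (∀ (A : Art Λ k) (ψ : HomSet R.carrier R.res A), ξ.app A (pre θ hθ ψ) = ξ.app A ψ) →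
        Function.Surjective θ) : ξ.IsMinimalVersal := by
  refine ⟨hv, fun S u g hg hpush => ?_⟩
  obtain ⟨r, hr, hru⟩ := exists_along_toFormalElt_eq h0 R ξ hv S u
  have hθ : R.res.comp (g.comp r) = R.res := by rw [← AlgHom.comp_assoc, hg, hr]
  have e1 : (ξ.along (g.comp r) hθ).toFormalElt = ((ξ.along r hr).along g hg).toFormalElt :=
    FormalElt.ext' fun n => rfl
  have e2 : (ξ.along (g.comp r) hθ).toFormalElt = ξ.toFormalElt := by
    rw [e1, along_toFormalElt, hru, hpush]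
  have hs := hendo (g.comp r) hθ (endo_of_formal R ξ _ hθ e2)
  exact Function.Surjective.of_comp (g := r) hs

/-- Smoothness of `h_R → h_{R'}` along a map with a retraction, when `R` carries a versal family
pulled back from `R'`. -/
theorem isVersal_self_along (R R' : CRing Λ k) (ξ : Family R.carrier R.res F)
    (ξ' : Family R'.carrier R'.res F) (hv : IsVersal ξ)
    (f : R'.carrier →ₐ[Λ] R.carrier) (hf : R.res.comp f = R'.res)
    (hfξ : ∀ (A : Art Λ k) (ψ : HomSet R.carrier R.res A), (ξ'.along f hf).app A ψ = ξ.app A ψ)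
    (ρ : R.carrier →ₐ[Λ] R'.carrier) (hρ : R'.res.comp ρ = R.res)
    (hρf : ρ.comp f = AlgHom.id Λ R'.carrier) :
    IsVersal ((Family.self R'.carrier R'.res).along f hf) := by
  apply isVersal_of_smallExt
  intro B A μ hμ φ y' hy'
  -- y' : h_{R'}(B), φ : h_R(A)
  have hy'' : HomSet.map μ y' = ⟨φ.1.comp f, by rw [← AlgHom.comp_assoc, φ.2, hf]⟩ := hy'
  obtain ⟨d⟩ := nonempty_smallData hμ
  have hF : F.map μ (ξ'.app B y') = ξ.app A φ := by
    rw [← ξ'.natural, hy'', ← hfξ]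
    rfl
  obtain ⟨ψ₀, hψ₀, -⟩ := hv μ hμ.1 φ (ξ'.app B y') hF
  let ψ₀f : HomSet R'.carrier R'.res B := ⟨ψ₀.1.comp f, by rw [← AlgHom.comp_assoc, ψ₀.2, hf]⟩
  have hμψ₀f : HomSet.map μ ψ₀f = HomSet.map μ y' := by
    rw [hy'']
    apply Subtype.ext
    change μ.toAlgHom.comp (ψ₀.1.comp f) = φ.1.comp f
    rw [← AlgHom.comp_assoc]
    have : μ.toAlgHom.comp ψ₀.1 = φ.1 := congrArg Subtype.val hψ₀
    rw [this]
  have hb := rs_hR R'.res (tFst B) d.act μ μ d.sq hμ.1
  obtain ⟨Ψ', hΨ'⟩ := hb.2 ⟨(ψ₀f, y'), hμψ₀f⟩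
  have hΨ'1 : HomSet.map (tFst B) Ψ' = ψ₀f := congrArg (fun t => t.1.1) hΨ'
  have hΨ'2 : HomSet.map d.act Ψ' = y' := congrArg (fun t => t.1.2) hΨ'
  set δ' : HomSet R'.carrier R'.res (dual Λ k) := HomSet.map (tSnd B) Ψ' with hδ'
  let δ : HomSet R.carrier R.res (dual Λ k) :=
    ⟨δ'.1.comp ρ, by rw [← AlgHom.comp_assoc, δ'.2, hρ]⟩
  obtain ⟨Ψ, hΨ1, hΨ2⟩ := exists_pair ψ₀ δ
  let Ψf : HomSet R'.carrier R'.res (tObj B) :=
    ⟨Ψ.1.comp f, by rw [← AlgHom.comp_assoc, Ψ.2, hf]⟩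
  have hΨf : Ψf = Ψ' := by
    apply pair_ext
    · rw [hΨ'1]
      apply Subtype.ext
      change (tFst B).toAlgHom.comp (Ψ.1.comp f) = ψ₀.1.comp f
      rw [← AlgHom.comp_assoc]
      have : (tFst B).toAlgHom.comp Ψ.1 = ψ₀.1 := congrArg Subtype.val hΨ1
      rw [this]
    · rw [← hδ']
      apply Subtype.ext
      change (tSnd B).toAlgHom.comp (Ψ.1.comp f) = δ'.1
      rw [← AlgHom.comp_assoc]
      have : (tSnd B).toAlgHom.comp Ψ.1 = δ'.1.comp ρ := congrArg Subtype.val hΨ2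
      rw [this, AlgHom.comp_assoc, hρf, AlgHom.comp_id]
  refine ⟨HomSet.map d.act Ψ, ?_, ?_⟩
  · rw [← homSet_map_comp, d.act_comp, homSet_map_comp, hΨ1, hψ₀]
  · change (⟨(HomSet.map d.act Ψ).1.comp f, _⟩ : HomSet R'.carrier R'.res B) = y'
    rw [← hΨ'2, ← hΨf]
    rfl

end Final

section Main

variable {F : Art Λ k ⥤ Type v}

open Groth.Agent.Lib.Helper1.ArtFunMinimal Groth.Agent.Lib.Helper1.ArtFunUnique

theorem main (h0 : H0 F) (V : VersalPair F) :
    ∃ (R' : CRing Λ k) (ξ' : Family R'.carrier R'.res F), ξ'.IsMinimalVersal ∧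
      ∃ (g : R'.carrier →ₐ[Λ] V.ring.carrier) (hg : V.ring.res.comp g = R'.res)
        (n : ℕ) (e : V.ring.carrier ≃ₐ[Λ] MvPowerSeries (Fin n) R'.carrier),
        (∀ a : R'.carrier, e (g a) = algebraMap R'.carrier (MvPowerSeries (Fin n) R'.carrier) a) ∧
        (ξ'.along g hg).toFormalElt = V.family.toFormalElt := by
  obtain ⟨R', π, hπ, hπs, hv', hendo⟩ := exists_versal_quot V.ring V.family V.versal
  set ξ' := V.family.along π hπ with hξ'
  have hmin : ξ'.IsMinimalVersal := isMinimalVersal_of_endo h0 R' ξ' hv' hendo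
  obtain ⟨f, hf, hfξ⟩ := exists_along_toFormalElt_eq h0 R' ξ' hv' V.ring V.family.toFormalElt
  -- the endomorphism π ∘ f
  have hθ : R'.res.comp (π.comp f) = R'.res := by rw [← AlgHom.comp_assoc, hπ, hf]
  have e1 : (ξ'.along (π.comp f) hθ).toFormalElt = ((ξ'.along f hf).along π hπ).toFormalElt :=
    FormalElt.ext' fun n => rfl
  have e2 : (ξ'.along (π.comp f) hθ).toFormalElt = ξ'.toFormalElt := by
    rw [e1, along_toFormalElt, hfξ, ← along_toFormalElt]
  have hs : Function.Surjective (π.comp f) :=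
    hendo (π.comp f) hθ (endo_of_formal R' ξ' _ hθ e2)
  have hi : Function.Injective (π.comp f) :=
    injective_of_surjective_endo ((π.comp f : R'.carrier →ₐ[Λ] R'.carrier) : R'.carrier →+* R'.carrier) hs
  let σ : R'.carrier ≃ₐ[Λ] R'.carrier := AlgEquiv.ofBijective (π.comp f) ⟨hi, hs⟩
  let ρ : V.ring.carrier →ₐ[Λ] R'.carrier := (σ.symm : R'.carrier →ₐ[Λ] R'.carrier).comp π
  have hρf : ρ.comp f = AlgHom.id Λ R'.carrier := by
    apply AlgHom.ext
    intro a
    change σ.symm (σ a) = a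
    exact σ.symm_apply_apply a
  have hσres : R'.res.comp (σ.symm : R'.carrier →ₐ[Λ] R'.carrier) = R'.res := by
    apply AlgHom.ext
    intro a
    obtain ⟨b, rfl⟩ := σ.surjective a
    change R'.res (σ.symm (σ b)) = R'.res (σ b)
    rw [σ.symm_apply_apply]
    exact (congrArg (fun g : R'.carrier →ₐ[Λ] k => g b) hθ).symm
  have hρ : R'.res.comp ρ = V.ring.res := by
    change R'.res.comp ((σ.symm : R'.carrier →ₐ[Λ] R'.carrier).comp π) = _
    rw [← AlgHom.comp_assoc, hσres, hπ]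
  have hver := isVersal_self_along V.ring R' V.family ξ' V.versal f hf
    (family_app_eq_of_toFormalElt_eq V.ring _ _ hfξ) ρ hρ hρf
  letI : Algebra R'.carrier V.ring.carrier := f.toRingHom.toAlgebra
  haveI : IsScalarTower Λ R'.carrier V.ring.carrier :=
    IsScalarTower.of_algebraMap_eq (fun l => (f.commutes l).symm)
  have hfeq : IsScalarTower.toAlgHom Λ R'.carrier V.ring.carrier = f := AlgHom.ext fun _ => rfl
  have hRS : V.ring.res.comp (IsScalarTower.toAlgHom Λ R'.carrier V.ring.carrier) = R'.res := by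
    rw [hfeq, hf]
  have hver' : IsVersal ((Family.self R'.carrier R'.res).along
      (IsScalarTower.toAlgHom Λ R'.carrier V.ring.carrier) hRS) :=
    isVersal_congr (fun A ψ => rfl) hver
  obtain ⟨n, ⟨e⟩⟩ := (Groth.Agent.S12718.result R' V.ring hRS).1 hver'
  refine ⟨R', ξ', hmin, f, hf, n, e.restrictScalars Λ, ?_, hfξ⟩
  intro a
  exact e.commutes a

end Main

end Groth.Agent.Lib.Helper1.MinVersal
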