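import Groth.Agent.Lib.Helper1.TensorAdj
import Mathlib.CategoryTheory.Abelian.GrothendieckAxioms.FunctorCategory
import Mathlib.CategoryTheory.Abelian.GrothendieckAxioms.Colim
import Mathlib.Algebra.Category.Grp.AB

/-!
# Exactness of filtered colimits and coproducts in `Mod O`
-/

set_option autoImplicit false
universe u w w'
open CategoryTheory CategoryTheory.Limits Opposite

namespace Groth.Agent.Lib.Helper1.ModAB5

open Groth.Agent.Lib.Helper1.TensorAdj

variable {C : Type u} [SmallCategory C] {J : GrothendieckTopology C} (O : Sheaf J CommRingCat.{u})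

instance : ReflectsFiniteLimits (PresheafOfModules.toPresheaf (O.obj ⋙ forget₂ CommRingCat.{u} RingCat.{u})) where
  reflects K _ _ := reflectsLimitsOfShape_of_reflectsIsomorphisms

instance pmodExact (K : Type u) [SmallCategory K] [HasExactColimitsOfShape K AddCommGrpCat.{u}] :
    HasExactColimitsOfShape K (PMod O) :=
  HasExactColimitsOfShape.domain_of_functor K
    (PresheafOfModules.toPresheaf (O.obj ⋙ forget₂ CommRingCat.{u} RingCat.{u}))

instance : PreservesFiniteLimits (shf O) :=
  inferInstanceAs (PreservesFiniteLimits
    (PresheafOfModules.sheafification.{u} (𝟙 (ModSite.ringSh O).obj)))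

instance modExact (K : Type u) [SmallCategory K] [HasExactColimitsOfShape K AddCommGrpCat.{u}] :
    HasExactColimitsOfShape K (ModSite.Mod O) :=
  (adj O).hasExactColimitsOfShape K

end Groth.Agent.Lib.Helper1.ModAB5
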