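import Groth.Prelude.Def_W4bk4hartshdef114Obs
import Mathlib.RingTheory.HopkinsLevitzki
import Mathlib.RingTheory.Nakayama
import Mathlib.RingTheory.Filtration
import Mathlib.LinearAlgebra.TensorProduct.Basis
import Mathlib.RingTheory.LocalRing.ResidueField.Basic
import Mathlib.RingTheory.LocalRing.RingHom.Basic
import Mathlib.Algebra.Module.SpanRank
import Mathlib.RingTheory.Ideal.Quotient.Noetherian

set_option autoImplicit false
universe u

open scoped TensorProduct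

namespace Groth.Agent.Lib.Helper1.ObsGens

open IsLocalRing W4bk4hartshdef114

section Small

variable {k : Type u} [Field k]

/-- A small extension stays small after dividing by a sub-ideal of its kernel. -/
theorem isSmallExt_quot {C' : Type u} [CommRing C'] [Algebra k C'] (J K : Ideal C')
    (h : IsSmallExt k C' J) (hK : K ≤ J) :
    IsSmallExt k (C' ⧸ K) (J.map (Ideal.Quotient.mkₐ k K)) := by
  obtain ⟨hloc, hart, hk, hann, hJ⟩ := h
  haveI := hloc
  haveI := hart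
  have hJm : J ≤ maximalIdeal C' := le_maximalIdeal hJ
  haveI : Nontrivial (C' ⧸ K) := Ideal.Quotient.nontrivial_iff.2 fun hK' =>
    hJ (top_le_iff.1 (hK' ▸ hK))
  haveI : IsLocalRing (C' ⧸ K) :=
    IsLocalRing.of_surjective' (Ideal.Quotient.mk K) Ideal.Quotient.mk_surjective
  haveI : IsLocalHom (Ideal.Quotient.mk K) :=
    (Ideal.Quotient.mk_surjective (I := K)).isLocalHom _
  have hnu : ∀ y : C', y ∈ nonunits C' → Ideal.Quotient.mk K y ∈ nonunits (C' ⧸ K) := by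
    intro y hy hu
    exact hy (isUnit_of_map_unit (Ideal.Quotient.mk K) y hu)
  refine ⟨inferInstance, inferInstance, ?_, ?_, ?_⟩
  · intro x
    obtain ⟨y, rfl⟩ := Ideal.Quotient.mk_surjective x
    obtain ⟨c, hc⟩ := hk y
    refine ⟨c, ?_⟩
    have := hnu _ hc
    rwa [map_sub] at this
  · intro x j hx hj
    obtain ⟨x', rfl⟩ := Ideal.Quotient.mk_surjective x
    have hx' : x' ∈ nonunits C' := fun hu => hx (hu.map _)
    obtain ⟨j', hj', rfl⟩ := (Ideal.mem_map_iff_of_surjective (Ideal.Quotient.mkₐ k K)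
      Ideal.Quotient.mk_surjective).1 hj
    change Ideal.Quotient.mk K x' * Ideal.Quotient.mk K j' = 0
    rw [← map_mul, hann x' j' hx' hj', map_zero]
  · intro htop
    have h1 : (1 : C' ⧸ K) ∈ J.map (Ideal.Quotient.mkₐ k K) := by rw [htop]; trivial
    obtain ⟨j, hj, hj1⟩ := (Ideal.mem_map_iff_of_surjective (Ideal.Quotient.mkₐ k K)
      Ideal.Quotient.mk_surjective).1 h1
    have : j - 1 ∈ K := by
      rw [← Ideal.Quotient.eq_zero_iff_mem, map_sub, map_one, sub_eq_zero]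
      exact hj1
    have h1J : (1 : C') ∈ J := by
      have e : (1 : C') = j - (j - 1) := by ring
      rw [e]
      exact J.sub_mem hj (hK this)
    exact hJ ((Ideal.eq_top_iff_one J).2 h1J)

end Small

section Main

variable {k : Type u} [Field k] {P : Type u} [CommRing P] [IsLocalRing P] [IsNoetherianRing P]
  [Algebra k P]

omit [IsNoetherianRing P] in
lemma exists_scalar (hres : Function.Surjective (algebraMap k (ResidueField P))) (x : P) :
    ∃ c : k, x - algebraMap k P c ∈ maximalIdeal P := by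
  obtain ⟨c, hc⟩ := hres (residue P x)
  refine ⟨c, ?_⟩
  rw [← residue_eq_zero_iff, map_sub, sub_eq_zero, ← hc]
  rfl

/-- The quotient of `P` by an open ideal `𝔞`, with the image of `𝔟`, is a small extension as soon
as `m 𝔟 ≤ 𝔞 ≤ 𝔟 ≤ m`. -/
theorem isSmallExt_of_open (hres : Function.Surjective (algebraMap k (ResidueField P)))
    (𝔞 𝔟 : Ideal P) (h𝔟m : 𝔟 ≤ maximalIdeal P) (h𝔞𝔟 : 𝔞 ≤ 𝔟)
    (hM : ∃ M : ℕ, maximalIdeal P ^ M ≤ 𝔞) (hm𝔟 : maximalIdeal P * 𝔟 ≤ 𝔞) :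
    IsSmallExt k (P ⧸ 𝔞) (𝔟.map (Ideal.Quotient.mk 𝔞)) := by
  have h𝔞m : 𝔞 ≤ maximalIdeal P := h𝔞𝔟.trans h𝔟m
  haveI : Nontrivial (P ⧸ 𝔞) := Ideal.Quotient.nontrivial_iff.2 fun h =>
    (IsLocalRing.maximalIdeal.isMaximal P).ne_top (top_le_iff.1 (h ▸ h𝔞m))
  haveI : IsLocalRing (P ⧸ 𝔞) :=
    IsLocalRing.of_surjective' (Ideal.Quotient.mk 𝔞) Ideal.Quotient.mk_surjective
  haveI : IsLocalHom (Ideal.Quotient.mk 𝔞) :=
    (Ideal.Quotient.mk_surjective (I := 𝔞)).isLocalHom _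
  have hnu : ∀ y : P, y ∈ maximalIdeal P → Ideal.Quotient.mk 𝔞 y ∈ nonunits (P ⧸ 𝔞) := by
    intro y hy hu
    exact hy (isUnit_of_map_unit (Ideal.Quotient.mk 𝔞) y hu)
  have hart : IsArtinianRing (P ⧸ 𝔞) := by
    rw [isArtinianRing_iff_isNilpotent_maximalIdeal]
    obtain ⟨M, hM⟩ := hM
    refine ⟨M, ?_⟩
    have hle : maximalIdeal (P ⧸ 𝔞) ≤ Ideal.map (Ideal.Quotient.mk 𝔞) (maximalIdeal P) := by
      intro y hy
      obtain ⟨x, rfl⟩ := Ideal.Quotient.mk_surjective y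
      apply Ideal.mem_map_of_mem
      rw [mem_maximalIdeal, mem_nonunits_iff] at hy ⊢
      exact fun hx => hy (hx.map _)
    rw [Ideal.zero_eq_bot, eq_bot_iff]
    refine (Ideal.pow_right_mono hle M).trans ?_
    rw [← Ideal.map_pow]
    refine (Ideal.map_mono hM).trans ?_
    rw [Ideal.map_quotient_self]
  refine ⟨inferInstance, hart, ?_, ?_, ?_⟩
  · intro x
    obtain ⟨y, rfl⟩ := Ideal.Quotient.mk_surjective x
    obtain ⟨c, hc⟩ := exists_scalar hres y
    refine ⟨c, ?_⟩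
    have := hnu _ hc
    rwa [map_sub] at this
  · intro x j hx hj
    obtain ⟨x', rfl⟩ := Ideal.Quotient.mk_surjective x
    have hx' : x' ∈ maximalIdeal P := fun hu => hx (hu.map _)
    obtain ⟨j', hj', rfl⟩ := (Ideal.mem_map_iff_of_surjective (Ideal.Quotient.mk 𝔞)
      Ideal.Quotient.mk_surjective).1 hj
    rw [← map_mul, Ideal.Quotient.eq_zero_iff_mem]
    exact hm𝔟 (Ideal.mul_mem_mul hx' hj')
  · intro htop
    have h1 : (1 : P ⧸ 𝔞) ∈ 𝔟.map (Ideal.Quotient.mk 𝔞) := by rw [htop]; trivial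
    obtain ⟨j, hj, hj1⟩ := (Ideal.mem_map_iff_of_surjective (Ideal.Quotient.mk 𝔞)
      Ideal.Quotient.mk_surjective).1 h1
    have : j - 1 ∈ 𝔞 := by
      rw [← Ideal.Quotient.eq_zero_iff_mem, map_sub, map_one, sub_eq_zero]
      exact hj1
    have h1m : (1 : P) ∈ maximalIdeal P := by
      have e : (1 : P) = j - (j - 1) := by ring
      rw [e]
      exact (maximalIdeal P).sub_mem (h𝔟m hj) (h𝔞m this)
    exact (IsLocalRing.maximalIdeal.isMaximal P).ne_top ((Ideal.eq_top_iff_one _).2 h1m)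

/-- If `P/I` has an obstruction theory with values in `V` and `I ≤ m²`, then `I` is generated by
`dim V` elements. -/
theorem exists_gens (hres : Function.Surjective (algebraMap k (ResidueField P)))
    (I : Ideal P) (hI : I ≤ maximalIdeal P ^ 2)
    (V : Type u) [AddCommGroup V] [Module k V] [Module.Finite k V]
    (T : ObsTheory k (P ⧸ I) V) :
    ∃ g : Fin (Module.finrank k V) → P, Ideal.span (Set.range g) = I := by
  classical
  set m := maximalIdeal P with hm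
  have hIm : I ≤ m := hI.trans (Ideal.pow_le_self two_ne_zero)
  -- Artin–Rees
  obtain ⟨c, hc⟩ := Ideal.exists_pow_inf_eq_pow_smul m (I : Submodule P P)
  have hAR : I ⊓ m ^ (c + 1) ≤ m * I := by
    have h1 := hc (c + 1) (Nat.le_succ c)
    rw [Nat.add_sub_cancel_left, pow_one] at h1
    intro x hx
    have hx' : x ∈ (m ^ (c + 1) • ⊤ ⊓ I : Submodule P P) := by
      refine ⟨?_, hx.1⟩
      rw [smul_eq_mul, Ideal.mul_top]
      exact hx.2
    rw [h1] at hx'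
    exact Submodule.smul_mono (le_refl m) inf_le_right hx'
  set 𝔞 : Ideal P := m * I ⊔ m ^ (c + 1) with h𝔞
  set 𝔟 : Ideal P := I ⊔ m ^ (c + 1) with h𝔟
  have hpm : m ^ (c + 1) ≤ m := Ideal.pow_le_self (Nat.succ_ne_zero c)
  have h𝔟m : 𝔟 ≤ m := sup_le hIm hpm
  have h𝔞𝔟 : 𝔞 ≤ 𝔟 := sup_le_sup_right Ideal.mul_le_right _
  have h𝔞o : ∃ M : ℕ, m ^ M ≤ 𝔞 := ⟨c + 1, le_sup_right⟩
  have hm𝔟 : m * 𝔟 ≤ 𝔞 := by
    rw [h𝔟, Ideal.mul_sup]
    exact sup_le_sup le_rfl Ideal.mul_le_right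
  set J : Ideal (P ⧸ 𝔞) := 𝔟.map (Ideal.Quotient.mk 𝔞) with hJ
  have hsmall : IsSmallExt k (P ⧸ 𝔞) J := isSmallExt_of_open hres 𝔞 𝔟 h𝔟m h𝔞𝔟 h𝔞o hm𝔟
  let a : P →ₐ[k] P ⧸ 𝔞 := Ideal.Quotient.mkₐ k 𝔞
  have ha0 : ∀ x, a x = 0 ↔ x ∈ 𝔞 := fun x => Ideal.Quotient.eq_zero_iff_mem
  have has : Function.Surjective a := Ideal.Quotient.mk_surjective
  let u : (P ⧸ I) →ₐ[k] (P ⧸ 𝔞) ⧸ J :=
    Ideal.Quotient.liftₐ I ((Ideal.Quotient.mkₐ k J).comp a) (fun x hx => by
      change Ideal.Quotient.mk J (Ideal.Quotient.mk 𝔞 x) = 0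
      rw [Ideal.Quotient.eq_zero_iff_mem]
      exact Ideal.mem_map_of_mem _ (Ideal.mem_sup_left hx))
  set o := T.obs (P ⧸ 𝔞) J u with ho
  let b := Module.finBasis k V
  obtain ⟨cf, hcf⟩ := TensorProduct.eq_repr_basis_left b o
  let K : Ideal (P ⧸ 𝔞) := Ideal.span (Set.range fun i => ((cf i : ↥J) : P ⧸ 𝔞))
  have hKJ : K ≤ J := by
    rw [Ideal.span_le]
    rintro _ ⟨i, rfl⟩
    exact (cf i).2
  have hsmallK := isSmallExt_quot J K hsmall hKJ
  have hobs0 : T.obs ((P ⧸ 𝔞) ⧸ K) (J.map (Ideal.Quotient.mkₐ k K))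
      (((DoubleQuot.quotQuotEquivQuotOfLEₐ k hKJ).symm : ((P ⧸ 𝔞) ⧸ J) →ₐ[k] _).comp u) = 0 := by
    rw [T.obs_quot (P ⧸ 𝔞) J K hsmall hKJ u, ← ho, ← hcf, Finsupp.sum, map_sum]
    apply Finset.sum_eq_zero
    intro i _
    rw [LinearMap.lTensor_tmul]
    have : idealToQuot k J K (cf i) = 0 := by
      apply Subtype.ext
      change Ideal.Quotient.mk K ((cf i : ↥J) : P ⧸ 𝔞) = 0
      rw [Ideal.Quotient.eq_zero_iff_mem]
      exact Ideal.subset_span ⟨i, rfl⟩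
    rw [this, TensorProduct.tmul_zero]
  obtain ⟨u'', hu''⟩ := (T.obs_eq_zero_iff _ _ hsmallK _).1 hobs0
  -- the derivation argument
  have hIK : ∀ x ∈ I, a x ∈ K := by
    obtain ⟨hlocK, -, -, hannK, hJKtop⟩ := hsmallK
    haveI := hlocK
    let q : P →+* (P ⧸ 𝔞) ⧸ K := (Ideal.Quotient.mk K).comp (Ideal.Quotient.mk 𝔞)
    have hq : Function.Surjective q :=
      Ideal.Quotient.mk_surjective.comp Ideal.Quotient.mk_surjective
    haveI : IsLocalHom q := hq.isLocalHom q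
    let bb : P →+* (P ⧸ 𝔞) ⧸ K := (u'' : (P ⧸ I) →+* (P ⧸ 𝔞) ⧸ K).comp (Ideal.Quotient.mk I)
    have hJKm : J.map (Ideal.Quotient.mkₐ k K) ≤ maximalIdeal ((P ⧸ 𝔞) ⧸ K) :=
      le_maximalIdeal hJKtop
    have hdiff : ∀ x, q x - bb x ∈ J.map (Ideal.Quotient.mkₐ k K) := by
      intro x
      rw [← Ideal.Quotient.eq]
      have := AlgHom.congr_fun hu'' (Ideal.Quotient.mk I x)
      exact this.symm
    have hqm : ∀ x ∈ m, q x ∈ maximalIdeal ((P ⧸ 𝔞) ⧸ K) := by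
      intro x hx hu
      exact hx (isUnit_of_map_unit q x hu)
    have hbm : ∀ x ∈ m, bb x ∈ maximalIdeal ((P ⧸ 𝔞) ⧸ K) := by
      intro x hx
      have e : bb x = q x - (q x - bb x) := by ring
      rw [e]
      exact Ideal.sub_mem _ (hqm x hx) (hJKm (hdiff x))
    have hzero : ∀ {s t : (P ⧸ 𝔞) ⧸ K}, s ∈ maximalIdeal ((P ⧸ 𝔞) ⧸ K) →
        t ∈ J.map (Ideal.Quotient.mkₐ k K) → s * t = 0 := fun hs ht => hannK _ _ hs ht
    have hsq : ∀ z ∈ m * m, q z = bb z := by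
      intro z hz
      refine Submodule.mul_induction_on hz (fun x hx y hy => ?_) (fun x y hx hy => ?_)
      · rw [map_mul, map_mul]
        have e : q x * q y - bb x * bb y = q x * (q y - bb y) + bb y * (q x - bb x) := by ring
        rw [← sub_eq_zero, e, hzero (hqm x hx) (hdiff y), hzero (hbm y hy) (hdiff x), add_zero]
      · rw [map_add, map_add, hx, hy]
    intro x hx
    have hx2 : x ∈ m * m := by rw [← pow_two]; exact hI hx
    have h1 := hsq x hx2
    have h2 : bb x = 0 := by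
      change u'' (Ideal.Quotient.mk I x) = 0
      rw [Ideal.Quotient.eq_zero_iff_mem.2 hx, map_zero]
    rw [h2] at h1
    exact Ideal.Quotient.eq_zero_iff_mem.1 h1
  -- generators
  have hgen : ∀ i, ∃ g ∈ I, a g = ((cf i : ↥J) : P ⧸ 𝔞) := by
    intro i
    obtain ⟨x, hx, hxa⟩ := (Ideal.mem_map_iff_of_surjective (Ideal.Quotient.mk 𝔞)
      Ideal.Quotient.mk_surjective).1 (cf i).2
    obtain ⟨g, hg, t, ht, rfl⟩ := Submodule.mem_sup.1 hx
    refine ⟨g, hg, ?_⟩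
    rw [← hxa]
    change Ideal.Quotient.mk 𝔞 g = Ideal.Quotient.mk 𝔞 (g + t)
    rw [map_add, Ideal.Quotient.eq_zero_iff_mem.2 (Ideal.mem_sup_right ht : t ∈ 𝔞), add_zero]
  choose g hgI hga using hgen
  refine ⟨g, le_antisymm ?_ ?_⟩
  · rw [Ideal.span_le]
    rintro _ ⟨i, rfl⟩
    exact hgI i
  · apply Submodule.le_of_le_smul_of_le_jacobson_bot (I := m) (IsNoetherian.noetherian _)
      (maximalIdeal_le_jacobson _)
    intro x hx
    have hxK : a x ∈ K := hIK x hx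
    have hKmap : K = Ideal.map (a : P →+* P ⧸ 𝔞) (Ideal.span (Set.range g)) := by
      rw [Ideal.map_span, ← Set.range_comp]
      have e : (fun i => ((cf i : ↥J) : P ⧸ 𝔞)) = (⇑(a : P →+* P ⧸ 𝔞) ∘ g) :=
        funext fun i => (hga i).symm
      change Ideal.span (Set.range fun i => ((cf i : ↥J) : P ⧸ 𝔞)) = _
      rw [e]
    rw [hKmap] at hxK
    obtain ⟨y, hy, hya⟩ := (Ideal.mem_map_iff_of_surjective (a : P →+* P ⧸ 𝔞) has).1 hxK
    have hxy : x - y ∈ 𝔞 := by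
      rw [← ha0, map_sub, sub_eq_zero]
      exact hya.symm
    obtain ⟨z₁, hz₁, z₂, hz₂, hz⟩ := Submodule.mem_sup.1 hxy
    have hyI : y ∈ I := by
      have : Ideal.span (Set.range g) ≤ I := by
        rw [Ideal.span_le]; rintro _ ⟨i, rfl⟩; exact hgI i
      exact this hy
    have hz₂I : z₂ ∈ I := by
      have e : z₂ = x - y - z₁ := by rw [← hz]; ring
      rw [e]
      exact Ideal.sub_mem _ (Ideal.sub_mem _ hx hyI) (Ideal.mul_le_right hz₁)
    have hz₂' : z₂ ∈ m * I := hAR ⟨hz₂I, hz₂⟩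
    have e : x = y + (z₁ + z₂) := by rw [hz]; ring
    rw [e]
    exact Submodule.add_mem_sup hy (by
      rw [smul_eq_mul]
      exact Ideal.add_mem _ hz₁ hz₂')

end Main

end Groth.Agent.Lib.Helper1.ObsGens
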