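import Mathlib.CategoryTheory.Localization.CalculusOfFractions
import Mathlib.CategoryTheory.Comma.Over.Basic

/-!
# Localization of slice categories under a right calculus of fractions
-/

set_option autoImplicit false
universe v₁ v₂ v₃ u₁ u₂ u₃
open CategoryTheory

namespace Groth.Agent.Lib.Helper1.OverLoc

variable {C : Type u₁} [Category.{v₁} C]

section Inst

variable (W : MorphismProperty C) [W.HasRightCalculusOfFractions] (S : C)

/-- the class of morphisms of the slice category whose underlying morphism is in `W` -/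
abbrev WS : MorphismProperty (Over S) := W.inverseImage (Over.forget S)

instance : (WS W S).HasRightCalculusOfFractions where
  exists_rightFraction a b φ := by
    obtain ⟨ψ, hψ⟩ := (MorphismProperty.LeftFraction.mk (W := W) φ.f.left φ.s.left φ.hs).exists_rightFraction
    have hw : ψ.f ≫ b.hom = ψ.s ≫ a.hom := by
      rw [← Over.w φ.s, ← Over.w φ.f]
      rw [← Category.assoc, ← Category.assoc]
      exact congrArg (· ≫ _) hψ.symm
    refine ⟨MorphismProperty.RightFraction.mk (X' := Over.mk (ψ.s ≫ a.hom)) (Over.homMk ψ.s rfl) ψ.hs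
      (Over.homMk ψ.f hw), ?_⟩
    ext
    exact hψ
  ext a b b' f₁ f₂ s hs h := by
    have h' : f₁.left ≫ s.left = f₂.left ≫ s.left := by
      rw [← Over.comp_left, ← Over.comp_left, h]
    obtain ⟨X', t, ht, hh⟩ := MorphismProperty.HasRightCalculusOfFractions.ext f₁.left f₂.left s.left hs h'
    refine ⟨Over.mk (t ≫ a.hom), Over.homMk t rfl, ht, ?_⟩
    ext
    exact hh

end Inst

section Main

variable {D : Type u₂} [Category.{v₂} D] {E : Type u₃} [Category.{v₃} E]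

lemma Φ_map_L' {S : C} (L : C ⥤ D) (L' : Over S ⥤ E) (Φ : E ⥤ Over (L.obj S))
    (e : L' ⋙ Φ ≅ Over.post L) {x y : Over S} (h : x ⟶ y) :
    Φ.map (L'.map h) = (e.app x).hom ≫ (Over.post L).map h ≫ (e.app y).inv := by
  have := e.hom.naturality h
  simp only [Functor.comp_map] at this
  rw [← Category.assoc, Iso.app_hom, ← this, Category.assoc]
  simp

/-- (A): `Φ ∘ L'` detects equality of images under `L'` -/
lemma L'_map_eq_of_Φ (W : MorphismProperty C) [W.HasRightCalculusOfFractions] {S : C}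
    (L : C ⥤ D) [L.IsLocalization W] (L' : Over S ⥤ E) [L'.IsLocalization (WS W S)]
    (Φ : E ⥤ Over (L.obj S)) (e : L' ⋙ Φ ≅ Over.post L)
    {x y : Over S} (g g' : x ⟶ y) (h : Φ.map (L'.map g) = Φ.map (L'.map g')) :
    L'.map g = L'.map g' := by
  rw [Φ_map_L' L L' Φ e, Φ_map_L' L L' Φ e] at h
  have h1 : (Over.post L).map g = (Over.post L).map g' := by
    have := congrArg (fun k => (e.app x).inv ≫ k ≫ (e.app y).hom) h
    simpa using this
  have h2 : L.map g.left = L.map g'.left := congrArg (fun k => k.left) h1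
  obtain ⟨X', t, ht, hh⟩ := (MorphismProperty.map_eq_iff_precomp L W g.left g'.left).1 h2
  let t' : Over.mk (t ≫ x.hom) ⟶ x := Over.homMk t rfl
  have ht' : WS W S t' := ht
  have h3 : t' ≫ g = t' ≫ g' := by
    ext
    exact hh
  haveI : IsIso (L'.map t') := Localization.inverts L' (WS W S) t' ht'
  rw [← cancel_epi (L'.map t'), ← L'.map_comp, ← L'.map_comp, h3]

lemma exists_fraction (W : MorphismProperty C) [W.HasRightCalculusOfFractions] {S : C}
    (L' : Over S ⥤ E) [L'.IsLocalization (WS W S)] {a b : Over S} (f : L'.obj a ⟶ L'.obj b) :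
    ∃ (a' : Over S) (s : a' ⟶ a) (_ : WS W S s) (g : a' ⟶ b), L'.map s ≫ f = L'.map g := by
  obtain ⟨φ, hφ⟩ := Localization.exists_rightFraction L' (WS W S) f
  refine ⟨_, φ.s, φ.hs, φ.f, ?_⟩
  rw [hφ]
  exact φ.map_s_comp_map L' _

lemma faithful_aux (W : MorphismProperty C) [W.HasRightCalculusOfFractions] {S : C}
    (L : C ⥤ D) [L.IsLocalization W] (L' : Over S ⥤ E) [L'.IsLocalization (WS W S)]
    (Φ : E ⥤ Over (L.obj S)) (e : L' ⋙ Φ ≅ Over.post L)
    {a b : Over S} (f₁ f₂ : L'.obj a ⟶ L'.obj b) (h : Φ.map f₁ = Φ.map f₂) :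
    f₁ = f₂ := by
  obtain ⟨a₁, s₁, hs₁, g₁, h₁⟩ := exists_fraction W L' f₁
  obtain ⟨a₃, s₃, hs₃, g₃, h₃⟩ := exists_fraction W L' (L'.map s₁ ≫ f₂)
  have hs : WS W S (s₃ ≫ s₁) := (WS W S).comp_mem _ _ hs₃ hs₁
  haveI : IsIso (L'.map (s₃ ≫ s₁)) := Localization.inverts L' (WS W S) _ hs
  have e1 : L'.map (s₃ ≫ s₁) ≫ f₂ = L'.map g₃ := by
    rw [L'.map_comp, Category.assoc, h₃]
  have e2 : L'.map (s₃ ≫ s₁) ≫ f₁ = L'.map (s₃ ≫ g₁) := by
    rw [L'.map_comp, Category.assoc, h₁, ← L'.map_comp]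
  have e3 : Φ.map (L'.map g₃) = Φ.map (L'.map (s₃ ≫ g₁)) := by
    rw [← e1, ← e2, Φ.map_comp, Φ.map_comp, h]
  have e4 := L'_map_eq_of_Φ W L L' Φ e _ _ e3
  rw [← cancel_epi (L'.map (s₃ ≫ s₁)), e1, e2, e4]

lemma full_aux (W : MorphismProperty C) [W.HasRightCalculusOfFractions] {S : C}
    (L : C ⥤ D) [L.IsLocalization W] (L' : Over S ⥤ E) [L'.IsLocalization (WS W S)]
    (Φ : E ⥤ Over (L.obj S)) (e : L' ⋙ Φ ≅ Over.post L)
    {a b : Over S} (g : Φ.obj (L'.obj a) ⟶ Φ.obj (L'.obj b)) :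
    ∃ f : L'.obj a ⟶ L'.obj b, Φ.map f = g := by
  let g' : (Over.post L).obj a ⟶ (Over.post L).obj b := (e.app a).inv ≫ g ≫ (e.app b).hom
  let gl : L.obj a.left ⟶ L.obj b.left := g'.left
  obtain ⟨φ, hφ⟩ := Localization.exists_rightFraction L W gl
  have h1 : L.map φ.s ≫ gl = L.map φ.f := by
    rw [hφ]; exact φ.map_s_comp_map L _
  have hw : gl ≫ L.map b.hom = L.map a.hom := Over.w g'
  have h2 : L.map (φ.f ≫ b.hom) = L.map (φ.s ≫ a.hom) := by
    rw [L.map_comp, L.map_comp, ← h1, Category.assoc, hw]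
  obtain ⟨X'', t, ht, hh⟩ := (MorphismProperty.map_eq_iff_precomp L W _ _).1 h2
  let a'' : Over S := Over.mk (t ≫ φ.s ≫ a.hom)
  let s'' : a'' ⟶ a := Over.homMk (t ≫ φ.s) (by simp [a''])
  let f'' : a'' ⟶ b := Over.homMk (t ≫ φ.f) (by simpa [a''] using hh)
  have hs'' : WS W S s'' := W.comp_mem _ _ ht φ.hs
  haveI : IsIso (L'.map s'') := Localization.inverts L' (WS W S) s'' hs''
  have h3 : (Over.post L).map f'' = (Over.post L).map s'' ≫ g' := by
    ext
    show L.map (t ≫ φ.f) = L.map (t ≫ φ.s) ≫ gl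
    rw [L.map_comp, L.map_comp, Category.assoc, h1]
  refine ⟨inv (L'.map s'') ≫ L'.map f'', ?_⟩
  haveI : IsIso (Φ.map (L'.map s'')) := inferInstance
  rw [← cancel_epi (Φ.map (L'.map s'')), ← Φ.map_comp, IsIso.hom_inv_id_assoc,
    Φ_map_L' L L' Φ e, Φ_map_L' L L' Φ e, h3]
  simp [g']

lemma essSurj_aux (W : MorphismProperty C) [W.HasRightCalculusOfFractions] {S : C}
    (L : C ⥤ D) [L.IsLocalization W] (L' : Over S ⥤ E) [L'.IsLocalization (WS W S)]
    (Φ : E ⥤ Over (L.obj S)) (e : L' ⋙ Φ ≅ Over.post L)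
    (y : Over (L.obj S)) : ∃ a : Over S, Nonempty (Φ.obj (L'.obj a) ≅ y) := by
  haveI : L.EssSurj := Localization.essSurj L W
  let Y := L.objPreimage y.left
  let i : L.obj Y ≅ y.left := L.objObjPreimageIso y.left
  obtain ⟨φ, hφ⟩ := Localization.exists_rightFraction L W (i.hom ≫ y.hom)
  have h1 : L.map φ.s ≫ i.hom ≫ y.hom = L.map φ.f := by
    rw [hφ]; exact φ.map_s_comp_map L _
  have hiso : IsIso (L.map φ.s) := Localization.inverts L W _ φ.hs
  refine ⟨Over.mk φ.f, ⟨e.app (Over.mk φ.f) ≪≫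
    Over.isoMk (@asIso _ _ _ _ (L.map φ.s) hiso ≪≫ i) ?_⟩⟩
  show (L.map φ.s ≫ i.hom) ≫ y.hom = L.map φ.f
  rw [Category.assoc, h1]

theorem isEquivalence (W : MorphismProperty C) [W.HasRightCalculusOfFractions] {S : C}
    (L : C ⥤ D) [L.IsLocalization W] (L' : Over S ⥤ E) [L'.IsLocalization (WS W S)]
    (Φ : E ⥤ Over (L.obj S)) (e : L' ⋙ Φ ≅ Over.post L) :
    Φ.IsEquivalence := by
  haveI : L'.EssSurj := Localization.essSurj L' (WS W S)
  haveI : Φ.Faithful := by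
    refine ⟨fun {X Y} f₁ f₂ h => ?_⟩
    let iX := L'.objObjPreimageIso X
    let iY := L'.objObjPreimageIso Y
    have := faithful_aux W L L' Φ e (iX.hom ≫ f₁ ≫ iY.inv) (iX.hom ≫ f₂ ≫ iY.inv)
      (by simp only [Φ.map_comp, h])
    rwa [cancel_epi, cancel_mono] at this
  haveI : Φ.Full := by
    refine ⟨fun {X Y} g => ?_⟩
    let iX := L'.objObjPreimageIso X
    let iY := L'.objObjPreimageIso Y
    obtain ⟨f, hf⟩ := full_aux W L L' Φ e (Φ.map iX.hom ≫ g ≫ Φ.map iY.inv)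
    refine ⟨iX.inv ≫ f ≫ iY.hom, ?_⟩
    rw [Φ.map_comp, Φ.map_comp, hf]
    simp only [Category.assoc, ← Φ.map_comp, Iso.inv_hom_id, Φ.map_id, Category.comp_id]
    rw [← Category.assoc, ← Φ.map_comp, Iso.inv_hom_id, Φ.map_id, Category.id_comp]
  haveI : Φ.EssSurj := by
    refine ⟨fun y => ?_⟩
    obtain ⟨a, ⟨i⟩⟩ := essSurj_aux W L L' Φ e y
    exact ⟨L'.obj a, ⟨i⟩⟩
  exact {}

end Main

end Groth.Agent.Lib.Helper1.OverLoc
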