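import Groth.Agent.Lib.Helper1.RestrExact

/-!
# Restriction along `Over.map h` is exact
-/

set_option autoImplicit false
universe u
open CategoryTheory CategoryTheory.Limits

namespace Groth.Agent.Lib.Helper1.OverMapExact

open Groth.Agent.Lib.Helper1.RestrExact

variable {C : Type u} [SmallCategory C] {J : GrothendieckTopology C}
  (O : Sheaf J CommRingCat.{u}) {V W : C} (h : V ⟶ W)

/-- restriction from `C/W` to `C/V` along `h : V ⟶ W` -/
noncomputable abbrev om : ModSite.Mod (O.over W) ⥤ ModSite.Mod (O.over V) :=
  SheafOfModules.overMap.{u} (ModSite.ringSh O) h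

noncomputable instance overMap_isRightAdjoint :
    (SheafOfModules.overMap.{u} (ModSite.ringSh O) h).IsRightAdjoint := by
  unfold SheafOfModules.overMap
  infer_instance

noncomputable instance : (om O h).IsRightAdjoint :=
  inferInstanceAs (SheafOfModules.overMap.{u} (ModSite.ringSh O) h).IsRightAdjoint

instance : (om O h).Additive where

instance om_preservesEpi : (om O h).PreservesEpimorphisms where
  preserves {M N} f hf := by
    haveI := hf
    haveI : Epi ((SheafOfModules.toSheaf.{u} (ModSite.ringSh (O.over W))).map f) := inferInstance
    have hls : Sheaf.IsLocallySurjective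
        ((SheafOfModules.toSheaf.{u} (ModSite.ringSh (O.over W))).map f) :=
      (Sheaf.isLocallySurjective_iff_epi' _ _).2 inferInstance
    have hls' : Sheaf.IsLocallySurjective
        ((SheafOfModules.toSheaf.{u} (ModSite.ringSh (O.over V))).map ((om O h).map f)) := by
      show Presheaf.IsLocallySurjective (J.over V) (Functor.whiskerLeft (Over.map h).op
        ((SheafOfModules.toSheaf.{u} (ModSite.ringSh (O.over W))).map f).hom)
      haveI : Presheaf.IsLocallySurjective (J.over W)
        ((SheafOfModules.toSheaf.{u} (ModSite.ringSh (O.over W))).map f).hom := hls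
      exact Presheaf.isLocallySurjective_whisker (J.over V) (J.over W) (Over.map h) _
    haveI : Epi ((SheafOfModules.toSheaf.{u} (ModSite.ringSh (O.over V))).map
        ((om O h).map f)) := (Sheaf.isLocallySurjective_iff_epi' _ _).1 hls'
    exact (SheafOfModules.toSheaf.{u} (ModSite.ringSh (O.over V))).epi_of_epi_map this

instance : PreservesFiniteLimits (om O h) := inferInstance

instance : PreservesFiniteColimits (om O h) :=
  preservesFiniteColimits_of_preservesEpi _

end Groth.Agent.Lib.Helper1.OverMapExact
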