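import Groth.Prelude.Def_ParaF

/-!
# Basic formal properties of `ParaF.InvRestrictEquiv`

* restriction along an open immersion preserves invertible modules;
* two-out-of-three for `InvRestrictEquiv` along a composite of open immersions.
-/

set_option autoImplicit false
universe u
open CategoryTheory CategoryTheory.Limits AlgebraicGeometry TopologicalSpace

namespace Groth.Agent.Lib.Helper1.ParaFBasic

open Scheme.Modules

/-- Restriction along an open immersion preserves invertible modules. -/
lemma isInvertible_restrict {W V : Scheme.{u}} (j : W ⟶ V) [IsOpenImmersion j]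
    (L : V.Modules) (hL : PicF.IsInvertible L) : PicF.IsInvertible (L.restrict j) := by
  intro y
  obtain ⟨U, hyU, ⟨e⟩⟩ := hL (j.base y)
  refine ⟨j ⁻¹ᵁ U, hyU, ⟨?_⟩⟩
  have hcomm : (j ⁻¹ᵁ U).ι ≫ j = (j ∣_ U) ≫ U.ι := (morphismRestrict_ι j U).symm
  exact ((restrictFunctorComp (j ⁻¹ᵁ U).ι j).symm.app L) ≪≫
    ((restrictFunctorCongr hcomm).app L) ≪≫
    ((restrictFunctorComp (j ∣_ U) U.ι).app L) ≪≫
    ((restrictFunctor (j ∣_ U)).mapIso e) ≪≫ restrictUnitIso (j ∣_ U)

/-- Invertibility is invariant under isomorphism. -/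
lemma isInvertible_of_iso {V : Scheme.{u}} {L L' : V.Modules} (e : L ≅ L')
    (hL : PicF.IsInvertible L) : PicF.IsInvertible L' := by
  intro y
  obtain ⟨U, hyU, ⟨i⟩⟩ := hL y
  exact ⟨U, hyU, ⟨(restrictFunctor U.ι).mapIso e.symm ≪≫ i⟩⟩

/-- A functor which is bijective on morphisms between objects of a class reflects isomorphisms
between those objects. -/
lemma nonempty_iso_of_bijective {W U : Scheme.{u}} (j : U ⟶ W) [IsOpenImmersion j]
    (h : ParaF.InvRestrictEquiv j) {M N : W.Modules} (hM : PicF.IsInvertible M)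
    (hN : PicF.IsInvertible N) (ψ : M.restrict j ≅ N.restrict j) : Nonempty (M ≅ N) := by
  obtain ⟨f, hf⟩ := (h.1 M N hM hN).2 ψ.hom
  obtain ⟨g, hg⟩ := (h.1 N M hN hM).2 ψ.inv
  dsimp only at hf hg
  refine ⟨⟨f, g, ?_, ?_⟩⟩
  · apply (h.1 M M hM hM).1
    dsimp only
    rw [Functor.map_comp, hf, hg, Iso.hom_inv_id, CategoryTheory.Functor.map_id]
  · apply (h.1 N N hN hN).1
    dsimp only
    rw [Functor.map_comp, hf, hg, Iso.inv_hom_id, CategoryTheory.Functor.map_id]

/-- Two-out-of-three: if restriction along `j1 ≫ j2` and along `j1` are equivalences on invertible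
modules, so is restriction along `j2`. -/
lemma invRestrictEquiv_of_comp {U W V : Scheme.{u}} (j1 : U ⟶ W) (j2 : W ⟶ V)
    [IsOpenImmersion j1] [IsOpenImmersion j2]
    (h : ParaF.InvRestrictEquiv (j1 ≫ j2)) (h1 : ParaF.InvRestrictEquiv j1) :
    ParaF.InvRestrictEquiv j2 := by
  refine ⟨?_, ?_⟩
  · intro L L' hL hL'
    have hb1 := h1.1 _ _ (isInvertible_restrict j2 L hL) (isInvertible_restrict j2 L' hL')
    have hb := h.1 L L' hL hL'
    rw [← Function.Bijective.of_comp_iff' hb1]
    -- the composite is conjugate to restriction along `j1 ≫ j2`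
    let α := restrictFunctorComp j1 j2
    have key : ((fun φ : (restrictFunctor j2).obj L ⟶ (restrictFunctor j2).obj L' =>
        (restrictFunctor j1).map φ) ∘ fun φ : L ⟶ L' => (restrictFunctor j2).map φ) =
        (fun ψ => α.inv.app L ≫ ψ ≫ α.hom.app L') ∘
          fun φ : L ⟶ L' => (restrictFunctor (j1 ≫ j2)).map φ := by
      funext φ
      dsimp only [Function.comp]
      have := α.hom.naturality φ
      dsimp at this
      rw [this, Iso.inv_hom_id_app_assoc]
    rw [key]
    refine Function.Bijective.comp ?_ hb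
    refine ⟨fun a b hab => ?_, fun c => ⟨α.hom.app L ≫ c ≫ α.inv.app L', by simp⟩⟩
    have := congrArg (fun m => α.hom.app L ≫ m ≫ α.inv.app L') hab
    simpa using this
  · intro L₀ hL₀
    obtain ⟨L, hL, ⟨e⟩⟩ := h.2 _ (isInvertible_restrict j1 L₀ hL₀)
    refine ⟨L, hL, ?_⟩
    exact nonempty_iso_of_bijective j1 h1 (isInvertible_restrict j2 L hL) hL₀
      (((restrictFunctorComp j1 j2).symm.app L) ≪≫ e)

/-- Transport of `InvRestrictEquiv` along an equality of the source open. -/
lemma invRestrictEquiv_congr {X : Scheme.{u}} {U U' W : X.Opens} (e : U = U') (hU : U ≤ W)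
    (hU' : U' ≤ W) (h : ParaF.InvRestrictEquiv (X.homOfLE hU)) :
    ParaF.InvRestrictEquiv (X.homOfLE hU') := by
  subst e
  exact h

/-- Transport of `InvRestrictEquiv` along an equality of morphisms. -/
lemma invRestrictEquiv_of_eq {U V : Scheme.{u}} {j j' : U ⟶ V} [IsOpenImmersion j]
    [IsOpenImmersion j'] (e : j = j') (h : ParaF.InvRestrictEquiv j) :
    ParaF.InvRestrictEquiv j' := by
  subst e
  exact h

end Groth.Agent.Lib.Helper1.ParaFBasic
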