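import Groth.Agent.Lib.Helper1.ParaFBasic

/-!
# More formal properties of `ParaF.InvRestrictEquiv`

composition, the other two-out-of-three, isomorphisms, transport along a square with
vertical isomorphisms.
-/

set_option autoImplicit false
universe u
open CategoryTheory CategoryTheory.Limits AlgebraicGeometry TopologicalSpace

namespace Groth.Agent.Lib.Helper1.ParaFBasic

open Scheme.Modules

/-- conjugation by the components of an isomorphism of functors is a bijection -/
lemma bijective_conj {C D : Type*} [Category C] [Category D] {F G : C ⥤ D} (α : F ≅ G) (L L' : C) :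
    Function.Bijective (fun ψ : F.obj L ⟶ F.obj L' => α.inv.app L ≫ ψ ≫ α.hom.app L') := by
  refine ⟨fun a b hab => ?_, fun c => ⟨α.hom.app L ≫ c ≫ α.inv.app L', by simp⟩⟩
  have := congrArg (fun m => α.hom.app L ≫ m ≫ α.inv.app L') hab
  simpa using this

lemma map_eq_conj {C D : Type*} [Category C] [Category D] {F G : C ⥤ D} (α : F ≅ G) {L L' : C}
    (φ : L ⟶ L') : G.map φ = α.inv.app L ≫ F.map φ ≫ α.hom.app L' := by
  have := α.hom.naturality φ
  rw [this, Iso.inv_hom_id_app_assoc]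

/-- Restriction along a composite is bijective on morphisms iff the composite of restrictions is. -/
lemma bijective_comp_iff {U W V : Scheme.{u}} (j1 : U ⟶ W) (j2 : W ⟶ V)
    [IsOpenImmersion j1] [IsOpenImmersion j2] (L L' : V.Modules) :
    Function.Bijective (fun φ : L ⟶ L' => (restrictFunctor (j1 ≫ j2)).map φ) ↔
      Function.Bijective ((fun φ : (restrictFunctor j2).obj L ⟶ (restrictFunctor j2).obj L' =>
        (restrictFunctor j1).map φ) ∘ fun φ : L ⟶ L' => (restrictFunctor j2).map φ) := by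
  let α := restrictFunctorComp j1 j2
  have key : ((fun φ : (restrictFunctor j2).obj L ⟶ (restrictFunctor j2).obj L' =>
      (restrictFunctor j1).map φ) ∘ fun φ : L ⟶ L' => (restrictFunctor j2).map φ) =
      (fun ψ => α.inv.app L ≫ ψ ≫ α.hom.app L') ∘
        fun φ : L ⟶ L' => (restrictFunctor (j1 ≫ j2)).map φ := by
    funext φ
    exact map_eq_conj α φ
  rw [key]
  exact (Function.Bijective.of_comp_iff' (bijective_conj α L L') _).symm

/-- Composition. -/
lemma invRestrictEquiv_comp {U W V : Scheme.{u}} (j1 : U ⟶ W) (j2 : W ⟶ V)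
    [IsOpenImmersion j1] [IsOpenImmersion j2]
    (h1 : ParaF.InvRestrictEquiv j1) (h2 : ParaF.InvRestrictEquiv j2) :
    ParaF.InvRestrictEquiv (j1 ≫ j2) := by
  refine ⟨?_, ?_⟩
  · intro L L' hL hL'
    rw [bijective_comp_iff]
    exact (h1.1 _ _ (isInvertible_restrict j2 L hL) (isInvertible_restrict j2 L' hL')).comp
      (h2.1 L L' hL hL')
  · intro L₀ hL₀
    obtain ⟨M, hM, ⟨eM⟩⟩ := h1.2 L₀ hL₀
    obtain ⟨L, hL, ⟨eL⟩⟩ := h2.2 M hM
    exact ⟨L, hL, ⟨(restrictFunctorComp j1 j2).app L ≪≫ (restrictFunctor j1).mapIso eL ≪≫ eM⟩⟩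

/-- The other two-out-of-three: from `j1 ≫ j2` and `j2` to `j1`. -/
lemma invRestrictEquiv_of_comp' {U W V : Scheme.{u}} (j1 : U ⟶ W) (j2 : W ⟶ V)
    [IsOpenImmersion j1] [IsOpenImmersion j2]
    (h : ParaF.InvRestrictEquiv (j1 ≫ j2)) (h2 : ParaF.InvRestrictEquiv j2) :
    ParaF.InvRestrictEquiv j1 := by
  refine ⟨?_, ?_⟩
  · intro M N hM hN
    obtain ⟨L, hL, ⟨eM⟩⟩ := h2.2 M hM
    obtain ⟨L', hL', ⟨eN⟩⟩ := h2.2 N hN
    have hb := (bijective_comp_iff j1 j2 L L').1 (h.1 L L' hL hL')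
    have hb' := (Function.Bijective.of_comp_iff _ (h2.1 L L' hL hL')).1 hb
    -- transport along `eM`, `eN`
    have key : (fun φ : M ⟶ N => (restrictFunctor j1).map φ) =
        (fun ψ => (restrictFunctor j1).map eM.inv ≫ ψ ≫ (restrictFunctor j1).map eN.hom) ∘
        (fun φ : (restrictFunctor j2).obj L ⟶ (restrictFunctor j2).obj L' =>
          (restrictFunctor j1).map φ) ∘ (fun φ : M ⟶ N => eM.hom ≫ φ ≫ eN.inv) := by
      funext φ
      simp [← Functor.map_comp]
    rw [key]
    refine Function.Bijective.comp ?_ (Function.Bijective.comp hb' ?_)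
    · refine ⟨fun a b hab => ?_, fun c => ⟨(restrictFunctor j1).map eM.hom ≫ c ≫
        (restrictFunctor j1).map eN.inv, by simp [← Functor.map_comp, ← Functor.map_comp_assoc]⟩⟩
      have := congrArg (fun m => (restrictFunctor j1).map eM.hom ≫ m ≫
        (restrictFunctor j1).map eN.inv) hab
      simpa [← Functor.map_comp, ← Functor.map_comp_assoc] using this
    · refine ⟨fun a b hab => ?_, fun c => ⟨eM.inv ≫ c ≫ eN.hom, by simp⟩⟩
      have := congrArg (fun m => eM.inv ≫ m ≫ eN.hom) hab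
      simpa using this
  · intro L₀ hL₀
    obtain ⟨L, hL, ⟨e⟩⟩ := h.2 L₀ hL₀
    exact ⟨(restrictFunctor j2).obj L, isInvertible_restrict j2 L hL,
      ⟨(restrictFunctorComp j1 j2).symm.app L ≪≫ e⟩⟩

/-- Restriction along an isomorphism is an equivalence on invertible modules. -/
lemma invRestrictEquiv_of_isIso {U V : Scheme.{u}} (b : U ⟶ V) [IsIso b] :
    ParaF.InvRestrictEquiv b := by
  let F := restrictFunctor b
  let G := restrictFunctor (inv b)
  let η : F ⋙ G ≅ 𝟭 _ := (restrictFunctorComp (inv b) b).symm ≪≫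
    restrictFunctorCongr (IsIso.inv_hom_id b) ≪≫ restrictFunctorId
  let ε : G ⋙ F ≅ 𝟭 _ := (restrictFunctorComp b (inv b)).symm ≪≫
    restrictFunctorCongr (IsIso.hom_inv_id b) ≪≫ restrictFunctorId
  let E : V.Modules ≌ U.Modules := CategoryTheory.Equivalence.mk F G η.symm ε
  have hE : F.IsEquivalence := E.isEquivalence_functor
  refine ⟨?_, ?_⟩
  · intro L L' _ _
    exact (Functor.FullyFaithful.ofFullyFaithful F).map_bijective L L'
  · intro L₀ hL₀
    exact ⟨G.obj L₀, isInvertible_restrict (inv b) L₀ hL₀, ⟨ε.app L₀⟩⟩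

/-- Transport along a commutative square whose vertical maps are isomorphisms. -/
lemma invRestrictEquiv_of_square {U₁ V₁ U₂ V₂ : Scheme.{u}} (j : U₁ ⟶ V₁) (j' : U₂ ⟶ V₂)
    (a : U₁ ⟶ U₂) (b : V₁ ⟶ V₂) [IsOpenImmersion j] [IsOpenImmersion j'] [IsIso a] [IsIso b]
    (comm : j ≫ b = a ≫ j') (h : ParaF.InvRestrictEquiv j') : ParaF.InvRestrictEquiv j := by
  have hA : ParaF.InvRestrictEquiv (a ≫ j') :=
    invRestrictEquiv_comp a j' (invRestrictEquiv_of_isIso a) h
  have hB : ParaF.InvRestrictEquiv (j ≫ b) := invRestrictEquiv_of_eq comm.symm hA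
  exact invRestrictEquiv_of_comp' j b hB (invRestrictEquiv_of_isIso b)

end Groth.Agent.Lib.Helper1.ParaFBasic
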