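import Groth.Agent.Lib.Helper1.ParaFSec3
import Groth.Prelude.Def_FEt

/-!
# Parafactorial local rings: reduction to the punctured spectrum
-/

set_option autoImplicit false
universe u
open CategoryTheory CategoryTheory.Limits AlgebraicGeometry TopologicalSpace Opposite

namespace Groth.Agent.Lib.Helper1.ParaFLocal

open Scheme.Modules Groth.Agent.Lib.Helper1.ParaFBasic Groth.Agent.Lib.Helper1.ParaFSec

/-- `InvRestrictEquiv` for `↥(⊤ ⊓ T) ⟶ ↥⊤` is the same as for `T.ι`. -/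
lemma invRestrictEquiv_top_iff {S : Scheme.{u}} (T : S.Opens) :
    ParaF.InvRestrictEquiv (S.homOfLE (inf_le_left : ⊤ ⊓ T ≤ ⊤)) ↔ ParaF.InvRestrictEquiv T.ι := by
  have comm : S.homOfLE (inf_le_left : ⊤ ⊓ T ≤ ⊤) ≫ S.topIso.hom =
      (S.isoOfEq (top_inf_eq T)).hom ≫ T.ι := by
    rw [Scheme.topIso_hom, Scheme.homOfLE_ι, Scheme.isoOfEq_hom_ι]
  constructor
  · intro h
    refine invRestrictEquiv_of_square T.ι (S.homOfLE (inf_le_left : ⊤ ⊓ T ≤ ⊤))
      (S.isoOfEq (top_inf_eq T)).inv S.topIso.inv ?_ h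
    rw [Iso.comp_inv_eq, Category.assoc, comm, Iso.inv_hom_id_assoc]
  · intro h
    exact invRestrictEquiv_of_square _ T.ι (S.isoOfEq (top_inf_eq T)).hom S.topIso.hom comm h

/-- `InvRestrictEquiv` for `↥(V ⊓ T) ⟶ ↥V` when `V ≤ T`. -/
lemma invRestrictEquiv_of_le {S : Scheme.{u}} (V T : S.Opens) (h : V ≤ T) :
    ParaF.InvRestrictEquiv (S.homOfLE (inf_le_left : V ⊓ T ≤ V)) := by
  have e : V = V ⊓ T := (inf_eq_left.mpr h).symm
  refine invRestrictEquiv_congr e le_rfl inf_le_left ?_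
  exact invRestrictEquiv_of_eq (S.homOfLE_rfl V).symm (invRestrictEquiv_of_isIso (𝟙 _))

/-- On the spectrum of a local ring every invertible module is trivial. -/
lemma nonempty_iso_structureModule_of_local (A : Type u) [CommRing A] [IsLocalRing A]
    (L : (Spec (CommRingCat.of A)).Modules) (hL : PicF.IsInvertible L) :
    Nonempty (L ≅ Coh.structureModule (Spec (CommRingCat.of A))) := by
  obtain ⟨U, hU, ⟨e⟩⟩ := hL (IsLocalRing.closedPoint A)
  have hU' : U = ⊤ := (IsLocalRing.closedPoint_mem_iff (R := A) U).1 hU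
  subst hU'
  let S := Spec (CommRingCat.of A)
  let c : ((⊤ : S.Opens) : Scheme.{u}) ⟶ S := (⊤ : S.Opens).ι
  let b : S ⟶ ((⊤ : S.Opens) : Scheme.{u}) := S.topIso.inv
  have hbc : b ≫ c = 𝟙 S := S.toIso_inv_ι
  have i1 : (restrictFunctor b).obj ((restrictFunctor c).obj L) ≅ L :=
    (restrictFunctorComp b c).symm.app L ≪≫ (restrictFunctorCongr hbc).app L ≪≫
      restrictFunctorId.app L
  exact ⟨i1.symm ≪≫ (restrictFunctor b).mapIso e ≪≫ restrictUnitIso b⟩

end Groth.Agent.Lib.Helper1.ParaFLocal
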