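import Groth.Agent.Lib.Helper1.ParaFBasic2

/-!
# Sections of invertible modules and restriction to an open with `O(V) ≅ O(V ∩ U)`
-/

set_option autoImplicit false
universe u
open CategoryTheory CategoryTheory.Limits AlgebraicGeometry TopologicalSpace

namespace Groth.Agent.Lib.Helper1.ParaFSec

open Scheme.Modules

/-- Step 1: on a trivialising open, restriction maps of `L` between opens inside it are bijective
as soon as those of the structure sheaf are. -/
lemma bijective_map_of_trivial {X : Scheme.{u}} (L : X.Modules) (W : X.Opens)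
    (e : L.restrict W.ι ≅ Coh.structureModule (W : Scheme.{u}))
    {V'' V' : (W : Scheme.{u}).Opens} (i : V'' ⟶ V')
    (hb : Function.Bijective (X.presheaf.map (W.ι.opensFunctor.map i).op)) :
    Function.Bijective (L.presheaf.map (W.ι.opensFunctor.map i).op) := by
  have nat := e.hom.mapPresheaf.naturality i.op
  have h1 : Function.Bijective (e.hom.app V') :=
    ConcreteCategory.bijective_of_isIso (e.hom.app V')
  have h2 : Function.Bijective (e.hom.app V'') :=
    ConcreteCategory.bijective_of_isIso (e.hom.app V'')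
  have this : (⇑(ConcreteCategory.hom (e.hom.app V'')) ∘
      ⇑(ConcreteCategory.hom (L.presheaf.map (W.ι.opensFunctor.map i).op))) =
      ⇑(ConcreteCategory.hom (X.presheaf.map (W.ι.opensFunctor.map i).op)) ∘
        ⇑(ConcreteCategory.hom (e.hom.app V')) := by
    funext x
    exact congr($nat x)
  refine (Function.Bijective.of_comp_iff' h2 _).1 ?_
  rw [this]
  exact hb.comp h1

/-- Step 1b: the same for opens of `X` contained in the trivialising open. -/
lemma bijective_map_of_trivial' {X : Scheme.{u}} (L : X.Modules) (W : X.Opens)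
    (e : L.restrict W.ι ≅ Coh.structureModule (W : Scheme.{u}))
    {V₁ V₂ : X.Opens} (hle : V₁ ≤ V₂) (hW : V₂ ≤ W)
    (hb : Function.Bijective (X.presheaf.map (homOfLE hle).op)) :
    Function.Bijective (L.presheaf.map (homOfLE hle).op) := by
  have h2 : V₂ = W.ι ''ᵁ (W.ι ⁻¹ᵁ V₂) := by
    rw [Scheme.Hom.image_preimage_eq_opensRange_inf, Scheme.Opens.opensRange_ι]
    exact (inf_eq_right.mpr hW).symm
  have h1 : V₁ = W.ι ''ᵁ (W.ι ⁻¹ᵁ V₁) := by
    rw [Scheme.Hom.image_preimage_eq_opensRange_inf, Scheme.Opens.opensRange_ι]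
    exact (inf_eq_right.mpr (hle.trans hW)).symm
  obtain ⟨V', rfl⟩ : ∃ V' : (W : Scheme.{u}).Opens, V₂ = W.ι ''ᵁ V' := ⟨_, h2⟩
  obtain ⟨V'', rfl⟩ : ∃ V'' : (W : Scheme.{u}).Opens, V₁ = W.ι ''ᵁ V'' := ⟨_, h1⟩
  have i : V'' ⟶ V' := homOfLE ((W.ι.image_le_image_iff _ _).1 hle)
  have hi : W.ι.opensFunctor.map i = homOfLE hle := Subsingleton.elim _ _
  have := bijective_map_of_trivial L W e i (by rw [hi]; exact hb)
  rwa [hi] at this

section global

variable {X : Scheme.{u}} (U : X.Opens)
  (hO : ∀ V : X.Opens, Function.Bijective (X.presheaf.map (homOfLE (inf_le_left : V ⊓ U ≤ V)).op))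
  (L : X.Modules) (hL : PicF.IsInvertible L)

include hO hL

omit hL in
/-- local version: inside a trivialising open -/
lemma bijective_res_local (V : X.Opens) (W : X.Opens)
    (e : L.restrict W.ι ≅ Coh.structureModule (W : Scheme.{u})) (hVW : V ≤ W) :
    Function.Bijective (L.presheaf.map (homOfLE (inf_le_left : V ⊓ U ≤ V)).op) :=
  bijective_map_of_trivial' L W e _ hVW (hO V)

/-- injectivity of `L(V) → L(V ∩ U)` -/
lemma injective_res (V : X.Opens) :
    Function.Injective (L.presheaf.map (homOfLE (inf_le_left : V ⊓ U ≤ V)).op) := by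
  choose W hxW e using hL
  let F : TopCat.Sheaf Ab X := ⟨L.presheaf, L.isSheaf⟩
  intro s t hst
  refine F.eq_of_locally_eq' (fun x : X => V ⊓ W x) V (fun x => homOfLE inf_le_left)
    (fun x hx => Opens.mem_iSup.2 ⟨x, hx, hxW x⟩) s t (fun x => ?_)
  apply (bijective_res_local U hO L (V ⊓ W x) (W x) (e x).some inf_le_right).1
  show (L.presheaf.map _ ≫ L.presheaf.map _) s = (L.presheaf.map _ ≫ L.presheaf.map _) t
  rw [← L.presheaf.map_comp]
  have : (homOfLE (inf_le_left : V ⊓ W x ≤ V)).op ≫
      (homOfLE (inf_le_left : (V ⊓ W x) ⊓ U ≤ V ⊓ W x)).op =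
      (homOfLE (inf_le_left : V ⊓ U ≤ V)).op ≫
        (homOfLE (inf_le_inf_right U inf_le_left : (V ⊓ W x) ⊓ U ≤ V ⊓ U)).op := rfl
  rw [this, L.presheaf.map_comp, ConcreteCategory.comp_apply, ConcreteCategory.comp_apply, hst]

omit hO hL in
lemma res_res {A B C : X.Opens} (h1 : A ≤ B) (h2 : B ≤ C) (s : ToType (L.presheaf.obj (.op C))) :
    L.presheaf.map (homOfLE h1).op (L.presheaf.map (homOfLE h2).op s) =
      L.presheaf.map (homOfLE (h1.trans h2)).op s := by
  rw [← ConcreteCategory.comp_apply, ← L.presheaf.map_comp]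
  rfl

/-- surjectivity of `L(V) → L(V ∩ U)` -/
lemma surjective_res (V : X.Opens) :
    Function.Surjective (L.presheaf.map (homOfLE (inf_le_left : V ⊓ U ≤ V)).op) := by
  have hinj := injective_res U hO L hL
  choose W hxW e using hL
  let F : TopCat.Sheaf Ab X := ⟨L.presheaf, L.isSheaf⟩
  intro t
  have hloc : ∀ x : X, ∃ s : ToType (L.presheaf.obj (.op (V ⊓ W x))),
      L.presheaf.map (homOfLE (inf_le_left : (V ⊓ W x) ⊓ U ≤ V ⊓ W x)).op s =
        L.presheaf.map (homOfLE (inf_le_inf_right U inf_le_left : (V ⊓ W x) ⊓ U ≤ V ⊓ U)).op t :=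
    fun x => (bijective_res_local U hO L (V ⊓ W x) (W x) (e x).some inf_le_right).2 _
  choose sf hsf using hloc
  have hcompat : TopCat.Presheaf.IsCompatible F.1 (fun x : X => V ⊓ W x) sf := by
    intro x y
    apply hinj ((V ⊓ W x) ⊓ (V ⊓ W y))
    show L.presheaf.map (homOfLE _).op (L.presheaf.map (homOfLE inf_le_left).op (sf x)) =
      L.presheaf.map (homOfLE _).op (L.presheaf.map (homOfLE inf_le_right).op (sf y))
    rw [res_res, res_res]
    have hx := congrArg (L.presheaf.map (homOfLE (inf_le_inf_right U inf_le_left :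
      ((V ⊓ W x) ⊓ (V ⊓ W y)) ⊓ U ≤ (V ⊓ W x) ⊓ U)).op) (hsf x)
    have hy := congrArg (L.presheaf.map (homOfLE (inf_le_inf_right U inf_le_right :
      ((V ⊓ W x) ⊓ (V ⊓ W y)) ⊓ U ≤ (V ⊓ W y) ⊓ U)).op) (hsf y)
    rw [res_res, res_res] at hx hy
    exact hx.trans hy.symm
  obtain ⟨s, hs, -⟩ := F.existsUnique_gluing' (fun x : X => V ⊓ W x) V
    (fun x => homOfLE inf_le_left) (fun x hx => Opens.mem_iSup.2 ⟨x, hx, hxW x⟩) sf hcompat
  refine ⟨s, ?_⟩
  refine F.eq_of_locally_eq' (fun x : X => (V ⊓ W x) ⊓ U) (V ⊓ U)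
    (fun x => homOfLE (inf_le_inf_right U inf_le_left))
    (fun x hx => Opens.mem_iSup.2 ⟨x, ⟨hx.1, hxW x⟩, hx.2⟩) _ _ (fun x => ?_)
  show L.presheaf.map (homOfLE _).op (L.presheaf.map (homOfLE _).op s) =
    L.presheaf.map (homOfLE _).op t
  rw [res_res, ← hsf x, ← hs x]
  show _ = L.presheaf.map (homOfLE _).op (L.presheaf.map (homOfLE _).op s)
  rw [res_res]

/-- `L(V) → L(V ∩ U)` is bijective for invertible `L`. -/
theorem bijective_res (V : X.Opens) :
    Function.Bijective (L.presheaf.map (homOfLE (inf_le_left : V ⊓ U ≤ V)).op) :=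
  ⟨injective_res U hO L hL V, surjective_res U hO L hL V⟩

/-- variant with a propositional equality of opens -/
theorem bijective_res' {V₁ V₂ : X.Opens} (hle : V₁ ≤ V₂) (heq : V₁ = V₂ ⊓ U) :
    Function.Bijective (L.presheaf.map (homOfLE hle).op) := by
  subst heq
  exact bijective_res U hO L hL V₂

/-- The unit `L ⟶ j_* j^* L` is an isomorphism for invertible `L`. -/
theorem isIso_unit : IsIso ((restrictAdjunction U.ι).unit.app L) := by
  rw [Hom.isIso_iff_isIso_app]
  intro V
  rw [restrictAdjunction_unit_app_app]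
  rw [ConcreteCategory.isIso_iff_bijective]
  refine bijective_res' U hO L hL _ ?_
  rw [Scheme.Hom.image_preimage_eq_opensRange_inf, Scheme.Opens.opensRange_ι, inf_comm]

omit hL in
/-- Restriction to `U` is bijective on morphisms into an invertible module. -/
theorem restrict_map_bijective (L' : X.Modules) (hL' : PicF.IsInvertible L') :
    Function.Bijective (fun φ : L ⟶ L' => (restrictFunctor U.ι).map φ) := by
  let adj := restrictAdjunction U.ι
  have hiso : IsIso (adj.unit.app L') := isIso_unit U hO L' hL'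
  have : (fun φ : L ⟶ L' => (restrictFunctor U.ι).map φ) =
      (adj.homEquiv L _).symm ∘ (fun φ => φ ≫ adj.unit.app L') := by
    funext φ
    rw [Function.comp, Equiv.eq_symm_apply, Adjunction.homEquiv_unit]
    exact (adj.unit.naturality φ).symm
  rw [this]
  exact (adj.homEquiv L _).symm.bijective.comp
    ⟨fun a b h => (cancel_mono _).1 h, fun c => ⟨c ≫ inv (adj.unit.app L'), by simp⟩⟩

end global

end Groth.Agent.Lib.Helper1.ParaFSec
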