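import Groth.Agent.Lib.Helper1.ParaFSec

/-!
# Unit isomorphism for general open immersions, and `Hom(O, M) ≃ Γ(M, ⊤)`
-/

set_option autoImplicit false
universe u
open CategoryTheory CategoryTheory.Limits AlgebraicGeometry TopologicalSpace Opposite

namespace Groth.Agent.Lib.Helper1.ParaFSec

open Scheme.Modules

section general

variable {Z X : Scheme.{u}} (j : Z ⟶ X) [IsOpenImmersion j]
  (hO : ∀ V : X.Opens, Function.Bijective
    (X.presheaf.map (homOfLE (inf_le_left : V ⊓ j.opensRange ≤ V)).op))

include hO

/-- The unit `L ⟶ j_* j^* L` is an isomorphism for invertible `L` (general open immersion). -/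
theorem isIso_unit' (L : X.Modules) (hL : PicF.IsInvertible L) :
    IsIso ((restrictAdjunction j).unit.app L) := by
  rw [Hom.isIso_iff_isIso_app]
  intro V
  rw [restrictAdjunction_unit_app_app]
  rw [ConcreteCategory.isIso_iff_bijective]
  refine bijective_res' j.opensRange hO L hL _ ?_
  rw [Scheme.Hom.image_preimage_eq_opensRange_inf, inf_comm]

/-- Restriction along `j` is bijective on morphisms into an invertible module. -/
theorem restrict_map_bijective' (L L' : X.Modules) (hL' : PicF.IsInvertible L') :
    Function.Bijective (fun φ : L ⟶ L' => (restrictFunctor j).map φ) := by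
  let adj := restrictAdjunction j
  have hiso : IsIso (adj.unit.app L') := isIso_unit' j hO L' hL'
  have : (fun φ : L ⟶ L' => (restrictFunctor j).map φ) =
      (adj.homEquiv L _).symm ∘ (fun φ => φ ≫ adj.unit.app L') := by
    funext φ
    rw [Function.comp, Equiv.eq_symm_apply, Adjunction.homEquiv_unit]
    exact (adj.unit.naturality φ).symm
  rw [this]
  exact (adj.homEquiv L _).symm.bijective.comp
    ⟨fun a b h => (cancel_mono _).1 h, fun c => ⟨c ≫ inv (adj.unit.app L'), by simp⟩⟩

end general

/-- The structure sheaf is invertible. -/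
lemma isInvertible_structureModule (Z : Scheme.{u}) :
    PicF.IsInvertible (Coh.structureModule Z) := by
  intro y
  exact ⟨⊤, trivial, ⟨restrictUnitIso _⟩⟩

/-- If restriction along `j` is bijective on `Hom(L, L')`, then so is post-composition with the
unit of `L'`. -/
lemma bijective_comp_unit {Z X : Scheme.{u}} (j : Z ⟶ X) [IsOpenImmersion j] (L L' : X.Modules)
    (h : Function.Bijective (fun φ : L ⟶ L' => (restrictFunctor j).map φ)) :
    Function.Bijective (fun φ : L ⟶ L' => φ ≫ (restrictAdjunction j).unit.app L') := by
  let adj := restrictAdjunction j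
  have : (fun φ : L ⟶ L' => φ ≫ adj.unit.app L') =
      (adj.homEquiv L _) ∘ (fun φ : L ⟶ L' => (restrictFunctor j).map φ) := by
    funext φ
    rw [Function.comp, Adjunction.homEquiv_unit]
    exact adj.unit.naturality φ
  rw [this]
  exact (adj.homEquiv L _).bijective.comp h

section top

variable {Z : Scheme.{u}}

/-- The section of `M` determined by an element over `⊤`. -/
noncomputable def secOf (M : Z.Modules) (m : ToType (M.presheaf.obj (op ⊤))) :
    SheafOfModules.sections M :=
  PresheafOfModules.sectionsMk (M := M.val)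
    (fun U => M.presheaf.map (homOfLE (le_top : U.unop ≤ ⊤)).op m)
    (by
      intro U V f
      show M.presheaf.map f (M.presheaf.map (homOfLE (le_top : U.unop ≤ ⊤)).op m) = _
      rw [← ConcreteCategory.comp_apply, ← M.presheaf.map_comp]
      rfl)

lemma secOf_val (M : Z.Modules) (m : ToType (M.presheaf.obj (op ⊤))) (U : (Opens Z)ᵒᵖ) :
    (secOf M m).1 U = M.presheaf.map (homOfLE (le_top : U.unop ≤ ⊤)).op m := rfl

lemma secOf_val_top (M : Z.Modules) (m : ToType (M.presheaf.obj (op ⊤))) :
    (secOf M m).1 (op ⊤) = m := by
  rw [secOf_val]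
  have : (homOfLE (le_top : (op (⊤ : Opens Z)).unop ≤ ⊤)).op = 𝟙 _ := rfl
  rw [this, M.presheaf.map_id]
  rfl

lemma sectionsMap_secOf {M N : Z.Modules} (p : M ⟶ N) (m : ToType (M.presheaf.obj (op ⊤))) :
    SheafOfModules.sectionsMap p (secOf M m) = secOf N (p.app ⊤ m) := by
  apply PresheafOfModules.sections_ext
  intro U
  show p.app U.unop (M.presheaf.map (homOfLE (le_top : U.unop ≤ ⊤)).op m) =
    N.presheaf.map (homOfLE (le_top : U.unop ≤ ⊤)).op (p.app ⊤ m)
  have := p.mapPresheaf.naturality (homOfLE (le_top : U.unop ≤ ⊤)).op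
  exact congr($this m)

lemma sec_eq_secOf (M : Z.Modules) (s : SheafOfModules.sections M) :
    s = secOf M (s.1 (op ⊤)) := by
  apply PresheafOfModules.sections_ext
  intro U
  rw [secOf_val]
  exact (s.2 (homOfLE (le_top : U.unop ≤ ⊤)).op).symm

/-- If post-composition with `p` is bijective on `Hom(O, -)` then `p` is bijective on sections
over `⊤`. -/
lemma bijective_app_top_of_bijective_comp {M N : Z.Modules} (p : M ⟶ N)
    (h : Function.Bijective (fun φ : Coh.structureModule Z ⟶ M => φ ≫ p)) :
    Function.Bijective (p.app ⊤) := by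
  have h2 : Function.Bijective (SheafOfModules.sectionsMap p) := by
    have : (SheafOfModules.sectionsMap p) ∘ (SheafOfModules.unitHomEquiv M) =
        (SheafOfModules.unitHomEquiv N) ∘ (fun φ : Coh.structureModule Z ⟶ M => φ ≫ p) := by
      funext f
      exact (SheafOfModules.unitHomEquiv_comp_apply f p).symm
    have h3 : Function.Bijective ((SheafOfModules.sectionsMap p) ∘
        (SheafOfModules.unitHomEquiv M)) := by
      rw [this]
      exact (SheafOfModules.unitHomEquiv N).bijective.comp h
    exact (Function.Bijective.of_comp_iff _ (SheafOfModules.unitHomEquiv M).bijective).1 h3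
  constructor
  · intro m m' hmm
    have : secOf M m = secOf M m' := by
      apply h2.1
      rw [sectionsMap_secOf, sectionsMap_secOf, hmm]
    have := congrArg (fun s => s.1 (op ⊤)) this
    simp only [secOf_val_top] at this
    exact this
  · intro n
    obtain ⟨s, hs⟩ := h2.2 (secOf N n)
    refine ⟨s.1 (op ⊤), ?_⟩
    rw [sec_eq_secOf M s, sectionsMap_secOf] at hs
    have := congrArg (fun s => s.1 (op ⊤)) hs
    simp only [secOf_val_top] at this
    exact this

end top

end Groth.Agent.Lib.Helper1.ParaFSec
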