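import Groth.Agent.Lib.Helper1.ParaFSec2

/-!
# Translating between sections over opens of `X` and of an open subscheme
-/

set_option autoImplicit false
universe u
open CategoryTheory CategoryTheory.Limits AlgebraicGeometry TopologicalSpace Opposite

namespace Groth.Agent.Lib.Helper1.ParaFSec

open Scheme.Modules

lemma bijective_map_congr {X : Scheme.{u}} {A B A' B' : X.Opens} (h : A ≤ B) (h' : A' ≤ B')
    (eA : A = A') (eB : B = B') (hb : Function.Bijective (X.presheaf.map (homOfLE h).op)) :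
    Function.Bijective (X.presheaf.map (homOfLE h').op) := by
  subst eA eB
  exact hb

variable {X : Scheme.{u}}

/-- P1: the sections hypothesis on `X` for the open `T` gives the one on `↥V` for the range of
`↥(V ⊓ T) ⟶ ↥V`. -/
lemma hO_of_open (T : X.Opens)
    (hX : ∀ V₁ : X.Opens, Function.Bijective
      (X.presheaf.map (homOfLE (inf_le_left : V₁ ⊓ T ≤ V₁)).op)) (V : X.Opens)
    (V'' : (V : Scheme.{u}).Opens) :
    Function.Bijective ((V : Scheme.{u}).presheaf.map
      (homOfLE (inf_le_left : V'' ⊓ (X.homOfLE (inf_le_left : V ⊓ T ≤ V)).opensRange ≤ V'')).op) := by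
  show Function.Bijective (X.presheaf.map (V.ι.opensFunctor.map (homOfLE _)).op)
  rw [Scheme.Hom.opensFunctor_map_homOfLE]
  refine bijective_map_congr _ _ ?_ rfl (hX (V.ι ''ᵁ V''))
  rw [Scheme.opensRange_homOfLE]
  ext x
  constructor
  · rintro ⟨⟨v, hv, rfl⟩, hT⟩
    exact ⟨v, ⟨hv, ⟨v.2, hT⟩⟩, rfl⟩
  · rintro ⟨v, ⟨hv, hvT⟩, rfl⟩
    exact ⟨⟨v, hv, rfl⟩, hvT.2⟩

/-- P2: from bijectivity of the unit of `O_V` on top sections to bijectivity of
`O(V) → O(V ⊓ T)`. -/
lemma bijective_of_unit_top (T V : X.Opens)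
    (h : Function.Bijective (((restrictAdjunction (X.homOfLE (inf_le_left : V ⊓ T ≤ V))).unit.app
      (Coh.structureModule (V : Scheme.{u}))).app ⊤)) :
    Function.Bijective (X.presheaf.map (homOfLE (inf_le_left : V ⊓ T ≤ V)).op) := by
  rw [restrictAdjunction_unit_app_app] at h
  have h' : Function.Bijective (X.presheaf.map (V.ι.opensFunctor.map (homOfLE
      ((X.homOfLE (inf_le_left : V ⊓ T ≤ V)).image_preimage_le ⊤))).op) := h
  rw [Scheme.Hom.opensFunctor_map_homOfLE] at h'
  refine bijective_map_congr _ _ ?_ V.ι_image_top h'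
  rw [Scheme.Hom.image_preimage_eq_opensRange_inf, inf_top_eq, Scheme.opensRange_homOfLE,
    Scheme.Hom.image_preimage_eq_opensRange_inf, Scheme.Opens.opensRange_ι]
  exact inf_eq_right.mpr inf_le_left

end Groth.Agent.Lib.Helper1.ParaFSec
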