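import Groth.Agent.Lib.Helper1.RefHull8
import Groth.Agent.S0020

/-!
# Rank one torsion-free modules: stalks are nonzero and of rank at most one (helper1)
-/

set_option autoImplicit false
universe u
open CategoryTheory CategoryTheory.Limits AlgebraicGeometry Opposite TopologicalSpace
open RefHull

namespace Groth.Agent.Lib.Helper1.RefHullLib

open Groth.Agent.Lib.Helper28.QCohLoc Groth.Agent.Lib.Helper29.QCohStalk
open Groth.Agent.Lib.Helper28.GenLocus

variable {X : Scheme.{u}}

/-- the stalks of a finite type module with a generic generator are nonzero. -/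
theorem nontrivial_stalk_of_isGen [IsIntegral X] (F : X.Modules) (hF : CohB1.IsFT F)
    {W : X.Opens} {g : Γ(F, W)} (hη : genericPoint X ∈ W) (hg : IsGen F W g) (x : X) :
    Nontrivial (F.presheaf.stalk x) := by
  have hcl : IsClosed (CohB1.support F) := Groth.Agent.S0020.result X F hF
  have h1 : genericPoint X ∈ CohB1.support F := by
    intro hsub
    have hb := bijective_smul_gm_of_isGen hg (genericPoint X) hη
    have : (1 : X.presheaf.stalk (genericPoint X)) = 0 := hb.1 (Subsingleton.elim _ _)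
    exact one_ne_zero this
  have h2 : x ∈ CohB1.support F := (genericPoint_specializes x).mem_closed hcl h1
  exact not_subsingleton_iff_nontrivial.1 h2


/-- any two elements of a stalk of a torsion-free quasi-coherent module with a generic generator
are linearly dependent. -/
theorem exists_dependency [IsIntegral X] (F : X.Modules) [F.IsQuasicoherent]
    (htf : TorSh.IsTorsionFree F) {W : X.Opens} {g : Γ(F, W)} (hη : genericPoint X ∈ W)
    (hg : IsGen F W g) (x : X) (m n : F.presheaf.stalk x) :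
    ∃ a b : X.presheaf.stalk x, (a ≠ 0 ∨ b ≠ 0) ∧ a • m + b • n = 0 := by
  obtain ⟨U₁, hx₁, m', rfl⟩ := TopCat.Presheaf.exists_germ_eq F.presheaf m
  obtain ⟨U₂, hx₂, n', rfl⟩ := TopCat.Presheaf.exists_germ_eq F.presheaf n
  obtain ⟨V, hV, hxV, hVU⟩ := (Opens.isBasis_iff_nbhd.1 X.isBasis_affineOpens)
    (show x ∈ U₁ ⊓ U₂ from ⟨hx₁, hx₂⟩)
  have hV : IsAffineOpen V := hV
  set m₁ := res F (hVU.trans inf_le_left) m' with hm₁
  set n₁ := res F (hVU.trans inf_le_right) n' with hn₁
  have hm : F.presheaf.germ U₁ x hx₁ m' = gm F V x hxV m₁ := (gm_res F (hVU.trans inf_le_left) x hxV m').symm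
  have hn : F.presheaf.germ U₂ x hx₂ n' = gm F V x hxV n₁ := (gm_res F (hVU.trans inf_le_right) x hxV n').symm
  rw [hm, hn]
  by_cases hm0 : m₁ = 0
  · refine ⟨1, 0, Or.inl one_ne_zero, ?_⟩
    rw [hm0, gm_zero, smul_zero, zero_smul, add_zero]
  have hηV : genericPoint X ∈ V :=
    ((genericPoint_spec X).mem_open_set_iff V.isOpen).2 ⟨x, trivial, hxV⟩
  obtain ⟨f, hfD, hηf⟩ := hV.exists_basicOpen_le (V := V ⊓ W) ⟨genericPoint X, ⟨hηV, hη⟩⟩ hηV
  have hDV : X.basicOpen f ≤ V := X.basicOpen_le f
  have hDW : X.basicOpen f ≤ W := hfD.trans inf_le_right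
  obtain ⟨a, ha⟩ := (hg (X.basicOpen f) hDW).2 (res F hDV m₁)
  obtain ⟨b, hb⟩ := (hg (X.basicOpen f) hDW).2 (res F hDV n₁)
  replace ha : (a • res F hDW g : Γ(F, X.basicOpen f)) = res F hDV m₁ := ha
  replace hb : (b • res F hDW g : Γ(F, X.basicOpen f)) = res F hDV n₁ := hb
  haveI := hV.isLocalization_basicOpen f
  obtain ⟨⟨a₁, s⟩, has⟩ := IsLocalization.surj (Submonoid.powers f) a
  obtain ⟨⟨b₁, t⟩, hbt⟩ := IsLocalization.surj (Submonoid.powers f) b
  have has' : a * resO hDV s.1 = resO hDV a₁ := has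
  have hbt' : b * resO hDV t.1 = resO hDV b₁ := hbt
  have hsu : IsUnit (resO hDV s.1) := IsLocalization.map_units (M := Submonoid.powers f) Γ(X, X.basicOpen f) s
  have htu : IsUnit (resO hDV t.1) := IsLocalization.map_units (M := Submonoid.powers f) Γ(X, X.basicOpen f) t
  have hmul : ∀ r r' : Γ(X, V), resO hDV (r * r') = resO hDV r * resO hDV r' := fun r r' => map_mul _ r r'
  have key : res F hDV ((s.1 * b₁) • m₁ - (t.1 * a₁) • n₁) = 0 := by
    rw [res_sub, res_smul, res_smul, ← ha, ← hb, smul_smul, smul_smul, ← sub_smul]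
    have h0 : resO hDV (s.1 * b₁) * a - resO hDV (t.1 * a₁) * b = 0 := by
      rw [hmul, hmul, ← has', ← hbt']
      ring
    rw [h0, zero_smul]
  have key2 : (s.1 * b₁) • m₁ - (t.1 * a₁) • n₁ = 0 :=
    Groth.Agent.S16490.injective_res_of_isTorsionFree X F htf V (X.basicOpen f) hDV hηf
      (key.trans (map_zero _).symm)
  have hp : t.1 * a₁ ≠ 0 := by
    intro hp
    apply hm0
    have h1 : resO hDV t.1 * (a * resO hDV s.1) = 0 := by
      rw [has', ← hmul, hp]
      exact map_zero _
    have h2 : a = 0 := by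
      have h3 := (htu.mul_right_eq_zero).1 h1
      exact (hsu.mul_left_eq_zero).1 h3
    rw [h2, zero_smul] at ha
    exact Groth.Agent.S16490.injective_res_of_isTorsionFree X F htf V (X.basicOpen f) hDV hηf
      (ha.symm.trans (map_zero _).symm)
  refine ⟨X.presheaf.germ V x hxV (s.1 * b₁), - X.presheaf.germ V x hxV (t.1 * a₁), Or.inr ?_, ?_⟩
  · intro h
    apply hp
    apply germ_injective_of_isIntegral X x hxV
    rw [map_zero]
    exact neg_eq_zero.1 h
  · rw [neg_smul, ← sub_eq_add_neg, ← gm_smul, ← gm_smul, ← map_sub, key2]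
    exact map_zero _

end Groth.Agent.Lib.Helper1.RefHullLib
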