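import Mathlib

/-!
# Rank one reflexive modules over a factorial domain are free (helper1)
-/

set_option autoImplicit false
universe u

namespace Groth.Agent.Lib.Helper1.ReflexiveAlg

open Module

/-- over a unique factorization domain the dual of a nonzero finitely generated ideal is free of
rank one. -/
theorem nonempty_dual_ideal_equiv {R : Type u} [CommRing R] [IsDomain R] [UniqueFactorizationMonoid R]
    (J : Ideal R) (hJ : J.FG) (hJ0 : J ≠ ⊥) : Nonempty (Module.Dual R J ≃ₗ[R] R) := by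
  classical
  letI := UniqueFactorizationMonoid.strongNormalizationMonoid (α := R)
  letI := UniqueFactorizationMonoid.toNormalizedGCDMonoid R
  obtain ⟨S, hS⟩ := hJ
  set d : R := S.gcd id with hd
  have hdS : ∀ s ∈ S, d ∣ s := fun s hs => Finset.gcd_dvd hs
  have hdJ : ∀ y ∈ J, d ∣ y := by
    intro y hy
    rw [← hS] at hy
    have : Ideal.span (S : Set R) ≤ Ideal.span {d} := by
      rw [Ideal.span_le]
      intro s hs
      exact Ideal.mem_span_singleton.2 (hdS s hs)
    exact Ideal.mem_span_singleton.1 (this hy)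
  obtain ⟨x₀, hx₀J, hx₀⟩ := Submodule.exists_mem_ne_zero_of_ne_bot hJ0
  have hd0 : d ≠ 0 := by
    intro h0
    obtain ⟨c, hc⟩ := hdJ x₀ hx₀J
    rw [h0, zero_mul] at hc
    exact hx₀ hc
  choose! q hq using hdJ
  -- `θ₀ y = y / d`
  let θ₀ : J →ₗ[R] R :=
    { toFun := fun y => q y.1
      map_add' := fun y y' => by
        apply mul_left_cancel₀ hd0
        show d * q (y + y').1 = d * (q y.1 + q y'.1)
        rw [mul_add, ← hq _ y.2, ← hq _ y'.2, ← hq _ (y + y').2]
        rfl
      map_smul' := fun r y => by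
        apply mul_left_cancel₀ hd0
        show d * q (r • y).1 = d * (r * q y.1)
        rw [← hq _ (r • y).2, mul_left_comm, ← hq _ y.2]
        rfl }
  have hθ₀ : ∀ y : J, d * θ₀ y = y.1 := fun y => (hq _ y.2).symm
  have hθ₀x : θ₀ ⟨x₀, hx₀J⟩ ≠ 0 := by
    intro h
    have := hθ₀ ⟨x₀, hx₀J⟩
    rw [h, mul_zero] at this
    exact hx₀ this.symm
  refine ⟨(LinearEquiv.ofBijective (LinearMap.toSpanSingleton R (Module.Dual R J) θ₀) ⟨?_, ?_⟩).symm⟩
  · rw [← LinearMap.ker_eq_bot, LinearMap.ker_eq_bot']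
    intro c hc
    have h1 := LinearMap.congr_fun hc ⟨x₀, hx₀J⟩
    rw [LinearMap.toSpanSingleton_apply, LinearMap.smul_apply, LinearMap.zero_apply, smul_eq_mul] at h1
    exact (mul_eq_zero.1 h1).resolve_right hθ₀x
  · intro θ'
    set a : R := θ' ⟨x₀, hx₀J⟩ with ha
    have hsym : ∀ y : J, θ' y * x₀ = a * y.1 := by
      intro y
      have e1 : θ' (x₀ • y) = x₀ * θ' y := by rw [map_smul, smul_eq_mul]
      have e2 : θ' (y.1 • (⟨x₀, hx₀J⟩ : J)) = y.1 * a := by rw [map_smul, smul_eq_mul]
      have e3 : x₀ • y = y.1 • (⟨x₀, hx₀J⟩ : J) := Subtype.ext (by simp [mul_comm])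
      rw [e3, e2] at e1
      rw [mul_comm, ← e1, mul_comm]
    have hdiv : x₀ ∣ a * d := by
      have h1 : x₀ ∣ S.gcd fun s => a * id s := by
        apply Finset.dvd_gcd
        intro s hs
        have hsJ : s ∈ J := by rw [← hS]; exact Ideal.subset_span hs
        exact ⟨θ' ⟨s, hsJ⟩, by rw [mul_comm x₀]; exact (hsym ⟨s, hsJ⟩).symm⟩
      exact (Finset.gcd_mul_left' S id a).dvd_iff_dvd_right.1 h1
    obtain ⟨c, hc⟩ := hdiv
    refine ⟨c, ?_⟩
    ext y
    rw [LinearMap.toSpanSingleton_apply, LinearMap.smul_apply, smul_eq_mul]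
    apply mul_left_cancel₀ (mul_ne_zero hx₀ hd0)
    have h2 := hsym y
    have h3 := hθ₀ y
    calc x₀ * d * (c * θ₀ y) = (x₀ * c) * (d * θ₀ y) := by ring
      _ = (a * d) * y.1 := by rw [h3, hc]
      _ = (a * y.1) * d := by ring
      _ = (θ' y * x₀) * d := by rw [h2]
      _ = x₀ * d * θ' y := by ring


/-- a finitely generated reflexive module of rank one over a Noetherian factorial domain is free
of rank one. -/
theorem nonempty_equiv_of_rank_one {R : Type u} {M : Type u} [CommRing R] [IsDomain R]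
    [IsNoetherianRing R] [UniqueFactorizationMonoid R] [AddCommGroup M] [Module R M]
    [Module.IsReflexive R M] [Nontrivial M]
    (hdep : ∀ m n : M, ∃ a b : R, (a ≠ 0 ∨ b ≠ 0) ∧ a • m + b • n = 0) :
    Nonempty (M ≃ₗ[R] R) := by
  -- `M` is torsion-free
  have htf : ∀ (r : R) (m : M), r • m = 0 → r = 0 ∨ m = 0 := by
    intro r m hrm
    by_cases hr : r = 0
    · exact Or.inl hr
    · right
      apply (Module.bijective_dual_eval R M).1
      rw [map_zero]
      ext θ
      have h1 : θ (r • m) = 0 := by rw [hrm, map_zero]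
      rw [map_smul, smul_eq_mul] at h1
      exact (mul_eq_zero.1 h1).resolve_left hr
  -- a nonzero functional
  have hex : ∃ θ : Module.Dual R M, θ ≠ 0 := by
    by_contra hne
    push Not at hne
    obtain ⟨m, hm⟩ := exists_ne (0 : M)
    apply hm
    apply (Module.bijective_dual_eval R M).1
    rw [map_zero]
    ext θ
    rw [hne θ]
    rfl
  obtain ⟨θ, hθ⟩ := hex
  obtain ⟨m, hm⟩ : ∃ m, θ m ≠ 0 := by
    by_contra h
    push Not at h
    exact hθ (LinearMap.ext h)
  have hinj : Function.Injective θ := by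
    rw [← LinearMap.ker_eq_bot, LinearMap.ker_eq_bot']
    intro n hn
    obtain ⟨a, b, hab, h0⟩ := hdep m n
    have h1 := congrArg θ h0
    rw [map_add, map_smul, map_smul, hn, smul_zero, add_zero, map_zero, smul_eq_mul] at h1
    have ha : a = 0 := (mul_eq_zero.1 h1).resolve_right hm
    have hb : b ≠ 0 := hab.resolve_left (fun h => h ha)
    rw [ha, zero_smul, zero_add] at h0
    exact (htf b n h0).resolve_left hb
  let J : Ideal R := LinearMap.range θ
  let e₁ : M ≃ₗ[R] J := LinearEquiv.ofInjective θ hinj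
  have hJ0 : J ≠ ⊥ := by
    intro h
    have : θ m ∈ J := ⟨m, rfl⟩
    rw [h] at this
    exact hm this
  obtain ⟨e₂⟩ := nonempty_dual_ideal_equiv J (IsNoetherian.noetherian J) hJ0
  haveI : Module.IsReflexive R J := Module.equiv e₁
  exact ⟨e₁ ≪≫ₗ Module.evalEquiv R J ≪≫ₗ e₂.dualMap.symm ≪≫ₗ LinearMap.ringLmapEquivSelf R R R⟩

end Groth.Agent.Lib.Helper1.ReflexiveAlg
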