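import Groth.Agent.Lib.Helper1.RefHull11
import Groth.Agent.Lib.Helper28.TensorPowGen
import Groth.Agent.Lib.Helper6.K0Op

/-!
# Closure properties of rank one reflexive modules (helper1)
-/

set_option autoImplicit false
universe u
open CategoryTheory CategoryTheory.Limits AlgebraicGeometry Opposite TopologicalSpace
open RefHull

namespace Groth.Agent.Lib.Helper1.RefHullLib

open Groth.Agent.Lib.Helper28.QCohLoc Groth.Agent.Lib.Helper29.QCohStalk
open Groth.Agent.Lib.Helper28.GenLocus Groth.Agent.Lib.Helper18 Groth.Agent.Lib.Helper28.TensorGen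
  Groth.Agent.Lib.Helper28.InvTensor

variable {X : Scheme.{u}} {L : X.Modules} {U : X.Opens}

open Classical in
/-- the dual generator, as a function of the generator. -/
noncomputable def dualGenS (g : Γ(L, U)) : Γ(dual L, U) :=
  if h : IsGen L U g then dualGen h else 0

theorem dualGenS_eq {g : Γ(L, U)} (hg : IsGen L U g) : dualGenS g = dualGen hg := dif_pos hg

theorem isGen_dualGenS {g : Γ(L, U)} (hg : IsGen L U g) : IsGen (dual L) U (dualGenS g) := by
  rw [dualGenS_eq hg]
  exact isGen_dualGen hg

theorem res_dualGenS {g : Γ(L, U)} (hg : IsGen L U g) {V : X.Opens} (hV : V ≤ U) :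
    res (dual L) hV (dualGenS g) = dualGenS (res L hV g) := by
  rw [dualGenS_eq hg, dualGenS_eq (hg.res hV)]
  exact res_dualGen hg hV

theorem dualGenS_smul {g : Γ(L, U)} (hg : IsGen L U g) (u : Γ(X, U))
    (hg' : IsGen L U (u • g : Γ(L, U))) :
    dualGenS g = (u • dualGenS (u • g : Γ(L, U)) : Γ(dual L, U)) := by
  rw [dualGenS_eq hg, dualGenS_eq hg']
  exact dualGen_eq_smul hg hg' u rfl

/-- the double dual generator. -/
noncomputable def ddualGenS (g : Γ(L, U)) : Γ(ddual L, U) := dualGenS (dualGenS g)

theorem isGen_ddualGenS {g : Γ(L, U)} (hg : IsGen L U g) : IsGen (ddual L) U (ddualGenS g) :=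
  isGen_dualGenS (isGen_dualGenS hg)

theorem res_ddualGenS {g : Γ(L, U)} (hg : IsGen L U g) {V : X.Opens} (hV : V ≤ U) :
    res (ddual L) hV (ddualGenS g) = ddualGenS (res L hV g) := by
  unfold ddualGenS
  rw [res_dualGenS (isGen_dualGenS hg) hV, res_dualGenS hg hV]

theorem ddualGenS_smul {g : Γ(L, U)} (hg : IsGen L U g) (u : Γ(X, U))
    (hg' : IsGen L U (u • g : Γ(L, U))) :
    ddualGenS (u • g : Γ(L, U)) = (u • ddualGenS g : Γ(ddual L, U)) := by
  unfold ddualGenS
  have h1 := dualGenS_smul hg u hg'
  have h2 := dualGenS_smul (isGen_dualGenS hg') u (by rw [← h1]; exact isGen_dualGenS hg)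
  rw [← h1] at h2
  exact h2


/-- the structure module of a locally Noetherian scheme is reflexive. -/
theorem isReflexive_structureModule [IsLocallyNoetherian X] :
    IsReflexive (Coh.structureModule X) := by
  rw [isReflexive_iff_forall_isReflexiveAt _ (isCoh_structureModule X)]
  intro x
  exact Module.equiv (CycUnitStalk.e X x)

/-- the dual of a coherent module on an integral locally Noetherian scheme is reflexive. -/
theorem isReflexive_dual [IsIntegral X] [IsLocallyNoetherian X] (A : X.Modules) (hA : Coh.IsCoh A) :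
    IsReflexive (dual A) :=
  Groth.Agent.S16081.result X A (Coh.structureModule X) hA (isCoh_structureModule X)
    isReflexive_structureModule

theorem isCoh_dual [IsLocallyNoetherian X] (A : X.Modules) (hA : Coh.IsCoh A) : Coh.IsCoh (dual A) :=
  isCoh_homSh A (Coh.structureModule X) hA (isCoh_structureModule X)

/-- a module with a generator over an open containing the generic point is generically
invertible. -/
theorem genInvertible_of_isGen [IsIntegral X] (M : X.Modules) {W : X.Opens} {g : Γ(M, W)}
    (hη : genericPoint X ∈ W) (hg : IsGen M W g) : GenInvertible M := by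
  refine ⟨W, ?_, ?_⟩
  · exact W.isOpen.dense ⟨genericPoint X, hη⟩
  · refine isInvertible_of_isGen _ fun y => ⟨⊤, ?_, trivial, ?_⟩
    · exact (show Γ(M.restrict W.ι, ⊤) from res M (W.ι_image_le ⊤) g)
    · exact isGen_restrict_of_isGen M W _ (hg.res (W.ι_image_le ⊤))

theorem isRef1_structureModule [IsIntegral X] [IsLocallyNoetherian X] :
    IsRef1 (Coh.structureModule X) :=
  ⟨isCoh_structureModule X, isReflexive_structureModule,
    genInvertible_of_isGen _ (show genericPoint X ∈ (⊤ : X.Opens) from trivial) (isGen_oneSec ⊤)⟩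

theorem isRef1_dual [IsIntegral X] [IsLocallyNoetherian X] (F : X.Modules) (hF : IsRef1 F) :
    IsRef1 (dual F) := by
  obtain ⟨W, g, hηW, hg⟩ := exists_isGen_generic F hF.2.2
  exact ⟨isCoh_dual F hF.1, isReflexive_dual F hF.1, genInvertible_of_isGen _ hηW (isGen_dualGenS hg)⟩

theorem isRef1_ddual_tensorMod [IsIntegral X] [IsLocallyNoetherian X] (F G : X.Modules)
    (hF : IsRef1 F) (hG : IsRef1 G) : IsRef1 (ddual (CohB1.tensorMod F G)) := by
  obtain ⟨W, g, hηW, hg⟩ := exists_isGen_generic F hF.2.2
  obtain ⟨W', g', hηW', hg'⟩ := exists_isGen_generic G hG.2.2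
  have hT : Coh.IsCoh (CohB1.tensorMod F G) := Groth.Agent.Lib.Helper6.K0Op.isCoh_tensorMod F G hF.1 hG.1
  refine ⟨isCoh_dual _ (isCoh_dual _ hT), isReflexive_dual _ (isCoh_dual _ hT), ?_⟩
  exact genInvertible_of_isGen _ (show genericPoint X ∈ W ⊓ W' from ⟨hηW, hηW'⟩)
    (isGen_ddualGenS (isGen_tmulSec F G (hg.res inf_le_left) (hg'.res inf_le_right)))

end Groth.Agent.Lib.Helper1.RefHullLib
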