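import Mathlib
import Groth.Prelude.Def_CohDer
import Groth.Agent.Lib.Helper8.Compact2

set_option autoImplicit false
set_option linter.unusedSectionVars false

open CategoryTheory CategoryTheory.Limits Opposite

namespace Groth.Agent.Lib.Helper1.PerfCompactMod

open Groth.Agent.Lib.Helper8.Compact

universe u₂ u

section General

variable {D : Type u₂} [Category.{u + 1} D] [Preadditive D] {I : Type u}

/-- reindexing a cofan along `ULift` -/
def cofanULift {E : I → D} (c : Cofan E) : Cofan (fun i : ULift.{u + 1} I => E i.down) :=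
  Cofan.mk c.pt (fun i => c.inj i.down)

/-- the reindexed cofan is a colimit -/
def isColimitCofanULift {E : I → D} (c : Cofan E) (hc : IsColimit c) :
    IsColimit (cofanULift c) :=
  Cofan.IsColimit.mk _ (fun s => Cofan.IsColimit.desc hc (fun n => s.inj ⟨n⟩))
    (fun s i => by
      change c.inj i.down ≫ _ = _
      rw [Cofan.IsColimit.fac])
    (fun s m hm => Cofan.IsColimit.hom_ext hc _ _ (fun n => by
      rw [Cofan.IsColimit.fac]
      exact hm ⟨n⟩))

/-- finite support of maps from an object satisfying the direct sum condition for one family -/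
lemma finite_support_of_bijective {C : D} (E : I → D)
    [HasCoproduct fun i : ULift.{u + 1} I => E i.down]
    (hC : Function.Bijective (CohDer.homSumToHomCoprod C (fun i : ULift.{u + 1} I => E i.down)))
    (c : Cofan E) (hc : IsColimit c) (x : C ⟶ c.pt) :
    ∃ T : Finset I, ∀ {Z : D} (g : c.pt ⟶ Z), (∀ i ∈ T, c.inj i ≫ g = 0) → x ≫ g = 0 := by
  classical
  let E' : ULift.{u + 1} I → D := fun i => E i.down
  let e : ∐ E' ≅ c.pt :=
    IsColimit.coconePointUniqueUpToIso (coproductIsCoproduct E') (isColimitCofanULift c hc)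
  have he : ∀ i, Sigma.ι E' i ≫ e.hom = c.inj i.down := fun i =>
    IsColimit.comp_coconePointUniqueUpToIso_hom (coproductIsCoproduct E')
      (isColimitCofanULift c hc) ⟨i⟩
  obtain ⟨ξ, hξ⟩ := hC.2 (x ≫ e.inv)
  have hx : x = ∑ i ∈ DFinsupp.support ξ, ξ i ≫ c.inj i.down := by
    have h1 : x = CohDer.homSumToHomCoprod C E' ξ ≫ e.hom := by
      rw [hξ, Category.assoc, Iso.inv_hom_id, Category.comp_id]
    rw [h1]
    conv_lhs => rw [← DirectSum.sum_support_of ξ]
    rw [map_sum, Preadditive.sum_comp]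
    refine Finset.sum_congr rfl (fun i _ => ?_)
    have h2 : CohDer.homSumToHomCoprod C E' (DirectSum.of (fun j => C ⟶ E' j) i (ξ i)) =
        ξ i ≫ Sigma.ι E' i := by
      simp only [CohDer.homSumToHomCoprod]
      erw [DirectSum.toAddMonoid_of]
      rfl
    rw [h2, Category.assoc, he]
  refine ⟨(DFinsupp.support ξ).image ULift.down, fun g hg => ?_⟩
  rw [hx, Preadditive.sum_comp]
  refine Finset.sum_eq_zero (fun i hi => ?_)
  rw [Category.assoc, hg i.down (Finset.mem_image_of_mem _ hi), comp_zero]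

/-- the direct sum condition from finite support -/
lemma bijective_of_finite_support {C : D} (E : I → D)
    [HasCoproduct fun i : ULift.{u + 1} I => E i.down]
    (h : ∀ θ : C ⟶ ∐ (fun i : ULift.{u + 1} I => E i.down),
      ∃ T : Finset (ULift.{u + 1} I), θ ≫ cS (fun i : ULift.{u + 1} I => E i.down) T = 0) :
    Function.Bijective (CohDer.homSumToHomCoprod C (fun i : ULift.{u + 1} I => E i.down)) := by
  classical
  refine ⟨homSumToHomCoprod_injective C _, fun θ => ?_⟩
  obtain ⟨T, hT⟩ := h θ
  exact ⟨_, (homSumToHomCoprod_sum C _ θ T).trans (eq_comp_eS_of_comp_cS_eq_zero _ θ T hT)⟩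

end General

section Mod

variable {R : Type u} [Ring R]

lemma cS_apply_of_subset {ι : Type u} (E : ι → ModuleCat.{u} R) {T T' : Finset ι} (hT : T ⊆ T')
    (y : (∐ E : ModuleCat.{u} R)) (h : (cS E T).hom y = 0) : (cS E T').hom y = 0 := by
  classical
  have e : cS E T' = cS E T ≫ cS E T' := by
    rw [cS_comp_cS, Finset.union_eq_right.2 hT]
  rw [e, ModuleCat.hom_comp, LinearMap.comp_apply, h, map_zero]

/-- elements of a coproduct of modules have finite support -/
lemma exists_cS_apply_eq_zero {ι : Type u} (E : ι → ModuleCat.{u} R) (y : (∐ E : ModuleCat.{u} R)) :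
    ∃ T : Finset ι, (cS E T).hom y = 0 := by
  classical
  let H : Submodule R (∐ E : ModuleCat.{u} R) :=
    { carrier := {y | ∃ T : Finset ι, (cS E T).hom y = 0}
      zero_mem' := ⟨∅, map_zero _⟩
      add_mem' := by
        rintro y₁ y₂ ⟨T₁, h₁⟩ ⟨T₂, h₂⟩
        refine ⟨T₁ ∪ T₂, ?_⟩
        rw [map_add, cS_apply_of_subset E Finset.subset_union_left y₁ h₁,
          cS_apply_of_subset E Finset.subset_union_right y₂ h₂, add_zero]
      smul_mem' := by
        rintro r y ⟨T, h⟩
        exact ⟨T, by rw [map_smul, h, smul_zero]⟩ }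
  let q : (∐ E : ModuleCat.{u} R) ⟶ ModuleCat.of R ((∐ E : ModuleCat.{u} R) ⧸ H) :=
    ModuleCat.ofHom H.mkQ
  have hq : q = 0 := by
    apply Sigma.hom_ext
    intro i
    rw [comp_zero]
    ext z
    change H.mkQ ((Sigma.ι E i).hom z) = 0
    rw [Submodule.mkQ_apply, Submodule.Quotient.mk_eq_zero]
    refine ⟨{i}, ?_⟩
    change ((Sigma.ι E i ≫ cS E {i}).hom) z = 0
    rw [ι_cS, if_pos (Finset.mem_singleton_self i)]
    rfl
  have : H.mkQ y = 0 := by
    change q.hom y = 0
    rw [hq]; rfl
  rw [Submodule.mkQ_apply, Submodule.Quotient.mk_eq_zero] at this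
  exact this

/-- maps from a finitely generated module to a coproduct have finite support -/
lemma exists_cS_of_finite {ι : Type u} (E : ι → ModuleCat.{u} R) (M : ModuleCat.{u} R)
    [Module.Finite R M] (g : M ⟶ ∐ E) : ∃ T : Finset ι, g ≫ cS E T = 0 := by
  classical
  obtain ⟨s, hs⟩ := (Module.Finite.fg_top : (⊤ : Submodule R M).FG)
  choose T hT using fun m : M => exists_cS_apply_eq_zero E (g.hom m)
  refine ⟨s.biUnion T, ?_⟩
  apply ModuleCat.hom_ext
  refine LinearMap.ext_on hs (fun m hm => ?_)
  change (cS E (s.biUnion T)).hom (g.hom m) = 0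
  exact cS_apply_of_subset E (Finset.subset_biUnion_of_mem T hm) _ (hT m)

end Mod

end Groth.Agent.Lib.Helper1.PerfCompactMod
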