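import Mathlib
import Groth.Prelude.Def_CohDer
import Groth.Agent.Lib.Helper1.PerfCompactMod1
import Groth.Agent.Lib.Helper1.HoColimGen
import Groth.Agent.Lib.Helper1.CompactRetract2
import Groth.Agent.Lib.Helper8.CCpt2
import Groth.Agent.Lib.Helper8.DCoprod3

set_option autoImplicit false
set_option linter.unusedSectionVars false

open CategoryTheory CategoryTheory.Limits Opposite DerivedCategory

namespace Groth.Agent.Lib.Helper1.PerfCompactMod

open Groth.Agent.Lib.Helper8.Compact Groth.Agent.Lib.Helper8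

universe u₂ v

section Functor

variable {C : Type*} [Category C] [Preadditive C] {C' : Type*} [Category C'] [Preadditive C']

/-- compatibility of the projectors `cS` with a functor preserving the coproduct -/
lemma hom_comp_map_cS (G : C ⥤ C') [G.PreservesZeroMorphisms] {ι : Type*} (Y : ι → C)
    [HasCoproduct Y] [HasCoproduct (fun i => G.obj (Y i))]
    (e : ∐ (fun i => G.obj (Y i)) ⟶ G.obj (∐ Y))
    (he : ∀ i, Sigma.ι (fun i => G.obj (Y i)) i ≫ e = G.map (Sigma.ι Y i)) (T : Finset ι) :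
    e ≫ G.map (cS Y T) = cS (fun i => G.obj (Y i)) T ≫ e := by
  classical
  apply Sigma.hom_ext
  intro i
  rw [reassoc_of% he i, ← G.map_comp, ι_cS, ι_cS_assoc]
  split_ifs
  · rw [G.map_zero, zero_comp]
  · rw [he]

end Functor

section Derived

variable {A : Type u₂} [Category.{v} A] [Abelian A] [HasDerivedCategory.{v + 1} A]

/-- the direct sum condition for all `v`-small families of `D(A)` whose coproduct exists -/
def DSC (K : DerivedCategory A) : Prop :=
  ∀ (I : Type v) (E : I → DerivedCategory A) [HasCoproduct fun i : ULift.{v + 1} I => E i.down],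
    Function.Bijective (CohDer.homSumToHomCoprod K (fun i : ULift.{v + 1} I => E i.down))

/-- `Q` sends colimit cofans to colimit cofans -/
noncomputable def isColimitCofanMkQ {J : Type v} [HasColimitsOfShape (Discrete J) A]
    [HasExactColimitsOfShape (Discrete J) A] (Kc : J → CochainComplex A ℤ) (c : Cofan Kc)
    (hc : IsColimit c) :
    IsColimit (Cofan.mk (Q.obj c.pt) (fun j => Q.map (c.inj j)) :
      Cofan (fun j => Q.obj (Kc j))) := by
  let e : ∐ Kc ≅ c.pt := IsColimit.coconePointUniqueUpToIso (coproductIsCoproduct Kc) hc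
  have he : ∀ j, Sigma.ι Kc j ≫ e.hom = c.inj j := fun j =>
    IsColimit.comp_coconePointUniqueUpToIso_hom (coproductIsCoproduct Kc) hc ⟨j⟩
  refine IsColimit.ofIsoColimit (DCoprod3.isColimitCofanQ Kc) (Cofan.ext (Q.mapIso e) ?_)
  intro j
  change Q.map (Sigma.ι Kc j) ≫ Q.map e.hom = Q.map (c.inj j)
  rw [← Q.map_comp, he]

variable {K : DerivedCategory A}

/-- finite support for maps to a coproduct indexed by `ℕ` -/
lemma DSC.finite_support_nat (hK : DSC K) {F : ℕ → DerivedCategory A} (c : Cofan F)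
    (hc : IsColimit c) (x : K ⟶ c.pt) :
    ∃ N : ℕ, ∀ {T : DerivedCategory A} (g : c.pt ⟶ T), (∀ n, n < N → c.inj n ≫ g = 0) →
      x ≫ g = 0 := by
  let E : ULift.{v} ℕ → DerivedCategory A := fun i => F i.down
  let c₀ : Cofan E := Cofan.mk c.pt (fun i => c.inj i.down)
  have hc₀ : IsColimit c₀ :=
    Cofan.IsColimit.mk _ (fun s => Cofan.IsColimit.desc hc (fun n => s.inj ⟨n⟩))
      (fun s i => by
        change c.inj i.down ≫ _ = _
        rw [Cofan.IsColimit.fac])
      (fun s m hm => Cofan.IsColimit.hom_ext hc _ _ (fun n => by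
        rw [Cofan.IsColimit.fac]
        exact hm ⟨n⟩))
  haveI : HasCoproduct fun i : ULift.{v + 1} (ULift.{v} ℕ) => E i.down :=
    ⟨⟨⟨cofanULift c₀, isColimitCofanULift c₀ hc₀⟩⟩⟩
  obtain ⟨T, hT⟩ := finite_support_of_bijective E (hK _ E) c₀ hc₀ x
  refine ⟨T.sup (fun i => i.down) + 1, fun g hg => hT g (fun i hi => ?_)⟩
  exact hg i.down (Nat.lt_succ_of_le (Finset.le_sup (f := fun i : ULift.{v} ℕ => i.down) hi))

section Seq

variable [HasColimitsOfShape (Discrete ℕ) A] [HasExactColimitsOfShape (Discrete ℕ) A]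
  [HasColimitsOfShape ℕ A] [HasExactColimitsOfShape ℕ A]

/-- maps to a termwise sequential colimit of complexes factor through a stage -/
theorem DSC.factors_through_stage (hK : DSC K) (L : ℕ ⥤ CochainComplex A ℤ) (c : Cocone L)
    (hc : IsColimit c) (φ : K ⟶ Q.obj c.pt) :
    ∃ (n : ℕ) (ψ : K ⟶ Q.obj (L.obj n)), ψ ≫ Q.map (c.ι.app n) = φ := by
  have H0 := fun x => hK.finite_support_nat
    (Cofan.mk (∐ (HoColimGen.FQ L).obj) (Sigma.ι (HoColimGen.FQ L).obj))
    (coproductIsCoproduct (HoColimGen.FQ L).obj) x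
  have H1 := fun x => hK.finite_support_nat
    (Cofan.mk ((∐ (HoColimGen.FQ L).obj)⟦(1 : ℤ)⟧)
      (fun n => (Sigma.ι (HoColimGen.FQ L).obj n)⟦(1 : ℤ)⟧'))
    (isColimitCofanMkObjOfIsColimit (shiftFunctor (DerivedCategory A) (1 : ℤ)) _ _
      (coproductIsCoproduct (HoColimGen.FQ L).obj)) x
  obtain ⟨n, ψ, hψ⟩ := CCpt.factors_through_stage (HoColimGen.FQ L) H0 H1 (HoColimGen.pQ L c)
    (HoColimGen.δQ L c hc) (HoColimGen.distinguished L c hc) φ
  exact ⟨n, ψ, by rw [← HoColimGen.ι_pQ L c n]; exact hψ⟩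

end Seq

/-- maps in `D(A)` out of a K-projective complex are represented by chain maps -/
lemma exists_Q_map_eq (E₀ : CochainComplex A ℤ) [E₀.IsKProjective] (Z : CochainComplex A ℤ)
    (θ : Q.obj E₀ ⟶ Q.obj Z) : ∃ f : E₀ ⟶ Z, Q.map f = θ := by
  obtain ⟨g, hg⟩ := (CochainComplex.IsKProjective.Qh_map_bijective E₀
    ((HomotopyCategory.quotient _ _).obj Z)).surjective
    ((quotientCompQhIso A).hom.app E₀ ≫ θ ≫ (quotientCompQhIso A).inv.app Z)
  obtain ⟨f, rfl⟩ := (HomotopyCategory.quotient _ _).map_surjective g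
  refine ⟨f, ?_⟩
  have h := (quotientCompQhIso A).hom.naturality f
  change Qh.map ((HomotopyCategory.quotient _ _).map f) ≫ _ = _ at h
  rw [hg] at h
  simp only [Category.assoc, Iso.inv_hom_id_app, Category.comp_id] at h
  exact ((cancel_epi _).1 h).symm


variable [HasCoproducts.{v} A] [∀ ι : Type v, HasExactColimitsOfShape (Discrete ι) A]

/-- finite support of maps to a coproduct placed in one degree -/
lemma DSC.finite_support_single (hK : DSC K) (ι : Type v) (E : ι → A) (c : ℤ)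
    (θ : K ⟶ Q.obj ((HomologicalComplex.single A (ComplexShape.up ℤ) c).obj (∐ E))) :
    ∃ T : Finset ι,
      θ ≫ Q.map ((HomologicalComplex.single A (ComplexShape.up ℤ) c).map (cS E T)) = 0 := by
  classical
  let sg := HomologicalComplex.single A (ComplexShape.up ℤ) c
  let Kc : ι → CochainComplex A ℤ := fun i => sg.obj (E i)
  let c₁ : Cofan Kc := Cofan.mk (sg.obj (∐ E)) (fun i => sg.map (Sigma.ι E i))
  have hc₁ : IsColimit c₁ :=
    isColimitCofanMkObjOfIsColimit sg _ _ (coproductIsCoproduct E)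
  let X : ι → DerivedCategory A := fun i => Q.obj (Kc i)
  let c₂ : Cofan X := Cofan.mk (Q.obj c₁.pt) (fun j => Q.map (c₁.inj j))
  have hc₂ : IsColimit c₂ := isColimitCofanMkQ Kc c₁ hc₁
  haveI : HasCoproduct fun i : ULift.{v + 1} ι => X i.down :=
    ⟨⟨⟨cofanULift c₂, isColimitCofanULift c₂ hc₂⟩⟩⟩
  obtain ⟨T, hT⟩ := finite_support_of_bijective X (hK ι X) c₂ hc₂ θ
  refine ⟨T, hT _ (fun i hi => ?_)⟩
  change Q.map (sg.map (Sigma.ι E i)) ≫ Q.map (sg.map (cS E T)) = 0
  rw [← Q.map_comp, ← sg.map_comp, ι_cS, if_pos hi, sg.map_zero, Q.map_zero]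

/-- **a bounded K-projective complex whose terms have finite support is "compact"** -/
theorem dsc_of_bounded_kprojective (E₀ : CochainComplex A ℤ) [E₀.IsKProjective] (a b : ℤ)
    (hz : ∀ i : ℤ, i < a ∨ b < i → IsZero (E₀.X i))
    (hfs : ∀ (n : ℤ) (ι : Type v) (Z : ι → A) (g : E₀.X n ⟶ ∐ Z),
      ∃ T : Finset ι, g ≫ cS Z T = 0) {K : DerivedCategory A} (e : Q.obj E₀ ≅ K) : DSC K := by
  classical
  intro I X _
  apply bijective_of_finite_support
  intro θ
  let X' : ULift.{v + 1} I → DerivedCategory A := fun i => X i.down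
  let Y : I → CochainComplex A ℤ := fun i => Q.objPreimage (X i)
  let eY : ∀ i, Q.obj (Y i) ≅ X i := fun i => Q.objObjPreimageIso (X i)
  -- the coproduct of the `X i` is the image of the coproduct of the `Y i`
  let c'' : Cofan X := Cofan.mk (Q.obj (∐ Y)) (fun i => (eY i).inv ≫ Q.map (Sigma.ι Y i))
  have hc'' : IsColimit c'' :=
    Cofan.IsColimit.mk _
      (fun s => Cofan.IsColimit.desc (DCoprod3.isColimitCofanQ Y) (fun i => (eY i).hom ≫ s.inj i))
      (fun s i => by
        change ((eY i).inv ≫ Q.map (Sigma.ι Y i)) ≫ _ = _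
        rw [Category.assoc]
        have := Cofan.IsColimit.fac (DCoprod3.isColimitCofanQ Y)
          (fun i => (eY i).hom ≫ s.inj i) i
        change Q.map (Sigma.ι Y i) ≫ _ = _ at this
        rw [this, Iso.inv_hom_id_assoc])
      (fun s m hm => Cofan.IsColimit.hom_ext (DCoprod3.isColimitCofanQ Y) _ _ (fun i => by
        have h1 := Cofan.IsColimit.fac (DCoprod3.isColimitCofanQ Y)
          (fun i => (eY i).hom ≫ s.inj i) i
        rw [h1]
        change Q.map (Sigma.ι Y i) ≫ m = _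
        have h2 := hm i
        change ((eY i).inv ≫ Q.map (Sigma.ι Y i)) ≫ m = _ at h2
        rw [← h2, Category.assoc, Iso.hom_inv_id_assoc]))
  let σ : ∐ X' ≅ Q.obj (∐ Y) :=
    IsColimit.coconePointUniqueUpToIso (coproductIsCoproduct X') (isColimitCofanULift c'' hc'')
  have hσ : ∀ j : ULift.{v + 1} I,
      Sigma.ι X' j ≫ σ.hom = (eY j.down).inv ≫ Q.map (Sigma.ι Y j.down) := fun j =>
    IsColimit.comp_coconePointUniqueUpToIso_hom (coproductIsCoproduct X')
      (isColimitCofanULift c'' hc'') ⟨j⟩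
  -- represent by a chain map
  obtain ⟨f, hf⟩ := exists_Q_map_eq E₀ (∐ Y) (e.hom ≫ θ ≫ σ.hom)
  -- termwise finite support
  let ev := fun n : ℤ => HomologicalComplex.eval A (ComplexShape.up ℤ) n
  let en : ∀ n : ℤ, ∐ (fun i => (ev n).obj (Y i)) ≅ (ev n).obj (∐ Y) := fun n =>
    asIso (sigmaComparison (ev n) Y)
  have hen : ∀ (n : ℤ) (i : I),
      Sigma.ι (fun i => (ev n).obj (Y i)) i ≫ (en n).hom = (ev n).map (Sigma.ι Y i) := fun n i =>
    ι_comp_sigmaComparison (ev n) Y i
  choose Tn hTn using fun n : ℤ => hfs n I (fun i => (Y i).X n) (f.f n ≫ (en n).inv)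
  let T : Finset I := (Finset.Icc a b).biUnion Tn
  have hfT : f ≫ cS Y T = 0 := by
    ext n
    change f.f n ≫ (ev n).map (cS Y T) = 0
    by_cases hn : a ≤ n ∧ n ≤ b
    · have h1 := hom_comp_map_cS (ev n) Y (en n).hom (hen n) T
      have h2 : (ev n).map (cS Y T) = (en n).inv ≫ cS (fun i => (ev n).obj (Y i)) T ≫ (en n).hom := by
        rw [← h1, Iso.inv_hom_id_assoc]
      have h3 : (f.f n ≫ (en n).inv) ≫ cS (fun i => (ev n).obj (Y i)) T = 0 :=
        CompactRetract2.comp_cS_of_subset (fun i => (ev n).obj (Y i)) (f.f n ≫ (en n).inv)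
          (Finset.subset_biUnion_of_mem Tn (Finset.mem_Icc.2 hn)) (hTn n)
      rw [Category.assoc] at h3
      rw [h2]
      exact (Category.assoc _ _ _).symm.trans
        ((Category.assoc _ _ _).symm.trans
          ((congrArg (fun t => t ≫ (en n).hom) ((Category.assoc _ _ _).trans h3)).trans zero_comp))
    · have : IsZero (E₀.X n) := hz n (by omega)
      exact this.eq_of_src _ _
  refine ⟨T.map ⟨ULift.up, ULift.up_injective⟩, ?_⟩
  have key : cS X' (T.map ⟨ULift.up, ULift.up_injective⟩) ≫ σ.hom = σ.hom ≫ Q.map (cS Y T) := by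
    apply Sigma.hom_ext
    intro j
    have hj : j ∈ T.map ⟨ULift.up, ULift.up_injective⟩ ↔ j.down ∈ T := by
      constructor
      · intro h
        obtain ⟨i, hi, rfl⟩ := Finset.mem_map.1 h
        exact hi
      · intro h
        exact Finset.mem_map.2 ⟨j.down, h, rfl⟩
    rw [ι_cS_assoc, reassoc_of% hσ j, ← Q.map_comp, ι_cS]
    by_cases h : j.down ∈ T
    · rw [if_pos (hj.2 h), if_pos h, zero_comp, Q.map_zero, comp_zero]
    · rw [if_neg (fun h' => h (hj.1 h')), if_neg h, hσ]
  have h4 : e.hom ≫ (θ ≫ cS X' (T.map ⟨ULift.up, ULift.up_injective⟩)) ≫ σ.hom =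
      (e.hom ≫ θ ≫ σ.hom) ≫ Q.map (cS Y T) := by
    simp only [Category.assoc]
    rw [key]
  rw [← cancel_epi e.hom, comp_zero, ← cancel_mono σ.hom, zero_comp, Category.assoc, h4, ← hf,
    ← Q.map_comp, hfT, Q.map_zero]

end Derived

end Groth.Agent.Lib.Helper1.PerfCompactMod
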