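import Groth.Agent.Lib.Helper1.PicClUfd1
import Groth.Agent.Lib.Helper28.CounitGen
import Groth.Agent.Lib.Helper28.TensorPowGen

/-!
# Injectivity of `Pic → Cl` on a normal integral locally Noetherian scheme (helper1)
-/

set_option autoImplicit false
set_option backward.isDefEq.respectTransparency.types false
universe u
open CategoryTheory CategoryTheory.Limits AlgebraicGeometry Opposite TopologicalSpace
open RefHull

namespace Groth.Agent.Lib.Helper1.PicClUfd

open Groth.Agent.Lib.Helper28 Groth.Agent.Lib.Helper28.QCohLoc Groth.Agent.Lib.Helper29.QCohStalk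
open Groth.Agent.Lib.Helper28.GenLocus
open Groth.Agent.Lib.Helper1.RefHullLib Groth.Agent.Lib.Helper1.WeilIdeal
open Groth.Agent.Lib.Helper18.C1Core
open Groth.Agent.Lib.Helper13.CDivLib CDiv

variable {X : Scheme.{u}}

/-- the germ at the generic point of a function is the image of its germ at any point -/
theorem algebraMap_germ [IsIntegral X] {U : X.Opens} (x : X) (hx : x ∈ U) (hη : genericPoint X ∈ U)
    (v : Γ(X, U)) :
    algebraMap (X.presheaf.stalk x) X.functionField (X.presheaf.germ U x hx v) =
      X.presheaf.germ U (genericPoint X) hη v := by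
  haveI : Nonempty U := ⟨⟨x, hx⟩⟩
  exact Scheme.algebraMap_germ_eq_germToFunctionField X hx v

/-- **normalized local generators**: if the divisor of the rational section `s` of `L` is the divisor of `f`,
then near every point `L` has a generator `γ` with `s = f • γ` generically -/
theorem exists_normalized_gen [IsIntegral X] [IsLocallyNoetherian X] (hX : Pi1.IsNormalScheme X)
    (L : X.Modules) (hL : PicF.IsInvertible L) (s : Cyc.secFibre L (genericPoint X)) (hs : s ≠ 0)
    (f : X.functionField) (hf : f ≠ 0)
    (h : ∀ x : X, Order.coheight x = 1 →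
      Cyc.secOrdAt L (genericPoint X) x (genericPoint_specializes x) s = Scheme.ord f x) (x : X) :
    ∃ (T : X.Opens) (γ : Γ(L, T)) (hη : genericPoint X ∈ T), x ∈ T ∧ IsGen L T γ ∧
      s = (f : X.presheaf.stalk (genericPoint X)) •
        (Submodule.Quotient.mk (gm L T (genericPoint X) hη γ) : Cyc.secFibre L (genericPoint X)) := by
  obtain ⟨W, g, hxW, hg⟩ := exists_isGen L hL x
  have hηW : genericPoint X ∈ W := (genericPoint_specializes x).mem_open W.isOpen hxW
  obtain ⟨a, ha⟩ := exists_smul_mk L (Groth.Agent.S16090.freeGen_gm_of_isGen hg (genericPoint X) hηW) s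
  have ha0 : (a : X.functionField) ≠ 0 := by
    rintro rfl
    exact hs (by rw [ha, zero_smul])
  have hordW : ∀ y : X, y ∈ W → Order.coheight y = 1 →
      Scheme.ord (a : X.functionField) y = Scheme.ord f y := by
    intro y hyW hy
    have h1 := secOrdAt_smul_mk_gm L hg y hyW hy (genericPoint_specializes y) hηW a ha0
    rw [← ha] at h1
    rw [← h1]
    exact h y hy
  let b : KUnits X := Units.mk0 (a : X.functionField) ha0 * (Units.mk0 f hf)⁻¹
  have hb : b ∈ stalkUnits X x := by
    apply mem_stalkUnits_of_forall_ord_eq_zero hX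
    intro z hzx hz
    rw [ord_units_mul, Groth.Agent.Lib.Helper13.CDivLib.ord_inv]
    have := hordW z (hzx.mem_open W.isOpen hxW) hz
    show Scheme.ord (a : X.functionField) z + -Scheme.ord f z = 0
    omega
  obtain ⟨u, hu⟩ := hb
  have hu' : algebraMap (X.presheaf.stalk x) X.functionField (u : X.presheaf.stalk x) = (b : X.functionField) :=
    congrArg Units.val hu
  obtain ⟨U, hxU, v, w, hvw, hv⟩ := exists_unit_section x (u : X.presheaf.stalk x)
    ((u⁻¹ : (X.presheaf.stalk x)ˣ) : X.presheaf.stalk x) (Units.mul_inv u)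
  have hηU : genericPoint X ∈ U := (genericPoint_specializes x).mem_open U.isOpen hxU
  have hηT : genericPoint X ∈ U ⊓ W := ⟨hηU, hηW⟩
  have hunit : IsUnit (resO (inf_le_left : U ⊓ W ≤ U) v) :=
    (IsUnit.of_mul_eq_one w hvw).map (X.presheaf.map (homOfLE (inf_le_left : U ⊓ W ≤ U)).op).hom
  refine ⟨U ⊓ W, (resO (inf_le_left : U ⊓ W ≤ U) v • res L inf_le_right g : Γ(L, U ⊓ W)), hηT, ⟨hxU, hxW⟩,
    Groth.Agent.Lib.Helper28.CounitGen.isGen_smul_of_isUnit (hg.res inf_le_right) _ hunit, ?_⟩
  have hgerm : X.presheaf.germ U (genericPoint X) hηU v = (b : X.functionField) := by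
    rw [← algebraMap_germ x hxU hηU v, hv, hu']
  rw [gm_smul, gm_res, germ_resO, hgerm, Submodule.Quotient.mk_smul, smul_smul, ha]
  congr 1
  show (a : X.functionField) = f * ((a : X.functionField) * f⁻¹)
  field_simp

/-- **injectivity of `Pic → Cl`**: an invertible module with a rational section whose divisor is principal is
trivial -/
theorem nonempty_iso_structureModule_of_secDiv_eq [IsIntegral X] [IsLocallyNoetherian X]
    (hX : Pi1.IsNormalScheme X)
    (L : X.Modules) (hL : PicF.IsInvertible L) (s : Cyc.secFibre L (genericPoint X)) (hs : s ≠ 0)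
    (f : X.functionField) (hf : f ≠ 0)
    (h : ∀ x : X, Order.coheight x = 1 →
      Cyc.secOrdAt L (genericPoint X) x (genericPoint_specializes x) s = Scheme.ord f x) :
    Nonempty (L ≅ Coh.structureModule X) := by
  choose T γ hη hxT hγ hsγ using exists_normalized_gen hX L hL s hs f hf h
  have hagree : ∀ x y : X, res L inf_le_left (γ x) = res L (inf_le_right : T x ⊓ T y ≤ T y) (γ y) := by
    intro x y
    have hηV : genericPoint X ∈ T x ⊓ T y := ⟨hη x, hη y⟩
    have he : IsGen L (T x ⊓ T y) (res L inf_le_right (γ y)) := (hγ y).res inf_le_right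
    set c := he.coef le_rfl (res L inf_le_left (γ x)) with hc
    have hcm : (c • res L inf_le_right (γ y) : Γ(L, T x ⊓ T y)) = res L inf_le_left (γ x) := by
      have := he.coef_smul le_rfl (res L inf_le_left (γ x))
      rwa [res_self] at this
    have hfg := Groth.Agent.S16090.freeGen_gm_of_isGen he (genericPoint X) hηV
    have h1 : gm L (T x) (genericPoint X) (hη x) (γ x) =
        X.presheaf.germ (T x ⊓ T y) (genericPoint X) hηV c •
          gm L (T x ⊓ T y) (genericPoint X) hηV (res L inf_le_right (γ y)) := by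
      rw [← gm_smul, hcm, gm_res]
    have h2 : gm L (T y) (genericPoint X) (hη y) (γ y) =
        gm L (T x ⊓ T y) (genericPoint X) hηV (res L inf_le_right (γ y)) := by
      rw [gm_res]
    have h3 := (hsγ x).symm.trans (hsγ y)
    rw [h1, h2, Submodule.Quotient.mk_smul, smul_smul] at h3
    have h4 := residue_eq_of_smul_mk_eq L hfg _ _ h3
    have h5 : (f : X.presheaf.stalk (genericPoint X)) *
        X.presheaf.germ (T x ⊓ T y) (genericPoint X) hηV c = f :=
      (X.residue (genericPoint X)).hom.injective h4
    have h6 : X.presheaf.germ (T x ⊓ T y) (genericPoint X) hηV c = 1 := by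
      have hf' : (f : X.presheaf.stalk (genericPoint X)) ≠ 0 := hf
      exact mul_left_cancel₀ hf' (by rw [h5, mul_one])
    have h7 : c = 1 := by
      haveI : Nonempty (T x ⊓ T y : X.Opens) := ⟨⟨genericPoint X, hηV⟩⟩
      apply X.germToFunctionField_injective (T x ⊓ T y)
      rw [map_one]
      exact h6
    rw [← hcm, h7, one_smul]
  obtain ⟨ψ, -⟩ := exists_iso_of_cocycle_gen T γ (fun x => oneSec X (T x)) hγ (fun x => isGen_oneSec (T x))
    (fun x => ⟨x, hxT x⟩) (fun x y => ⟨1, by rw [one_smul]; exact hagree x y, by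
      rw [one_smul, res_oneSec, res_oneSec]⟩)
  exact ⟨ψ⟩

end Groth.Agent.Lib.Helper1.PicClUfd
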