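import Groth.Agent.Lib.Helper1.RefHull2
import Groth.Agent.Lib.Helper18.Cyc.UnitStalk

/-!
# Reflexivity of a coherent module is a stalkwise condition (helper1)

For a coherent module `F` on a locally Noetherian scheme, `RefHull.IsReflexive F` holds iff
`RefHull.IsReflexiveAt F x` holds at every point `x`
(`RefHullLib.isReflexive_iff_forall_isReflexiveAt`).
-/

set_option autoImplicit false
universe u
open CategoryTheory CategoryTheory.Limits AlgebraicGeometry Opposite TopologicalSpace
open RefHull

namespace Groth.Agent.Lib.Helper1.RefHullLib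

variable {X : Scheme.{u}}

/-- the structure module is coherent. -/
theorem isCoh_structureModule (X : Scheme.{u}) : Coh.IsCoh (Coh.structureModule X) := by
  haveI : (Coh.structureModule X).IsQuasicoherent := inferInstance
  refine ⟨inferInstance, Groth.Agent.Lib.Helper28.FinType.isFiniteType_of_finite_cover _
    (fun U : X.affineOpens => U.1) (iSup_affineOpens_eq_top X) (fun U => U.2) fun U => ?_⟩
  refine Module.Finite.of_surjective
    (LinearMap.toSpanSingleton Γ(X, U.1) Γ(Coh.structureModule X, U.1)
      (show Γ(Coh.structureModule X, U.1) from (1 : Γ(X, U.1)))) ?_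
  intro y
  refine ⟨(show Γ(X, U.1) from y), ?_⟩
  rw [LinearMap.toSpanSingleton_apply]
  exact mul_one (show Γ(X, U.1) from y)

/-- isomorphisms of `O_X`-modules are detected by the stalk maps. -/
theorem isIso_iff_stalkMapₗ_bijective {F G : X.Modules} (φ : F ⟶ G) :
    IsIso φ ↔ ∀ x, Function.Bijective (stalkMapₗ φ x) := by
  constructor
  · intro h x
    haveI : IsIso ((TopCat.Presheaf.stalkFunctor Ab x).map φ.mapPresheaf) := by
      have : IsIso φ.mapPresheaf := by
        change IsIso ((Scheme.Modules.toPresheaf X).map φ)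
        infer_instance
      infer_instance
    exact (ConcreteCategory.isIso_iff_bijective
      ((TopCat.Presheaf.stalkFunctor Ab x).map φ.mapPresheaf)).1 inferInstance
  · intro h
    let Fs : TopCat.Sheaf Ab X := ⟨F.presheaf, F.isSheaf⟩
    let Gs : TopCat.Sheaf Ab X := ⟨G.presheaf, G.isSheaf⟩
    let f : Fs ⟶ Gs := ⟨φ.mapPresheaf⟩
    haveI : ∀ x : X, IsIso ((TopCat.Presheaf.stalkFunctor Ab x).map f.1) := fun x =>
      (ConcreteCategory.isIso_iff_bijective
        ((TopCat.Presheaf.stalkFunctor Ab x).map φ.mapPresheaf)).2 (h x)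
    haveI : IsIso f := TopCat.Presheaf.isIso_of_stalkFunctor_map_iso f
    haveI : IsIso ((Scheme.Modules.toPresheaf X).map φ) := by
      change IsIso ((TopCat.Sheaf.forget Ab X).map f)
      infer_instance
    exact isIso_of_reflects_iso φ (Scheme.Modules.toPresheaf X)

/-- the stalk map of the biduality morphism, followed by evaluation, is the pointwise biduality
map. -/
theorem evalStalk_stalkMapₗ_bidualMap (F : X.Modules) (x : X) (v : F.presheaf.stalk x) :
    evalStalk (dual F) (Coh.structureModule X) x (stalkMapₗ (bidualMap F) x v) = bidualAt F x v := by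
  obtain ⟨U, hxU, s, rfl⟩ := TopCat.Presheaf.exists_germ_eq F.presheaf v
  rw [stalkMapₗ_germ, evalStalk_germ]
  rfl

section algebra

variable {R M D O' : Type*} [CommRing R] [AddCommGroup M] [Module R M] [AddCommGroup D] [Module R D]
  [AddCommGroup O'] [Module R O']

/-- pure algebra: if `e : D ≃ Hom(M, O')` and `O' ≃ R`, the pairing map `M → Hom(D, O')`,
`v ↦ (θ ↦ e θ v)` is bijective iff `M` is reflexive. -/
theorem isReflexive_iff_of_equivs (e : D ≃ₗ[R] (M →ₗ[R] O')) (ι : O' ≃ₗ[R] R)
    (B : M →ₗ[R] (D →ₗ[R] O')) (hB : ∀ v θ, B v θ = e θ v) :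
    Module.IsReflexive R M ↔ Function.Bijective B := by
  let c : (M →ₗ[R] O') ≃ₗ[R] Module.Dual R M := LinearEquiv.congrRight ι
  let Ψ : Module.Dual R (Module.Dual R M) ≃ₗ[R] (D →ₗ[R] O') :=
    LinearEquiv.arrowCongr (e.trans c).symm ι.symm
  have hcomp : ∀ v, B v = Ψ (Module.Dual.eval R M v) := by
    intro v
    refine LinearMap.ext fun θ => ?_
    rw [hB]
    change _ = ι.symm ((Module.Dual.eval R M v) ((e.trans c).symm.symm θ))
    rw [LinearEquiv.symm_symm, Module.Dual.eval_apply]
    change _ = ι.symm (ι (e θ v))
    rw [LinearEquiv.symm_apply_apply]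
  have hB' : (B : M → (D →ₗ[R] O')) = Ψ ∘ Module.Dual.eval R M := funext hcomp
  constructor
  · intro h
    rw [hB']
    exact Ψ.bijective.comp h.bijective_dual_eval'
  · intro h
    refine ⟨?_⟩
    rw [hB'] at h
    exact (Function.Bijective.of_comp_iff' Ψ.bijective _).1 h

end algebra

/-- pointwise reflexivity in terms of the pointwise biduality map, when `F` is finitely presented. -/
theorem isReflexiveAt_iff_bidualAt_bijective (F : X.Modules) (hF : CohB1.IsFP F) (x : X) :
    IsReflexiveAt F x ↔ Function.Bijective (bidualAt F x) := by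
  have hbij := Groth.Agent.S16485.result X F (Coh.structureModule X) hF x
  exact isReflexive_iff_of_equivs (LinearEquiv.ofBijective _ hbij)
    (Groth.Agent.Lib.Helper18.CycUnitStalk.e X x).symm (bidualAt F x) (fun v θ => rfl)

/-- **reflexivity of a coherent module on a locally Noetherian scheme is stalkwise.** -/
theorem isReflexive_iff_forall_isReflexiveAt [IsLocallyNoetherian X] (F : X.Modules)
    (hF : Coh.IsCoh F) : IsReflexive F ↔ ∀ x, IsReflexiveAt F x := by
  have hFP : CohB1.IsFP F := Groth.Agent.S16240.isFinitePresentation_of_isCoh F hF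
  have hdual : CohB1.IsFP (dual F) :=
    Groth.Agent.S16240.isFinitePresentation_of_isCoh _
      (isCoh_homSh F (Coh.structureModule X) hF (isCoh_structureModule X))
  have hev : ∀ x, Function.Bijective (evalStalk (dual F) (Coh.structureModule X) x) := fun x =>
    Groth.Agent.S16485.result X (dual F) (Coh.structureModule X) hdual x
  have key : ∀ x, Function.Bijective (stalkMapₗ (bidualMap F) x) ↔ Function.Bijective (bidualAt F x) := by
    intro x
    have h1 : (bidualAt F x : _ → _) =
        evalStalk (dual F) (Coh.structureModule X) x ∘ stalkMapₗ (bidualMap F) x :=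
      funext fun v => (evalStalk_stalkMapₗ_bidualMap F x v).symm
    rw [h1]
    exact (Function.Bijective.of_comp_iff' (hev x) _).symm
  unfold IsReflexive
  rw [isIso_iff_stalkMapₗ_bijective]
  exact forall_congr' fun x => (key x).trans (isReflexiveAt_iff_bidualAt_bijective F hFP x).symm

end Groth.Agent.Lib.Helper1.RefHullLib
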