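import Groth.Agent.Lib.Helper1.ReflexiveAlg1

/-!
# Duals of finitely presented modules over a domain are reflexive (helper1)

* `isReflexive_ker`: the kernel of a linear map from a reflexive "good" module to a torsionless module is
  reflexive.
* `isReflexive_dual_of_finitePresentation`: over a domain, the dual of a finitely presented module is
  reflexive.
* `isReflexive_linearMap`: over a domain, `Hom(M, N)` is reflexive when `M`, `N` are finitely presented
  (with finitely presented dual) and `N` is reflexive.
-/

set_option autoImplicit false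
universe u

namespace Groth.Agent.Lib.Helper1.ReflexiveAlg

variable {A : Type u} [CommRing A] [IsDomain A]

/-- kernel of a map from a reflexive good module to a torsionless module is reflexive. -/
theorem isReflexive_ker {L Q : Type u} [AddCommGroup L] [Module A L] [AddCommGroup Q] [Module A Q]
    [Module.IsReflexive A L] (hL : Good A L) (T : L →ₗ[A] Q)
    (hQ : ∀ q : Q, (∀ f : Q →ₗ[A] A, f q = 0) → q = 0) :
    Module.IsReflexive A (LinearMap.ker T) := by
  set H := LinearMap.ker T with hH
  refine ⟨⟨?_, ?_⟩⟩
  · -- injectivity
    rw [← LinearMap.ker_eq_bot, LinearMap.ker_eq_bot']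
    intro h hh
    apply Subtype.ext
    apply (Module.bijective_dual_eval A L).1
    change Module.Dual.eval A L h.1 = Module.Dual.eval A L 0
    rw [map_zero]
    refine LinearMap.ext fun c => ?_
    have := LinearMap.congr_fun hh (c ∘ₗ H.subtype)
    exact this
  · intro φ
    -- the element of `L` defined by `φ`
    let Φ : Module.Dual A (Module.Dual A L) :=
      φ ∘ₗ (LinearMap.lcomp A A H.subtype)
    obtain ⟨h, hh⟩ := (Module.bijective_dual_eval A L).2 Φ
    have h1 : ∀ c : Module.Dual A L, c h = φ (c ∘ₗ H.subtype) := fun c => by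
      have := LinearMap.congr_fun hh c
      exact this
    have hmem : h ∈ H := by
      rw [hH, LinearMap.mem_ker]
      apply hQ
      intro f
      have h2 := h1 (f ∘ₗ T)
      have h3 : (f ∘ₗ T) ∘ₗ H.subtype = 0 := by
        refine LinearMap.ext fun x => ?_
        change f (T x.1) = 0
        rw [LinearMap.mem_ker.1 x.2, map_zero]
      rw [h3, map_zero] at h2
      exact h2
    refine ⟨⟨h, hmem⟩, LinearMap.ext fun θ => ?_⟩
    obtain ⟨a, ha, c, hc⟩ := hL H θ
    have h4 : a • θ = c ∘ₗ H.subtype := LinearMap.ext fun x => hc x
    have h5 : a * φ θ = a * θ ⟨h, hmem⟩ := by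
      have : φ (a • θ) = c h := by rw [h4, h1]
      rw [map_smul, smul_eq_mul] at this
      rw [this]
      exact (hc ⟨h, hmem⟩).symm
    rw [Module.Dual.eval_apply]
    exact (mul_left_cancel₀ ha h5).symm

/-- over a domain, the dual of a finitely presented module is reflexive. -/
theorem isReflexive_dual_of_finitePresentation (P : Type u) [AddCommGroup P] [Module A P]
    [Module.FinitePresentation A P] : Module.IsReflexive A (Module.Dual A P) := by
  obtain ⟨n, m, fN, g, hfN, hex⟩ := Module.FinitePresentation.exists_fin' A P
  let L := Module.Dual A (Fin n → A)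
  let T : L →ₗ[A] Module.Dual A (Fin m → A) := LinearMap.lcomp A A g
  have hL : Good A L := (good_pi n).of_equiv (Module.piEquiv (Fin n) A A)
  have hQ : ∀ q : Module.Dual A (Fin m → A), (∀ f : Module.Dual A (Fin m → A) →ₗ[A] A, f q = 0) → q = 0 :=
    fun q hq => LinearMap.ext fun v => hq (Module.Dual.eval A _ v)
  haveI := isReflexive_ker hL T hQ
  -- `P^* ≃ ker T`
  let Φ : Module.Dual A P →ₗ[A] LinearMap.ker T :=
    (LinearMap.lcomp A A fN).codRestrict (LinearMap.ker T) (fun θ => by
      rw [LinearMap.mem_ker]
      refine LinearMap.ext fun v => ?_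
      change θ (fN (g v)) = 0
      rw [hex.apply_apply_eq_zero, map_zero])
  have hΦ : Function.Bijective Φ := by
    constructor
    · intro θ θ' h
      refine LinearMap.ext fun p => ?_
      obtain ⟨v, rfl⟩ := hfN p
      have := congrArg (fun c : LinearMap.ker T => c.1 v) h
      exact this
    · intro c
      have hle : LinearMap.ker fN ≤ LinearMap.ker c.1 := by
        intro v hv
        obtain ⟨w, rfl⟩ := (hex v).1 hv
        have := LinearMap.congr_fun (LinearMap.mem_ker.1 c.2) w
        exact this
      let θ : Module.Dual A P :=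
        (Submodule.liftQ (LinearMap.ker fN) c.1 hle) ∘ₗ (fN.quotKerEquivOfSurjective hfN).symm.toLinearMap
      refine ⟨θ, Subtype.ext (LinearMap.ext fun v => ?_)⟩
      change θ (fN v) = c.1 v
      have h2 : (fN.quotKerEquivOfSurjective hfN).symm (fN v) = Submodule.Quotient.mk v := by
        rw [LinearEquiv.symm_apply_eq]
        rfl
      change (Submodule.liftQ (LinearMap.ker fN) c.1 hle) ((fN.quotKerEquivOfSurjective hfN).symm (fN v)) = _
      rw [h2, Submodule.liftQ_apply]
  exact Module.equiv (LinearEquiv.ofBijective Φ hΦ).symm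

omit [IsDomain A] in
/-- the dual of a finite module over a Noetherian ring is finite. -/
theorem finite_dual (N : Type u) [AddCommGroup N] [Module A N] [IsNoetherianRing A] [Module.Finite A N] :
    Module.Finite A (Module.Dual A N) := by
  obtain ⟨n, fN, hfN⟩ := Module.Finite.exists_fin' A N
  refine Module.Finite.of_injective (LinearMap.lcomp A A fN) fun θ θ' h => ?_
  refine LinearMap.ext fun p => ?_
  obtain ⟨v, rfl⟩ := hfN p
  exact LinearMap.congr_fun h v

open TensorProduct in
/-- over a Noetherian domain, `Hom(M, N)` is reflexive when `M`, `N` are finite and `N` is reflexive. -/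
theorem isReflexive_linearMap (M N : Type u) [AddCommGroup M] [Module A M] [AddCommGroup N] [Module A N]
    [IsNoetherianRing A] [Module.Finite A M] [Module.Finite A N] [Module.IsReflexive A N] :
    Module.IsReflexive A (M →ₗ[A] N) := by
  haveI := finite_dual (A := A) N
  haveI : Module.FinitePresentation A (M ⊗[A] Module.Dual A N) := Module.finitePresentation_of_finite _ _
  haveI := isReflexive_dual_of_finitePresentation (A := A) (M ⊗[A] Module.Dual A N)
  let e1 : (M →ₗ[A] N) ≃ₗ[A] (M →ₗ[A] Module.Dual A (Module.Dual A N)) :=
    LinearEquiv.congrRight (Module.evalEquiv A N)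
  let e2 : (M →ₗ[A] Module.Dual A N →ₗ[A] A) ≃ₗ[A] Module.Dual A (M ⊗[A] Module.Dual A N) :=
    TensorProduct.lift.equiv (RingHom.id A) M (Module.Dual A N) A
  exact Module.equiv (e1.trans e2).symm

end Groth.Agent.Lib.Helper1.ReflexiveAlg
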