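import Groth.Agent.Lib.Helper1.RefHull10
import Groth.Agent.Lib.Helper1.RefHull9
import Groth.Agent.Lib.Helper1.ReflexiveAlg3
import Groth.Agent.Lib.Helper29.ZeroMul
import Groth.Agent.Lib.Helper29.FPFree
import Groth.Agent.S7862
import Groth.Agent.S16081
import Groth.Agent.S16486

/-!
# Rank one reflexive modules on normal schemes: local generators in codimension one and the
codimension-one isomorphism principle (helper1)
-/

set_option autoImplicit false
universe u
open CategoryTheory CategoryTheory.Limits AlgebraicGeometry Opposite TopologicalSpace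
open RefHull

namespace Groth.Agent.Lib.Helper1.RefHullLib

open Groth.Agent.Lib.Helper28.QCohLoc Groth.Agent.Lib.Helper29.QCohStalk
open Groth.Agent.Lib.Helper28.GenLocus Groth.Agent.Lib.Helper18

variable {X : Scheme.{u}}

/-- a rank one reflexive coherent module on a normal integral scheme has a generator near every
point of codimension at most one. -/
theorem exists_isGen_of_isRef1 [IsIntegral X] [IsLocallyNoetherian X] (hX : Pi1.IsNormalScheme X)
    (F : X.Modules) (hF : IsRef1 F) (x : X)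
    (hx : ¬ (2 : WithBot ℕ∞) ≤ ringKrullDim (X.presheaf.stalk x)) :
    ∃ (U : X.Opens) (g : Γ(F, U)), x ∈ U ∧ IsGen F U g := by
  obtain ⟨hFc, hFr, hFg⟩ := hF
  haveI : F.IsQuasicoherent := hFc.1
  haveI hFP : SheafOfModules.IsFinitePresentation.{u} (R := X.ringCatSheaf) F :=
    Groth.Agent.S16240.isFinitePresentation_of_isCoh F hFc
  have htf := isTorsionFree_of_isReflexive F hFc hFr
  obtain ⟨W, g, hηW, hg⟩ := exists_isGen_generic F hFg
  haveI := (hX x).2
  haveI : IsPrincipalIdealRing (X.presheaf.stalk x) :=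
    Groth.Agent.S7862.pid_of_dim_lt_two (X.presheaf.stalk x) hx
  haveI : Module.IsReflexive (X.presheaf.stalk x) (F.presheaf.stalk x) :=
    (isReflexive_iff_forall_isReflexiveAt F hFc).1 hFr x
  haveI := nontrivial_stalk_of_isGen F hFc.2 hηW hg x
  obtain ⟨e⟩ := Groth.Agent.Lib.Helper1.ReflexiveAlg.nonempty_equiv_of_rank_one
    (exists_dependency F htf hηW hg x)
  haveI hfree : Module.Free (X.presheaf.stalk x) (F.presheaf.stalk x) := Module.Free.of_equiv e.symm
  obtain ⟨V, hV, hxV, -⟩ := (Opens.isBasis_iff_nbhd.1 X.isBasis_affineOpens)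
    (show x ∈ (⊤ : X.Opens) from trivial)
  obtain ⟨f, n, τ, hxf, hτ⟩ :=
    Groth.Agent.Lib.Helper29.FPFree.exists_isBasisOn_of_free_stalk F hV x hxV hfree
  have hn : n = 1 := by
    have h1 : Module.finrank (X.presheaf.stalk x) (F.presheaf.stalk x) = n := by
      rw [Module.finrank_eq_card_basis (hτ.stalkBasis x hxf), Fintype.card_fin]
    have h2 : Module.finrank (X.presheaf.stalk x) (F.presheaf.stalk x) = 1 := by
      rw [e.finrank_eq, Module.finrank_self]
    omega
  subst hn
  refine ⟨X.basicOpen f, τ 0, hxf, Groth.Agent.Lib.Helper29.ZeroSch.isGen28_of_isGen ?_⟩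
  have : τ = fun _ : Fin 1 => τ 0 := funext fun j => by rw [Subsingleton.elim j 0]
  unfold Groth.Agent.Lib.Helper29.MeroGen.IsGen
  rw [← this]
  exact hτ


/-- the unit `M ⟶ j_* j^* M` is an isomorphism for a reflexive coherent module on a normal scheme
and an open containing all points of codimension at most one. -/
theorem isIso_unit_of_isReflexive [IsLocallyNoetherian X] (hX : Pi1.IsNormalScheme X)
    (M : X.Modules) (hM : Coh.IsCoh M) (hMr : IsReflexive M) (V : X.Opens)
    (hV : ∀ x : X, x ∉ V → (2 : WithBot ℕ∞) ≤ ringKrullDim (X.presheaf.stalk x)) :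
    IsIso ((Scheme.Modules.restrictAdjunction V.ι).unit.app M) := by
  apply Groth.Agent.S16486.isIso_of_bijective_app
  intro V'
  rw [Scheme.Modules.restrictAdjunction_unit_app_app]
  refine isNormalMod_of_isReflexive_of_normal hX M hM hMr V' _ _ ?_
  intro x hxV' hx
  apply hV x
  intro hxV
  exact hx ⟨⟨x, hxV⟩, hxV', rfl⟩

/-- **the codimension-one isomorphism principle**: two reflexive coherent modules on a normal
scheme with local generators, with the same transition functions, on opens covering all points of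
codimension at most one, are isomorphic. -/
theorem nonempty_iso_of_cocycle_codimOne [IsLocallyNoetherian X] (hX : Pi1.IsNormalScheme X)
    (M N : X.Modules) (hM : Coh.IsCoh M) (hMr : IsReflexive M) (hN : Coh.IsCoh N)
    (hNr : IsReflexive N) {ι : Type*} (U : ι → X.Opens) (g : ∀ i, Γ(M, U i)) (h : ∀ i, Γ(N, U i))
    (hg : ∀ i, IsGen M (U i) (g i)) (hh : ∀ i, IsGen N (U i) (h i))
    (hcov : ∀ x : X, ¬ (2 : WithBot ℕ∞) ≤ ringKrullDim (X.presheaf.stalk x) → ∃ i, x ∈ U i)
    (hcoc : ∀ i j, ∃ u : Γ(X, U i ⊓ U j),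
      res M inf_le_left (g i) = (u • res M inf_le_right (g j) : Γ(M, U i ⊓ U j)) ∧
      res N inf_le_left (h i) = (u • res N inf_le_right (h j) : Γ(N, U i ⊓ U j))) :
    Nonempty (M ≅ N) := by
  let V : X.Opens := ⨆ i, U i
  have hUV : ∀ i, U i ≤ V := fun i => le_iSup U i
  have hVc : ∀ x : X, x ∉ V → (2 : WithBot ℕ∞) ≤ ringKrullDim (X.presheaf.stalk x) := by
    intro x hx
    by_contra h2
    obtain ⟨i, hi⟩ := hcov x h2
    exact hx (hUV i hi)
  have hle : ∀ i, V.ι ''ᵁ (V.ι ⁻¹ᵁ U i) ≤ U i := fun i => V.ι.image_preimage_le (U i)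
  obtain ⟨ψ, -⟩ := exists_iso_of_cocycle_gen (X := (V : Scheme.{u})) (M := M.restrict V.ι)
    (N := N.restrict V.ι) (ι := ι) (fun i => V.ι ⁻¹ᵁ U i)
    (fun i => (show Γ(M.restrict V.ι, V.ι ⁻¹ᵁ U i) from res M (hle i) (g i)))
    (fun i => (show Γ(N.restrict V.ι, V.ι ⁻¹ᵁ U i) from res N (hle i) (h i)))
    (fun i => isGen_restrict_of_isGen M V _ ((hg i).res (hle i)))
    (fun i => isGen_restrict_of_isGen N V _ ((hh i).res (hle i)))
    (fun y => by
      obtain ⟨i, hi⟩ := Opens.mem_iSup.1 y.2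
      exact ⟨i, hi⟩)
    (fun i j => by
      obtain ⟨u, hu1, hu2⟩ := hcoc i j
      have hW : V.ι ''ᵁ (V.ι ⁻¹ᵁ U i ⊓ V.ι ⁻¹ᵁ U j) ≤ U i ⊓ U j :=
        le_inf ((V.ι.image_mono inf_le_left).trans (hle i)) ((V.ι.image_mono inf_le_right).trans (hle j))
      refine ⟨(V.ι.appIso (V.ι ⁻¹ᵁ U i ⊓ V.ι ⁻¹ᵁ U j)).hom (resO hW u), ?_, ?_⟩
      · rw [restrict_res, restrict_res, restrict_smul]
        have e : (V.ι.appIso (V.ι ⁻¹ᵁ U i ⊓ V.ι ⁻¹ᵁ U j)).inv
            ((V.ι.appIso (V.ι ⁻¹ᵁ U i ⊓ V.ι ⁻¹ᵁ U j)).hom (resO hW u)) = resO hW u := by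
          rw [← CommRingCat.comp_apply, Iso.hom_inv_id]; rfl
        rw [e]
        have h1 := congrArg (res M hW) hu1
        rw [res_smul, res_res, res_res] at h1
        show res M _ (res M _ (g i)) = (resO hW u • res M _ (res M _ (g j)) : Γ(M, _))
        rw [res_res, res_res]
        exact h1
      · rw [restrict_res, restrict_res, restrict_smul]
        have e : (V.ι.appIso (V.ι ⁻¹ᵁ U i ⊓ V.ι ⁻¹ᵁ U j)).inv
            ((V.ι.appIso (V.ι ⁻¹ᵁ U i ⊓ V.ι ⁻¹ᵁ U j)).hom (resO hW u)) = resO hW u := by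
          rw [← CommRingCat.comp_apply, Iso.hom_inv_id]; rfl
        rw [e]
        have h1 := congrArg (res N hW) hu2
        rw [res_smul, res_res, res_res] at h1
        show res N _ (res N _ (h i)) = (resO hW u • res N _ (res N _ (h j)) : Γ(N, _))
        rw [res_res, res_res]
        exact h1)
  haveI := isIso_unit_of_isReflexive hX M hM hMr V hVc
  haveI := isIso_unit_of_isReflexive hX N hN hNr V hVc
  exact ⟨asIso ((Scheme.Modules.restrictAdjunction V.ι).unit.app M) ≪≫
    (Scheme.Modules.pushforward V.ι).mapIso ψ ≪≫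
    (asIso ((Scheme.Modules.restrictAdjunction V.ι).unit.app N)).symm⟩

end Groth.Agent.Lib.Helper1.RefHullLib
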