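import Groth.Agent.Lib.Helper1.UfdExt4
import Groth.Agent.Lib.Helper6.K0Op

/-!
# Extending an invertible module across points with factorial local rings: the main theorem (helper1)
-/

set_option autoImplicit false
set_option backward.isDefEq.respectTransparency.types false
universe u
open CategoryTheory CategoryTheory.Limits AlgebraicGeometry Opposite TopologicalSpace

namespace Groth.Agent.Lib.Helper1.UfdExt

open RefHull
open Groth.Agent.Lib.Helper28 Groth.Agent.Lib.Helper28.QCohLoc Groth.Agent.Lib.Helper28.GenLocus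
open Groth.Agent.Lib.Helper29.QCohStalk Groth.Agent.Lib.Helper17.ModStalk
open Groth.Agent.Lib.Helper1.RefHullLib

/-- **EGA IV 21.6.11-type extension**: on a locally Noetherian scheme, an invertible module on an open `U` extends
to an invertible module on `X` if the local rings at the points outside `U` are factorial. -/
theorem main (X : Scheme.{u}) [IsLocallyNoetherian X] (U : X.Opens)
    (L : (U : Scheme.{u}).Modules) (hL : PicF.IsInvertible L)
    (hufd : ∀ x : X, x ∉ U → UniqueFactorizationMonoid (X.presheaf.stalk x)) :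
    ∃ L' : X.Modules, PicF.IsInvertible L' ∧ Nonempty (L'.restrict U.ι ≅ L) := by
  classical
  -- a coherent extension `G` of `L`
  have hX : ∀ x : X, ∃ U : X.Opens, x ∈ U ∧ TopologicalSpace.NoetherianSpace (U : Set X) := fun x => by
    obtain ⟨V, hV, hxV, -⟩ := Opens.isBasis_iff_nbhd.mp X.isBasis_affineOpens
      (show x ∈ (⊤ : X.Opens) from trivial)
    haveI : IsNoetherianRing Γ(X, V) := IsLocallyNoetherian.component_noetherian ⟨V, hV⟩
    exact ⟨V, hxV, noetherianSpace_of_isAffineOpen V hV⟩
  have hLc : Coh.IsCoh L := Groth.Agent.Lib.Helper6.K0Op.isCoh_of_isInvertible L hL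
  haveI : Coh.IsQCoh L := hLc.1
  obtain ⟨G, hGq, hGft, ⟨e⟩⟩ := Groth.Agent.S2252.result hX U L hLc.2
  have hG : Coh.IsCoh G := ⟨hGq, hGft⟩
  have hgenU : ∀ y ∈ U, ∃ (W' : X.Opens) (g : Γ(G, W')), y ∈ W' ∧ W' ≤ U ∧ IsGen G W' g :=
    fun y hy => exists_isGen_of_restrict_iso G U L hL e y hy
  have hgenU' : ∀ y ∈ U, ∃ (W' : X.Opens) (g : Γ(G, W')), y ∈ W' ∧ IsGen G W' g := fun y hy => by
    obtain ⟨W', g, h1, -, h2⟩ := hgenU y hy
    exact ⟨W', g, h1, h2⟩
  set F := ddual G with hF
  -- local generators of the bidual on the closure of `U`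
  have hloc : ∀ x : X, x ∈ closure (U : Set X) → ∃ (V : X.Opens) (γ : Γ(F, V)),
      x ∈ V ∧ (V : Set X) ⊆ closure (U : Set X) ∧ IsGen F V γ := by
    intro x hx
    by_cases hxU : x ∈ U
    · obtain ⟨W', g, h1, h2, h3⟩ := hgenU x hxU
      exact ⟨W', ddualGenS g, h1, fun z hz => subset_closure (h2 hz), isGen_ddualGenS h3⟩
    · haveI := hufd x hxU
      haveI : IsDomain (X.presheaf.stalk x) := { }
      exact exists_isGen_ddual_of_ufd G hG U hgenU' x hx
  have hopen : IsOpen (closure (U : Set X)) := by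
    rw [isOpen_iff_forall_mem_open]
    intro x hx
    obtain ⟨V, -, hxV, hV, -⟩ := hloc x hx
    exact ⟨V, hV, V.isOpen, hxV⟩
  let C : X.Opens := ⟨closure (U : Set X), hopen⟩
  let Wc : X.Opens := ⟨(closure (U : Set X))ᶜ, isClosed_closure.isOpen_compl⟩
  have hUC : U ≤ C := fun z hz => subset_closure hz
  have hloc' : ∀ x : C, ∃ (V : X.Opens) (γ : Γ(F, V)), x.1 ∈ V ∧ V ≤ C ∧ IsGen F V γ := fun x => by
    obtain ⟨V, γ, h1, h2, h3⟩ := hloc x.1 x.2
    exact ⟨V, γ, h1, h2, h3⟩
  choose V γ hxV hVC hγ using hloc'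
  let W : Option C → X.Opens := fun i => i.elim Wc V
  have hWcC : Wc ⊓ C = ⊥ := by
    ext z
    simp only [Opens.coe_inf, Opens.coe_bot, Set.mem_inter_iff, Set.mem_empty_iff_false, iff_false]
    rintro ⟨h1, h2⟩
    exact h1 h2
  have hcov : ∀ x : X, ∃ i, x ∈ W i := by
    intro x
    by_cases hx : x ∈ closure (U : Set X)
    · exact ⟨some ⟨x, hx⟩, hxV ⟨x, hx⟩⟩
    · exact ⟨none, hx⟩
  have hWle : ∀ i j, i ≠ j → W i ⊓ W j ≤ C := by
    intro i j hij
    cases i with
    | none =>
      cases j with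
      | none => exact absurd rfl hij
      | some y => exact inf_le_right.trans (hVC y)
    | some x => exact inf_le_left.trans (hVC x)
  let σ : ∀ i, Γ(F, W i ⊓ C) := fun i =>
    match i with
    | none => 0
    | some x => res F inf_le_left (γ x)
  have hσ : ∀ i, IsGen F (W i ⊓ C) (σ i) := by
    intro i
    cases i with
    | none => exact isGen_of_eq_bot F _ hWcC _
    | some x => exact (hγ x).res inf_le_left
  obtain ⟨L', g', hg', hrel, -⟩ := Groth.Agent.Lib.Helper17.GlueDisc.exists_glue C F W hcov hWle σ hσ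
  refine ⟨L', isInvertible_of_isGen L' fun x => ?_, ?_⟩
  · obtain ⟨i, hi⟩ := hcov x
    exact ⟨W i, g' i, hi, hg' i⟩
  · -- `L'` and `F` agree over `U`
    obtain ⟨ψ⟩ := Groth.Agent.Lib.Helper17.GlueDisc.nonempty_restrict_iso U L' F V
      (fun x hx => ⟨⟨x, hUC hx⟩, hxV _⟩) (fun x => g' (some x)) γ (fun x => hg' (some x)) hγ (by
        intro x y
        by_cases hxy : x = y
        · subst hxy
          exact ⟨1, (one_smul _ _).symm, (one_smul _ _).symm⟩
        · have hgy : IsGen F (V x ⊓ V y) (res F inf_le_right (γ y)) := (hγ y).res inf_le_right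
          set u := hgy.coef le_rfl (res F inf_le_left (γ x)) with hu
          have hu' : res F inf_le_left (γ x) = (u • res F inf_le_right (γ y) : Γ(F, V x ⊓ V y)) := by
            have := hgy.coef_smul le_rfl (res F inf_le_left (γ x))
            rw [res_self] at this
            exact this.symm
          refine ⟨u, ?_, hu'⟩
          have hne : (some x : Option C) ≠ some y := fun h => hxy (Option.some.inj h)
          refine hrel (some x) (some y) hne u ?_
          have h1 : V x ⊓ V y ≤ V x ⊓ C := le_inf inf_le_left (inf_le_left.trans (hVC x))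
          have h2 : V x ⊓ V y ≤ V y ⊓ C := le_inf inf_le_right (inf_le_left.trans (hVC x))
          show (res F h1 (res F inf_le_left (γ x)) : Γ(F, V x ⊓ V y)) =
            (u • (res F h2 (res F inf_le_left (γ y)) : Γ(F, V x ⊓ V y)) : Γ(F, V x ⊓ V y))
          rw [res_res, res_res]
          exact hu')
    haveI := isIso_restrict_bidualMap G hG U hgenU'
    exact ⟨ψ ≪≫ (asIso ((Scheme.Modules.restrictFunctor U.ι).map (bidualMap G))).symm ≪≫ e⟩

end Groth.Agent.Lib.Helper1.UfdExt
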