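import Groth.Agent.Lib.Helper1.PicClUfd2
import Groth.Agent.Lib.Helper13.CDivFact3
import Groth.Agent.Lib.Helper13.CDivFact5
import Groth.Agent.Lib.Helper13.LocFactorial
import Groth.Agent.Lib.Helper22.GlueFunctionField
import Groth.Agent.Lib.Helper1.RefK05
import Groth.Agent.Lib.Helper1.UfdExt5
import Groth.Agent.Lib.Helper1.RefHull11

/-!
# Principal prime cycles, local factoriality and triviality of the Picard group (helper1)
-/

set_option autoImplicit false
set_option backward.isDefEq.respectTransparency.types false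
universe u
open CategoryTheory CategoryTheory.Limits AlgebraicGeometry Opposite TopologicalSpace
open RefHull

namespace Groth.Agent.Lib.Helper1.PicClUfd

open Groth.Agent.Lib.Helper28 Groth.Agent.Lib.Helper28.QCohLoc Groth.Agent.Lib.Helper29.QCohStalk
open Groth.Agent.Lib.Helper28.GenLocus
open Groth.Agent.Lib.Helper1.RefHullLib Groth.Agent.Lib.Helper1.WeilIdeal
open Groth.Agent.Lib.Helper18.C1Core
open Groth.Agent.Lib.Helper13.CDivLib CDiv

variable {X : Scheme.{u}}

/-- a point of codimension one does not specialize to the generic point -/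
theorem not_specializes_genericPoint [IsIntegral X] {ζ : X} (hζ : Order.coheight ζ = 1) :
    ¬ ζ ⤳ genericPoint X := by
  intro h
  have : ζ = genericPoint X := (h.antisymm (genericPoint_specializes ζ)).eq
  rw [this, coheight_genericPoint] at hζ
  exact zero_ne_one hζ

/-- two distinct points of codimension one do not specialize to each other -/
theorem not_specializes_of_ne [IsIntegral X] {ζ x : X} (hζ : Order.coheight ζ = 1)
    (hx : Order.coheight x = 1) (hne : x ≠ ζ) : ¬ ζ ⤳ x := by
  intro h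
  have h1 := eq_genericPoint_of_specializes_of_coheight_eq_one hx h (Ne.symm hne)
  rw [h1, coheight_genericPoint] at hζ
  exact zero_ne_one hζ

/-- **(2) ⇒ (1)**: a rational function whose divisor is the prime cycle of `ζ` is a global function cutting out the
closure of `ζ` -/
theorem exists_global_equation [IsIntegral X] [IsLocallyNoetherian X] (hX : Pi1.IsNormalScheme X)
    (ζ : X) (hζ : Order.coheight ζ = 1) (f : X.functionField) (hf : f ≠ 0) (h1 : Scheme.ord f ζ = 1)
    (h0 : ∀ x : X, x ≠ ζ → Order.coheight x = 1 → Scheme.ord f x = 0) :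
    ∃ g : Γ(X, ⊤),
      (∀ (x : X) (h : ζ ⤳ x),
        (IsLocalRing.maximalIdeal (X.presheaf.stalk ζ)).comap (X.presheaf.stalkSpecializes h).hom =
          Ideal.span {X.presheaf.germ ⊤ x trivial g}) ∧
      ∀ x : X, ¬ ζ ⤳ x → IsUnit (X.presheaf.germ ⊤ x trivial g) := by
  haveI := isDiscreteValuationRing_stalk hX ζ hζ
  have hmem : ∀ p : X, ∃ g : X.presheaf.stalk p, algebraMap (X.presheaf.stalk p) X.functionField g = f := by
    intro p
    apply mem_range_of_forall_ord_nonneg hX p f hf
    intro z _ hz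
    by_cases hzz : z = ζ
    · rw [hzz, h1]; exact zero_le_one
    · rw [h0 z hzz hz]
  obtain ⟨g, hg⟩ := Helper22.exists_section_of_forall_mem_stalk X f hmem
  have hgx : ∀ x : X, algebraMap (X.presheaf.stalk x) X.functionField (X.presheaf.germ ⊤ x trivial g) = f := by
    intro x
    rw [algebraMap_germ (U := ⊤) x trivial trivial g]
    exact hg
  refine ⟨g, fun x h => ?_, fun x hx => ?_⟩
  · have hpe : IsPrimeEquation x ζ
        (algebraMap (X.presheaf.stalk x) X.functionField (X.presheaf.germ ⊤ x trivial g)) := by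
      rw [hgx x]
      exact ⟨hf, h1, fun z' _ hz' hne => h0 z' hne hz'⟩
    apply le_antisymm
    · intro a ha
      rw [Ideal.mem_span_singleton]
      by_cases ha0 : a = 0
      · rw [ha0]; exact dvd_zero _
      · have hnu : ¬ IsUnit ((X.presheaf.stalkSpecializes h).hom a) := ha
        exact hpe.dvd_of_ord_pos hX h hζ ha0 (one_le_ord_of_not_isUnit_specializes h hζ ha0 hnu)
    · rw [Ideal.span_le, Set.singleton_subset_iff]
      show (X.presheaf.stalkSpecializes h).hom (X.presheaf.germ ⊤ x trivial g) ∈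
        IsLocalRing.maximalIdeal (X.presheaf.stalk ζ)
      rw [IsLocalRing.mem_maximalIdeal, mem_nonunits_iff]
      intro hu
      have := ord_eq_zero_of_isUnit_specializes h hζ _ hu
      rw [hgx x, h1] at this
      exact one_ne_zero this
  · have hmem' : Units.mk0 f hf ∈ stalkUnits X x := by
      apply mem_stalkUnits_of_forall_ord_eq_zero hX
      intro z hzx hz
      refine h0 z ?_ hz
      rintro rfl
      exact hx hzx
    obtain ⟨u, hu⟩ := hmem'
    have hu' : algebraMap (X.presheaf.stalk x) X.functionField (u : X.presheaf.stalk x) = f :=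
      congrArg Units.val hu
    have : X.presheaf.germ ⊤ x trivial g = (u : X.presheaf.stalk x) := by
      apply IsFractionRing.injective (X.presheaf.stalk x) X.functionField
      rw [hgx x, hu']
    rw [this]
    exact u.isUnit

/-- **(1) ⇒ (2)**: if every prime cycle of codimension one is cut out by a global function, the scheme is normal
(even locally factorial) and every such cycle is the divisor of a rational function -/
theorem ufm_and_principal_of_global_equations [IsIntegral X] [IsLocallyNoetherian X]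
    (H1 : ∀ ζ : X, Order.coheight ζ = 1 → ∃ g : Γ(X, ⊤),
      (∀ (x : X) (h : ζ ⤳ x),
        (IsLocalRing.maximalIdeal (X.presheaf.stalk ζ)).comap (X.presheaf.stalkSpecializes h).hom =
          Ideal.span {X.presheaf.germ ⊤ x trivial g}) ∧
      ∀ x : X, ¬ ζ ⤳ x → IsUnit (X.presheaf.germ ⊤ x trivial g)) :
    (∀ x : X, UniqueFactorizationMonoid (X.presheaf.stalk x)) ∧ Pi1.IsNormalScheme X ∧
      ∀ x₀ : X, Order.coheight x₀ = 1 → ∃ f : X.functionField, f ≠ 0 ∧
        Scheme.ord f x₀ = 1 ∧ ∀ x : X, x ≠ x₀ → Order.coheight x = 1 → Scheme.ord f x = 0 := by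
  have hgη : ∀ (ζ : X) (hζ : Order.coheight ζ = 1) (g : Γ(X, ⊤)),
      (∀ x : X, ¬ ζ ⤳ x → IsUnit (X.presheaf.germ ⊤ x trivial g)) → ∀ x : X,
        X.presheaf.germ ⊤ x trivial g ≠ 0 := by
    intro ζ hζ g hg x h0
    have hu := hg (genericPoint X) (not_specializes_genericPoint hζ)
    have h1 := algebraMap_germ (U := ⊤) x trivial trivial g
    rw [h0, map_zero] at h1
    exact hu.ne_zero h1.symm
  have hfact := (Groth.Agent.Lib.Helper13.LocFactorial.locallyFactorial_iff X
    (fun x _ => inferInstance)).1 (fun ζ hdim x h => by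
      have hζ : Order.coheight ζ = 1 := by
        rw [ringKrullDim_stalk_eq_coheight] at hdim
        exact_mod_cast hdim
      obtain ⟨g, hg1, hg2⟩ := H1 ζ hζ
      exact ⟨X.presheaf.germ ⊤ x trivial g, mem_nonZeroDivisors_of_ne_zero (hgη ζ hζ g hg2 x), hg1 x h⟩)
  have hufm : ∀ x : X, UniqueFactorizationMonoid (X.presheaf.stalk x) := fun x => (hfact x).2
  have hX : Pi1.IsNormalScheme X := fun x => by
    haveI := hufm x
    exact ⟨inferInstance, UniqueFactorizationMonoid.instIsIntegrallyClosed⟩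
  refine ⟨hufm, hX, fun x₀ hx₀ => ?_⟩
  obtain ⟨g, hg1, hg2⟩ := H1 x₀ hx₀
  have hη : genericPoint X ∈ (⊤ : X.Opens) := trivial
  refine ⟨(X.presheaf.germ ⊤ (genericPoint X) hη g : X.functionField), hgη x₀ hx₀ g hg2 _, ?_, ?_⟩
  · apply ord_germ_uniformizer hX x₀ hx₀ (U := ⊤) trivial hη g
    have := hg1 x₀ (specializes_refl x₀)
    rw [TopCat.Presheaf.stalkSpecializes_refl] at this
    rw [← this]
    exact (Ideal.comap_id _).symm
  · intro x hne hx
    have hu := hg2 x (not_specializes_of_ne hx₀ hx hne)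
    have h1 := ord_eq_zero_of_isUnit_specializes (specializes_refl x) hx (X.presheaf.germ ⊤ x trivial g) (by
      rw [TopCat.Presheaf.stalkSpecializes_refl]
      exact hu)
    rwa [algebraMap_germ (U := ⊤) x trivial trivial g] at h1

section principal

variable [IsIntegral X] [IsLocallyNoetherian X]

/-- the hypothesis (2): every prime cycle of codimension one is the divisor of a rational function -/
def PrimeCyclesPrincipal (X : Scheme.{u}) [IsIntegral X] [IsLocallyNoetherian X] : Prop :=
  ∀ x₀ : X, Order.coheight x₀ = 1 → ∃ f : X.functionField, f ≠ 0 ∧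
    Scheme.ord f x₀ = 1 ∧ ∀ x : X, x ≠ x₀ → Order.coheight x = 1 → Scheme.ord f x = 0

/-- **(2) ⇒ (3), first half** -/
theorem ufm_of_primeCyclesPrincipal (hX : Pi1.IsNormalScheme X) (H2 : PrimeCyclesPrincipal X) (x : X) :
    UniqueFactorizationMonoid (X.presheaf.stalk x) :=
  ufm_stalk_of_primeEquations hX x fun z _ hz => by
    obtain ⟨f, hf, h1, h0⟩ := H2 z hz
    have hpe : IsPrimeEquation x z f := ⟨hf, h1, fun z' _ hz' hne => h0 z' hne hz'⟩
    obtain ⟨p, hp⟩ := hpe.mem_range hX
    exact ⟨p, by rw [hp]; exact hpe⟩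

theorem ord_zpow (x : X) (u : KUnits X) (n : ℤ) :
    Scheme.ord ((u ^ n : KUnits X) : X.functionField) x = n * Scheme.ord (u : X.functionField) x := by
  cases n with
  | ofNat k =>
    rw [Int.ofNat_eq_natCast, zpow_natCast, Units.val_pow_eq_pow_val,
      Groth.Agent.Lib.Helper1.WeilIdeal.ord_pow x u.ne_zero]
  | negSucc k =>
    rw [zpow_negSucc, Units.val_inv_eq_inv_val, Units.val_pow_eq_pow_val,
      Groth.Agent.Lib.Helper1.WeilIdeal.ord_inv x (pow_ne_zero _ u.ne_zero),
      Groth.Agent.Lib.Helper1.WeilIdeal.ord_pow x u.ne_zero, Int.negSucc_eq]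
    push_cast
    ring

theorem ord_prod_zpow (x : X) (φ : X → KUnits X) (D : X → ℤ) (S : Finset X) :
    Scheme.ord ((∏ ζ ∈ S, φ ζ ^ D ζ : KUnits X) : X.functionField) x =
      ∑ ζ ∈ S, D ζ * Scheme.ord (φ ζ : X.functionField) x := by
  classical
  induction S using Finset.induction_on with
  | empty =>
    rw [Finset.prod_empty, Finset.sum_empty, Units.val_one]
    exact Groth.Agent.Lib.Helper1.WeilIdeal.ord_one x
  | insert a S ha ih =>
    rw [Finset.prod_insert ha, Finset.sum_insert ha, Units.val_mul,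
      Scheme.ord_mul (Units.ne_zero _) (Units.ne_zero _), ih, ord_zpow]

/-- under (2), every Weil divisor with finite support is principal -/
theorem exists_ord_eq_of_finite_support (H2 : PrimeCyclesPrincipal X) (D : X → ℤ)
    (hD : ∀ x : X, Order.coheight x ≠ 1 → D x = 0) (hfin : (Function.support D).Finite) :
    ∃ f : X.functionField, f ≠ 0 ∧ ∀ x : X, Order.coheight x = 1 → Scheme.ord f x = D x := by
  classical
  have H2' : ∀ ζ : X, ∃ φ : KUnits X, Order.coheight ζ = 1 →
      (Scheme.ord (φ : X.functionField) ζ = 1 ∧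
        ∀ x : X, x ≠ ζ → Order.coheight x = 1 → Scheme.ord (φ : X.functionField) x = 0) := by
    intro ζ
    by_cases hζ : Order.coheight ζ = 1
    · obtain ⟨f, hf, h1, h0⟩ := H2 ζ hζ
      exact ⟨Units.mk0 f hf, fun _ => ⟨h1, h0⟩⟩
    · exact ⟨1, fun h => absurd h hζ⟩
  choose φ hφ using H2'
  refine ⟨((∏ ζ ∈ hfin.toFinset, φ ζ ^ D ζ : KUnits X) : X.functionField), Units.ne_zero _, fun x hx => ?_⟩
  rw [ord_prod_zpow]
  have hterm : ∀ ζ ∈ hfin.toFinset, ζ ≠ x → D ζ * Scheme.ord (φ ζ : X.functionField) x = 0 := by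
    intro ζ hζS hne
    have hζ : Order.coheight ζ = 1 := by
      by_contra h
      exact (hfin.mem_toFinset.1 hζS) (hD ζ h)
    rw [(hφ ζ hζ).2 x (Ne.symm hne) hx, mul_zero]
  rw [Finset.sum_eq_single x hterm]
  · rw [(hφ x hx).1, mul_one]
  · intro hxS
    have : D x = 0 := by
      by_contra h
      exact hxS (hfin.mem_toFinset.2 h)
    rw [this, zero_mul]

/-- **(2) ⇒ (3), second half**: on a Noetherian normal integral scheme all of whose prime cycles of codimension one
are principal, every invertible module is trivial -/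
theorem nonempty_iso_structureModule_of_primeCyclesPrincipal [CompactSpace X] (hX : Pi1.IsNormalScheme X)
    (H2 : PrimeCyclesPrincipal X) (L : X.Modules) (hL : PicF.IsInvertible L) :
    Nonempty (L ≅ Coh.structureModule X) := by
  obtain ⟨W, γ, hηW, hγ⟩ := exists_isGen L hL (genericPoint X)
  have hfg := Groth.Agent.S16090.freeGen_gm_of_isGen hγ (genericPoint X) hηW
  set s : Cyc.secFibre L (genericPoint X) := Submodule.Quotient.mk (gm L W (genericPoint X) hηW γ) with hs
  have hs0 : s ≠ 0 := by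
    intro h0
    have h1 : (1 : X.presheaf.stalk (genericPoint X)) • (Submodule.Quotient.mk (gm L W (genericPoint X) hηW γ) :
        Cyc.secFibre L (genericPoint X)) = (0 : X.presheaf.stalk (genericPoint X)) •
          (Submodule.Quotient.mk (gm L W (genericPoint X) hηW γ) : Cyc.secFibre L (genericPoint X)) := by
      rw [one_smul, zero_smul]
      exact h0
    have h2 := residue_eq_of_smul_mk_eq L hfg _ _ h1
    rw [map_one, map_zero] at h2
    exact one_ne_zero h2
  obtain ⟨D, hD1, hD2⟩ := exists_cycle_of_section L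
    (Groth.Agent.Lib.Helper1.RefK0.isRef1_of_isInvertible L hL) s hs0
  have hfin : (Function.support (D : X → ℤ)).Finite := by
    have := (Function.locallyFinsupp.locallyFiniteSupport D).finite_inter_support_of_isCompact
      (isCompact_univ (X := X))
    rwa [Set.univ_inter] at this
  obtain ⟨f, hf, hford⟩ := exists_ord_eq_of_finite_support H2 (D : X → ℤ) hD1 hfin
  refine nonempty_iso_structureModule_of_secDiv_eq hX L hL s hs0 f hf fun x hx => ?_
  rw [hford x hx, hD2 x hx]

end principal

section opens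

variable [IsIntegral X] [IsLocallyNoetherian X]

/-- **(3) ⇒ (4)** -/
theorem picTrivial_opens_of_ufm (hufm : ∀ x : X, UniqueFactorizationMonoid (X.presheaf.stalk x))
    (hpic : ∀ L : X.Modules, PicF.IsInvertible L → Nonempty (L ≅ Coh.structureModule X))
    (U : X.Opens) (L : (U : Scheme.{u}).Modules) (hL : PicF.IsInvertible L) :
    Nonempty (L ≅ Coh.structureModule (U : Scheme.{u})) := by
  obtain ⟨L', hL', ⟨e⟩⟩ := Groth.Agent.Lib.Helper1.UfdExt.main X U L hL (fun x _ => hufm x)
  obtain ⟨e'⟩ := hpic L' hL'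
  exact ⟨e.symm ≪≫ (Scheme.Modules.restrictFunctor U.ι).mapIso e' ≪≫ Scheme.Modules.restrictUnitIso U.ι⟩

/-- **(4) ⇒ (2)** -/
theorem primeCyclesPrincipal_of_picTrivial_opens (hX : Pi1.IsNormalScheme X)
    (H4 : ∀ (U : X.Opens) (L : (U : Scheme.{u}).Modules),
      PicF.IsInvertible L → Nonempty (L ≅ Coh.structureModule (U : Scheme.{u}))) :
    PrimeCyclesPrincipal X := by
  classical
  intro x₀ hx₀
  let Z : X → ℤ := fun y => if y = x₀ then 1 else 0
  have hZ0 : ∀ y : X, y ≠ x₀ → Z y = 0 := fun y hy => if_neg hy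
  obtain ⟨F, hF, s, hs, hord⟩ := exists_ref1_of_divisor hX Z
    (fun z => ⟨Set.univ, Filter.univ_mem, (Set.finite_singleton x₀).subset (by
      rintro w ⟨-, hw⟩
      by_contra hne
      exact hw (hZ0 w hne))⟩)
    (fun y hy => hZ0 y (fun h => hy (h ▸ hx₀)))
  let U : X.Opens := sSup {V : X.Opens | ∃ g : Γ(F, V), IsGen F V g}
  have hUinv : PicF.IsInvertible (F.restrict U.ι) := by
    refine isInvertible_of_isGen _ fun y => ?_
    obtain ⟨V, ⟨g, hg⟩, hyV⟩ := Opens.mem_sSup.1 y.2
    have hle : U.ι ''ᵁ (U.ι ⁻¹ᵁ V) ≤ V := Groth.Agent.Lib.Helper29.FreeIso.image_preimage_le U V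
    exact ⟨U.ι ⁻¹ᵁ V, (show Γ(F.restrict U.ι, U.ι ⁻¹ᵁ V) from res F hle g), hyV,
      isGen_restrict_of_isGen F U _ (hg.res hle)⟩
  obtain ⟨e⟩ := H4 U _ hUinv
  obtain ⟨γ, hγ⟩ := exists_isGen_of_iso F U e
  have hmem : ∀ x : X, Order.coheight x ≤ 1 → x ∈ U.ι ''ᵁ ⊤ := by
    intro x hx
    obtain ⟨V, g, hxV, hg⟩ := exists_isGen_of_isRef1 hX F hF x (not_two_le_of_coheight_le_one x hx)
    have hxU : x ∈ U := Opens.mem_sSup.2 ⟨V, ⟨g, hg⟩, hxV⟩
    exact ⟨⟨x, hxU⟩, trivial, rfl⟩
  have hη : genericPoint X ∈ U.ι ''ᵁ ⊤ := hmem _ (by rw [coheight_genericPoint]; exact zero_le_one)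
  obtain ⟨a, ha⟩ := exists_smul_mk F (Groth.Agent.S16090.freeGen_gm_of_isGen hγ (genericPoint X) hη) s
  have ha0 : (a : X.functionField) ≠ 0 := by
    rintro rfl
    exact hs (by rw [ha, zero_smul])
  have hordU : ∀ y : X, Order.coheight y = 1 → Scheme.ord (a : X.functionField) y = Z y := by
    intro y hy
    have h1 := secOrdAt_smul_mk_gm F hγ y (hmem y hy.le) hy (genericPoint_specializes y) hη a ha0
    rw [← ha] at h1
    rw [← h1]
    exact (hord y hy).symm
  refine ⟨a, ha0, ?_, fun x hne hx => ?_⟩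
  · rw [hordU x₀ hx₀]; exact if_pos rfl
  · rw [hordU x hx]; exact hZ0 x hne

end opens

end Groth.Agent.Lib.Helper1.PicClUfd
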