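import Groth.Agent.Lib.Helper1.OverMapExact
import Groth.Agent.Lib.Helper1.LazardB

/-!
# Restricting a finite presentation of `F|_W` along `q : V ⟶ W`
-/

set_option autoImplicit false
universe u
open CategoryTheory CategoryTheory.Limits Opposite

namespace Groth.Agent.Lib.Helper1.PresRestrict

open Groth.Agent.Lib.Helper1.OverMapExact Groth.Agent.Lib.Helper1.FinFreeSections
  Groth.Agent.Lib.Helper1.LazardB

variable {C : Type u} [SmallCategory C] {J : GrothendieckTopology C}
  (O : Sheaf J CommRingCat.{u}) {V W : C} (q : V ⟶ W)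

lemma ΓfreeEquiv_sum_bas {C' : Type u} [SmallCategory C'] {J' : GrothendieckTopology C'}
    {R : Sheaf J' RingCat.{u}} {X : C'} {I : Type u} [Fintype I] [DecidableEq I]
    (c : I → R.obj.obj (op X)) (i₀ : I) :
    (ΓfreeEquiv (R := R) (X := X) I (∑ i, c i • bas (R := R) (X := X) I i)) i₀ = c i₀ := by
  rw [map_sum, Finsupp.finsetSum_apply, Finset.sum_eq_single i₀]
  · rw [map_smul]
    have h : ΓfreeEquiv (R := R) (X := X) I (bas (R := R) (X := X) I i₀) = Finsupp.single i₀ 1 :=
      coord_bas (R := R) (X := X) I i₀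
    rw [h, Finsupp.smul_apply, Finsupp.single_eq_same, smul_eq_mul, mul_one]
  · intro j _ hj
    rw [map_smul]
    have h : ΓfreeEquiv (R := R) (X := X) I (bas (R := R) (X := X) I j) = Finsupp.single j 1 :=
      coord_bas (R := R) (X := X) I j
    rw [h, Finsupp.smul_apply, Finsupp.single_apply, if_neg hj, smul_zero]
  · intro h
    exact absurd (Finset.mem_univ i₀) h

/-- the final object of `C/V` -/
abbrev top (V : C) : Over V := Over.mk (𝟙 V)

noncomputable def topIsTerminal (V : C) : IsTerminal (top V) := Over.mkIdTerminal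

/-- the image of the final object of `C/V` in `C/W` -/
abbrev Q : Over W := (Over.map q).obj (top V)

/-- the map to the final object of `C/W` -/
abbrev toTop : Q q ⟶ top W := Over.homMk (Q q).hom

/-- `free I ≅ Φ (free I)` for finite `I` -/
noncomputable def ε (I : Type u) [Fintype I] :
    SheafOfModules.free (R := ModSite.ringSh (O.over V)) I ≅
      (om O q).obj (SheafOfModules.free (R := ModSite.ringSh (O.over W)) I) :=
  haveI : PreservesColimitsOfShape (Discrete I) (om O q) := inferInstance
  SheafOfModules.mapFreeIso (om O q) I (Iso.refl _)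

/-- sections of `M` over `W` restrict to sections of `Φ M` over `V` -/
noncomputable def pullSec (M : ModSite.Mod (O.over W)) (x : M.val.obj (op (top W))) :
    ((om O q).obj M).val.obj (op (top V)) :=
  M.val.map (toTop q).op x

lemma pullSec_nat {M N : ModSite.Mod (O.over W)} (f : M ⟶ N) (x : M.val.obj (op (top W))) :
    ((om O q).map f).val.app (op (top V)) (pullSec O q M x) =
      pullSec O q N (f.val.app (op (top W)) x) :=
  PresheafOfModules.naturality_apply f.val (toTop q).op x

lemma pullSec_bas (I : Type u) [Fintype I] (i : I) :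
    pullSec O q (SheafOfModules.free I)
        (bas (R := ModSite.ringSh (O.over W)) (X := top W) I i) =
      (ε O q I).hom.val.app (op (top V))
        (bas (R := ModSite.ringSh (O.over V)) (X := top V) I i) := by
  haveI : PreservesColimitsOfShape (Discrete I) (om O q) := inferInstance
  have h1 : SheafOfModules.ιFree i ≫ (ε O q I).hom =
      (om O q).map (SheafOfModules.ιFree (R := ModSite.ringSh (O.over W)) i) := by
    have := SheafOfModules.ιFree_mapFreeIso_hom (om O q) I (Iso.refl _) i
    rw [Iso.refl_hom] at this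
    exact this.trans (Category.id_comp
      ((om O q).map (SheafOfModules.ιFree (R := ModSite.ringSh (O.over W)) i)))
  have h2 := congrArg (fun φ => φ.val.app (op (top V))
    (1 : (ModSite.ringSh (O.over V)).obj.obj (op (top V)))) h1
  refine Eq.trans ?_ h2.symm
  have h3 := PresheafOfModules.naturality_apply
    (SheafOfModules.ιFree (R := ModSite.ringSh (O.over W)) i).val (toTop q).op
    (1 : (ModSite.ringSh (O.over W)).obj.obj (op (top W)))
  refine h3.symm.trans ?_
  show (SheafOfModules.ιFree (R := ModSite.ringSh (O.over W)) i).val.app (op (Q q)) _ =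
    (SheafOfModules.ιFree (R := ModSite.ringSh (O.over W)) i).val.app (op (Q q)) _
  congr 1
  exact map_one ((ModSite.ringSh (O.over W)).obj.map (toTop q).op).hom

lemma pullSec_smul (M : ModSite.Mod (O.over W))
    (c : (ModSite.ringSh (O.over W)).obj.obj (op (top W))) (x : M.val.obj (op (top W))) :
    pullSec O q M (c • x) =
      (show (ModSite.ringSh (O.over V)).obj.obj (op (top V)) from
        (ModSite.ringSh (O.over W)).obj.map (toTop q).op c) • pullSec O q M x :=
  PresheafOfModules.map_smul M.val (toTop q).op c x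

lemma pullSec_sum (M : ModSite.Mod (O.over W)) {κ : Type*} (σ : Finset κ)
    (x : κ → M.val.obj (op (top W))) :
    pullSec O q M (∑ k ∈ σ, x k) = ∑ k ∈ σ, pullSec O q M (x k) :=
  map_sum (M.val.map (toTop q).op).hom x σ

/-- `(F|_W)|_V ≅ F|_V` -/
noncomputable def θ (F : ModSite.Mod O) :
    (om O q).obj ((ModSite.restr O W).obj F) ≅ (ModSite.restr O V).obj F :=
  (SheafOfModules.overFunctorMap (ModSite.ringSh O) q).app F

lemma θ_nat {F H : ModSite.Mod O} (φ : F ⟶ H) :
    (om O q).map ((ModSite.restr O W).map φ) ≫ (θ O q H).hom =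
      (θ O q F).hom ≫ (ModSite.restr O V).map φ :=
  (SheafOfModules.overFunctorMap (ModSite.ringSh O) q).hom.naturality φ

section Pres

variable {F : ModSite.Mod O} {G Rl : Type u} [Fintype G] [Fintype Rl]
  (ρ : SheafOfModules.free (R := ModSite.ringSh (O.over W)) Rl ⟶
    SheafOfModules.free (R := ModSite.ringSh (O.over W)) G)
  (π : SheafOfModules.free (R := ModSite.ringSh (O.over W)) G ⟶ (ModSite.restr O W).obj F)

/-- the restricted relations -/
noncomputable def ρ' : SheafOfModules.free (R := ModSite.ringSh (O.over V)) Rl ⟶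
    SheafOfModules.free (R := ModSite.ringSh (O.over V)) G :=
  (ε O q Rl).hom ≫ (om O q).map ρ ≫ (ε O q G).inv

/-- the restricted generators -/
noncomputable def π' : SheafOfModules.free (R := ModSite.ringSh (O.over V)) G ⟶
    (ModSite.restr O V).obj F :=
  (ε O q G).hom ≫ (om O q).map π ≫ (θ O q F).hom

variable {ρ π}

lemma w' (w : ρ ≫ π = 0) : ρ' O q ρ ≫ π' O q π = 0 := by
  unfold ρ' π'
  simp only [Category.assoc, Iso.inv_hom_id_assoc]
  rw [← Functor.map_comp_assoc, w, Functor.map_zero, zero_comp, comp_zero]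

/-- the restricted presentation is a presentation -/
noncomputable def hc' (w : ρ ≫ π = 0) (hc : IsColimit (CokernelCofork.ofπ π w)) :
    IsColimit (CokernelCofork.ofπ (π' O q π) (w' O q w)) := by
  haveI : Epi π := epi_of_isColimit_cofork hc
  haveI : Epi ((om O q).map π) := inferInstance
  haveI : Epi (π' O q π) := by unfold π'; infer_instance
  have hΦ : IsColimit ((CokernelCofork.ofπ π w).map (om O q)) :=
    CokernelCofork.mapIsColimit _ hc (om O q)
  refine CokernelCofork.IsColimit.ofπ' _ _ (fun {A} k hk => ?_)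
  have hk' : (om O q).map ρ ≫ ((ε O q G).inv ≫ k) = 0 := by
    have : (ε O q Rl).hom ≫ ((om O q).map ρ ≫ (ε O q G).inv ≫ k) = 0 := by
      simpa [ρ'] using hk
    rw [← cancel_epi (ε O q Rl).hom, this, comp_zero]
  let l₀ := hΦ.desc (CokernelCofork.ofπ ((ε O q G).inv ≫ k) hk')
  have hl₀ : (om O q).map π ≫ l₀ = (ε O q G).inv ≫ k :=
    hΦ.fac (CokernelCofork.ofπ ((ε O q G).inv ≫ k) hk') WalkingParallelPair.one
  refine ⟨(θ O q F).inv ≫ l₀, ?_⟩
  unfold π'
  simp only [Category.assoc, Iso.hom_inv_id_assoc]
  rw [hl₀, Iso.hom_inv_id_assoc]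

lemma θ_pullSec (x : ((ModSite.restr O W).obj F).val.obj (op (top W))) :
    (θ O q F).hom.val.app (op (top V)) (pullSec O q ((ModSite.restr O W).obj F) x) =
      F.val.map (Q q).hom.op x := rfl

lemma π'_bas (γ : G) :
    (π' O q π).val.app (op (top V)) (bas (R := ModSite.ringSh (O.over V)) (X := top V) G γ) =
      F.val.map (Q q).hom.op
        (π.val.app (op (top W)) (bas (R := ModSite.ringSh (O.over W)) (X := top W) G γ)) := by
  unfold π'
  show (θ O q F).hom.val.app (op (top V)) (((om O q).map π).val.app (op (top V))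
    ((ε O q G).hom.val.app (op (top V)) (bas (R := ModSite.ringSh (O.over V)) (X := top V) G γ))) = _
  rw [← pullSec_bas, pullSec_nat, θ_pullSec]

lemma ρ'_bas (r : Rl) :
    (ρ' O q ρ).val.app (op (top V)) (bas (R := ModSite.ringSh (O.over V)) (X := top V) Rl r) =
      ∑ γ, (show (ModSite.ringSh (O.over V)).obj.obj (op (top V)) from
        (ModSite.ringSh (O.over W)).obj.map (toTop q).op
          ((ΓfreeEquiv (R := ModSite.ringSh (O.over W)) (X := top W) G
            (ρ.val.app (op (top W)) (bas (R := ModSite.ringSh (O.over W)) (X := top W) Rl r))) γ)) •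
        bas (R := ModSite.ringSh (O.over V)) (X := top V) G γ := by
  unfold ρ'
  show (ε O q G).inv.val.app (op (top V)) (((om O q).map ρ).val.app (op (top V))
    ((ε O q Rl).hom.val.app (op (top V))
      (bas (R := ModSite.ringSh (O.over V)) (X := top V) Rl r))) = _
  rw [← pullSec_bas, pullSec_nat]
  have hy := eq_sum_bas (R := ModSite.ringSh (O.over W)) (X := top W)
    (ρ.val.app (op (top W)) (bas (R := ModSite.ringSh (O.over W)) (X := top W) Rl r))
  have e1 : pullSec O q (SheafOfModules.free G)
      (ρ.val.app (op (top W)) (bas (R := ModSite.ringSh (O.over W)) (X := top W) Rl r)) =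
      ∑ γ, (show (ModSite.ringSh (O.over V)).obj.obj (op (top V)) from
        (ModSite.ringSh (O.over W)).obj.map (toTop q).op
          ((ΓfreeEquiv (R := ModSite.ringSh (O.over W)) (X := top W) G
            (ρ.val.app (op (top W)) (bas (R := ModSite.ringSh (O.over W)) (X := top W) Rl r))) γ)) •
        (ε O q G).hom.val.app (op (top V))
          (bas (R := ModSite.ringSh (O.over V)) (X := top V) G γ) := by
    refine (congrArg (pullSec O q (SheafOfModules.free G)) hy).trans ?_
    refine (pullSec_sum O q _ _ _).trans ?_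
    refine Finset.sum_congr rfl (fun γ _ => ?_)
    refine (pullSec_smul O q _ _ _).trans ?_
    rw [pullSec_bas]
  refine (congrArg ((ε O q G).inv.val.app (op (top V))) e1).trans ?_
  rw [map_sum]
  refine Finset.sum_congr rfl (fun γ _ => ?_)
  rw [map_smul]
  congr 1
  have h1 : (ε O q G).hom ≫ (ε O q G).inv = 𝟙 _ := Iso.hom_inv_id _
  exact congrArg (fun φ => φ.val.app (op (top V))
    (bas (R := ModSite.ringSh (O.over V)) (X := top V) G γ)) h1

lemma ρ'_coord [DecidableEq G] (r : Rl) (γ₀ : G) :
    (ΓfreeEquiv (R := ModSite.ringSh (O.over V)) (X := top V) G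
      ((ρ' O q ρ).val.app (op (top V)) (bas (R := ModSite.ringSh (O.over V)) (X := top V) Rl r))) γ₀ =
      (ModSite.ringSh (O.over W)).obj.map (toTop q).op
          ((ΓfreeEquiv (R := ModSite.ringSh (O.over W)) (X := top W) G
            (ρ.val.app (op (top W)) (bas (R := ModSite.ringSh (O.over W)) (X := top W) Rl r))) γ₀) := by
  have h := ρ'_bas O q (ρ := ρ) r
  refine (congrArg (fun y => (ΓfreeEquiv (R := ModSite.ringSh (O.over V)) (X := top V) G y) γ₀) h).trans ?_
  exact ΓfreeEquiv_sum_bas _ γ₀

end Pres

end Groth.Agent.Lib.Helper1.PresRestrict
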