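import Mathlib
import Groth.Agent.Lib.Helper7.AffineDimFormula
import Groth.Prelude.Def_CohB1

/-!
# Heights of (homogeneous) primes in polynomial rings over a field (helper1)
-/

set_option autoImplicit false

namespace Groth.Agent.Lib.Helper1.ProjDimAlg

open MvPolynomial

section Graded
variable {A σ : Type*} [CommRing A] [SetLike σ A] [AddSubmonoidClass σ A] (𝒜 : ℕ → σ) [GradedRing 𝒜]

theorem isHomogeneous_of_mem_minimalPrimes {I p : Ideal A} (hI : I.IsHomogeneous 𝒜)
    (hp : p ∈ I.minimalPrimes) : p.IsHomogeneous 𝒜 := by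
  have hp' := hp.1.1
  have hcore : (p.homogeneousCore 𝒜).toIdeal.IsPrime := Ideal.IsPrime.homogeneousCore hp'
  have hle : I ≤ (p.homogeneousCore 𝒜).toIdeal := by
    have h1 := Ideal.homogeneousCore_mono 𝒜 hp.1.2
    rw [← hI.toIdeal_homogeneousCore_eq_self]
    exact toIdeal_le_toIdeal_iff.mpr h1
  have h2 := hp.2 ⟨hcore, hle⟩ (Ideal.toIdeal_homogeneousCore_le 𝒜 p)
  have heq : (p.homogeneousCore 𝒜).toIdeal = p :=
    le_antisymm (Ideal.toIdeal_homogeneousCore_le 𝒜 p) h2
  rw [← heq]; exact (p.homogeneousCore 𝒜).isHomogeneous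

end Graded

section Cancel

theorem withBot_cancel {a b : ℕ∞} {D : WithBot ℕ∞} {m : ℕ}
    (h1 : (a : WithBot ℕ∞) + D = m) (h2 : (b : WithBot ℕ∞) + D = m) : a = b := by
  induction D using WithBot.recBotCoe with
  | bot => simp at h1
  | coe D =>
    have h1' : a + D = m := by exact_mod_cast h1
    have h2' : b + D = m := by exact_mod_cast h2
    have hD : D ≠ ⊤ := by
      rintro rfl
      simp at h1'
    exact ENat.add_left_injective_of_ne_top hD (h1'.trans h2'.symm)

end Cancel

variable {k : Type*} [Field k] {m : ℕ}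

/-- catenary formula in a polynomial ring over a field. -/
theorem height_eq_add {p q : Ideal (MvPolynomial (Fin m) k)} [hp : p.IsPrime] [hq : q.IsPrime]
    (hpq : p ≤ q) : q.height = p.height + (q.map (Ideal.Quotient.mk p)).height := by
  have : (q.map (Ideal.Quotient.mk p)).IsPrime := Ideal.isPrime_map_quotientMk_of_isPrime hpq
  have h1 := Groth.Agent.Lib.Helper7.AffDim.mvPolynomial_height_add k m p
  have h2 := Groth.Agent.Lib.Helper7.AffDim.mvPolynomial_height_add k m q
  have h3 := Groth.Agent.Lib.Helper7.AffDim.height_add_dim_quotient (k := k)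
    (MvPolynomial (Fin m) k ⧸ p) (q.map (Ideal.Quotient.mk p))
  have h4 : ringKrullDim ((MvPolynomial (Fin m) k ⧸ p) ⧸ q.map (Ideal.Quotient.mk p)) =
      ringKrullDim (MvPolynomial (Fin m) k ⧸ q) :=
    ringKrullDim_eq_of_ringEquiv (DoubleQuot.quotQuotEquivQuotOfLE hpq)
  rw [h4] at h3
  rw [← h3, ← add_assoc] at h1
  have h1' : ((p.height + (q.map (Ideal.Quotient.mk p)).height : ℕ∞) : WithBot ℕ∞) +
      ringKrullDim (MvPolynomial (Fin m) k ⧸ q) = m := by
    push_cast; exact h1
  exact withBot_cancel h2 h1'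


/-- minimal primes over `p ⊔ span s` give minimal primes over the image of `s` in the quotient. -/
theorem map_mem_minimalPrimes {R : Type*} [CommRing R] {I q : Ideal R} {s : Set R}
    (hq : q ∈ (I ⊔ Ideal.span s).minimalPrimes) :
    q.map (Ideal.Quotient.mk I) ∈ (Ideal.span ((Ideal.Quotient.mk I) '' s)).minimalPrimes := by
  let f := Ideal.Quotient.mk I
  have hqp : q.IsPrime := hq.1.1
  have hfq : RingHom.ker f ≤ q := I.mk_ker.trans_le (le_sup_left.trans hq.1.2)
  refine ⟨⟨Ideal.map_isPrime_of_surjective Ideal.Quotient.mk_surjective hfq, ?_⟩, ?_⟩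
  · rw [← Ideal.map_span]
    exact Ideal.map_mono (le_sup_right.trans hq.1.2)
  · rintro J ⟨hJ, hle⟩ hJq
    have h1 : I ⊔ Ideal.span s ≤ J.comap f := by
      refine sup_le ?_ ?_
      · exact I.mk_ker.symm.trans_le (Ideal.ker_le_comap f)
      · rw [← Ideal.map_le_iff_le_comap, Ideal.map_span]; exact hle
    have h2 : J.comap f ≤ q := by
      have := Ideal.comap_mono (f := f) hJq
      rwa [Ideal.comap_map_of_surjective f Ideal.Quotient.mk_surjective, ← RingHom.ker_eq_comap_bot,
        sup_eq_left.mpr hfq] at this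
    have h3 := hq.2 ⟨hJ.comap f, h1⟩ h2
    exact Ideal.map_le_iff_le_comap.mpr h3

/-- relative Krull height theorem in a polynomial ring over a field. -/
theorem height_le_add_card {p q : Ideal (MvPolynomial (Fin m) k)} [hp : p.IsPrime]
    (s : Finset (MvPolynomial (Fin m) k))
    (hq : q ∈ (p ⊔ Ideal.span (s : Set (MvPolynomial (Fin m) k))).minimalPrimes) :
    q.height ≤ p.height + s.card := by
  classical
  have hqp : q.IsPrime := hq.1.1
  have hpq : p ≤ q := le_sup_left.trans hq.1.2
  rw [height_eq_add hpq]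
  gcongr
  have h1 := map_mem_minimalPrimes hq
  have h2 : ((Ideal.Quotient.mk p) '' (s : Set (MvPolynomial (Fin m) k))) =
      ((s.image (Ideal.Quotient.mk p) : Finset _) : Set _) := by simp
  rw [h2] at h1
  refine (Ideal.height_le_card_of_mem_minimalPrimes_span_finset h1).trans ?_
  exact_mod_cast Finset.card_image_le

theorem height_le_add_one {p q : Ideal (MvPolynomial (Fin m) k)} [hp : p.IsPrime]
    (f : MvPolynomial (Fin m) k)
    (hq : q ∈ (p ⊔ Ideal.span {f}).minimalPrimes) :
    q.height ≤ p.height + 1 := by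
  have := height_le_add_card (p := p) (q := q) {f} (by simpa using hq)
  simpa using this


section Irrelevant

variable (n : ℕ) (k)

theorem mem_irrelevant_iff_coeff (a : MvPolynomial (Fin (n + 1)) k) :
    a ∈ (HomogeneousIdeal.irrelevant (CohB1.polyGrading n k)) ↔ coeff 0 a = 0 := by
  rw [HomogeneousIdeal.mem_irrelevant_iff, GradedRing.proj_apply]
  have : ((DirectSum.decompose (CohB1.polyGrading n k) a) 0 : MvPolynomial (Fin (n + 1)) k) =
      homogeneousComponent 0 a := decomposition.decompose'_apply a 0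
  rw [this, homogeneousComponent_zero]
  simp

theorem irrelevant_eq_ker :
    (HomogeneousIdeal.irrelevant (CohB1.polyGrading n k)).toIdeal =
      RingHom.ker (constantCoeff : MvPolynomial (Fin (n + 1)) k →+* k) := by
  ext a
  rw [HomogeneousIdeal.mem_iff, mem_irrelevant_iff_coeff, RingHom.mem_ker]
  rfl

theorem irrelevant_isMaximal :
    (HomogeneousIdeal.irrelevant (CohB1.polyGrading n k)).toIdeal.IsMaximal := by
  rw [irrelevant_eq_ker]
  exact RingHom.ker_isMaximal_of_surjective _ (fun c => ⟨C c, constantCoeff_C _ c⟩)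

theorem height_irrelevant :
    (HomogeneousIdeal.irrelevant (CohB1.polyGrading n k)).toIdeal.height = (n + 1 : ℕ) := by
  haveI := irrelevant_isMaximal k n
  have h := Groth.Agent.Lib.Helper7.AffDim.mvPolynomial_height_add k (n + 1)
    (HomogeneousIdeal.irrelevant (CohB1.polyGrading n k)).toIdeal
  letI := Ideal.Quotient.field (HomogeneousIdeal.irrelevant (CohB1.polyGrading n k)).toIdeal
  rw [ringKrullDim_eq_zero_of_field, add_zero] at h
  exact_mod_cast h

variable {k n}

theorem le_irrelevant {I : Ideal (MvPolynomial (Fin (n + 1)) k)}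
    (hI : I.IsHomogeneous (CohB1.polyGrading n k)) (hne : I ≠ ⊤) :
    I ≤ (HomogeneousIdeal.irrelevant (CohB1.polyGrading n k)).toIdeal := by
  intro x hx
  rw [HomogeneousIdeal.mem_iff, mem_irrelevant_iff_coeff]
  by_contra h
  have h0 := homogeneousComponent_mem_of_mem hI hx 0
  rw [homogeneousComponent_zero] at h0
  apply hne
  exact Ideal.eq_top_of_isUnit_mem _ h0 ((isUnit_iff_ne_zero.mpr h).map C)

end Irrelevant

end Groth.Agent.Lib.Helper1.ProjDimAlg
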