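import Mathlib
import Groth.Agent.Lib.Helper1.ProjDimAlg

/-!
# The affine dimension theorem (intersection inequality) in polynomial rings over a field (helper1)

`height_le_add_of_mem_minimalPrimes_sup`: for primes `p`, `q` of `k[x₁,…,x_m]` and a minimal prime
`r` over `p + q`, `ht r ≤ ht p + ht q`. Proof by reduction to the diagonal.
-/

set_option autoImplicit false

namespace Groth.Agent.Lib.Helper1.ProjDimADT

open MvPolynomial Groth.Agent.Lib.Helper1.ProjDimAlg

variable {k : Type*} [Field k]

section AffDomain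

variable (D : Type*) [CommRing D] [IsDomain D] [Algebra k D] [Algebra.FiniteType k D]

include k in
theorem exists_dim : ∃ N : ℕ, ringKrullDim D = N := by
  obtain ⟨n, f, hf⟩ := Algebra.FiniteType.iff_quotient_mvPolynomial''.mp
    (inferInstance : Algebra.FiniteType k D)
  have h1 : ringKrullDim D ≤ n := by
    refine (ringKrullDim_le_of_surjective f.toRingHom hf).trans ?_
    rw [MvPolynomial.ringKrullDim_of_isNoetherianRing, ringKrullDim_eq_zero_of_field]
    simp
  have h0 : (0 : WithBot ℕ∞) ≤ ringKrullDim D := ringKrullDim_nonneg_of_nontrivial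
  generalize ringKrullDim D = x at h0 h1
  induction x using WithBot.recBotCoe with
  | bot => simp at h0
  | coe x =>
    have hx : x ≤ (n : ℕ∞) := by exact_mod_cast h1
    obtain ⟨N, rfl⟩ := ENat.ne_top_iff_exists.mp (ne_top_of_le_ne_top (ENat.natCast_ne_top n) hx)
    exact ⟨N, rfl⟩

variable {D}

include k in
/-- catenary formula in a finitely generated domain over a field. -/
theorem height_eq_add' {p q : Ideal D} [hp : p.IsPrime] [hq : q.IsPrime]
    (hpq : p ≤ q) : q.height = p.height + (q.map (Ideal.Quotient.mk p)).height := by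
  have : (q.map (Ideal.Quotient.mk p)).IsPrime := Ideal.isPrime_map_quotientMk_of_isPrime hpq
  obtain ⟨N, hN⟩ := exists_dim (k := k) D
  have h1 := Groth.Agent.Lib.Helper7.AffDim.height_add_dim_quotient (k := k) D p
  have h2 := Groth.Agent.Lib.Helper7.AffDim.height_add_dim_quotient (k := k) D q
  have h3 := Groth.Agent.Lib.Helper7.AffDim.height_add_dim_quotient (k := k)
    (D ⧸ p) (q.map (Ideal.Quotient.mk p))
  have h4 : ringKrullDim ((D ⧸ p) ⧸ q.map (Ideal.Quotient.mk p)) = ringKrullDim (D ⧸ q) :=
    ringKrullDim_eq_of_ringEquiv (DoubleQuot.quotQuotEquivQuotOfLE hpq)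
  rw [h4] at h3
  rw [← h3, ← add_assoc, hN] at h1
  rw [hN] at h2
  have h1' : ((p.height + (q.map (Ideal.Quotient.mk p)).height : ℕ∞) : WithBot ℕ∞) +
      ringKrullDim (D ⧸ q) = N := by
    push_cast; exact h1
  exact withBot_cancel h2 h1'

include k in
/-- relative Krull height theorem in a finitely generated domain over a field. -/
theorem height_le_add_card' {p q : Ideal D} [hp : p.IsPrime] (s : Finset D)
    (hq : q ∈ (p ⊔ Ideal.span (s : Set D)).minimalPrimes) :
    q.height ≤ p.height + s.card := by
  classical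
  haveI : IsNoetherianRing D := Algebra.FiniteType.isNoetherianRing k D
  have hqp : q.IsPrime := hq.1.1
  have hpq : p ≤ q := le_sup_left.trans hq.1.2
  rw [height_eq_add' (k := k) hpq]
  gcongr
  have h1 := map_mem_minimalPrimes hq
  have h2 : ((Ideal.Quotient.mk p) '' (s : Set D)) =
      ((s.image (Ideal.Quotient.mk p) : Finset _) : Set _) := by simp
  rw [h2] at h1
  refine (Ideal.height_le_card_of_mem_minimalPrimes_span_finset h1).trans ?_
  exact_mod_cast Finset.card_image_le

end AffDomain


section Diagonal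

theorem sub_C_aeval_mem {σ : Type*} {A : Type*} [CommRing A] (a : σ → A) (f : MvPolynomial σ A) :
    f - C (aeval a f) ∈ Ideal.span (Set.range fun i => (X i - C (a i) : MvPolynomial σ A)) := by
  induction f using MvPolynomial.induction_on with
  | C c => simp
  | add p q hp hq =>
    have : p + q - C (aeval a (p + q)) = (p - C (aeval a p)) + (q - C (aeval a q)) := by
      simp only [map_add]; ring
    rw [this]; exact Ideal.add_mem _ hp hq
  | mul_X p i hp =>
    have : p * X i - C (aeval a (p * X i)) =
        (p - C (aeval a p)) * X i + C (aeval a p) * (X i - C (a i)) := by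
      simp only [map_mul, aeval_X]; ring
    rw [this]
    exact Ideal.add_mem _ (Ideal.mul_mem_right _ _ hp)
      (Ideal.mul_mem_left _ _ (Ideal.subset_span ⟨i, rfl⟩))

theorem ker_aeval_eq_span {σ : Type*} {A : Type*} [CommRing A] (a : σ → A) :
    RingHom.ker (aeval a : MvPolynomial σ A →ₐ[A] A).toRingHom =
      Ideal.span (Set.range fun i => (X i - C (a i) : MvPolynomial σ A)) := by
  apply le_antisymm
  · intro f hf
    have h := sub_C_aeval_mem a f
    have hf' : aeval a f = 0 := hf
    rwa [hf', map_zero, sub_zero] at h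
  · rw [Ideal.span_le]
    rintro _ ⟨i, rfl⟩
    show aeval a (X i - C (a i)) = 0
    simp

attribute [local instance] MvPolynomial.algebraMvPolynomial

variable {m : ℕ} {A : Type*} [CommRing A] [IsDomain A] [Algebra k A] [Algebra.FiniteType k A]

omit [IsDomain A] [Algebra.FiniteType k A] in
theorem flat_mv : Module.Flat (MvPolynomial (Fin m) k) (MvPolynomial (Fin m) A) :=
  Module.Flat.isBaseChange k (MvPolynomial (Fin m) k) A (MvPolynomial (Fin m) A)
    (Algebra.IsPushout.out (R := k) (S := MvPolynomial (Fin m) k) (R' := A)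
      (S' := MvPolynomial (Fin m) A))

omit [IsDomain A] in
/-- a minimal prime over an extended prime `qB` (`B = A[y]` over `k[y]`) has height at most `ht q` -/
theorem height_le_of_mem_minimalPrimes_map_algebraMap
    (q : Ideal (MvPolynomial (Fin m) k)) [hq : q.IsPrime] {P : Ideal (MvPolynomial (Fin m) A)}
    (hP : P ∈ (q.map (algebraMap (MvPolynomial (Fin m) k) (MvPolynomial (Fin m) A))).minimalPrimes) :
    P.height ≤ q.height := by
  haveI := flat_mv (k := k) (m := m) (A := A)
  haveI : IsNoetherianRing A := Algebra.FiniteType.isNoetherianRing k A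
  haveI hPp : P.IsPrime := hP.1.1
  -- P lies over q
  have hle : q ≤ P.under (MvPolynomial (Fin m) k) := Ideal.le_comap_of_map_le hP.1.2
  obtain ⟨P', hP'le, hP'prime, hP'over⟩ :=
    Ideal.exists_ideal_le_liesOver_of_le (p := q) (q := P.under (MvPolynomial (Fin m) k)) P hle
  have hqP' : q.map (algebraMap (MvPolynomial (Fin m) k) (MvPolynomial (Fin m) A)) ≤ P' := by
    rw [Ideal.map_le_iff_le_comap]
    exact hP'over.over.le
  have hPP' : P = P' := le_antisymm (hP.2 ⟨hP'prime, hqP'⟩ hP'le) hP'le
  haveI : P.LiesOver q := hPP' ▸ hP'over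
  have h1 := Ideal.height_le_height_add_of_liesOver q P
  have h2 : (P.map (Ideal.Quotient.mk
      (q.map (algebraMap (MvPolynomial (Fin m) k) (MvPolynomial (Fin m) A))))).height = 0 := by
    have h3 : P ∈ (q.map (algebraMap (MvPolynomial (Fin m) k) (MvPolynomial (Fin m) A)) ⊔
        Ideal.span (∅ : Set (MvPolynomial (Fin m) A))).minimalPrimes := by
      simpa using hP
    have h4 := map_mem_minimalPrimes h3
    haveI := h4.1.1
    rw [Ideal.height_eq_zero_iff]
    have h5 : Ideal.span ((Ideal.Quotient.mk
        (q.map (algebraMap (MvPolynomial (Fin m) k) (MvPolynomial (Fin m) A)))) ''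
          (∅ : Set (MvPolynomial (Fin m) A))) = ⊥ := by
      rw [Set.image_empty]; exact Ideal.span_empty
    rw [h5] at h4
    exact h4
  rwa [h2, add_zero] at h1

/-- pulling back a prime of `k[x₁..x_m]` along `φ : k[x] → A` does not increase the height -/
theorem height_le_of_mem_minimalPrimes_map (φ : MvPolynomial (Fin m) k →ₐ[k] A)
    (q : Ideal (MvPolynomial (Fin m) k)) [hq : q.IsPrime] {r : Ideal A}
    (hr : r ∈ (q.map φ).minimalPrimes) : r.height ≤ q.height := by
  classical
  haveI : IsNoetherianRing A := Algebra.FiniteType.isNoetherianRing k A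
  haveI : Algebra.FiniteType k (MvPolynomial (Fin m) A) := inferInstance
  let a : Fin m → A := fun i => φ (X i)
  let μ : MvPolynomial (Fin m) A →+* A := (aeval a : MvPolynomial (Fin m) A →ₐ[A] A).toRingHom
  have hμ : Function.Surjective μ := fun x => ⟨C x, by simp [μ]⟩
  let ι : MvPolynomial (Fin m) k →+* MvPolynomial (Fin m) A := algebraMap _ _
  have hcomp : μ.comp ι = (φ : MvPolynomial (Fin m) k →+* A) := by
    apply MvPolynomial.ringHom_ext
    · intro c; simp [μ, ι]
    · intro i; simp [μ, ι, a]
  have hrp : r.IsPrime := hr.1.1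
  have hmap : (q.map ι).map μ = q.map φ := by rw [Ideal.map_map, hcomp]; rfl
  have hr' : r.comap μ ∈ (q.map ι ⊔ RingHom.ker μ).minimalPrimes := by
    have h1 := Ideal.comap_minimalPrimes_eq_of_surjective hμ ((q.map ι).map μ)
    rw [Ideal.comap_map_of_surjective μ hμ, ← RingHom.ker_eq_comap_bot] at h1
    rw [h1]
    exact ⟨r, by rwa [hmap], rfl⟩
  haveI hr'p : (r.comap μ).IsPrime := hr'.1.1
  obtain ⟨P0, hP0, hP0r⟩ := Ideal.exists_minimalPrimes_le (J := r.comap μ)
    (le_sup_left.trans hr'.1.2)
  haveI := hP0.1.1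
  let gens : Finset (MvPolynomial (Fin m) A) := Finset.univ.image (fun i => X i - C (a i))
  have hker : RingHom.ker μ = Ideal.span (gens : Set (MvPolynomial (Fin m) A)) := by
    show RingHom.ker (aeval a : MvPolynomial (Fin m) A →ₐ[A] A).toRingHom = _
    rw [ker_aeval_eq_span]
    congr 1
    simp [gens]
  have hr'' : r.comap μ ∈ (P0 ⊔ Ideal.span (gens : Set (MvPolynomial (Fin m) A))).minimalPrimes := by
    rw [← hker]
    refine ⟨⟨hr'p, sup_le hP0r (le_sup_right.trans hr'.1.2)⟩, ?_⟩
    rintro J ⟨hJ, hJle⟩ hJr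
    exact hr'.2 ⟨hJ, sup_le (hP0.1.2.trans (le_sup_left.trans hJle)) (le_sup_right.trans hJle)⟩ hJr
  have h1 := height_le_add_card' (k := k) gens hr''
  have h2 : (gens.card : ℕ∞) ≤ m := by
    exact_mod_cast (Finset.card_image_le.trans (by simp))
  have h3 := height_le_of_mem_minimalPrimes_map_algebraMap q hP0
  have h4 : (r.comap μ).height = r.height + m := by
    obtain ⟨N, hN⟩ := exists_dim (k := k) A
    have hB : ringKrullDim (MvPolynomial (Fin m) A) = ((N + m : ℕ) : WithBot ℕ∞) := by
      rw [MvPolynomial.ringKrullDim_of_isNoetherianRing, hN]; simp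
    have e1 := Groth.Agent.Lib.Helper7.AffDim.height_add_dim_quotient (k := k)
      (MvPolynomial (Fin m) A) (r.comap μ)
    have e2 := Groth.Agent.Lib.Helper7.AffDim.height_add_dim_quotient (k := k) A r
    have e3 : ringKrullDim (MvPolynomial (Fin m) A ⧸ r.comap μ) = ringKrullDim (A ⧸ r) :=
      ringKrullDim_eq_of_ringEquiv (RingEquiv.ofBijective (Ideal.quotientMap r μ le_rfl)
        ⟨Ideal.quotientMap_injective, Ideal.quotientMap_surjective hμ⟩)
    rw [e3, hB] at e1
    have e2' : ((r.height + m : ℕ∞) : WithBot ℕ∞) + ringKrullDim (A ⧸ r) = ((N + m : ℕ) : WithBot ℕ∞) := by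
      rw [hN] at e2
      push_cast
      rw [add_right_comm, e2]
    exact withBot_cancel e1 e2'
  have h5 : r.height + m ≤ q.height + m := by
    rw [← h4]; exact h1.trans (add_le_add h3 h2)
  exact (ENat.add_le_add_iff_right (ENat.natCast_ne_top m)).mp h5

end Diagonal

/-- **Affine dimension theorem** (intersection inequality in a polynomial ring over a field). -/
theorem height_le_add_of_mem_minimalPrimes_sup {m : ℕ} {p q r : Ideal (MvPolynomial (Fin m) k)}
    [hp : p.IsPrime] [hq : q.IsPrime] (hr : r ∈ (p ⊔ q).minimalPrimes) :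
    r.height ≤ p.height + q.height := by
  have hrp : r.IsPrime := hr.1.1
  have hpr : p ≤ r := le_sup_left.trans hr.1.2
  rw [height_eq_add hpr]
  gcongr
  have h1 : r ∈ (p ⊔ Ideal.span (q : Set (MvPolynomial (Fin m) k))).minimalPrimes := by
    rwa [Ideal.span_eq]
  have h2 := map_mem_minimalPrimes h1
  rw [← Ideal.map_span, Ideal.span_eq] at h2
  exact height_le_of_mem_minimalPrimes_map (Ideal.Quotient.mkₐ k p) q h2

end Groth.Agent.Lib.Helper1.ProjDimADT
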