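import Mathlib

/-!
# Graded posets: height / coheight from a rank function (helper1)
-/

set_option autoImplicit false

namespace Groth.Agent.Lib.Helper1.ProjDimOrd

open Order

variable {P : Type*} [PartialOrder P]

/-- below `x`, above `a < x`, there is an element covered by `x` (rank function bounded). -/
theorem exists_covBy_of_lt (g : P → ℕ) (hg : StrictMono g) {a x : P} (h : a < x) :
    ∃ y, a ≤ y ∧ y ⋖ x := by
  classical
  let S : Set ℕ := {m | ∃ y, a ≤ y ∧ y < x ∧ g y = m}
  have hne : S.Nonempty := ⟨g a, a, le_rfl, h, rfl⟩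
  have hbd : BddAbove S := ⟨g x, by rintro m ⟨y, -, hy, rfl⟩; exact (hg hy).le⟩
  obtain ⟨y, hay, hyx, hy⟩ := Nat.sSup_mem hne hbd
  refine ⟨y, hay, hyx, fun z hyz hzx => ?_⟩
  have h1 : g z ≤ sSup S := le_csSup hbd ⟨z, hay.trans hyz.le, hzx, rfl⟩
  have h2 := hg hyz
  omega

/-- above `x`, below `b > x`, there is an element covering `x` (rank function bounded below by 0). -/
theorem exists_covBy_of_gt (g : P → ℕ) (hg : StrictMono g) {x b : P} (h : x < b) :
    ∃ y, y ≤ b ∧ x ⋖ y := by
  classical
  let S : Set ℕ := {m | ∃ y, y ≤ b ∧ x < y ∧ g y = m}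
  have hne : S.Nonempty := ⟨g b, b, le_rfl, h, rfl⟩
  obtain ⟨y, hyb, hxy, hy⟩ := Nat.sInf_mem hne
  refine ⟨y, hyb, hxy, fun z hxz hzy => ?_⟩
  have h1 : sInf S ≤ g z := Nat.sInf_le ⟨z, hzy.le.trans hyb, hxz, rfl⟩
  have h2 := hg hzy
  omega

theorem height_eq_of_graded (g : P → ℕ) (hg : StrictMono g)
    (hcov : ∀ x y, x ⋖ y → g y = g x + 1) (hmin : ∀ x, IsMin x → g x = 0) (x : P) :
    Order.height x = g x := by
  induction' hm : g x using Nat.strong_induction_on with m ih generalizing x
  subst hm
  apply le_antisymm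
  · rw [Order.height_le_coe_iff]
    intro y hy
    rw [ih (g y) (hg hy) y rfl]
    exact_mod_cast hg hy
  · by_cases hx : IsMin x
    · rw [hmin x hx]; simp
    · obtain ⟨a, ha⟩ : ∃ a, a < x := by rw [not_isMin_iff] at hx; exact hx
      obtain ⟨y, -, hy⟩ := exists_covBy_of_lt g hg ha
      have h1 := ih (g y) (hg hy.lt) y rfl
      have h2 := Order.height_add_one_le hy.lt
      rw [hcov y x hy]; push_cast; rw [← h1]; exact h2

theorem coheight_add_of_graded (g : P → ℕ) (N : ℕ) (hg : StrictMono g) (hN : ∀ x, g x ≤ N)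
    (hcov : ∀ x y, x ⋖ y → g y = g x + 1) (hmax : ∀ x, IsMax x → g x = N) (x : P) :
    Order.coheight x + g x = N := by
  have key : Order.height (OrderDual.toDual x) = ((N - g x : ℕ) : ℕ∞) := by
    refine height_eq_of_graded (P := Pᵒᵈ) (fun y => N - g (OrderDual.ofDual y)) ?_ ?_ ?_
      (OrderDual.toDual x)
    · intro a b hab
      have := hg (OrderDual.ofDual_lt_ofDual.mpr hab)
      have h1 := hN (OrderDual.ofDual a)
      have h2 := hN (OrderDual.ofDual b)
      show N - g (OrderDual.ofDual a) < N - g (OrderDual.ofDual b)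
      omega
    · intro a b hab
      have hab' : OrderDual.ofDual b ⋖ OrderDual.ofDual a := ofDual_covBy_ofDual_iff.mpr hab
      have := hcov _ _ hab'
      have h1 := hN (OrderDual.ofDual a)
      show N - g (OrderDual.ofDual b) = N - g (OrderDual.ofDual a) + 1
      omega
    · intro a ha
      have : IsMax (OrderDual.ofDual a) := by
        rw [← isMin_toDual_iff]; exact ha
      have := hmax _ this
      show N - g (OrderDual.ofDual a) = 0
      omega
  have h1 : Order.coheight x = Order.height (OrderDual.toDual x) := rfl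
  rw [h1, key]
  have := hN x
  exact_mod_cast (by omega : N - g x + g x = N)

end Groth.Agent.Lib.Helper1.ProjDimOrd
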