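import Mathlib
import Groth.Prelude.Def_CohB1
import Groth.Agent.Lib.Helper1.ProjDimAlg
import Groth.Agent.Lib.Helper1.ProjDimOrd

/-!
# Points of projective space over a field: heights and coheights (helper1)
-/

set_option autoImplicit false

namespace Groth.Agent.Lib.Helper1.ProjDimPt

open MvPolynomial Groth.Agent.Lib.Helper1.ProjDimAlg Groth.Agent.Lib.Helper1.ProjDimOrd

variable {k : Type*} [Field k] {n : ℕ}

/-- the projective spectrum of the standard graded polynomial ring -/
noncomputable abbrev PS (n : ℕ) (k : Type*) [Field k] := ProjectiveSpectrum (CohB1.polyGrading n k)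

/-- the ideal of a point -/
noncomputable abbrev idl (x : PS n k) : Ideal (MvPolynomial (Fin (n + 1)) k) := x.asHomogeneousIdeal.toIdeal

theorem idl_isHomogeneous (x : PS n k) : (idl x).IsHomogeneous (CohB1.polyGrading n k) :=
  x.asHomogeneousIdeal.isHomogeneous

theorem idl_le_iff {x y : PS n k} : idl x ≤ idl y ↔ x ≤ y := by
  rw [← ProjectiveSpectrum.as_ideal_le_as_ideal]
  exact toIdeal_le_toIdeal_iff

theorem idl_lt_iff {x y : PS n k} : idl x < idl y ↔ x < y := by
  rw [lt_iff_le_not_ge, lt_iff_le_not_ge, idl_le_iff, idl_le_iff]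

theorem idl_injective {x y : PS n k} (h : idl x = idl y) : x = y :=
  le_antisymm (idl_le_iff.mp h.le) (idl_le_iff.mp h.ge)

theorem idl_ne_irrelevant (x : PS n k) :
    idl x ≠ (HomogeneousIdeal.irrelevant (CohB1.polyGrading n k)).toIdeal := by
  intro h
  apply x.not_irrelevant_le
  rw [← toIdeal_le_toIdeal_iff]
  exact h.ge

theorem idl_lt_irrelevant (x : PS n k) :
    idl x < (HomogeneousIdeal.irrelevant (CohB1.polyGrading n k)).toIdeal :=
  lt_of_le_of_ne (le_irrelevant (idl_isHomogeneous x) x.isPrime.ne_top) (idl_ne_irrelevant x)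

/-- construct a point from a homogeneous prime different from the irrelevant ideal -/
noncomputable def mkPt (q : Ideal (MvPolynomial (Fin (n + 1)) k)) (hq : q.IsPrime)
    (hh : q.IsHomogeneous (CohB1.polyGrading n k))
    (hne : q ≠ (HomogeneousIdeal.irrelevant (CohB1.polyGrading n k)).toIdeal) : PS n k :=
  ⟨⟨q, hh⟩, hq, by
    intro h
    apply hne
    have h1 : (HomogeneousIdeal.irrelevant (CohB1.polyGrading n k)).toIdeal ≤ q :=
      toIdeal_le_toIdeal_iff.mpr h
    exact ((irrelevant_isMaximal k n).eq_of_le hq.ne_top h1).symm⟩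

@[simp] theorem idl_mkPt (q : Ideal (MvPolynomial (Fin (n + 1)) k)) (hq : q.IsPrime)
    (hh : q.IsHomogeneous (CohB1.polyGrading n k))
    (hne : q ≠ (HomogeneousIdeal.irrelevant (CohB1.polyGrading n k)).toIdeal) :
    idl (mkPt q hq hh hne) = q := rfl

/-- the height of a point, as a natural number -/
noncomputable def ht (x : PS n k) : ℕ := (idl x).height.toNat

theorem coe_ht (x : PS n k) : ((ht x : ℕ) : ℕ∞) = (idl x).height := by
  haveI := x.isPrime
  exact ENat.natCast_toNat (Ideal.height_ne_top (x.isPrime.ne_top))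

theorem ht_strictMono : StrictMono (ht : PS n k → ℕ) := by
  intro x y hxy
  haveI := x.isPrime
  haveI := y.isPrime
  have h := Ideal.height_strict_mono_of_isPrime_of_isPrime (idl_lt_iff.mpr hxy)
  rw [← coe_ht, ← coe_ht] at h
  exact_mod_cast h

theorem ht_le (x : PS n k) : ht x ≤ n := by
  haveI := x.isPrime
  haveI := (irrelevant_isMaximal k n).isPrime
  have h := Ideal.height_strict_mono_of_isPrime_of_isPrime (idl_lt_irrelevant x)
  rw [← coe_ht, height_irrelevant] at h
  have : ht x < n + 1 := by exact_mod_cast h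
  omega


/-- a homogeneous ideal not contained in another homogeneous ideal contains a homogeneous element
outside of it -/
theorem exists_homogeneous_not_mem {I J : Ideal (MvPolynomial (Fin (n + 1)) k)}
    (hI : I.IsHomogeneous (CohB1.polyGrading n k)) (hJ : J.IsHomogeneous (CohB1.polyGrading n k))
    (h : ¬ I ≤ J) : ∃ (d : ℕ) (f : MvPolynomial (Fin (n + 1)) k), f.IsHomogeneous d ∧ f ∈ I ∧ f ∉ J := by
  obtain ⟨a, haI, haJ⟩ := SetLike.not_le_iff_exists.mp h
  rw [mem_iff_homogeneousComponent_mem hJ] at haJ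
  push Not at haJ
  obtain ⟨d, hd⟩ := haJ
  exact ⟨d, homogeneousComponent d a, homogeneousComponent_isHomogeneous d a,
    homogeneousComponent_mem_of_mem hI haI d, hd⟩

theorem isHomogeneous_sup_span {I : Ideal (MvPolynomial (Fin (n + 1)) k)}
    (hI : I.IsHomogeneous (CohB1.polyGrading n k)) {s : Set (MvPolynomial (Fin (n + 1)) k)}
    (hs : ∀ f ∈ s, ∃ d, f.IsHomogeneous d) :
    (I ⊔ Ideal.span s).IsHomogeneous (CohB1.polyGrading n k) := by
  refine hI.sup (Ideal.homogeneous_span _ _ ?_)
  intro f hf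
  obtain ⟨d, hd⟩ := hs f hf
  exact ⟨d, hd⟩

/-- Main existence: a minimal prime over `x ⊔ span s` (`s` homogeneous) below a given
homogeneous prime `J` is homogeneous, with height at most `ht x + |s|`. -/
theorem exists_minimal_homogeneous (x : PS n k) (s : Finset (MvPolynomial (Fin (n + 1)) k))
    (hs : ∀ f ∈ s, ∃ d, f.IsHomogeneous d) {J : Ideal (MvPolynomial (Fin (n + 1)) k)}
    [hJ : J.IsPrime] (hxJ : idl x ≤ J) (hsJ : (s : Set (MvPolynomial (Fin (n + 1)) k)) ⊆ J) :
    ∃ q : Ideal (MvPolynomial (Fin (n + 1)) k),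
      q ∈ (idl x ⊔ Ideal.span (s : Set (MvPolynomial (Fin (n + 1)) k))).minimalPrimes ∧ q ≤ J ∧
      q.IsHomogeneous (CohB1.polyGrading n k) ∧ q.height ≤ ht x + s.card := by
  have hle : idl x ⊔ Ideal.span (s : Set (MvPolynomial (Fin (n + 1)) k)) ≤ J :=
    sup_le hxJ (Ideal.span_le.mpr hsJ)
  obtain ⟨q, hq, hqJ⟩ := Ideal.exists_minimalPrimes_le hle
  refine ⟨q, hq, hqJ, ?_, ?_⟩
  · exact isHomogeneous_of_mem_minimalPrimes _
      (isHomogeneous_sup_span (idl_isHomogeneous x) (by exact_mod_cast hs)) hq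
  · haveI := x.isPrime
    have := height_le_add_card (p := idl x) (q := q) s hq
    rwa [← coe_ht] at this

theorem ht_covBy {x y : PS n k} (hxy : x ⋖ y) : ht y = ht x + 1 := by
  have hlt := ht_strictMono hxy.lt
  obtain ⟨d, f, hfd, hfy, hfx⟩ := exists_homogeneous_not_mem (idl_isHomogeneous y)
    (idl_isHomogeneous x) (fun h => (idl_le_iff.mp h).not_gt hxy.lt)
  haveI := y.isPrime
  obtain ⟨q, hq, hqy, hqh, hqht⟩ := exists_minimal_homogeneous x {f}
    (by intro g hg; rw [Finset.mem_singleton] at hg; subst hg; exact ⟨d, hfd⟩)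
    (idl_le_iff.mpr hxy.le) (by simpa using hfy)
  have hqne : q ≠ (HomogeneousIdeal.irrelevant (CohB1.polyGrading n k)).toIdeal := by
    rintro rfl
    exact absurd (le_antisymm hqy (idl_lt_irrelevant y).le) (idl_ne_irrelevant y).symm
  set z := mkPt q hq.1.1 hqh hqne with hz
  have hxz : x < z := by
    rw [← idl_lt_iff]
    refine lt_of_le_of_ne (le_sup_left.trans hq.1.2) ?_
    intro h
    apply hfx
    rw [h]
    exact hq.1.2 (Ideal.mem_sup_right (Ideal.subset_span (by simp)))
  have hzy : z ≤ y := idl_le_iff.mp hqy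
  have hzy' : z = y := by
    rcases hzy.lt_or_eq with h | h
    · exact absurd h (hxy.2 hxz)
    · exact h
  have h1 : (ht y : ℕ∞) ≤ ht x + 1 := by
    rw [← hzy', coe_ht]
    have : idl z = q := rfl
    rw [this]
    simpa using hqht
  have h1' : ht y ≤ ht x + 1 := by exact_mod_cast h1
  omega

theorem ht_isMax {x : PS n k} (hx : IsMax x) : ht x = n := by
  have hle := ht_le x
  obtain ⟨d, f, hfd, hfy, hfx⟩ := exists_homogeneous_not_mem
    (HomogeneousIdeal.irrelevant (CohB1.polyGrading n k)).isHomogeneous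
    (idl_isHomogeneous x) (fun h => (idl_lt_irrelevant x).not_ge h)
  haveI := (irrelevant_isMaximal k n).isPrime
  obtain ⟨q, hq, hqy, hqh, hqht⟩ := exists_minimal_homogeneous x {f}
    (by intro g hg; rw [Finset.mem_singleton] at hg; subst hg; exact ⟨d, hfd⟩)
    (idl_lt_irrelevant x).le (by simpa using hfy)
  by_cases hqne : q = (HomogeneousIdeal.irrelevant (CohB1.polyGrading n k)).toIdeal
  · rw [hqne, height_irrelevant] at hqht
    have : n + 1 ≤ ht x + 1 := by
      have : ((n + 1 : ℕ) : ℕ∞) ≤ ((ht x + 1 : ℕ) : ℕ∞) := by simpa using hqht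
      exact_mod_cast this
    omega
  · exfalso
    set z := mkPt q hq.1.1 hqh hqne with hz
    have hxz : x < z := by
      rw [← idl_lt_iff]
      refine lt_of_le_of_ne (le_sup_left.trans hq.1.2) ?_
      intro h
      apply hfx
      rw [h]
      exact hq.1.2 (Ideal.mem_sup_right (Ideal.subset_span (by simp)))
    exact absurd (hx hxz.le) hxz.not_ge

/-- the generic point of projective space -/
noncomputable def botPt : PS n k :=
  mkPt ⊥ Ideal.isPrime_bot (Ideal.IsHomogeneous.bot _) (by
    intro h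
    have := height_irrelevant k n
    rw [← h] at this
    simp only [Ideal.height_bot] at this
    have h2 : ((0 : ℕ) : ℕ∞) = ((n + 1 : ℕ) : ℕ∞) := by simpa using this
    have h3 : 0 = n + 1 := by exact_mod_cast h2
    omega)

theorem botPt_le (x : PS n k) : botPt ≤ x := idl_le_iff.mp bot_le

theorem ht_botPt : ht (botPt : PS n k) = 0 := by
  simp [ht, botPt]

theorem ht_isMin {x : PS n k} (hx : IsMin x) : ht x = 0 := by
  have : x = botPt := le_antisymm (hx (botPt_le x)) (botPt_le x)
  rw [this, ht_botPt]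

theorem height_eq_ht (x : PS n k) : Order.height x = ht x :=
  height_eq_of_graded ht ht_strictMono (fun _ _ h => ht_covBy h) (fun _ h => ht_isMin h) x

theorem coheight_add_ht (x : PS n k) : Order.coheight x + ht x = n :=
  coheight_add_of_graded ht n ht_strictMono ht_le (fun _ _ h => ht_covBy h)
    (fun _ h => ht_isMax h) x

end Groth.Agent.Lib.Helper1.ProjDimPt
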