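import Mathlib
import Groth.Prelude.Def_CohB1
import Groth.Agent.Lib.Helper1.ProjDimPt

/-!
# Topological dimension in projective space over a field (helper1)
-/

set_option autoImplicit false

namespace Groth.Agent.Lib.Helper1.ProjDimTop

open MvPolynomial TopologicalSpace Groth.Agent.Lib.Helper1.ProjDimPt

section General

variable {Y : Type*} [TopologicalSpace Y] [PartialOrder Y] [QuasiSober Y] [T0Space Y]

/-- irreducible closed subsets of a sober space whose order is the specialisation order -/
noncomputable def irrIso (hle : ∀ x y : Y, x ≤ y ↔ y ∈ closure ({x} : Set Y)) :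
    IrreducibleCloseds Y ≃o Yᵒᵈ where
  toFun s := OrderDual.toDual (s.2.genericPoint)
  invFun x := ⟨closure ({OrderDual.ofDual x} : Set Y), isIrreducible_singleton.closure,
    isClosed_closure⟩
  left_inv s := by
    refine IrreducibleCloseds.ext ?_
    simp only [OrderDual.ofDual_toDual, IrreducibleCloseds.coe_mk,
      IsIrreducible.genericPoint_closure_eq, closure_eq_iff_isClosed.mpr s.3]
    rfl
  right_inv x := by
    apply congrArg OrderDual.toDual
    exact isIrreducible_singleton.closure.isGenericPoint_genericPoint_closure.eq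
      (by rw [closure_closure]; exact isGenericPoint_closure)
  map_rel_iff' := by
    rintro ⟨s, hs, hs'⟩ ⟨t, ht, ht'⟩
    show ht.genericPoint ≤ hs.genericPoint ↔ s ⊆ t
    rw [hle]
    have h1 : closure {hs.genericPoint} = s := by
      rw [hs.genericPoint_closure_eq, closure_eq_iff_isClosed.mpr hs']
    have h2 : closure {ht.genericPoint} = t := by
      rw [ht.genericPoint_closure_eq, closure_eq_iff_isClosed.mpr ht']
    rw [h2]
    constructor
    · intro h
      rw [← h1]
      exact (IsClosed.closure_subset_iff ht').mpr (Set.singleton_subset_iff.mpr h)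
    · intro h
      apply h
      have : hs.genericPoint ∈ closure {hs.genericPoint} := subset_closure rfl
      rwa [h1] at this

theorem irrIso_symm_coe (hle : ∀ x y : Y, x ≤ y ↔ y ∈ closure ({x} : Set Y)) (x : Y) :
    (((irrIso hle).symm (OrderDual.toDual x) : IrreducibleCloseds Y) : Set Y) = closure {x} := rfl

theorem topologicalKrullDim_eq (hle : ∀ x y : Y, x ≤ y ↔ y ∈ closure ({x} : Set Y)) :
    topologicalKrullDim Y = Order.krullDim Y := by
  unfold topologicalKrullDim
  rw [Order.krullDim_eq_of_orderIso (irrIso hle), Order.krullDim_orderDual]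

end General


section Proj

open AlgebraicGeometry

variable {k : Type*} [Field k] {n : ℕ}

instance : QuasiSober (PS n k) :=
  inferInstanceAs (QuasiSober (Proj (CohB1.polyGrading n k)))

instance : T0Space (PS n k) :=
  inferInstanceAs (T0Space (Proj (CohB1.polyGrading n k)))

theorem le_iff_mem_closure (x y : PS n k) : x ≤ y ↔ y ∈ closure ({x} : Set (PS n k)) :=
  ProjectiveSpectrum.le_iff_mem_closure _ x y

theorem closure_singleton (x : PS n k) : closure ({x} : Set (PS n k)) = Set.Ici x := by
  ext y
  rw [← le_iff_mem_closure, Set.mem_Ici]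

theorem sub_le_iff_mem_closure {W : Set (PS n k)} (a b : W) :
    a ≤ b ↔ b ∈ closure ({a} : Set W) := by
  rw [closure_subtype, Set.image_singleton, ← le_iff_mem_closure]
  rfl

theorem quasiSober_sub {W : Set (PS n k)} (hW : IsClosed W) : QuasiSober W :=
  hW.isClosedEmbedding_subtypeVal.quasiSober

/-- closed sets are upper sets -/
theorem mem_of_le {W : Set (PS n k)} (hW : IsClosed W) {x y : PS n k} (hx : x ∈ W) (hxy : x ≤ y) :
    y ∈ W := by
  rw [le_iff_mem_closure] at hxy
  exact (hW.closure_subset_iff.mpr (Set.singleton_subset_iff.mpr hx)) hxy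

theorem coheight_sub {W : Set (PS n k)} (hW : IsClosed W) (w : W) :
    Order.coheight w = Order.coheight (w : PS n k) := by
  refine Order.coheight_eq_of_strictMono Subtype.val (Subtype.strictMono_coe _) ?_ w
  intro a b hab
  exact ⟨⟨b, mem_of_le hW a.2 hab.le⟩, hab, rfl⟩

/-- dimension of a closed subset of projective space -/
theorem topologicalKrullDim_closed {W : Set (PS n k)} (hW : IsClosed W) :
    topologicalKrullDim W = ⨆ w : W, ((Order.coheight (w : PS n k) : ℕ∞) : WithBot ℕ∞) := by
  haveI := quasiSober_sub hW
  rw [topologicalKrullDim_eq (Y := W) sub_le_iff_mem_closure, Order.krullDim_eq_iSup_coheight]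
  congr 1
  ext w
  rw [coheight_sub hW]

/-- dimension of the closure of a point -/
theorem topologicalKrullDim_Ici (x : PS n k) :
    topologicalKrullDim (Set.Ici x) = ((Order.coheight x : ℕ∞) : WithBot ℕ∞) := by
  have hcl : IsClosed (Set.Ici x) := by rw [← closure_singleton]; exact isClosed_closure
  rw [topologicalKrullDim_closed hcl]
  apply le_antisymm
  · refine iSup_le fun w => ?_
    exact_mod_cast Order.coheight_anti w.2
  · exact le_iSup (fun w : Set.Ici x => ((Order.coheight (w : PS n k) : ℕ∞) : WithBot ℕ∞))
      ⟨x, Set.mem_Ici.mpr le_rfl⟩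

/-- an irreducible closed set is the closure of its generic point -/
theorem exists_eq_Ici {X : Set (PS n k)} (hXc : IsClosed X) (hXi : IsIrreducible X) :
    ∃ x : PS n k, X = Set.Ici x := by
  refine ⟨hXi.genericPoint, ?_⟩
  rw [← closure_singleton, hXi.genericPoint_closure_eq, closure_eq_iff_isClosed.mpr hXc]

theorem homeo_dim {W : Set (PS n k)} (C : Set W) :
    topologicalKrullDim C = topologicalKrullDim (Subtype.val '' C : Set (PS n k)) :=
  IsHomeomorph.topologicalKrullDim_eq _
    (Topology.IsEmbedding.subtypeVal.homeomorphImage C).isHomeomorph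

/-- irreducible components of a closed subset: generic point, minimality, dimension -/
theorem exists_generic_of_mem_irreducibleComponents {W : Set (PS n k)} (hW : IsClosed W)
    {C : Set W} (hC : C ∈ irreducibleComponents W) :
    ∃ c : PS n k, c ∈ W ∧ (∀ w ∈ W, w ≤ c → w = c) ∧ Subtype.val '' C = Set.Ici c ∧
      topologicalKrullDim C = ((Order.coheight c : ℕ∞) : WithBot ℕ∞) := by
  haveI := quasiSober_sub hW
  have hCirr : IsIrreducible C := hC.1
  have hCcl : IsClosed C := isClosed_of_mem_irreducibleComponents C hC
  set c' : W := hCirr.genericPoint with hc'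
  have hcl : closure ({c'} : Set W) = C := by
    rw [hCirr.genericPoint_closure_eq, closure_eq_iff_isClosed.mpr hCcl]
  have himg : Subtype.val '' C = Set.Ici (c' : PS n k) := by
    rw [← hcl, ← hW.isClosedEmbedding_subtypeVal.closure_image_eq, Set.image_singleton,
      closure_singleton]
  refine ⟨c', c'.2, ?_, himg, ?_⟩
  · intro w hw hwc
    let w' : W := ⟨w, hw⟩
    have h1 : w' ≤ c' := hwc
    have h2 : C ⊆ closure ({w'} : Set W) := by
      rw [← hcl]
      exact (isClosed_closure.closure_subset_iff).mpr
        (Set.singleton_subset_iff.mpr ((sub_le_iff_mem_closure w' c').mp h1))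
    have h3 : closure ({w'} : Set W) ⊆ C := hC.2 isIrreducible_singleton.closure h2
    have h4 : w' ∈ closure ({c'} : Set W) := by
      rw [hcl]; exact h3 (subset_closure rfl)
    have h5 : c' ≤ w' := (sub_le_iff_mem_closure c' w').mpr h4
    exact le_antisymm hwc h5
  · rw [homeo_dim, himg, topologicalKrullDim_Ici]

end Proj

end Groth.Agent.Lib.Helper1.ProjDimTop
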