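import Mathlib
import Groth.Agent.Lib.Helper1.ProjDimTop

/-!
# Dimension theory in sober spaces whose order is the specialisation order (helper1)

Abstract versions of the lemmas of `ProjDimTop`, and an abstract intersection inequality.
-/

set_option autoImplicit false
set_option linter.unusedSectionVars false

namespace Groth.Agent.Lib.Helper1.ProjDimGen

open TopologicalSpace Groth.Agent.Lib.Helper1.ProjDimTop

variable {Y : Type*} [TopologicalSpace Y] [PartialOrder Y] [QuasiSober Y] [T0Space Y]
  (hle : ∀ x y : Y, x ≤ y ↔ y ∈ closure ({x} : Set Y))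

include hle

theorem closure_singleton' (x : Y) : closure ({x} : Set Y) = Set.Ici x := by
  ext y
  rw [← hle, Set.mem_Ici]

theorem sub_le_iff_mem_closure' {W : Set Y} (a b : W) :
    a ≤ b ↔ b ∈ closure ({a} : Set W) := by
  rw [closure_subtype, Set.image_singleton, ← hle]
  rfl

omit hle in
theorem quasiSober_sub' {W : Set Y} (hW : IsClosed W) : QuasiSober W :=
  hW.isClosedEmbedding_subtypeVal.quasiSober

theorem mem_of_le' {W : Set Y} (hW : IsClosed W) {x y : Y} (hx : x ∈ W) (hxy : x ≤ y) :
    y ∈ W := by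
  rw [hle] at hxy
  exact (hW.closure_subset_iff.mpr (Set.singleton_subset_iff.mpr hx)) hxy

theorem coheight_sub' {W : Set Y} (hW : IsClosed W) (w : W) :
    Order.coheight w = Order.coheight (w : Y) := by
  refine Order.coheight_eq_of_strictMono Subtype.val (Subtype.strictMono_coe _) ?_ w
  intro a b hab
  exact ⟨⟨b, mem_of_le' hle hW a.2 hab.le⟩, hab, rfl⟩

theorem topologicalKrullDim_closed' {W : Set Y} (hW : IsClosed W) :
    topologicalKrullDim W = ⨆ w : W, ((Order.coheight (w : Y) : ℕ∞) : WithBot ℕ∞) := by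
  haveI := quasiSober_sub' hW
  rw [topologicalKrullDim_eq (Y := W) (sub_le_iff_mem_closure' hle),
    Order.krullDim_eq_iSup_coheight]
  congr 1
  ext w
  rw [coheight_sub' hle hW]

theorem topologicalKrullDim_Ici' (x : Y) :
    topologicalKrullDim (Set.Ici x) = ((Order.coheight x : ℕ∞) : WithBot ℕ∞) := by
  have hcl : IsClosed (Set.Ici x) := by rw [← closure_singleton' hle]; exact isClosed_closure
  rw [topologicalKrullDim_closed' hle hcl]
  apply le_antisymm
  · refine iSup_le fun w => ?_
    exact_mod_cast Order.coheight_anti w.2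
  · exact le_iSup (fun w : Set.Ici x => ((Order.coheight (w : Y) : ℕ∞) : WithBot ℕ∞))
      ⟨x, Set.mem_Ici.mpr le_rfl⟩

omit hle [PartialOrder Y] [QuasiSober Y] [T0Space Y] in
theorem homeo_dim' {W : Set Y} (C : Set W) :
    topologicalKrullDim C = topologicalKrullDim (Subtype.val '' C : Set Y) :=
  IsHomeomorph.topologicalKrullDim_eq _
    (Topology.IsEmbedding.subtypeVal.homeomorphImage C).isHomeomorph

theorem exists_generic_of_mem_irreducibleComponents' {W : Set Y} (hW : IsClosed W)
    {C : Set W} (hC : C ∈ irreducibleComponents W) :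
    ∃ c : Y, c ∈ W ∧ (∀ w ∈ W, w ≤ c → w = c) ∧ Subtype.val '' C = Set.Ici c ∧
      topologicalKrullDim C = ((Order.coheight c : ℕ∞) : WithBot ℕ∞) := by
  haveI := quasiSober_sub' hW
  have hCirr : IsIrreducible C := hC.1
  have hCcl : IsClosed C := isClosed_of_mem_irreducibleComponents C hC
  set c' : W := hCirr.genericPoint with hc'
  have hcl : closure ({c'} : Set W) = C := by
    rw [hCirr.genericPoint_closure_eq, closure_eq_iff_isClosed.mpr hCcl]
  have himg : Subtype.val '' C = Set.Ici (c' : Y) := by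
    rw [← hcl, ← hW.isClosedEmbedding_subtypeVal.closure_image_eq, Set.image_singleton,
      closure_singleton' hle]
  refine ⟨c', c'.2, ?_, himg, ?_⟩
  · intro w hw hwc
    let w' : W := ⟨w, hw⟩
    have h1 : w' ≤ c' := hwc
    have h2 : C ⊆ closure ({w'} : Set W) := by
      rw [← hcl]
      exact (isClosed_closure.closure_subset_iff).mpr
        (Set.singleton_subset_iff.mpr ((sub_le_iff_mem_closure' hle w' c').mp h1))
    have h3 : closure ({w'} : Set W) ⊆ C := hC.2 isIrreducible_singleton.closure h2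
    have h4 : w' ∈ closure ({c'} : Set W) := by
      rw [hcl]; exact h3 (subset_closure rfl)
    have h5 : c' ≤ w' := (sub_le_iff_mem_closure' hle c' w').mpr h4
    exact le_antisymm hwc h5
  · rw [homeo_dim', himg, topologicalKrullDim_Ici' hle]

/-- the closure of a minimal point of a closed set is an irreducible component -/
theorem mem_irreducibleComponents_of_minimal {W : Set Y} (hW : IsClosed W) (x : W)
    (hx : ∀ w ∈ W, w ≤ (x : Y) → w = x) :
    closure ({x} : Set W) ∈ irreducibleComponents W ∧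
      topologicalKrullDim (closure ({x} : Set W)) = ((Order.coheight (x : Y) : ℕ∞) : WithBot ℕ∞) := by
  haveI := quasiSober_sub' hW
  constructor
  · refine ⟨isIrreducible_singleton.closure, ?_⟩
    intro C' hC' hsub
    have hC'' : IsIrreducible (closure C') := hC'.closure
    set c' : W := hC''.genericPoint with hc'
    have hcl : closure ({c'} : Set W) = closure C' := by
      rw [hC''.genericPoint_closure_eq, closure_closure]
    have hxmem : x ∈ closure ({c'} : Set W) := by
      rw [hcl]; exact subset_closure (hsub (subset_closure rfl))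
    have h1 : c' ≤ x := (sub_le_iff_mem_closure' hle c' x).mpr hxmem
    have h2 : (c' : Y) = x := hx c' c'.2 h1
    have h3 : c' = x := Subtype.ext h2
    calc C' ⊆ closure C' := subset_closure
      _ = closure {c'} := hcl.symm
      _ = closure {x} := by rw [h3]
  · rw [homeo_dim', ← hW.isClosedEmbedding_subtypeVal.closure_image_eq, Set.image_singleton,
      closure_singleton' hle, topologicalKrullDim_Ici' hle]

omit hle [TopologicalSpace Y] [QuasiSober Y] [T0Space Y] in
theorem exists_minimal_le (g : Y → ℕ) (hg : StrictMono g) (W : Set Y) {c : Y} (hc : c ∈ W) :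
    ∃ x ∈ W, x ≤ c ∧ ∀ w ∈ W, w ≤ x → w = x := by
  classical
  let S : Set ℕ := {m | ∃ x ∈ W, x ≤ c ∧ g x = m}
  have hne : S.Nonempty := ⟨g c, c, hc, le_rfl, rfl⟩
  obtain ⟨x, hxW, hxc, hx⟩ := Nat.sInf_mem hne
  refine ⟨x, hxW, hxc, fun w hw hwx => ?_⟩
  have h1 : sInf S ≤ g w := Nat.sInf_le ⟨w, hw, hwx.trans hxc, rfl⟩
  rcases hwx.lt_or_eq with h | h
  · have := hg h; omega
  · exact h

/-- abstract intersection inequality -/
theorem abstract_inter (g : Y → ℕ) (N : ℕ) (hg : StrictMono g)
    (ha : ∀ y : Y, Order.coheight y = ((N - g y : ℕ) : ℕ∞)) (hgN : ∀ y, g y ≤ N)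
    (hb : ∀ x y c : Y, x ≤ c → y ≤ c → (∀ z, x ≤ z → y ≤ z → z ≤ c → z = c) → g c ≤ g x + g y)
    {r s : ℕ} (X X' : Set Y) (hX : IsClosed X) (hX' : IsClosed X')
    (hXr : ∀ Z ∈ irreducibleComponents X, topologicalKrullDim Z = r)
    (hX's : ∀ Z ∈ irreducibleComponents X', topologicalKrullDim Z = s)
    (Z : Set ↥(X ∩ X')) (hZ : Z ∈ irreducibleComponents ↥(X ∩ X')) :
    ((r + s : ℕ) : WithBot ℕ∞) ≤ topologicalKrullDim Z + (N : WithBot ℕ∞) := by
  obtain ⟨c, hcW, hcmin, -, hdim⟩ :=
    exists_generic_of_mem_irreducibleComponents' hle (hX.inter hX') hZ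
  obtain ⟨x, hxX, hxc, hxmin⟩ := exists_minimal_le g hg X hcW.1
  obtain ⟨y, hyX', hyc, hymin⟩ := exists_minimal_le g hg X' hcW.2
  have h1 := mem_irreducibleComponents_of_minimal hle hX ⟨x, hxX⟩ hxmin
  have h2 := mem_irreducibleComponents_of_minimal hle hX' ⟨y, hyX'⟩ hymin
  have hr := hXr _ h1.1
  have hs := hX's _ h2.1
  rw [h1.2, ha] at hr
  rw [h2.2, ha] at hs
  have hr' : N - g x = r := by exact_mod_cast hr
  have hs' : N - g y = s := by exact_mod_cast hs
  have hgc := hb x y c hxc hyc (fun z hxz hyz hzc =>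
    hcmin z ⟨mem_of_le' hle hX hxX hxz, mem_of_le' hle hX' hyX' hyz⟩ hzc)
  rw [hdim, ha]
  have hx := hgN x
  have hy := hgN y
  have h3 : r + s ≤ (N - g c) + N := by omega
  calc ((r + s : ℕ) : WithBot ℕ∞) ≤ (((N - g c) + N : ℕ) : WithBot ℕ∞) := by exact_mod_cast h3
    _ = (((N - g c : ℕ) : ℕ∞) : WithBot ℕ∞) + (N : WithBot ℕ∞) := by push_cast; rfl

end Groth.Agent.Lib.Helper1.ProjDimGen
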