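import Mathlib
import Groth.Agent.Lib.Helper1.ProjDimGen
import Groth.Agent.Lib.Helper1.ProjDimADT

/-!
# The affine dimension theorem, topological form (helper1)
-/

set_option autoImplicit false

namespace Groth.Agent.Lib.Helper1.ProjDimAff

open MvPolynomial TopologicalSpace Groth.Agent.Lib.Helper1.ProjDimGen
  Groth.Agent.Lib.Helper1.ProjDimAlg Groth.Agent.Lib.Helper1.ProjDimADT

section Transfer

variable {T Q : Type*} [TopologicalSpace T] [TopologicalSpace Q] [PartialOrder Q] [QuasiSober Q]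
  [T0Space Q]

/-- transfer of the abstract intersection inequality along a homeomorphism -/
theorem inter_of_homeo (e : T ≃ₜ Q)
    (hle : ∀ x y : Q, x ≤ y ↔ y ∈ closure ({x} : Set Q))
    (g : Q → ℕ) (N : ℕ) (hg : StrictMono g)
    (ha : ∀ y : Q, Order.coheight y = ((N - g y : ℕ) : ℕ∞)) (hgN : ∀ y, g y ≤ N)
    (hb : ∀ x y c : Q, x ≤ c → y ≤ c → (∀ z, x ≤ z → y ≤ z → z ≤ c → z = c) → g c ≤ g x + g y)
    {r s : ℕ} (X X' : Set T) (hX : IsClosed X) (hX' : IsClosed X')
    (hXr : ∀ Z ∈ irreducibleComponents X, topologicalKrullDim Z = r)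
    (hX's : ∀ Z ∈ irreducibleComponents X', topologicalKrullDim Z = s)
    (Z : Set ↥(X ∩ X')) (hZ : Z ∈ irreducibleComponents ↥(X ∩ X')) :
    ((r + s : ℕ) : WithBot ℕ∞) ≤ topologicalKrullDim Z + (N : WithBot ℕ∞) := by
  letI : PartialOrder T := PartialOrder.lift e e.injective
  haveI : QuasiSober T := e.isOpenEmbedding.quasiSober
  haveI : T0Space T := e.isEmbedding.t0Space
  let eo : T ≃o Q := { toEquiv := e.toEquiv, map_rel_iff' := Iff.rfl }
  have hleT : ∀ x y : T, x ≤ y ↔ y ∈ closure ({x} : Set T) := by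
    intro x y
    show e x ≤ e y ↔ _
    rw [hle, ← Set.image_singleton, ← e.image_closure, e.injective.mem_set_image]
  refine abstract_inter hleT (fun t => g (e t)) N ?_ ?_ (fun t => hgN _) ?_ X X' hX hX' hXr hX's Z hZ
  · intro a b hab
    exact hg (show e a < e b from hab)
  · intro t
    rw [← ha (e t)]
    exact (Order.coheight_orderIso eo t).symm
  · intro x y c hxc hyc hmin
    refine hb (e x) (e y) (e c) hxc hyc ?_
    intro z hxz hyz hzc
    have := hmin (e.symm z) (show e x ≤ e (e.symm z) by rwa [e.apply_symm_apply])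
      (show e y ≤ e (e.symm z) by rwa [e.apply_symm_apply])
      (show e (e.symm z) ≤ e c by rwa [e.apply_symm_apply])
    rw [← this, e.apply_symm_apply]

end Transfer

section Affine

variable {k : Type*} [Field k] {n : ℕ}

/-- the height of a point of affine space -/
noncomputable def htA (x : PrimeSpectrum (MvPolynomial (Fin n) k)) : ℕ := x.asIdeal.height.toNat

theorem coe_htA (x : PrimeSpectrum (MvPolynomial (Fin n) k)) :
    ((htA x : ℕ) : ℕ∞) = x.asIdeal.height :=
  ENat.natCast_toNat (Ideal.height_ne_top x.isPrime.ne_top)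

theorem htA_strictMono : StrictMono (htA : PrimeSpectrum (MvPolynomial (Fin n) k) → ℕ) := by
  intro x y hxy
  have h := Ideal.height_strict_mono_of_isPrime_of_isPrime
    (show x.asIdeal < y.asIdeal from hxy)
  rw [← coe_htA, ← coe_htA] at h
  exact_mod_cast h

theorem htA_add (x : PrimeSpectrum (MvPolynomial (Fin n) k)) :
    (htA x : ℕ∞) + Order.coheight x = n := by
  have h1 := Groth.Agent.Lib.Helper7.AffDim.mvPolynomial_height_add k n x.asIdeal
  rw [Groth.Agent.Lib.Helper7.AffChain.ringKrullDim_quotient_eq_coheight, ← coe_htA] at h1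
  exact_mod_cast h1

theorem htA_le (x : PrimeSpectrum (MvPolynomial (Fin n) k)) : htA x ≤ n := by
  have h := htA_add x
  have : (htA x : ℕ∞) ≤ n := h ▸ le_self_add
  exact_mod_cast this

theorem coheight_eqA (x : PrimeSpectrum (MvPolynomial (Fin n) k)) :
    Order.coheight x = ((n - htA x : ℕ) : ℕ∞) := by
  have h1 := htA_add x
  have h2 := htA_le x
  have h3 : (htA x : ℕ∞) + ((n - htA x : ℕ) : ℕ∞) = n := by
    exact_mod_cast (by omega : htA x + (n - htA x) = n)
  rw [add_comm] at h1 h3
  exact ENat.add_left_injective_of_ne_top (ENat.natCast_ne_top _) (h1.trans h3.symm)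

theorem htA_inter (x y c : PrimeSpectrum (MvPolynomial (Fin n) k)) (hxc : x ≤ c) (hyc : y ≤ c)
    (hmin : ∀ z, x ≤ z → y ≤ z → z ≤ c → z = c) : htA c ≤ htA x + htA y := by
  have hc : c.asIdeal ∈ (x.asIdeal ⊔ y.asIdeal).minimalPrimes := by
    refine ⟨⟨c.isPrime, sup_le hxc hyc⟩, ?_⟩
    rintro J ⟨hJ, hJle⟩ hJc
    have := hmin ⟨J, hJ⟩ (le_sup_left.trans hJle) (le_sup_right.trans hJle) hJc
    rw [← this]
  have h := height_le_add_of_mem_minimalPrimes_sup hc
  rw [← coe_htA, ← coe_htA, ← coe_htA] at h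
  exact_mod_cast h

/-- the affine dimension theorem for spaces homeomorphic to `Spec k[x₁..x_n]` -/
theorem affine_inter {T : Type*} [TopologicalSpace T]
    (e : T ≃ₜ PrimeSpectrum (MvPolynomial (Fin n) k))
    {r s : ℕ} (X X' : Set T) (hX : IsClosed X) (hX' : IsClosed X')
    (hXr : ∀ Z ∈ irreducibleComponents X, topologicalKrullDim Z = r)
    (hX's : ∀ Z ∈ irreducibleComponents X', topologicalKrullDim Z = s)
    (Z : Set ↥(X ∩ X')) (hZ : Z ∈ irreducibleComponents ↥(X ∩ X')) :
    ((r + s : ℕ) : WithBot ℕ∞) ≤ topologicalKrullDim Z + (n : WithBot ℕ∞) :=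
  inter_of_homeo e (fun x y => PrimeSpectrum.le_iff_mem_closure x y) htA n htA_strictMono
    coheight_eqA htA_le htA_inter X X' hX hX' hXr hX's Z hZ

end Affine

end Groth.Agent.Lib.Helper1.ProjDimAff
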