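import Groth.Agent.Lib.Helper1.ProjDimInter
import Groth.Agent.Lib.Helper1.ProjDimGen

/-! Homogeneous prime avoidance in projective space and hypersurfaces through a closed subset. -/

set_option autoImplicit false

namespace Groth.Agent.Lib.Helper1.ProjDimAvoid

open MvPolynomial TopologicalSpace Groth.Agent.Lib.Helper1.ProjDimPt
  Groth.Agent.Lib.Helper1.ProjDimTop Groth.Agent.Lib.Helper1.ProjDimAlg
  Groth.Agent.Lib.Helper1.ProjDimLoc Groth.Agent.Lib.Helper1.ProjDimInter

variable {k : Type*} [Field k] {n : ℕ}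

/-- some variable is not in a given point -/
theorem exists_X_not_mem (x : PS n k) : ∃ i, (X i : MvPolynomial (Fin (n + 1)) k) ∉ idl x := by
  by_contra hcon
  push Not at hcon
  have h1 : idealOfVars (Fin (n + 1)) k ≤ idl x := by
    rw [idealOfVars, Ideal.span_le]
    rintro _ ⟨i, rfl⟩
    exact hcon i
  have h2 : (HomogeneousIdeal.irrelevant (CohB1.polyGrading n k)).toIdeal ≤
      idealOfVars (Fin (n + 1)) k := by
    intro a ha
    rw [HomogeneousIdeal.mem_iff, mem_irrelevant_iff_coeff] at ha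
    have := (mem_pow_idealOfVars_iff' (σ := Fin (n + 1)) (R := k) 1 a).mpr (by
      intro m hm
      have : m = 0 := by
        have h0 : m.degree = 0 := by omega
        exact (Finsupp.degree_eq_zero_iff m).mp h0
      rw [this]; exact ha)
    simpa using this
  exact (lt_irrefl _ (lt_of_lt_of_le (idl_lt_irrelevant x) (h2.trans h1)))

/-- homogeneous element of positive degree of `J` outside one point -/
theorem exists_homogeneous_pos_not_mem {J : Ideal (MvPolynomial (Fin (n + 1)) k)}
    (hJ : J.IsHomogeneous (CohB1.polyGrading n k)) (x : PS n k) (hx : ¬ J ≤ idl x) :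
    ∃ (d : ℕ) (h : MvPolynomial (Fin (n + 1)) k), 0 < d ∧ h.IsHomogeneous d ∧ h ∈ J ∧
      h ∉ idl x := by
  obtain ⟨d, f, hfd, hfJ, hfx⟩ := exists_homogeneous_not_mem hJ (idl_isHomogeneous x) hx
  obtain ⟨i, hi⟩ := exists_X_not_mem x
  refine ⟨d + 1, f * X i, Nat.succ_pos _, hfd.mul (isHomogeneous_X k i), J.mul_mem_right _ hfJ, ?_⟩
  intro hmem
  haveI := x.isPrime
  rcases (x.isPrime.mem_or_mem hmem) with h | h
  · exact hfx h
  · exact hi h

/-- homogeneous prime avoidance -/
theorem exists_homogeneous_avoid {J : Ideal (MvPolynomial (Fin (n + 1)) k)}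
    (hJ : J.IsHomogeneous (CohB1.polyGrading n k)) :
    ∀ (m : ℕ) (s : Finset (PS n k)), s.card = m → (∀ x ∈ s, ¬ J ≤ idl x) →
    ∃ (d : ℕ) (h : MvPolynomial (Fin (n + 1)) k), 0 < d ∧ h.IsHomogeneous d ∧ h ∈ J ∧
      ∀ x ∈ s, h ∉ idl x := by
  classical
  intro m
  induction m using Nat.strong_induction_on with
  | _ m ih =>
  intro s hsm hs
  rcases Nat.lt_or_ge m 2 with hm | hm
  · -- card ≤ 1
    rcases Nat.eq_zero_or_pos m with h0 | h0
    · subst h0
      rw [Finset.card_eq_zero] at hsm
      subst hsm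
      exact ⟨1, 0, Nat.one_pos, isHomogeneous_zero _ _ _, J.zero_mem, by simp⟩
    · have h1 : s.card = 1 := by omega
      obtain ⟨a, rfl⟩ := Finset.card_eq_one.mp h1
      obtain ⟨d, h, hd, hh, hhJ, hha⟩ :=
        exists_homogeneous_pos_not_mem hJ a (hs a (Finset.mem_singleton_self a))
      exact ⟨d, h, hd, hh, hhJ, by simpa using hha⟩
  · -- card ≥ 2
    have hx : ∀ i ∈ s, ∃ (d : ℕ) (h : MvPolynomial (Fin (n + 1)) k), 0 < d ∧ h.IsHomogeneous d ∧
        h ∈ J ∧ ∀ x ∈ s.erase i, h ∉ idl x := by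
      intro i hi
      have hc : (s.erase i).card = m - 1 := by rw [Finset.card_erase_of_mem hi, hsm]
      exact ih (m - 1) (by omega) (s.erase i) hc (fun x hx => hs x (Finset.mem_of_mem_erase hx))
    choose! dd xx hdd hxx hxJ hxav using hx
    by_cases hex : ∃ i ∈ s, xx i ∉ idl i
    · obtain ⟨i, hi, hii⟩ := hex
      refine ⟨dd i, xx i, hdd i hi, hxx i hi, hxJ i hi, ?_⟩
      intro x hxs
      by_cases hxi : x = i
      · rw [hxi]; exact hii
      · exact hxav i hi x (Finset.mem_erase.mpr ⟨hxi, hxs⟩)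
    · push Not at hex
      obtain ⟨a, ha⟩ : s.Nonempty := by
        rw [← Finset.card_pos]; omega
      set t := s.erase a with ht
      have htne : t.Nonempty := by
        rw [← Finset.card_pos, Finset.card_erase_of_mem ha]; omega
      obtain ⟨b, hb⟩ := htne
      have hbs : b ∈ s := Finset.mem_of_mem_erase hb
      set D := ∑ i ∈ t, dd i with hD
      have hDpos : 0 < D := by
        apply Finset.sum_pos
        · intro i hi; exact hdd i (Finset.mem_of_mem_erase hi)
        · exact ⟨b, hb⟩
      set p := ∏ i ∈ t, xx i with hp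
      have hpD : p.IsHomogeneous D := by
        apply IsHomogeneous.prod
        intro i hi
        exact hxx i (Finset.mem_of_mem_erase hi)
      have hpJ : p ∈ J := by
        rw [hp, ← Finset.mul_prod_erase t _ hb]
        exact J.mul_mem_right _ (hxJ b hbs)
      -- p ∉ idl a
      have hpa : p ∉ idl a := by
        haveI := a.isPrime
        intro hmem
        rw [hp] at hmem
        obtain ⟨i, hi, hia⟩ := (Ideal.IsPrime.prod_mem_iff (hp := a.isPrime)).mp hmem
        have his : i ∈ s := Finset.mem_of_mem_erase hi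
        have hai : a ∈ s.erase i := Finset.mem_erase.mpr ⟨fun h => (Finset.mem_erase.mp hi).1 h.symm, ha⟩
        exact hxav i his a hai hia
      -- p ∈ idl j for j ∈ t
      have hpj : ∀ j ∈ t, p ∈ idl j := by
        intro j hj
        rw [hp, ← Finset.mul_prod_erase t _ hj]
        exact (idl j).mul_mem_right _ (hex j (Finset.mem_of_mem_erase hj))
      refine ⟨dd a * D, xx a ^ D + p ^ dd a, Nat.mul_pos (hdd a ha) hDpos, ?_, ?_, ?_⟩
      · apply IsHomogeneous.add
        · exact (hxx a ha).pow D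
        · have := hpD.pow (dd a)
          rwa [mul_comm] at this
      · apply J.add_mem
        · exact J.pow_mem_of_mem (hxJ a ha) D hDpos
        · exact J.pow_mem_of_mem hpJ (dd a) (hdd a ha)
      · intro x hxs hmem
        haveI := x.isPrime
        by_cases hxa : x = a
        · subst hxa
          have h1 : xx x ^ D ∈ idl x := (idl x).pow_mem_of_mem (hex x hxs) D hDpos
          have h2 : p ^ dd x ∈ idl x := by
            have := (idl x).sub_mem hmem h1
            simpa using this
          exact hpa (x.isPrime.mem_of_pow_mem _ h2)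
        · have hxt : x ∈ t := Finset.mem_erase.mpr ⟨hxa, hxs⟩
          have h1 : p ^ dd a ∈ idl x := (idl x).pow_mem_of_mem (hpj x hxt) (dd a) (hdd a ha)
          have h2 : xx a ^ D ∈ idl x := by
            have := (idl x).sub_mem hmem h1
            simpa using this
          exact hxav a ha x hxt (x.isPrime.mem_of_pow_mem _ h2)

/-- closed subsets are zero loci of homogeneous ideals -/
theorem exists_homogeneous_ideal_of_isClosed {W : Set (PS n k)} (hW : IsClosed W) :
    ∃ I : Ideal (MvPolynomial (Fin (n + 1)) k), I.IsHomogeneous (CohB1.polyGrading n k) ∧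
      ∀ x, x ∈ W ↔ I ≤ idl x := by
  refine ⟨(ProjectiveSpectrum.vanishingIdeal W).toIdeal,
    (ProjectiveSpectrum.vanishingIdeal W).isHomogeneous, fun x => ?_⟩
  have h1 : x ∈ W ↔ x ∈ ProjectiveSpectrum.zeroLocus (CohB1.polyGrading n k)
      ((ProjectiveSpectrum.vanishingIdeal W : HomogeneousIdeal (CohB1.polyGrading n k)) :
        Set (MvPolynomial (Fin (n + 1)) k)) := by
    rw [ProjectiveSpectrum.zeroLocus_vanishingIdeal_eq_closure, hW.closure_eq]
  rw [h1, ProjDimLoc.mem_zeroLocus_iff]
  rfl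

/-- a closed subset has finitely many minimal points -/
theorem finite_minimal {W : Set (PS n k)} (hW : IsClosed W) :
    {x : PS n k | x ∈ W ∧ ∀ w ∈ W, w ≤ x → w = x}.Finite := by
  obtain ⟨I, hI, hIW⟩ := exists_homogeneous_ideal_of_isClosed hW
  have hfin : I.minimalPrimes.Finite := Ideal.finite_minimalPrimes_of_isNoetherianRing _ I
  refine Set.Finite.of_finite_image (f := idl) (hfin.subset ?_)
    (fun x _ y _ h => idl_injective h)
  rintro _ ⟨x, ⟨hxW, hxmin⟩, rfl⟩
  obtain ⟨q, hq, hqx⟩ := Ideal.exists_minimalPrimes_le ((hIW x).mp hxW)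
  have hqh := isHomogeneous_of_mem_minimalPrimes _ hI hq
  have hqne : q ≠ (HomogeneousIdeal.irrelevant (CohB1.polyGrading n k)).toIdeal := by
    intro h
    exact lt_irrefl _ (lt_of_le_of_lt (h ▸ hqx) (idl_lt_irrelevant x))
  have hw : mkPt q hq.1.1 hqh hqne = x :=
    hxmin _ ((hIW _).mpr hq.1.2) (idl_le_iff.mp hqx)
  have : idl x = q := by rw [← hw]; rfl
  rw [this]; exact hq

/-- hypersurfaces through `B` covering `A \ B` -/
theorem exists_hypersurfaces {B : Set (PS n k)} (hB : IsClosed B) :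
    ∀ (m : ℕ) (A : Set (PS n k)), IsClosed A → (∀ a ∈ A, a ∉ B → n - ht a < m) →
    ∃ h : Fin m → MvPolynomial (Fin (n + 1)) k, (∀ j, ∃ d, 0 < d ∧ (h j).IsHomogeneous d) ∧
      (∀ j, ∀ b ∈ B, h j ∈ idl b) ∧ (∀ a ∈ A, a ∉ B → ∃ j, h j ∉ idl a) := by
  classical
  obtain ⟨J, hJ, hJB⟩ := exists_homogeneous_ideal_of_isClosed hB
  intro m
  induction m with
  | zero =>
    intro A _ hA
    refine ⟨fun j => j.elim0, fun j => j.elim0, fun j => j.elim0, fun a ha hab => ?_⟩
    exact absurd (hA a ha hab) (Nat.not_lt_zero _)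
  | succ m ih =>
    intro A hAc hA
    have hfin := finite_minimal hAc
    set s : Finset (PS n k) := (hfin.toFinset).filter (fun x => x ∉ B) with hs
    have hs_mem : ∀ x, x ∈ s ↔ (x ∈ A ∧ ∀ w ∈ A, w ≤ x → w = x) ∧ x ∉ B := by
      intro x
      rw [hs, Finset.mem_filter, Set.Finite.mem_toFinset]
      rfl
    obtain ⟨d₀, h₀, hd₀, hh₀, hh₀J, hh₀s⟩ := exists_homogeneous_avoid hJ s.card s rfl
      (fun x hx hle => ((hs_mem x).mp hx).2 ((hJB x).mpr hle))
    set A' : Set (PS n k) := A ∩ ProjectiveSpectrum.zeroLocus (CohB1.polyGrading n k) {h₀} with hA'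
    have hA'c : IsClosed A' := hAc.inter (ProjectiveSpectrum.isClosed_zeroLocus _ _)
    have hA'm : ∀ a ∈ A', a ∉ B → n - ht a < m := by
      intro a ha hab
      obtain ⟨c, hcA, hca, hcmin⟩ :=
        ProjDimGen.exists_minimal_le (Y := PS n k) (g := ht) ht_strictMono A ha.1
      have hcB : c ∉ B := fun hcB => hab (mem_of_le hB hcB hca)
      have hcs : c ∈ s := (hs_mem c).mpr ⟨⟨hcA, hcmin⟩, hcB⟩
      have h1 : h₀ ∉ idl c := hh₀s c hcs
      have h2 : h₀ ∈ idl a := by
        have := (ProjDimLoc.mem_zeroLocus_iff a {h₀}).mp ha.2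
        exact this (Set.mem_singleton _)
      have hne : c ≠ a := fun h => h1 (h ▸ h2)
      have hlt : ht c < ht a := ht_strictMono (lt_of_le_of_ne hca hne)
      have h3 := hA c hcA hcB
      have h4 := ht_le a
      omega
    obtain ⟨h', hh'1, hh'2, hh'3⟩ := ih A' hA'c hA'm
    refine ⟨Fin.cons h₀ h', ?_, ?_, ?_⟩
    · intro j
      refine Fin.cases ?_ (fun i => ?_) j
      · exact ⟨d₀, hd₀, by simpa using hh₀⟩
      · simpa using hh'1 i
    · intro j
      refine Fin.cases ?_ (fun i => ?_) j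
      · intro b hb
        simpa using (hJB b).mp hb hh₀J
      · simpa using hh'2 i
    · intro a ha hab
      by_cases h0 : h₀ ∈ idl a
      · have haA' : a ∈ A' := by
          refine ⟨ha, (ProjDimLoc.mem_zeroLocus_iff a {h₀}).mpr ?_⟩
          rintro _ rfl
          exact h0
        obtain ⟨j, hj⟩ := hh'3 a haA' hab
        exact ⟨j.succ, by simpa using hj⟩
      · exact ⟨0, by simpa using h0⟩

end Groth.Agent.Lib.Helper1.ProjDimAvoid
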