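import Mathlib
import Groth.Prelude.Def_CohB1
import Groth.Agent.Lib.Helper1.ProjDimTop

/-!
# Intersections with hypersurfaces in projective space over a field (helper1)
-/

set_option autoImplicit false

namespace Groth.Agent.Lib.Helper1.ProjDimLoc

open MvPolynomial TopologicalSpace Groth.Agent.Lib.Helper1.ProjDimPt
  Groth.Agent.Lib.Helper1.ProjDimTop Groth.Agent.Lib.Helper1.ProjDimAlg

variable {k : Type*} [Field k] {n : ℕ}

theorem coheight_eq (x : PS n k) : Order.coheight x = ((n - ht x : ℕ) : ℕ∞) := by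
  have h1 := coheight_add_ht x
  have h2 := ht_le x
  have h3 : ((n - ht x : ℕ) : ℕ∞) + (ht x : ℕ∞) = n := by exact_mod_cast (by omega : n - ht x + ht x = n)
  exact ENat.add_left_injective_of_ne_top (ENat.natCast_ne_top _) (h1.trans h3.symm)

theorem mem_zeroLocus_iff (x : PS n k) (t : Set (MvPolynomial (Fin (n + 1)) k)) :
    x ∈ ProjectiveSpectrum.zeroLocus (CohB1.polyGrading n k) t ↔ t ⊆ idl x := by
  rw [ProjectiveSpectrum.mem_zeroLocus]
  rfl

theorem mem_inter_iff (x w : PS n k) (t : Set (MvPolynomial (Fin (n + 1)) k)) :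
    w ∈ Set.Ici x ∩ ProjectiveSpectrum.zeroLocus (CohB1.polyGrading n k) t ↔
      idl x ⊔ Ideal.span t ≤ idl w := by
  rw [Set.mem_inter_iff, mem_zeroLocus_iff, Set.mem_Ici, sup_le_iff, Ideal.span_le, idl_le_iff]

theorem isClosed_inter (x : PS n k) (t : Set (MvPolynomial (Fin (n + 1)) k)) :
    IsClosed (Set.Ici x ∩ ProjectiveSpectrum.zeroLocus (CohB1.polyGrading n k) t) := by
  refine IsClosed.inter ?_ (ProjectiveSpectrum.isClosed_zeroLocus _ _)
  rw [← ProjDimTop.closure_singleton]; exact isClosed_closure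

/-- components of `closure {x} ∩ V₊(s)` -/
theorem component_bound (x : PS n k) (t : Set (MvPolynomial (Fin (n + 1)) k))
    (s : Finset (MvPolynomial (Fin (n + 1)) k)) (hts : t = ↑s)
    (hs : ∀ f ∈ s, ∃ d, f.IsHomogeneous d)
    {C : Set ↥(Set.Ici x ∩ ProjectiveSpectrum.zeroLocus (CohB1.polyGrading n k) t)}
    (hC : C ∈ irreducibleComponents
      ↥(Set.Ici x ∩ ProjectiveSpectrum.zeroLocus (CohB1.polyGrading n k) t)) :
    ∃ c : PS n k, x ≤ c ∧ t ⊆ idl c ∧ ht c ≤ ht x + s.card ∧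
      topologicalKrullDim C = ((n - ht c : ℕ) : WithBot ℕ∞) := by
  subst hts
  obtain ⟨c, hcW, hcmin, -, hdim⟩ :=
    exists_generic_of_mem_irreducibleComponents (isClosed_inter x _) hC
  have hc1 := hcW
  rw [mem_inter_iff] at hc1
  have hxc : idl x ≤ idl c := le_sup_left.trans hc1
  have hsc : (s : Set (MvPolynomial (Fin (n + 1)) k)) ⊆ idl c :=
    (Ideal.span_le.mp (le_sup_right.trans hc1))
  haveI := c.isPrime
  obtain ⟨q, hq, hqc, hqh, hqht⟩ := exists_minimal_homogeneous x s hs hxc hsc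
  have hqne : q ≠ (HomogeneousIdeal.irrelevant (CohB1.polyGrading n k)).toIdeal := by
    rintro rfl
    exact absurd (le_antisymm hqc (idl_lt_irrelevant c).le) (idl_ne_irrelevant c).symm
  set z := mkPt q hq.1.1 hqh hqne with hz
  have hzW : z ∈ Set.Ici x ∩ ProjectiveSpectrum.zeroLocus (CohB1.polyGrading n k) ↑s := by
    rw [mem_inter_iff]; exact hq.1.2
  have hzc : z = c := hcmin z hzW (idl_le_iff.mp hqc)
  refine ⟨c, idl_le_iff.mp hxc, hsc, ?_, ?_⟩
  · have h1 : ((ht c : ℕ) : ℕ∞) ≤ ((ht x + s.card : ℕ) : ℕ∞) := by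
      rw [← hzc, coe_ht]
      have : idl z = q := rfl
      rw [this]
      exact_mod_cast hqht
    exact_mod_cast h1
  · rw [hdim, coheight_eq]; rfl

/-- nonemptiness of `closure {x} ∩ V₊(s)` -/
theorem inter_nonempty (x : PS n k) (t : Set (MvPolynomial (Fin (n + 1)) k))
    (s : Finset (MvPolynomial (Fin (n + 1)) k)) (hts : t = ↑s)
    (hs : ∀ f ∈ s, ∃ d, 0 < d ∧ f.IsHomogeneous d) (h : ht x + s.card ≤ n) :
    (Set.Ici x ∩ ProjectiveSpectrum.zeroLocus (CohB1.polyGrading n k) t).Nonempty := by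
  subst hts
  haveI := (irrelevant_isMaximal k n).isPrime
  have hsJ : (s : Set (MvPolynomial (Fin (n + 1)) k)) ⊆
      (HomogeneousIdeal.irrelevant (CohB1.polyGrading n k)).toIdeal := by
    intro f hf
    obtain ⟨d, hd, hfd⟩ := hs f hf
    exact HomogeneousIdeal.mem_irrelevant_of_mem _ hd ((mem_homogeneousSubmodule d f).mpr hfd)
  obtain ⟨q, hq, hqc, hqh, hqht⟩ := exists_minimal_homogeneous x s
    (fun f hf => (hs f hf).imp fun d hd => hd.2) (idl_lt_irrelevant x).le hsJ
  have hqne : q ≠ (HomogeneousIdeal.irrelevant (CohB1.polyGrading n k)).toIdeal := by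
    rintro rfl
    rw [height_irrelevant] at hqht
    have : n + 1 ≤ ht x + s.card := by exact_mod_cast hqht
    omega
  refine ⟨mkPt q hq.1.1 hqh hqne, ?_⟩
  rw [mem_inter_iff]; exact hq.1.2

end Groth.Agent.Lib.Helper1.ProjDimLoc
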