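import Mathlib
import Groth.Prelude.Def_CohB1
import Groth.Agent.Lib.Helper1.ProjDimLoc

/-!
# Hypersurfaces in projective space over a field (helper1)
-/

set_option autoImplicit false

namespace Groth.Agent.Lib.Helper1.ProjDimHyp

open MvPolynomial TopologicalSpace Groth.Agent.Lib.Helper1.ProjDimPt
  Groth.Agent.Lib.Helper1.ProjDimTop Groth.Agent.Lib.Helper1.ProjDimAlg
  Groth.Agent.Lib.Helper1.ProjDimLoc

variable {k : Type*} [Field k] {n : ℕ}

/-- a principal homogeneous ideal generated by a prime element has a homogeneous irreducible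
generator -/
theorem exists_homogeneous_generator {I : Ideal (MvPolynomial (Fin (n + 1)) k)}
    (hI : I.IsHomogeneous (CohB1.polyGrading n k)) {p : MvPolynomial (Fin (n + 1)) k}
    (hp : Prime p) (hIp : I = Ideal.span {p}) :
    ∃ (d : ℕ) (g : MvPolynomial (Fin (n + 1)) k), g.IsHomogeneous d ∧ Irreducible g ∧
      Ideal.span {g} = I := by
  have hp0 : p ≠ 0 := hp.ne_zero
  have hpI : p ∈ I := by rw [hIp]; exact Ideal.subset_span rfl
  -- some nonzero component
  obtain ⟨i, hi⟩ : ∃ i, homogeneousComponent i p ≠ 0 := by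
    by_contra h
    push Not at h
    apply hp0
    rw [← sum_homogeneousComponent p]
    exact Finset.sum_eq_zero fun i _ => h i
  have hiI : homogeneousComponent i p ∈ I := homogeneousComponent_mem_of_mem hI hpI i
  rw [hIp, Ideal.mem_span_singleton] at hiI
  obtain ⟨q, hq⟩ := hiI
  have hq0 : q ≠ 0 := by rintro rfl; rw [mul_zero] at hq; exact hi hq
  have hdeg1 : (homogeneousComponent i p).totalDegree = i :=
    (homogeneousComponent_isHomogeneous i p).totalDegree hi
  have hdeg2 : i ≤ p.totalDegree := by
    by_contra h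
    exact hi (homogeneousComponent_eq_zero i p (not_le.mp h))
  have hdeg3 : (p * q).totalDegree = p.totalDegree + q.totalDegree :=
    totalDegree_mul_of_isDomain hp0 hq0
  rw [← hq, hdeg1] at hdeg3
  have hq' : q.totalDegree = 0 := by omega
  rw [totalDegree_eq_zero_iff_eq_C] at hq'
  have hc : q.coeff 0 ≠ 0 := by
    intro h; rw [h, map_zero] at hq'; exact hq0 hq'
  have hu : IsUnit q := by rw [hq']; exact (isUnit_iff_ne_zero.mpr hc).map C
  have hassoc : Associated p (homogeneousComponent i p) := by
    obtain ⟨u, hu⟩ := hu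
    exact ⟨u, by rw [hu, ← hq]⟩
  refine ⟨i, homogeneousComponent i p, homogeneousComponent_isHomogeneous i p,
    hassoc.irreducible hp.irreducible, ?_⟩
  rw [hIp]
  exact (Ideal.span_singleton_eq_span_singleton.mpr hassoc).symm

theorem height_span_irreducible {f : MvPolynomial (Fin (n + 1)) k} (hf : Irreducible f) :
    (Ideal.span {f}).IsPrime ∧ (Ideal.span {f}).height = 1 := by
  have hp : Prime f := UniqueFactorizationMonoid.irreducible_iff_prime.mp hf
  refine ⟨(Ideal.span_singleton_prime hp.ne_zero).mpr hp, ?_⟩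
  exact Ideal.height_span_singleton_eq_one_of_mem_nonZeroDivisors
    (mem_nonZeroDivisors_of_ne_zero hp.ne_zero) hp.not_isUnit

/-- irreducible closed subsets: generic point and coheight -/
theorem coheight_irr (Z : IrreducibleCloseds (PS n k)) :
    ∃ x : PS n k, (Z : Set (PS n k)) = Set.Ici x ∧ Order.coheight Z = ht x := by
  refine ⟨Z.2.genericPoint, ?_, ?_⟩
  · rw [← ProjDimTop.closure_singleton, Z.2.genericPoint_closure_eq,
      closure_eq_iff_isClosed.mpr Z.3]
    rfl
  · rw [← Order.coheight_orderIso (irrIso (Y := PS n k) le_iff_mem_closure) Z]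
    show Order.coheight (OrderDual.toDual Z.2.genericPoint) = _
    rw [Order.coheight_toDual, height_eq_ht]

theorem coheight_irr_of_eq (Z : IrreducibleCloseds (PS n k)) (x : PS n k)
    (h : (Z : Set (PS n k)) = Set.Ici x) : Order.coheight Z = ht x := by
  obtain ⟨x', h1, h2⟩ := coheight_irr Z
  rw [h] at h1
  rw [h2, Set.Ici_injective h1]

end Groth.Agent.Lib.Helper1.ProjDimHyp
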