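import Mathlib
import Groth.Prelude.Def_CohB1
import Groth.Agent.Lib.Helper1.ProjDimLoc
import Groth.Agent.Lib.Helper1.ProjDimADT

/-!
# The projective dimension theorem: intersections in projective space (helper1)
-/

set_option autoImplicit false

namespace Groth.Agent.Lib.Helper1.ProjDimInter

open MvPolynomial TopologicalSpace Groth.Agent.Lib.Helper1.ProjDimPt
  Groth.Agent.Lib.Helper1.ProjDimTop Groth.Agent.Lib.Helper1.ProjDimAlg
  Groth.Agent.Lib.Helper1.ProjDimLoc Groth.Agent.Lib.Helper1.ProjDimADT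

variable {k : Type*} [Field k] {n : ℕ}

theorem le_dim_of_mem {W : Set (PS n k)} (hW : IsClosed W) {w : PS n k} (hw : w ∈ W) :
    ((n - ht w : ℕ) : WithBot ℕ∞) ≤ topologicalKrullDim W := by
  rw [topologicalKrullDim_closed hW]
  refine le_trans (le_of_eq ?_)
    (le_iSup (fun w : W => ((Order.coheight (w : PS n k) : ℕ∞) : WithBot ℕ∞)) ⟨w, hw⟩)
  rw [coheight_eq]; rfl

theorem exists_mem_dim_eq {W : Set (PS n k)} (hW : IsClosed W) (hne : W.Nonempty) {r : ℕ}
    (h : topologicalKrullDim W = r) : ∃ w ∈ W, n - ht w = r := by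
  by_contra hcon
  push Not at hcon
  have hlt : ∀ w ∈ W, n - ht w < r := by
    intro w hw
    have h1 := le_dim_of_mem hW hw
    rw [h] at h1
    have h2 : n - ht w ≤ r := by exact_mod_cast h1
    exact lt_of_le_of_ne h2 (hcon w hw)
  obtain ⟨w0, hw0⟩ := hne
  have hr : 1 ≤ r := by have := hlt w0 hw0; omega
  have hle : topologicalKrullDim W ≤ ((r - 1 : ℕ) : WithBot ℕ∞) := by
    rw [topologicalKrullDim_closed hW]
    refine iSup_le fun w => ?_
    rw [coheight_eq]
    have := hlt w w.2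
    have h3 : n - ht (w : PS n k) ≤ r - 1 := by omega
    have h4 : ((n - ht (w : PS n k) : ℕ) : WithBot ℕ∞) ≤ ((r - 1 : ℕ) : WithBot ℕ∞) := by
      exact_mod_cast h3
    exact h4
  rw [h] at hle
  have : r ≤ r - 1 := by exact_mod_cast hle
  omega

/-- **Projective dimension theorem.** -/
theorem inter_dim {r s : ℕ} (X Y : Set (PS n k)) (hX : IsClosed X) (hY : IsClosed Y)
    (hXne : X.Nonempty) (hYne : Y.Nonempty)
    (hXr : topologicalKrullDim X = r) (hYs : topologicalKrullDim Y = s) (hrs : n ≤ r + s) :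
    (X ∩ Y).Nonempty ∧
      ((r + s : ℕ) : WithBot ℕ∞) ≤ topologicalKrullDim ↥(X ∩ Y) + (n : WithBot ℕ∞) := by
  obtain ⟨x, hxX, hxr⟩ := exists_mem_dim_eq hX hXne hXr
  obtain ⟨y, hyY, hys⟩ := exists_mem_dim_eq hY hYne hYs
  haveI := (irrelevant_isMaximal k n).isPrime
  haveI := x.isPrime
  haveI := y.isPrime
  have hle : idl x ⊔ idl y ≤ (HomogeneousIdeal.irrelevant (CohB1.polyGrading n k)).toIdeal :=
    sup_le (idl_lt_irrelevant x).le (idl_lt_irrelevant y).le
  obtain ⟨q, hq, hqJ⟩ := Ideal.exists_minimalPrimes_le hle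
  have hqh : q.IsHomogeneous (CohB1.polyGrading n k) :=
    isHomogeneous_of_mem_minimalPrimes _ ((idl_isHomogeneous x).sup (idl_isHomogeneous y)) hq
  have hqht := height_le_add_of_mem_minimalPrimes_sup hq
  rw [← coe_ht, ← coe_ht] at hqht
  have hx := ht_le x
  have hy := ht_le y
  have hqne : q ≠ (HomogeneousIdeal.irrelevant (CohB1.polyGrading n k)).toIdeal := by
    rintro rfl
    rw [height_irrelevant] at hqht
    have : n + 1 ≤ ht x + ht y := by exact_mod_cast hqht
    omega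
  set z := mkPt q hq.1.1 hqh hqne with hz
  have hxz : x ≤ z := idl_le_iff.mp (le_sup_left.trans hq.1.2)
  have hyz : y ≤ z := idl_le_iff.mp (le_sup_right.trans hq.1.2)
  have hzW : z ∈ X ∩ Y := ⟨mem_of_le hX hxX hxz, mem_of_le hY hyY hyz⟩
  refine ⟨⟨z, hzW⟩, ?_⟩
  have h1 := le_dim_of_mem (hX.inter hY) hzW
  have hzht : ht z ≤ ht x + ht y := by
    have : ((ht z : ℕ) : ℕ∞) ≤ ((ht x + ht y : ℕ) : ℕ∞) := by
      rw [coe_ht]; exact_mod_cast hqht
    exact_mod_cast this
  have h2 : r + s ≤ (n - ht z) + n := by omega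
  calc ((r + s : ℕ) : WithBot ℕ∞) ≤ (((n - ht z) + n : ℕ) : WithBot ℕ∞) := by exact_mod_cast h2
    _ = ((n - ht z : ℕ) : WithBot ℕ∞) + (n : WithBot ℕ∞) := by push_cast; rfl
    _ ≤ _ := by gcongr

end Groth.Agent.Lib.Helper1.ProjDimInter
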