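import Groth.Agent.Lib.Helper1.ProjDimAvoid
import Mathlib.AlgebraicGeometry.ProjectiveSpectrum.Proper
import Mathlib.AlgebraicGeometry.Morphisms.FiniteType

/-! Projective space over a field is a Jacobson space; dimension of locally closed subsets. -/

set_option autoImplicit false

namespace Groth.Agent.Lib.Helper1.ProjDimJac

open MvPolynomial TopologicalSpace AlgebraicGeometry Groth.Agent.Lib.Helper1.ProjDimPt
  Groth.Agent.Lib.Helper1.ProjDimTop Groth.Agent.Lib.Helper1.ProjDimAlg
  Groth.Agent.Lib.Helper1.ProjDimLoc Groth.Agent.Lib.Helper1.ProjDimInter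

variable {k : Type*} [Field k] {n : ℕ}

theorem algebraMap_zero_surjective :
    Function.Surjective (algebraMap k (CohB1.polyGrading n k 0)) := by
  rintro ⟨f, hf⟩
  refine ⟨coeff 0 f, Subtype.ext ?_⟩
  have h1 : homogeneousComponent 0 f = f :=
    homogeneousComponent_of_mem hf |>.trans (by simp)
  rw [homogeneousComponent_zero] at h1
  exact h1

instance : IsJacobsonRing (CohB1.polyGrading n k 0) :=
  isJacobsonRing_of_surjective ⟨algebraMap k (CohB1.polyGrading n k 0), algebraMap_zero_surjective⟩

instance : IsScalarTower k (CohB1.polyGrading n k 0) (MvPolynomial (Fin (n + 1)) k) :=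
  IsScalarTower.of_algebraMap_eq (R := k) (S := CohB1.polyGrading n k 0)
    (A := MvPolynomial (Fin (n + 1)) k) (fun x => by
      show algebraMap k (MvPolynomial (Fin (n + 1)) k) x =
        ((algebraMap k (CohB1.polyGrading n k 0) x : CohB1.polyGrading n k 0) :
          MvPolynomial (Fin (n + 1)) k)
      rfl)

instance : Algebra.FiniteType (CohB1.polyGrading n k 0) (MvPolynomial (Fin (n + 1)) k) :=
  Algebra.FiniteType.of_restrictScalars_finiteType k _ _

instance : JacobsonSpace (PS n k) :=
  LocallyOfFiniteType.jacobsonSpace (Proj.toSpecZero (CohB1.polyGrading n k))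

/-- open sets are lower sets -/
theorem mem_open_of_le {O : Set (PS n k)} (hO : IsOpen O) {z y : PS n k} (hy : y ∈ O)
    (hzy : z ≤ y) : z ∈ O := by
  rw [le_iff_mem_closure] at hzy
  obtain ⟨w, hwO, hwz⟩ := mem_closure_iff.mp hzy O hO hy
  rw [Set.mem_singleton_iff] at hwz
  rwa [hwz] at hwO

/-- a closed point is maximal -/
theorem isMax_of_mem_closedPoints {x : PS n k} (hx : x ∈ closedPoints (PS n k)) : IsMax x := by
  intro y hxy
  rw [le_iff_mem_closure, (mem_closedPoints_iff.mp hx).closure_eq, Set.mem_singleton_iff] at hxy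
  exact hxy.le

/-- above every point of an open set there is a closed point in that open set -/
theorem exists_closedPoint_ge {O : Set (PS n k)} (hO : IsOpen O) {x : PS n k} (hx : x ∈ O) :
    ∃ m ∈ O, x ≤ m ∧ IsMax m := by
  have hcl : IsClosed (Set.Ici x) := by rw [← ProjDimTop.closure_singleton]; exact isClosed_closure
  have h1 := JacobsonSpace.closure_inter_closedPoints hcl
  have h2 : x ∈ closure (Set.Ici x ∩ closedPoints (PS n k)) := by
    rw [h1]; exact Set.mem_Ici.mpr le_rfl
  obtain ⟨m, hmO, hmx, hmc⟩ := mem_closure_iff.mp h2 O hO hx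
  exact ⟨m, hmO, hmx, isMax_of_mem_closedPoints hmc⟩

/-- in a locally closed subset, coheight plus height is `n` -/
theorem coheight_add_ht_locallyClosed {W : Set (PS n k)} (hW : IsLocallyClosed W) (u : W) :
    Order.coheight u + ht (u : PS n k) = n := by
  have hO : IsOpen (coborder W) := hW.isOpen_coborder
  have hWeq : coborder W ∩ closure W = W := coborder_inter_closure
  have hmemO : ∀ w : W, (w : PS n k) ∈ coborder W := fun w => subset_coborder w.2
  have hmem : ∀ z : PS n k, z ∈ coborder W → z ∈ closure W → z ∈ W := by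
    intro z h1 h2
    rw [← hWeq]; exact ⟨h1, h2⟩
  refine ProjDimOrd.coheight_add_of_graded (P := W) (fun w => ht (w : PS n k)) n ?_ ?_ ?_ ?_ u
  · intro a b hab
    exact ht_strictMono (show (a : PS n k) < b from hab)
  · intro w; exact ht_le _
  · intro x y hxy
    apply ht_covBy
    refine ⟨hxy.lt, fun z hxz hzy => ?_⟩
    have hzW : z ∈ W := hmem z (mem_open_of_le hO (hmemO y) hzy.le)
      (mem_of_le isClosed_closure (subset_closure x.2) hxz.le)
    exact hxy.2 (c := ⟨z, hzW⟩) hxz hzy
  · intro x hx
    obtain ⟨m, hmO, hxm, hmmax⟩ := exists_closedPoint_ge hO (hmemO x)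
    have hmW : m ∈ W := hmem m hmO (mem_of_le isClosed_closure (subset_closure x.2) hxm)
    have h1 : (⟨m, hmW⟩ : W) ≤ x := hx (show x ≤ ⟨m, hmW⟩ from hxm)
    have h2 : (x : PS n k) = m := le_antisymm hxm h1
    show ht (x : PS n k) = n
    rw [h2]; exact ht_isMax hmmax

/-- dimension of a locally closed subset bounds the coheights of its points -/
theorem le_dim_locallyClosed {W : Set (PS n k)} (hW : IsLocallyClosed W) [QuasiSober W]
    {a : PS n k} (ha : a ∈ W) :
    ((n - ht a : ℕ) : WithBot ℕ∞) ≤ topologicalKrullDim W := by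
  rw [topologicalKrullDim_eq (Y := W) sub_le_iff_mem_closure, Order.krullDim_eq_iSup_coheight]
  refine le_trans (le_of_eq ?_) (le_iSup _ (⟨a, ha⟩ : W))
  have h1 := coheight_add_ht_locallyClosed hW ⟨a, ha⟩
  have h2 := ht_le a
  have h3 : Order.coheight (⟨a, ha⟩ : W) = ((n - ht a : ℕ) : ℕ∞) := by
    have h4 : ((n - ht a : ℕ) : ℕ∞) + (ht a : ℕ∞) = n := by
      exact_mod_cast (by omega : n - ht a + ht a = n)
    exact ENat.add_left_injective_of_ne_top (ENat.natCast_ne_top _) (h1.trans h4.symm)
  rw [h3]; rfl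

end Groth.Agent.Lib.Helper1.ProjDimJac
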