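import Mathlib.RingTheory.Flat.Basic
import Mathlib.LinearAlgebra.TensorProduct.RightExactness

set_option autoImplicit false
universe u

namespace Groth.Agent.Lib.Helper1.PshTensorChase

open TensorProduct

variable {R : Type*} [CommRing R]
  {A₁ A₂ A₃ K P G : Type*} [AddCommGroup A₁] [AddCommGroup A₂] [AddCommGroup A₃]
  [AddCommGroup K] [AddCommGroup P] [AddCommGroup G]
  [Module R A₁] [Module R A₂] [Module R A₃] [Module R K] [Module R P] [Module R G]

/-- `Tor`-free diagram chase: if `0 → A₁ → A₂ → A₃ → 0` and `0 → K → P → G → 0` are exact,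
`K ⊗ A₃ → P ⊗ A₃` and `A₁ ⊗ P → A₂ ⊗ P` are injective, then `A₁ ⊗ G → A₂ ⊗ G` is injective. -/
theorem rTensor_injective_of_chase (f : A₁ →ₗ[R] A₂) (g : A₂ →ₗ[R] A₃) (i : K →ₗ[R] P) (π : P →ₗ[R] G)
    (hfg : Function.Exact f g) (hg : Function.Surjective g)
    (hiπ : Function.Exact i π) (hπ : Function.Surjective π)
    (ha : Function.Injective (i.rTensor A₃)) (hb : Function.Injective (f.rTensor P)) :
    Function.Injective (f.rTensor G) := by
  have ha' : Function.Injective (i.lTensor A₃) := (LinearMap.lTensor_inj_iff_rTensor_inj A₃ i).2 ha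
  rw [injective_iff_map_eq_zero]
  intro z hz
  obtain ⟨z', rfl⟩ := LinearMap.lTensor_surjective A₁ hπ z
  -- y = (f ⊗ P) z'
  have hy : (π.lTensor A₂) ((f.rTensor P) z') = 0 := by
    rw [← LinearMap.comp_apply, LinearMap.lTensor_comp_rTensor, ← LinearMap.rTensor_comp_lTensor,
      LinearMap.comp_apply]
    exact hz
  obtain ⟨y', hy'⟩ := (lTensor_exact A₂ hiπ hπ _).1 hy
  have h3 : (i.lTensor A₃) ((g.rTensor K) y') = 0 := by
    rw [← LinearMap.comp_apply, LinearMap.lTensor_comp_rTensor, ← LinearMap.rTensor_comp_lTensor,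
      LinearMap.comp_apply, hy', ← LinearMap.comp_apply, ← LinearMap.rTensor_comp]
    have : g ∘ₗ f = 0 := LinearMap.ext fun x => hfg.apply_apply_eq_zero x
    rw [this, LinearMap.rTensor_zero, LinearMap.zero_apply]
  have h3' : (g.rTensor K) y' = 0 := ha' (by rw [h3, map_zero])
  obtain ⟨w, hw⟩ := (rTensor_exact K hfg hg _).1 h3'
  have h4 : (f.rTensor P) ((i.lTensor A₁) w) = (f.rTensor P) z' := by
    rw [← LinearMap.comp_apply, LinearMap.rTensor_comp_lTensor, ← LinearMap.lTensor_comp_rTensor,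
      LinearMap.comp_apply, hw, hy']
  have h5 := hb h4
  rw [← h5, ← LinearMap.comp_apply, ← LinearMap.lTensor_comp]
  have : π ∘ₗ i = 0 := LinearMap.ext fun x => hiπ.apply_apply_eq_zero x
  rw [this, LinearMap.lTensor_zero, LinearMap.zero_apply]

end Groth.Agent.Lib.Helper1.PshTensorChase
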