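import Mathlib.RingTheory.Flat.Basic
import Mathlib.LinearAlgebra.TensorProduct.RightExactness
import Mathlib.Algebra.Category.ModuleCat.Presheaf.Monoidal
import Mathlib.Algebra.Category.ModuleCat.Presheaf.Free
import Mathlib.Algebra.Category.ModuleCat.Presheaf.EpiMono
import Mathlib.Algebra.Category.ModuleCat.Presheaf.Abelian
import Mathlib.Algebra.Homology.ShortComplex.ModuleCat
import Mathlib.Algebra.Homology.ShortComplex.ExactFunctor
import Groth.Agent.Lib.Helper1.PshTensorChase

set_option autoImplicit false
universe u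

namespace Groth.Agent.Lib.Helper1.PshTensorChase

open CategoryTheory CategoryTheory.Limits MonoidalCategory

variable {C : Type u} [SmallCategory C] (O : Cᵒᵖ ⥤ CommRingCat.{u})

/-- the free cover of a presheaf of modules -/
noncomputable def cover (G : PresheafOfModules.{u} (O ⋙ forget₂ CommRingCat.{u} RingCat.{u})) :
    PresheafOfModules.freeObj (R := O ⋙ forget₂ CommRingCat.{u} RingCat.{u})
      (G.presheaf ⋙ forget _) ⟶ G :=
  PresheafOfModules.freeObjDesc (𝟙 _)

lemma cover_surjective (G : PresheafOfModules.{u} (O ⋙ forget₂ CommRingCat.{u} RingCat.{u}))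
    (X : Cᵒᵖ) : Function.Surjective ((cover O G).app X).hom := by
  intro x
  refine ⟨ModuleCat.freeMk x, ?_⟩
  exact ModuleCat.freeDesc_apply _ x

lemma sectionwise_exact {S : ShortComplex (PresheafOfModules.{u} (O ⋙ forget₂ CommRingCat.{u} RingCat.{u}))}
    (hS : S.Exact) (X : Cᵒᵖ) : Function.Exact (S.f.app X).hom (S.g.app X).hom := by
  have := hS.map (PresheafOfModules.evaluation.{u} (O ⋙ forget₂ CommRingCat.{u} RingCat.{u}) X)
  exact (ShortComplex.ShortExact.moduleCat_exact_iff_function_exact _).1 this

lemma flat_free (X : Cᵒᵖ) (T : Cᵒᵖ ⥤ Type u) :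
    Module.Flat ((O ⋙ forget₂ CommRingCat.{u} RingCat.{u}).obj X)
      ((PresheafOfModules.freeObj (R := O ⋙ forget₂ CommRingCat.{u} RingCat.{u}) T).obj X) :=
  inferInstanceAs (Module.Flat (O.obj X) (T.obj X →₀ O.obj X))

theorem mono_whiskerRight
    (S : ShortComplex (PresheafOfModules.{u} (O ⋙ forget₂ CommRingCat.{u} RingCat.{u})))
    (hS : S.ShortExact) (hF : PreservesFiniteLimits (tensorRight S.X₃))
    (G : PresheafOfModules.{u} (O ⋙ forget₂ CommRingCat.{u} RingCat.{u})) :
    Mono (S.f ▷ G) := by
  haveI := hS.mono_f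
  haveI := hS.epi_g
  apply PresheafOfModules.mono_of_injective
  intro X
  let π := cover O G
  have hi : (ShortComplex.mk (kernel.ι π) π (kernel.condition π)).Exact :=
    ShortComplex.exact_kernel π
  haveI : Mono ((tensorRight S.X₃).map (kernel.ι π)) := inferInstance
  have ha := PresheafOfModules.injective_of_mono ((tensorRight S.X₃).map (kernel.ι π)) X
  exact rTensor_injective_of_chase (S.f.app X).hom (S.g.app X).hom ((kernel.ι π).app X).hom
    (π.app X).hom (sectionwise_exact O hS.exact X) (PresheafOfModules.surjective_of_epi S.g X)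
    (sectionwise_exact O hi X) (cover_surjective O G X) ha
    (by
      haveI := flat_free O X (G.presheaf ⋙ forget _)
      exact Module.Flat.rTensor_preserves_injective_linearMap _
        (PresheafOfModules.injective_of_mono S.f X))

end Groth.Agent.Lib.Helper1.PshTensorChase
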