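import Groth.Agent.S16485

/-!
# Sections of the sheaf Hom `RefHull.homSh F G` act on sections (helper1)

A section `g` of `homSh F G` over `V` is a family of stalk maps that is locally induced by sections; by
the sheaf property of `G` it defines, for every open `V' ≤ V`, a map `Γ(F, V') → Γ(G, V')`
(`RefHullLib.app`), characterised by its germs (`gm_app`).  These maps are additive, semilinear over
the structure sheaf and compatible with restriction, and so assemble to a morphism of the restricted modules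
`F|_V ⟶ G|_V` (`RefHullLib.toHom`).
-/

set_option autoImplicit false
universe u
open CategoryTheory CategoryTheory.Limits AlgebraicGeometry Opposite TopologicalSpace
open RefHull

namespace Groth.Agent.Lib.Helper1.RefHullLib

open Groth.Agent.Lib.Helper28.QCohLoc Groth.Agent.Lib.Helper29.QCohStalk

variable {X : Scheme.{u}}

/-- two sections of a module with the same germs are equal. -/
theorem section_ext (G : X.Modules) {V : X.Opens} (s t : Γ(G, V))
    (h : ∀ (y : X) (hy : y ∈ V), gm G V y hy s = gm G V y hy t) : s = t :=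
  TopCat.Presheaf.section_ext (⟨G.presheaf, G.isSheaf⟩ : TopCat.Sheaf Ab X) V s t h

variable (F G : X.Modules)

/-- **Gluing lemma**: an admissible family of stalk maps over `V` sends a section of `F` over `V' ≤ V`
to a unique section of `G` over `V'`. -/
theorem existsUnique_app {V : X.Opens} (g : ∀ z : V, StalkHom F G z.1) (hg : IsLocSect F G g)
    {V' : X.Opens} (h : V' ≤ V) (m : Γ(F, V')) :
    ∃! n : Γ(G, V'), ∀ (y : X) (hy : y ∈ V'), gm G V' y hy n = g ⟨y, h hy⟩ (gm F V' y hy m) := by
  have huniq : ∀ n n' : Γ(G, V'),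
      (∀ (y : X) (hy : y ∈ V'), gm G V' y hy n = g ⟨y, h hy⟩ (gm F V' y hy m)) →
      (∀ (y : X) (hy : y ∈ V'), gm G V' y hy n' = g ⟨y, h hy⟩ (gm F V' y hy m)) → n = n' :=
    fun n n' hn hn' => section_ext G n n' fun y hy => (hn y hy).trans (hn' y hy).symm
  have hloc := fun x : V' => hg V' (homOfLE h) m x
  choose W hxW j n hn using hloc
  have hWV' : ∀ x : V', W x ≤ V' := fun x => (j x).le
  obtain ⟨n0, hn0⟩ := exists_gluing G W V' hWV'
    (fun y hy => Opens.mem_iSup.2 ⟨⟨y, hy⟩, hxW ⟨y, hy⟩⟩) n (fun x x' => by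
      refine section_ext G _ _ fun y hy => ?_
      rw [gm_res, gm_res]
      exact (hn x ⟨y, hy.1⟩).symm.trans (hn x' ⟨y, hy.2⟩))
  refine ⟨n0, fun y hy => ?_, fun n' hn' => huniq _ _ hn' ?_⟩
  · have h1 := hn ⟨y, hy⟩ ⟨y, hxW ⟨y, hy⟩⟩
    rw [← gm_res G (hWV' ⟨y, hy⟩) y (hxW ⟨y, hy⟩), hn0]
    exact h1.symm
  · intro y hy
    have h1 := hn ⟨y, hy⟩ ⟨y, hxW ⟨y, hy⟩⟩
    rw [← gm_res G (hWV' ⟨y, hy⟩) y (hxW ⟨y, hy⟩), hn0]
    exact h1.symm

variable {F G}

/-- the action of a section of the sheaf Hom on sections. -/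
noncomputable def app {V : X.Opens} (g : Γ(homSh F G, V)) {V' : X.Opens} (h : V' ≤ V) (m : Γ(F, V')) :
    Γ(G, V') :=
  (existsUnique_app F G g.1 g.2 h m).exists.choose

theorem gm_app {V : X.Opens} (g : Γ(homSh F G, V)) {V' : X.Opens} (h : V' ≤ V) (m : Γ(F, V'))
    (y : X) (hy : y ∈ V') : gm G V' y hy (app g h m) = g.1 ⟨y, h hy⟩ (gm F V' y hy m) :=
  (existsUnique_app F G g.1 g.2 h m).exists.choose_spec y hy

theorem app_eq_of_gm {V : X.Opens} (g : Γ(homSh F G, V)) {V' : X.Opens} (h : V' ≤ V) (m : Γ(F, V'))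
    (n : Γ(G, V')) (hn : ∀ (y : X) (hy : y ∈ V'), gm G V' y hy n = g.1 ⟨y, h hy⟩ (gm F V' y hy m)) :
    app g h m = n :=
  section_ext G _ _ fun y hy => (gm_app g h m y hy).trans (hn y hy).symm

theorem app_add_right {V : X.Opens} (g : Γ(homSh F G, V)) {V' : X.Opens} (h : V' ≤ V) (m m' : Γ(F, V')) :
    app g h (m + m') = app g h m + app g h m' :=
  app_eq_of_gm g h _ _ fun y hy => by
    rw [show gm G V' y hy (app g h m + app g h m') = gm G V' y hy (app g h m) + gm G V' y hy (app g h m')
      from map_add _ _ _, gm_app, gm_app,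
      show gm F V' y hy (m + m') = gm F V' y hy m + gm F V' y hy m' from map_add _ _ _, map_add]

theorem app_zero_right {V : X.Opens} (g : Γ(homSh F G, V)) {V' : X.Opens} (h : V' ≤ V) :
    app g h (0 : Γ(F, V')) = 0 :=
  app_eq_of_gm g h _ _ fun y hy => by
    rw [gm_zero, gm_zero, map_zero]

theorem app_smul_right {V : X.Opens} (g : Γ(homSh F G, V)) {V' : X.Opens} (h : V' ≤ V) (r : Γ(X, V'))
    (m : Γ(F, V')) : app g h (r • m) = r • app g h m :=
  app_eq_of_gm g h _ _ fun y hy => by
    rw [gm_smul, gm_smul, gm_app, map_smul]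

theorem res_app {V : X.Opens} (g : Γ(homSh F G, V)) {V' V'' : X.Opens} (h : V' ≤ V) (h' : V'' ≤ V')
    (m : Γ(F, V')) : res G h' (app g h m) = app g (h'.trans h) (res F h' m) :=
  (app_eq_of_gm g (h'.trans h) _ _ fun y hy => by
    rw [gm_res, gm_res, gm_app]).symm

theorem app_add_left {V : X.Opens} (g g' : Γ(homSh F G, V)) {V' : X.Opens} (h : V' ≤ V) (m : Γ(F, V')) :
    app (g + g') h m = app g h m + app g' h m :=
  app_eq_of_gm _ h _ _ fun y hy => by
    rw [show gm G V' y hy (app g h m + app g' h m) = gm G V' y hy (app g h m) + gm G V' y hy (app g' h m)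
      from map_add _ _ _, gm_app, gm_app]
    rfl

theorem app_smul_left {V : X.Opens} (r : Γ(X, V)) (g : Γ(homSh F G, V)) {V' : X.Opens} (h : V' ≤ V)
    (m : Γ(F, V')) : app (r • g) h m = resO h r • app g h m :=
  app_eq_of_gm _ h _ _ fun y hy => by
    rw [gm_smul, gm_app, germ_resO]
    rfl

theorem app_res {V W : X.Opens} (g : Γ(homSh F G, V)) (hW : W ≤ V) {V' : X.Opens} (h : V' ≤ W)
    (m : Γ(F, V')) : app (res (homSh F G) hW g) h m = app g (h.trans hW) m :=
  app_eq_of_gm _ h _ _ fun y hy => by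
    rw [gm_app]
    rfl

/-- a section of the sheaf Hom is determined by its action on sections. -/
theorem ext_of_app {V : X.Opens} (g g' : Γ(homSh F G, V))
    (h : ∀ (V' : X.Opens) (hV' : V' ≤ V) (m : Γ(F, V')), app g hV' m = app g' hV' m) : g = g' := by
  refine Subtype.ext (funext fun z => LinearMap.ext fun ξ => ?_)
  obtain ⟨W, hzW, m, rfl⟩ := TopCat.Presheaf.exists_germ_eq F.presheaf ξ
  have hz : z.1 ∈ W ⊓ V := ⟨hzW, z.2⟩
  have h1 := congrArg (gm G (W ⊓ V) z.1 hz) (h (W ⊓ V) inf_le_right (res F inf_le_left m))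
  rw [gm_app, gm_app, gm_res] at h1
  exact h1

/-- the additive map on sections over `V.ι ''ᵁ W` defined by a section of the sheaf Hom over `V`. -/
noncomputable def appHom {V : X.Opens} (g : Γ(homSh F G, V)) {V' : X.Opens} (h : V' ≤ V) :
    Γ(F, V') →+ Γ(G, V') where
  toFun := app g h
  map_zero' := app_zero_right g h
  map_add' := app_add_right g h

/-- the morphism of restricted modules defined by a section of the sheaf Hom. -/
noncomputable def toHom {V : X.Opens} (g : Γ(homSh F G, V)) : F.restrict V.ι ⟶ G.restrict V.ι :=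
  ⟨PresheafOfModules.homMk (M₁ := (F.restrict V.ι).val) (M₂ := (G.restrict V.ι).val)
    { app := fun W => AddCommGrpCat.ofHom (appHom g (V.ι_image_le W.unop))
      naturality := fun {W W'} i => by
        ext m
        exact (res_app g (V.ι_image_le W.unop) (V.ι.image_mono (leOfHom i.unop)) m).symm }
    (fun W r m => by
      exact app_smul_right g (V.ι_image_le W.unop) ((V.ι.appIso W.unop).inv r) m)⟩

@[simp] theorem toHom_app {V : X.Opens} (g : Γ(homSh F G, V)) (W : (V : Scheme.{u}).Opens)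
    (m : Γ(F, V.ι ''ᵁ W)) :
    (toHom g).app W m = app g (V.ι_image_le W) m := rfl

end Groth.Agent.Lib.Helper1.RefHullLib
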