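import Groth.Agent.Lib.Helper1.RefHull8
import Groth.Agent.Lib.Helper28.GenIso

/-!
# The dual generator of the dual of a module with a generator (helper1)
-/

set_option autoImplicit false
universe u
open CategoryTheory CategoryTheory.Limits AlgebraicGeometry Opposite TopologicalSpace
open RefHull

namespace Groth.Agent.Lib.Helper1.RefHullLib

open Groth.Agent.Lib.Helper28.QCohLoc Groth.Agent.Lib.Helper29.QCohStalk
open Groth.Agent.Lib.Helper28.GenLocus Groth.Agent.Lib.Helper18

variable {X : Scheme.{u}} {L : X.Modules} {U : X.Opens} {g : Γ(L, U)}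

/-- a section of `O_X`, as a section of the structure module. -/
abbrev toO {V : X.Opens} (c : Γ(X, V)) : Γ(Coh.structureModule X, V) := c

/-- a section of the structure module, as a section of `O_X`. -/
abbrev ofO {V : X.Opens} (c : Γ(Coh.structureModule X, V)) : Γ(X, V) := c

/-- the coordinate of a stalk with respect to a generator. -/
noncomputable def stalkCoord (hg : IsGen L U g) (x : X) (hx : x ∈ U) :
    L.presheaf.stalk x ≃ₗ[X.presheaf.stalk x] X.presheaf.stalk x :=
  (LinearEquiv.ofBijective (LinearMap.toSpanSingleton _ _ (gm L U x hx g))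
    (bijective_smul_gm_of_isGen hg x hx)).symm

theorem stalkCoord_smul_gm (hg : IsGen L U g) (x : X) (hx : x ∈ U) (a : X.presheaf.stalk x) :
    stalkCoord hg x hx (a • gm L U x hx g) = a :=
  (LinearEquiv.ofBijective (LinearMap.toSpanSingleton _ _ (gm L U x hx g))
    (bijective_smul_gm_of_isGen hg x hx)).symm_apply_apply a

theorem gm_toO {V : X.Opens} (c : Γ(X, V)) (y : X) (hy : y ∈ V) :
    gm (Coh.structureModule X) V y hy (toO c) = CycUnitStalk.e X y (X.presheaf.germ V y hy c) := by
  show CycUnitStalk.gF X y V hy c = X.presheaf.germ V y hy c • CycUnitStalk.one X y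
  rw [CycUnitStalk.smul_one]

/-- the dual generator. -/
noncomputable def dualGen (hg : IsGen L U g) : Γ(dual L, U) :=
  ⟨fun x => (CycUnitStalk.e X x.1).toLinearMap ∘ₗ (stalkCoord hg x.1 x.2).toLinearMap,
    fun V i m x => ⟨V, x.2, 𝟙 V, toO (hg.coef i.le m), fun y => by
      have h1 : gm L V y.1 y.2 m = X.presheaf.germ V y.1 y.2 (hg.coef i.le m) • gm L U y.1 (i.le y.2) g := by
        conv_lhs => rw [← hg.coef_smul i.le m]
        rw [gm_smul, gm_res]
      show CycUnitStalk.e X y.1 (stalkCoord hg y.1 (i.le y.2) (gm L V y.1 y.2 m)) = _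
      rw [h1, stalkCoord_smul_gm]
      exact (gm_toO _ y.1 y.2).symm⟩⟩

theorem app_dualGen (hg : IsGen L U g) {V : X.Opens} (hV : V ≤ U) (m : Γ(L, V)) :
    app (dualGen hg) hV m = toO (hg.coef hV m) :=
  app_eq_of_gm _ hV _ _ fun y hy => by
    have h1 : gm L V y hy m = X.presheaf.germ V y hy (hg.coef hV m) • gm L U y (hV hy) g := by
      conv_lhs => rw [← hg.coef_smul hV m]
      rw [gm_smul, gm_res]
    show _ = CycUnitStalk.e X y (stalkCoord hg y (hV hy) (gm L V y hy m))
    rw [h1, stalkCoord_smul_gm]
    exact gm_toO _ y hy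


theorem smul_toO {V : X.Opens} (a c : Γ(X, V)) :
    (a • toO c : Γ(Coh.structureModule X, V)) = toO (a * c) := rfl

theorem res_toO {V V' : X.Opens} (h : V' ≤ V) (c : Γ(X, V)) :
    res (Coh.structureModule X) h (toO c) = toO (resO h c) := rfl

/-- the dual generator generates the dual. -/
theorem isGen_dualGen (hg : IsGen L U g) : IsGen (dual L) U (dualGen hg) := by
  intro W hW
  have hone : ∀ c : Γ(X, W), app (c • res (dual L) hW (dualGen hg)) le_rfl (res L hW g) = toO c := by
    intro c
    rw [app_smul_left, app_res, app_dualGen, hg.coef_res_self, resO_self, smul_toO, mul_one]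
  constructor
  · intro c c' hcc
    have h1 : app (c • res (dual L) hW (dualGen hg)) le_rfl (res L hW g) =
        app (c' • res (dual L) hW (dualGen hg)) le_rfl (res L hW g) := congrArg (fun φ => app φ le_rfl _) hcc
    rw [hone, hone] at h1
    exact h1
  · intro φ
    refine ⟨ofO (app φ le_rfl (res L hW g)), ?_⟩
    apply ext_of_app
    intro V' hV' m
    rw [app_smul_left, app_res, app_dualGen]
    have h2 : app φ hV' m = hg.coef (hV'.trans hW) m • res (Coh.structureModule X) hV' (app φ le_rfl (res L hW g)) := by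
      conv_lhs => rw [← hg.coef_smul (hV'.trans hW) m]
      rw [app_smul_right, res_app, res_res]
    rw [h2]
    show toO (resO hV' (ofO (app φ le_rfl (res L hW g))) * hg.coef (hV'.trans hW) m) =
      toO (hg.coef (hV'.trans hW) m * resO hV' (ofO (app φ le_rfl (res L hW g))))
    rw [mul_comm]

/-- restriction of the dual generator. -/
theorem res_dualGen (hg : IsGen L U g) {V : X.Opens} (hV : V ≤ U) :
    res (dual L) hV (dualGen hg) = dualGen (hg.res hV) := by
  apply ext_of_app
  intro V' hV' m
  rw [app_res, app_dualGen, app_dualGen]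
  congr 1
  symm
  apply (hg.res hV).coef_eq
  rw [res_res, hg.coef_smul]

/-- change of generator. -/
theorem dualGen_eq_smul (hg : IsGen L U g) {g' : Γ(L, U)} (hg' : IsGen L U g') (u : Γ(X, U))
    (hu : g' = (u • g : Γ(L, U))) : dualGen hg = (u • dualGen hg' : Γ(dual L, U)) := by
  apply ext_of_app
  intro V' hV' m
  rw [app_smul_left, app_dualGen, app_dualGen, smul_toO]
  congr 1
  apply hg.coef_eq
  rw [mul_comm, mul_smul, ← res_smul, ← hu, hg'.coef_smul]

end Groth.Agent.Lib.Helper1.RefHullLib
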