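import Groth.Agent.Lib.Helper1.RefHull12
import Groth.Agent.Lib.Helper28.ModIsoApp

/-!
# Isomorphisms between rank one reflexive modules from generator data (helper1)
-/

set_option autoImplicit false
universe u
open CategoryTheory CategoryTheory.Limits AlgebraicGeometry Opposite TopologicalSpace
open RefHull

namespace Groth.Agent.Lib.Helper1.RefHullLib

open Groth.Agent.Lib.Helper28.QCohLoc Groth.Agent.Lib.Helper29.QCohStalk
open Groth.Agent.Lib.Helper28.GenLocus Groth.Agent.Lib.Helper18 Groth.Agent.Lib.Helper28.TensorGen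
  Groth.Agent.Lib.Helper28.InvTensor

variable {X : Scheme.{u}}

/-- two reflexive coherent modules on a normal scheme whose local generators are parametrised by
the same generator data, compatibly with restriction and with the same change of generators, are
isomorphic. -/
theorem nonempty_iso_of_genData [IsLocallyNoetherian X] (hX : Pi1.IsNormalScheme X)
    (M N : X.Modules) (hM : Coh.IsCoh M) (hMr : IsReflexive M) (hN : Coh.IsCoh N)
    (hNr : IsReflexive N) (D : X.Opens → Type u)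
    (rs : ∀ {U V : X.Opens}, V ≤ U → D U → D V)
    (a : ∀ U : X.Opens, D U → Γ(M, U)) (b : ∀ U : X.Opens, D U → Γ(N, U))
    (ha : ∀ U d, IsGen M U (a U d)) (hb : ∀ U d, IsGen N U (b U d))
    (resa : ∀ (U V : X.Opens) (h : V ≤ U) (d : D U), res M h (a U d) = a V (rs h d))
    (resb : ∀ (U V : X.Opens) (h : V ≤ U) (d : D U), res N h (b U d) = b V (rs h d))
    (hcov : ∀ x : X, ¬ (2 : WithBot ℕ∞) ≤ ringKrullDim (X.presheaf.stalk x) →
      ∃ U : X.Opens, x ∈ U ∧ Nonempty (D U))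
    (hom : ∀ (U : X.Opens) (d d' : D U), ∃ c : Γ(X, U),
      a U d = (c • a U d' : Γ(M, U)) ∧ b U d = (c • b U d' : Γ(N, U))) :
    Nonempty (M ≅ N) := by
  refine nonempty_iso_of_cocycle_codimOne hX M N hM hMr hN hNr (ι := Σ U : X.Opens, D U)
    (fun p => p.1) (fun p => a p.1 p.2) (fun p => b p.1 p.2) (fun p => ha _ _) (fun p => hb _ _)
    ?_ ?_
  · intro x hx
    obtain ⟨U, hxU, ⟨d⟩⟩ := hcov x hx
    exact ⟨⟨U, d⟩, hxU⟩
  · intro p q
    obtain ⟨c, hc1, hc2⟩ := hom (p.1 ⊓ q.1) (rs inf_le_left p.2) (rs inf_le_right q.2)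
    refine ⟨c, ?_, ?_⟩
    · rw [resa, resa]
      exact hc1
    · rw [resb, resb]
      exact hc2


/-- generators of a module over an open. -/
def Gen1 (F : X.Modules) (U : X.Opens) : Type u := {g : Γ(F, U) // IsGen F U g}

/-- restriction of generators. -/
noncomputable def Gen1.rs {F : X.Modules} {U V : X.Opens} (h : V ≤ U) (d : Gen1 F U) : Gen1 F V :=
  ⟨res F h d.1, d.2.res h⟩

/-- any two generators differ by a function. -/
theorem Gen1.exists_smul {F : X.Modules} {U : X.Opens} (d d' : Gen1 F U) :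
    ∃ u : Γ(X, U), d.1 = (u • d'.1 : Γ(F, U)) := by
  refine ⟨d'.2.coef le_rfl d.1, ?_⟩
  have h := d'.2.coef_smul le_rfl d.1
  rw [res_self] at h
  exact h.symm

theorem exists_gen1 [IsIntegral X] [IsLocallyNoetherian X] (hX : Pi1.IsNormalScheme X)
    (F : X.Modules) (hF : IsRef1 F) (x : X)
    (hx : ¬ (2 : WithBot ℕ∞) ≤ ringKrullDim (X.presheaf.stalk x)) :
    ∃ U : X.Opens, x ∈ U ∧ Nonempty (Gen1 F U) := by
  obtain ⟨U, g, hxU, hg⟩ := exists_isGen_of_isRef1 hX F hF x hx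
  exact ⟨U, hxU, ⟨⟨g, hg⟩⟩⟩

/-- an isomorphism maps generators to generators. -/
theorem isGen_app_of_iso {F F' : X.Modules} (e : F ≅ F') {U : X.Opens} {g : Γ(F, U)}
    (hg : IsGen F U g) : IsGen F' U (e.hom.app U g) := by
  intro W hW
  have hfun : (fun c : Γ(X, W) => (c • res F' hW (e.hom.app U g) : Γ(F', W))) =
      e.hom.app W ∘ fun c : Γ(X, W) => (c • res F hW g : Γ(F, W)) := by
    funext c
    simp only [Function.comp_apply]
    rw [Scheme.Modules.Hom.app_smul, Groth.Agent.Lib.Helper28.QCohLoc.app_res]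
  rw [hfun]
  exact (Groth.Agent.Lib.Helper28.QCohLoc.app_bijective_of_isIso e.hom W).comp (hg W hW)

/-- transport of generators along an isomorphism. -/
noncomputable def Gen1.map {F F' : X.Modules} (e : F ≅ F') {U : X.Opens} (d : Gen1 F U) : Gen1 F' U :=
  ⟨e.hom.app U d.1, isGen_app_of_iso e d.2⟩

section

variable [IsIntegral X] [IsLocallyNoetherian X] (hX : Pi1.IsNormalScheme X)
include hX

/-- `(O ⊗ F)^** ≅ F` for a rank one reflexive module. -/
theorem nonempty_ddual_unit_tensor_iso (F : X.Modules) (hF : IsRef1 F) :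
    Nonempty (ddual (CohB1.tensorMod (Coh.structureModule X) F) ≅ F) := by
  have h1 := isRef1_ddual_tensorMod _ F isRef1_structureModule hF
  refine nonempty_iso_of_genData hX _ _ h1.1 h1.2.1 hF.1 hF.2.1 (Gen1 F) Gen1.rs
    (fun U d => ddualGenS (tmulSec _ F (oneSec X U) d.1)) (fun U d => d.1)
    (fun U d => isGen_ddualGenS (isGen_tmulSec _ F (isGen_oneSec U) d.2)) (fun U d => d.2)
    (fun U V h d => by
      rw [res_ddualGenS (isGen_tmulSec _ F (isGen_oneSec U) d.2), tmulSec_res, res_oneSec]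
      rfl)
    (fun U V h d => rfl) (exists_gen1 hX F hF) ?_
  intro U d d'
  obtain ⟨u, hu⟩ := Gen1.exists_smul d d'
  refine ⟨u, ?_, hu⟩
  have hg := isGen_tmulSec _ F (isGen_oneSec U) d.2
  rw [hu, tmulSec_smul_right] at hg
  show ddualGenS (tmulSec _ F (oneSec X U) d.1) = _
  rw [hu, tmulSec_smul_right, ddualGenS_smul (isGen_tmulSec _ F (isGen_oneSec U) d'.2) u hg]

/-- `(F^* ⊗ F)^** ≅ O` for a rank one reflexive module. -/
theorem nonempty_ddual_dual_tensor_iso (F : X.Modules) (hF : IsRef1 F) :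
    Nonempty (ddual (CohB1.tensorMod (dual F) F) ≅ Coh.structureModule X) := by
  have h1 := isRef1_ddual_tensorMod _ F (isRef1_dual F hF) hF
  have h2 : IsRef1 (Coh.structureModule X) := isRef1_structureModule
  refine nonempty_iso_of_genData hX _ _ h1.1 h1.2.1 h2.1 h2.2.1 (Gen1 F) Gen1.rs
    (fun U d => ddualGenS (tmulSec (dual F) F (dualGenS d.1) d.1)) (fun U d => oneSec X U)
    (fun U d => isGen_ddualGenS (isGen_tmulSec _ F (isGen_dualGenS d.2) d.2))
    (fun U d => isGen_oneSec U)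
    (fun U V h d => by
      rw [res_ddualGenS (isGen_tmulSec _ F (isGen_dualGenS d.2) d.2), tmulSec_res,
        res_dualGenS d.2]
      rfl)
    (fun U V h d => res_oneSec h) (exists_gen1 hX F hF) ?_
  intro U d d'
  obtain ⟨u, hu⟩ := Gen1.exists_smul d d'
  refine ⟨1, ?_, (one_smul _ _).symm⟩
  rw [one_smul]
  show ddualGenS (tmulSec (dual F) F (dualGenS d.1) d.1) =
    ddualGenS (tmulSec (dual F) F (dualGenS d'.1) d'.1)
  congr 1
  have hg : IsGen F U (u • d'.1 : Γ(F, U)) := hu ▸ d.2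
  conv_rhs => rw [dualGenS_smul d'.2 u hg, tmulSec_smul_left, ← tmulSec_smul_right]
  rw [hu]

/-- `(F ⊗ G)^** ≅ (G ⊗ F)^**`. -/
theorem nonempty_ddual_tensor_comm_iso (F G : X.Modules) (hF : IsRef1 F) (hG : IsRef1 G) :
    Nonempty (ddual (CohB1.tensorMod F G) ≅ ddual (CohB1.tensorMod G F)) := by
  have h1 := isRef1_ddual_tensorMod F G hF hG
  have h2 := isRef1_ddual_tensorMod G F hG hF
  refine nonempty_iso_of_genData hX _ _ h1.1 h1.2.1 h2.1 h2.2.1 (fun U => Gen1 F U × Gen1 G U)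
    (fun h d => (d.1.rs h, d.2.rs h))
    (fun U d => ddualGenS (tmulSec F G d.1.1 d.2.1)) (fun U d => ddualGenS (tmulSec G F d.2.1 d.1.1))
    (fun U d => isGen_ddualGenS (isGen_tmulSec F G d.1.2 d.2.2))
    (fun U d => isGen_ddualGenS (isGen_tmulSec G F d.2.2 d.1.2))
    (fun U V h d => by
      rw [res_ddualGenS (isGen_tmulSec F G d.1.2 d.2.2), tmulSec_res]
      rfl)
    (fun U V h d => by
      rw [res_ddualGenS (isGen_tmulSec G F d.2.2 d.1.2), tmulSec_res]
      rfl)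
    (fun x hx => by
      obtain ⟨U, hxU, ⟨d⟩⟩ := exists_gen1 hX F hF x hx
      obtain ⟨U', hxU', ⟨d'⟩⟩ := exists_gen1 hX G hG x hx
      exact ⟨U ⊓ U', ⟨hxU, hxU'⟩, ⟨(d.rs inf_le_left, d'.rs inf_le_right)⟩⟩) ?_
  intro U d d'
  obtain ⟨u, hu⟩ := Gen1.exists_smul d.1 d'.1
  obtain ⟨v, hv⟩ := Gen1.exists_smul d.2 d'.2
  refine ⟨u * v, ?_, ?_⟩
  · have hg := isGen_tmulSec F G d.1.2 d.2.2
    rw [hu, hv, tmulSec_smul_left, tmulSec_smul_right, ← mul_smul] at hg
    show ddualGenS (tmulSec F G d.1.1 d.2.1) = _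
    rw [hu, hv, tmulSec_smul_left, tmulSec_smul_right, ← mul_smul,
      ddualGenS_smul (isGen_tmulSec F G d'.1.2 d'.2.2) (u * v) hg]
  · have hg := isGen_tmulSec G F d.2.2 d.1.2
    rw [hu, hv, tmulSec_smul_left, tmulSec_smul_right, ← mul_smul, mul_comm] at hg
    show ddualGenS (tmulSec G F d.2.1 d.1.1) = _
    rw [hu, hv, tmulSec_smul_left, tmulSec_smul_right, ← mul_smul, mul_comm,
      ddualGenS_smul (isGen_tmulSec G F d'.2.2 d'.1.2) (u * v) hg]

/-- `((F ⊗ G)^** ⊗ H)^** ≅ (F ⊗ (G ⊗ H)^**)^**`. -/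
theorem nonempty_ddual_tensor_assoc_iso (F G H : X.Modules) (hF : IsRef1 F) (hG : IsRef1 G)
    (hH : IsRef1 H) :
    Nonempty (ddual (CohB1.tensorMod (ddual (CohB1.tensorMod F G)) H) ≅
      ddual (CohB1.tensorMod F (ddual (CohB1.tensorMod G H)))) := by
  have h1 := isRef1_ddual_tensorMod _ H (isRef1_ddual_tensorMod F G hF hG) hH
  have h2 := isRef1_ddual_tensorMod F _ hF (isRef1_ddual_tensorMod G H hG hH)
  refine nonempty_iso_of_genData hX _ _ h1.1 h1.2.1 h2.1 h2.2.1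
    (fun U => Gen1 F U × Gen1 G U × Gen1 H U)
    (fun h d => (d.1.rs h, d.2.1.rs h, d.2.2.rs h))
    (fun U d => ddualGenS (tmulSec _ H (ddualGenS (tmulSec F G d.1.1 d.2.1.1)) d.2.2.1))
    (fun U d => ddualGenS (tmulSec F _ d.1.1 (ddualGenS (tmulSec G H d.2.1.1 d.2.2.1))))
    (fun U d => isGen_ddualGenS (isGen_tmulSec _ H
      (isGen_ddualGenS (isGen_tmulSec F G d.1.2 d.2.1.2)) d.2.2.2))
    (fun U d => isGen_ddualGenS (isGen_tmulSec F _ d.1.2
      (isGen_ddualGenS (isGen_tmulSec G H d.2.1.2 d.2.2.2))))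
    (fun U V h d => by
      rw [res_ddualGenS (isGen_tmulSec _ H (isGen_ddualGenS (isGen_tmulSec F G d.1.2 d.2.1.2)) d.2.2.2),
        tmulSec_res, res_ddualGenS (isGen_tmulSec F G d.1.2 d.2.1.2), tmulSec_res]
      rfl)
    (fun U V h d => by
      rw [res_ddualGenS (isGen_tmulSec F _ d.1.2 (isGen_ddualGenS (isGen_tmulSec G H d.2.1.2 d.2.2.2))),
        tmulSec_res, res_ddualGenS (isGen_tmulSec G H d.2.1.2 d.2.2.2), tmulSec_res]
      rfl)
    (fun x hx => by
      obtain ⟨U, hxU, ⟨d⟩⟩ := exists_gen1 hX F hF x hx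
      obtain ⟨U', hxU', ⟨d'⟩⟩ := exists_gen1 hX G hG x hx
      obtain ⟨U'', hxU'', ⟨d''⟩⟩ := exists_gen1 hX H hH x hx
      exact ⟨U ⊓ U' ⊓ U'', ⟨⟨hxU, hxU'⟩, hxU''⟩,
        ⟨(d.rs (inf_le_left.trans inf_le_left), d'.rs (inf_le_left.trans inf_le_right),
          d''.rs inf_le_right)⟩⟩) ?_
  intro U d d'
  obtain ⟨u, hu⟩ := Gen1.exists_smul d.1 d'.1
  obtain ⟨v, hv⟩ := Gen1.exists_smul d.2.1 d'.2.1
  obtain ⟨w, hw⟩ := Gen1.exists_smul d.2.2 d'.2.2
  refine ⟨u * v * w, ?_, ?_⟩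
  · have hg1 := isGen_tmulSec F G d.1.2 d.2.1.2
    rw [hu, hv, tmulSec_smul_left, tmulSec_smul_right, ← mul_smul] at hg1
    have e1 : ddualGenS (tmulSec F G d.1.1 d.2.1.1) =
        ((u * v) • ddualGenS (tmulSec F G d'.1.1 d'.2.1.1) : Γ(ddual (CohB1.tensorMod F G), U)) := by
      rw [hu, hv, tmulSec_smul_left, tmulSec_smul_right, ← mul_smul,
        ddualGenS_smul (isGen_tmulSec F G d'.1.2 d'.2.1.2) (u * v) hg1]
    have hg2 := isGen_tmulSec _ H (isGen_ddualGenS (isGen_tmulSec F G d.1.2 d.2.1.2)) d.2.2.2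
    rw [e1, hw, tmulSec_smul_left, tmulSec_smul_right, ← mul_smul] at hg2
    show ddualGenS (tmulSec _ H (ddualGenS (tmulSec F G d.1.1 d.2.1.1)) d.2.2.1) = _
    rw [e1, hw, tmulSec_smul_left, tmulSec_smul_right, ← mul_smul,
      ddualGenS_smul (isGen_tmulSec _ H (isGen_ddualGenS (isGen_tmulSec F G d'.1.2 d'.2.1.2)) d'.2.2.2)
        (u * v * w) hg2]
  · have hg1 := isGen_tmulSec G H d.2.1.2 d.2.2.2
    rw [hv, hw, tmulSec_smul_left, tmulSec_smul_right, ← mul_smul] at hg1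
    have e1 : ddualGenS (tmulSec G H d.2.1.1 d.2.2.1) =
        ((v * w) • ddualGenS (tmulSec G H d'.2.1.1 d'.2.2.1) : Γ(ddual (CohB1.tensorMod G H), U)) := by
      rw [hv, hw, tmulSec_smul_left, tmulSec_smul_right, ← mul_smul,
        ddualGenS_smul (isGen_tmulSec G H d'.2.1.2 d'.2.2.2) (v * w) hg1]
    have hg2 := isGen_tmulSec F _ d.1.2 (isGen_ddualGenS (isGen_tmulSec G H d.2.1.2 d.2.2.2))
    rw [e1, hu, tmulSec_smul_left, tmulSec_smul_right, ← mul_smul, ← mul_assoc] at hg2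
    show ddualGenS (tmulSec F _ d.1.1 (ddualGenS (tmulSec G H d.2.1.1 d.2.2.1))) = _
    rw [e1, hu, tmulSec_smul_left, tmulSec_smul_right, ← mul_smul, ← mul_assoc,
      ddualGenS_smul (isGen_tmulSec F _ d'.1.2 (isGen_ddualGenS (isGen_tmulSec G H d'.2.1.2 d'.2.2.2)))
        (u * v * w) hg2]

/-- the reflexive tensor product respects isomorphisms. -/
theorem nonempty_ddual_tensor_congr_iso {F F' G G' : X.Modules} (hF : IsRef1 F) (hG : IsRef1 G)
    (hF' : IsRef1 F') (hG' : IsRef1 G') (e : F ≅ F') (e' : G ≅ G') :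
    Nonempty (ddual (CohB1.tensorMod F G) ≅ ddual (CohB1.tensorMod F' G')) := by
  have h1 := isRef1_ddual_tensorMod F G hF hG
  have h2 := isRef1_ddual_tensorMod F' G' hF' hG'
  refine nonempty_iso_of_genData hX _ _ h1.1 h1.2.1 h2.1 h2.2.1 (fun U => Gen1 F U × Gen1 G U)
    (fun h d => (d.1.rs h, d.2.rs h))
    (fun U d => ddualGenS (tmulSec F G d.1.1 d.2.1))
    (fun U d => ddualGenS (tmulSec F' G' (e.hom.app U d.1.1) (e'.hom.app U d.2.1)))
    (fun U d => isGen_ddualGenS (isGen_tmulSec F G d.1.2 d.2.2))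
    (fun U d => isGen_ddualGenS (isGen_tmulSec F' G' (isGen_app_of_iso e d.1.2) (isGen_app_of_iso e' d.2.2)))
    (fun U V h d => by
      rw [res_ddualGenS (isGen_tmulSec F G d.1.2 d.2.2), tmulSec_res]
      rfl)
    (fun U V h d => by
      rw [res_ddualGenS (isGen_tmulSec F' G' (isGen_app_of_iso e d.1.2) (isGen_app_of_iso e' d.2.2)),
        tmulSec_res, ← Groth.Agent.Lib.Helper28.QCohLoc.app_res, ← Groth.Agent.Lib.Helper28.QCohLoc.app_res]
      rfl)
    (fun x hx => by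
      obtain ⟨U, hxU, ⟨d⟩⟩ := exists_gen1 hX F hF x hx
      obtain ⟨U', hxU', ⟨d'⟩⟩ := exists_gen1 hX G hG x hx
      exact ⟨U ⊓ U', ⟨hxU, hxU'⟩, ⟨(d.rs inf_le_left, d'.rs inf_le_right)⟩⟩) ?_
  intro U d d'
  obtain ⟨u, hu⟩ := Gen1.exists_smul d.1 d'.1
  obtain ⟨v, hv⟩ := Gen1.exists_smul d.2 d'.2
  refine ⟨u * v, ?_, ?_⟩
  · have hg := isGen_tmulSec F G d.1.2 d.2.2
    rw [hu, hv, tmulSec_smul_left, tmulSec_smul_right, ← mul_smul] at hg
    show ddualGenS (tmulSec F G d.1.1 d.2.1) = _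
    rw [hu, hv, tmulSec_smul_left, tmulSec_smul_right, ← mul_smul,
      ddualGenS_smul (isGen_tmulSec F G d'.1.2 d'.2.2) (u * v) hg]
  · have hg := isGen_tmulSec F' G' (isGen_app_of_iso e d.1.2) (isGen_app_of_iso e' d.2.2)
    rw [hu, hv, Scheme.Modules.Hom.app_smul, Scheme.Modules.Hom.app_smul, tmulSec_smul_left,
      tmulSec_smul_right, ← mul_smul] at hg
    show ddualGenS (tmulSec F' G' (e.hom.app U d.1.1) (e'.hom.app U d.2.1)) = _
    rw [hu, hv, Scheme.Modules.Hom.app_smul, Scheme.Modules.Hom.app_smul, tmulSec_smul_left,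
      tmulSec_smul_right, ← mul_smul,
      ddualGenS_smul (isGen_tmulSec F' G' (isGen_app_of_iso e d'.1.2) (isGen_app_of_iso e' d'.2.2))
        (u * v) hg]

/-- the dual respects isomorphisms. -/
theorem nonempty_dual_congr_iso {F F' : X.Modules} (hF : IsRef1 F) (hF' : IsRef1 F') (e : F ≅ F') :
    Nonempty (dual F ≅ dual F') := by
  have h1 := isRef1_dual F hF
  have h2 := isRef1_dual F' hF'
  refine nonempty_iso_of_genData hX _ _ h1.1 h1.2.1 h2.1 h2.2.1 (Gen1 F) Gen1.rs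
    (fun U d => dualGenS d.1) (fun U d => dualGenS (e.hom.app U d.1))
    (fun U d => isGen_dualGenS d.2) (fun U d => isGen_dualGenS (isGen_app_of_iso e d.2))
    (fun U V h d => res_dualGenS d.2 h)
    (fun U V h d => by
      rw [res_dualGenS (isGen_app_of_iso e d.2), ← Groth.Agent.Lib.Helper28.QCohLoc.app_res]
      rfl)
    (exists_gen1 hX F hF) ?_
  intro U d d'
  obtain ⟨u, hu⟩ := Gen1.exists_smul d' d
  refine ⟨u, ?_, ?_⟩
  · show dualGenS d.1 = (u • dualGenS d'.1 : Γ(dual F, U))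
    rw [hu]
    exact dualGenS_smul d.2 u (hu ▸ d'.2)
  · show dualGenS (e.hom.app U d.1) = (u • dualGenS (e.hom.app U d'.1) : Γ(dual F', U))
    rw [hu, Scheme.Modules.Hom.app_smul]
    refine dualGenS_smul (isGen_app_of_iso e d.2) u ?_
    rw [← Scheme.Modules.Hom.app_smul, ← hu]
    exact isGen_app_of_iso e d'.2

end

end Groth.Agent.Lib.Helper1.RefHullLib
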