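import Groth.Agent.S16090
import Groth.Agent.Lib.Helper13.CDivOrd
import Groth.Agent.Lib.Helper28.SymPowC

/-!
# Orders of rational sections of rank one reflexive modules and `Scheme.ord` (helper1)
-/

set_option autoImplicit false
universe u
open CategoryTheory CategoryTheory.Limits AlgebraicGeometry Opposite TopologicalSpace
open RefHull

namespace Groth.Agent.Lib.Helper1.RefHullLib

open Groth.Agent.Lib.Helper28.QCohLoc Groth.Agent.Lib.Helper29.QCohStalk
open Groth.Agent.Lib.Helper28.GenLocus Groth.Agent.Lib.Helper18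
open Groth.Agent.Lib.Helper18.C1Core Groth.Agent.Lib.Helper18.InvStalk Groth.Agent.Lib.Helper18.SDivLib
  Groth.Agent.Lib.Helper18.CycDiv

variable {X : Scheme.{u}}

/-- the residue map at the generic point of an integral scheme, as a ring isomorphism. -/
noncomputable def residueEquiv [IsIntegral X] : X.functionField ≃+* X.residueField (genericPoint X) :=
  RingEquiv.ofBijective (X.residue (genericPoint X)).hom
    ⟨(X.residue (genericPoint X)).hom.injective, IsLocalRing.residue_surjective⟩

/-- `Cyc.ordAt` along `η ⤳ x` is Mathlib's order of vanishing. -/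
theorem ordAt_residue_eq_ord [IsIntegral X] [IsLocallyNoetherian X] (x : X)
    (hx : Order.coheight x = 1) (h : genericPoint X ⤳ x) (α : X.functionField) :
    Cyc.ordAt x (genericPoint X) h (X.residue (genericPoint X) α) = Scheme.ord α x := by
  rw [ordAt_eq_ordFrac_stalk h (ker_specMap_eq_bot h rfl)]
  letI : Algebra (X.presheaf.stalk x) (X.residueField (genericPoint X)) :=
    (Cyc.specMap x (genericPoint X) h).toAlgebra
  have h1 := ordFrac_eq_of_ringEquiv (R := X.presheaf.stalk x) (R' := X.presheaf.stalk x)
    (K := X.functionField) (K' := X.residueField (genericPoint X)) (RingEquiv.refl _) residueEquiv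
    (fun r => rfl) α
  show CycAlg.ordFrac (X.presheaf.stalk x) (X.residueField (genericPoint X)) (residueEquiv α) = _
  rw [← h1]
  have hk : Ring.KrullDimLE 1 (X.presheaf.stalk x) := krullDimLE_of_coheight_le hx.le
  have hc : IsNoetherianRing (X.presheaf.stalk x) ∧ Ring.KrullDimLE 1 (X.presheaf.stalk x) ∧
      Nontrivial (X.presheaf.stalk x) ∧ IsFractionRing (X.presheaf.stalk x) X.functionField :=
    ⟨inferInstance, hk, inferInstance, inferInstance⟩
  unfold CycAlg.ordFrac
  rw [dif_pos hc, Scheme.ord_eq_ordHom_of_coheight_eq_one hx]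
  unfold Scheme.ordHom
  generalize Ring.ordFrac (X.presheaf.stalk x) α = z
  cases z with
  | zero => rfl
  | coe a => rfl

/-- the order of a rational section written on a local generator is Mathlib's order of vanishing
of the coefficient. -/
theorem secOrdAt_smul_mk_gm [IsIntegral X] [IsLocallyNoetherian X] (F : X.Modules) {U : X.Opens}
    {γ : Γ(F, U)} (hγ : IsGen F U γ) (x : X) (hxU : x ∈ U) (hx : Order.coheight x = 1)
    (h : genericPoint X ⤳ x) (hηU : genericPoint X ∈ U) (α : X.functionField) (hα : α ≠ 0) :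
    Cyc.secOrdAt F (genericPoint X) x h (α • (Submodule.Quotient.mk
      (gm F U (genericPoint X) hηU γ) : Cyc.secFibre F (genericPoint X))) = Scheme.ord α x := by
  have hdim : ringKrullDim (X.presheaf.stalk x) = 1 := by
    rw [ringKrullDim_stalk_eq_coheight, hx]
    rfl
  have hd := krullDimLE_one_locQuot_of_dim h hdim
  have sp : F.presheaf.stalkSpecializes h (gm F U x hxU γ) = gm F U (genericPoint X) hηU γ :=
    TopCat.Presheaf.germ_stalkSpecializes_apply _ _ _ _
  have hα' : X.residue (genericPoint X) α ≠ 0 :=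
    (map_ne_zero_iff _ (X.residue (genericPoint X)).hom.injective).2 hα
  rw [← sp, Groth.Agent.S16090.secOrdAt_smul_mk_of_freeGen' F h hd
    (Groth.Agent.S16090.freeGen_gm_of_isGen hγ x hxU)
    (by rw [sp]; exact Groth.Agent.S16090.freeGen_gm_of_isGen hγ (genericPoint X) hηU) α hα',
    ordAt_residue_eq_ord x hx h α]

/-- a unit of a local ring of a scheme extends to a unit on a neighbourhood. -/
theorem exists_unit_section (x : X) (a b : X.presheaf.stalk x) (hab : a * b = 1) :
    ∃ (U : X.Opens) (hxU : x ∈ U) (v w : Γ(X, U)), v * w = 1 ∧ X.presheaf.germ U x hxU v = a := by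
  obtain ⟨U1, hx1, a', rfl⟩ := TopCat.Presheaf.exists_germ_eq X.presheaf a
  obtain ⟨U2, hx2, b', rfl⟩ := TopCat.Presheaf.exists_germ_eq X.presheaf b
  have hx12 : x ∈ U1 ⊓ U2 := ⟨hx1, hx2⟩
  have h1 : X.presheaf.germ (U1 ⊓ U2) x hx12
      (resO inf_le_left a' * resO inf_le_right b') = X.presheaf.germ (U1 ⊓ U2) x hx12 1 := by
    rw [map_mul, germ_resO, germ_resO, hab, map_one]
  obtain ⟨U3, hx3, j₁, j₂, h2⟩ := TopCat.Presheaf.germ_eq X.presheaf x hx12 hx12 _ _ h1
  refine ⟨U3, hx3, resO (j₁.le.trans inf_le_left) a', resO (j₁.le.trans inf_le_right) b', ?_, ?_⟩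
  · have h3 : resO j₁.le (resO inf_le_left a' * resO inf_le_right b') = resO j₂.le 1 := h2
    have h4 : resO j₁.le (resO inf_le_left a' * resO inf_le_right b') =
        resO j₁.le (resO inf_le_left a') * resO j₁.le (resO inf_le_right b') :=
      map_mul (X.presheaf.map (homOfLE j₁.le).op).hom _ _
    have h5 : resO j₂.le (1 : Γ(X, U1 ⊓ U2)) = 1 := map_one (X.presheaf.map (homOfLE j₂.le).op).hom
    rw [h4, h5, resO_resO, resO_resO] at h3
    exact h3
  · rw [germ_resO]

/-- at a point of codimension one of a normal integral locally Noetherian scheme the local ring is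
a discrete valuation ring. -/
theorem isDiscreteValuationRing_stalk [IsIntegral X] [IsLocallyNoetherian X]
    (hX : Pi1.IsNormalScheme X) (x : X) (hx : Order.coheight x = 1) :
    IsDiscreteValuationRing (X.presheaf.stalk x) := by
  have hdim : ringKrullDim (X.presheaf.stalk x) = 1 := by
    rw [ringKrullDim_stalk_eq_coheight, hx]
    rfl
  haveI := (hX x).2
  haveI : IsPrincipalIdealRing (X.presheaf.stalk x) :=
    Groth.Agent.S7862.pid_of_dim_lt_two (X.presheaf.stalk x) (by rw [hdim]; decide)
  refine { not_a_field' := ?_ }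
  intro h0
  have hf : IsField (X.presheaf.stalk x) := IsLocalRing.isField_iff_maximalIdeal_eq.2 h0
  rw [ringKrullDim_eq_zero_of_isField hf] at hdim
  exact zero_ne_one hdim

end Groth.Agent.Lib.Helper1.RefHullLib
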