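import Groth.Agent.Lib.Helper1.RefHull5
import Groth.Agent.Lib.Helper24.Hartogs.Sections
import Groth.Agent.Lib.helper11.RegularSop

/-!
# The structure sheaf of a regular locally Noetherian scheme has the Hartogs property (helper1)
-/

set_option autoImplicit false
universe u
open CategoryTheory CategoryTheory.Limits AlgebraicGeometry Opposite TopologicalSpace
open RefHull

namespace Groth.Agent.Lib.Helper1.RefHullLib

open Groth.Agent.Lib.Helper28.QCohLoc Groth.Agent.Lib.Helper29.QCohStalk

/-- a regular local ring of dimension `≥ 2` has a regular sequence of length two in its maximal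
ideal. -/
theorem exists_weaklyRegular_pair (A : Type u) [CommRing A] [IsRegularLocalRing A]
    (h2 : (2 : WithBot ℕ∞) ≤ ringKrullDim A) :
    ∃ a b : A, a ∈ IsLocalRing.maximalIdeal A ∧ b ∈ IsLocalRing.maximalIdeal A ∧
      RingTheory.Sequence.IsWeaklyRegular A [a, b] := by
  obtain ⟨d, hd⟩ : ∃ d : ℕ, ringKrullDim A = d :=
    ⟨(IsLocalRing.maximalIdeal A).spanFinrank, (IsRegularLocalRing.spanFinrank_maximalIdeal (R := A)).symm⟩
  obtain ⟨rs, hlen, -, hmem, hreg⟩ := Groth.Agent.Lib.helper11.RegularSop.exists_regular_sop (A := A) d hd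
  have hd2 : 2 ≤ d := by
    rw [hd] at h2
    exact_mod_cast h2
  match rs, hlen, hmem, hreg with
  | [], hlen, _, _ => simp at hlen; omega
  | [_], hlen, _, _ => simp at hlen; omega
  | a :: b :: rest, _, hmem, hreg =>
    refine ⟨a, b, hmem a (by simp), hmem b (by simp), ?_⟩
    have h := hreg.toIsWeaklyRegular
    have h' : RingTheory.Sequence.IsWeaklyRegular A ([a, b] ++ rest) := h
    exact ((RingTheory.Sequence.isWeaklyRegular_append_iff A [a, b] rest).1 h').1

variable {X : Scheme.{u}}

theorem bijective_resO_of_eq {P Q : X.Opens} (h : P = Q) : Function.Bijective (resO h.le) := by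
  subst h
  have : (resO (le_refl P) : Γ(X, P) → Γ(X, P)) = id := funext fun r => resO_self r
  rw [this]
  exact Function.bijective_id

/-- Hartogs for the structure sheaf on an affine open of a regular locally Noetherian scheme. -/
theorem bijective_resO_of_codimTwo [IsLocallyNoetherian X]
    (hreg : ∀ x : X, IsRegularLocalRing (X.presheaf.stalk x)) (U V : X.Opens) (hVU : V ≤ U)
    (hU : IsAffineOpen U) (hc : CodimTwo U V) : Function.Bijective (resO hVU) := by
  -- work on the affine scheme `U`
  let X' : Scheme.{u} := U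
  let U₀ : X'.Opens := U.ι ⁻¹ᵁ V
  have hZ : ∀ z : X', z ∉ U₀ → ∃ a b : X'.presheaf.stalk z,
      a ∈ IsLocalRing.maximalIdeal (X'.presheaf.stalk z) ∧
      b ∈ IsLocalRing.maximalIdeal (X'.presheaf.stalk z) ∧
      RingTheory.Sequence.IsWeaklyRegular (X'.presheaf.stalk z) [a, b] := by
    intro z hz
    let e : X'.presheaf.stalk z ≃+* X.presheaf.stalk z.1 := (U.stalkIso z).commRingCatIsoToRingEquiv
    haveI := hreg z.1
    haveI : IsRegularLocalRing (X'.presheaf.stalk z) := IsRegularLocalRing.of_ringEquiv e.symm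
    apply exists_weaklyRegular_pair
    rw [ringKrullDim_eq_of_ringEquiv e]
    exact hc z.1 z.2 hz
  haveI : IsAffine X' := hU
  have htop : IsAffineOpen (⊤ : X'.Opens) := isAffineOpen_top X'
  haveI : IsNoetherianRing Γ(X, U) := IsLocallyNoetherian.component_noetherian ⟨U, hU⟩
  haveI : NoetherianSpace X' := noetherianSpace_of_isAffineOpen U hU
  have hW : IsCompact (U₀ : Set X') := NoetherianSpace.isCompact _
  have hinj := Groth.Agent.Lib.Helper24.Hartogs.hartogs_injective X' U₀
    (fun z hz => by
      obtain ⟨a, b, ha, -, hab⟩ := hZ z hz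
      rw [RingTheory.Sequence.isWeaklyRegular_cons_iff] at hab
      exact ⟨a, ha, hab.1⟩) htop (le_top : U₀ ≤ ⊤) inf_le_right
  have hsurj := Groth.Agent.Lib.Helper24.Hartogs.hartogs_surjective X' U₀ hZ htop (le_top : U₀ ≤ ⊤)
    inf_le_right hW
  have hA : U.ι ''ᵁ (⊤ : X'.Opens) = U := U.ι_image_top
  have hB : U.ι ''ᵁ U₀ = V := by
    rw [Scheme.Hom.image_preimage_eq_opensRange_inf, Scheme.Opens.opensRange_ι]
    exact inf_eq_right.2 hVU
  have hAB : U.ι ''ᵁ U₀ ≤ U.ι ''ᵁ (⊤ : X'.Opens) := U.ι.image_mono le_top
  have hmid : Function.Bijective (resO hAB) := ⟨hinj, hsurj⟩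
  have hfac : (resO hVU : Γ(X, U) → Γ(X, V)) = resO hB.ge ∘ resO hAB ∘ resO hA.le := by
    funext r
    simp only [Function.comp_apply]
    rw [resO_resO, resO_resO]
  rw [hfac]
  exact (bijective_resO_of_eq hB.symm).comp (hmid.comp (bijective_resO_of_eq hA))

/-- the structure module of a regular locally Noetherian scheme is normal. -/
theorem isNormalMod_structureModule [IsLocallyNoetherian X]
    (hreg : ∀ x : X, IsRegularLocalRing (X.presheaf.stalk x)) : IsNormalMod (Coh.structureModule X) :=
  isNormalMod_of_affine _ fun U V hVU hU hc => bijective_resO_of_codimTwo hreg U V hVU hU hc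

/-- the reflexive hull of a coherent module on a regular locally Noetherian scheme is normal. -/
theorem isNormalMod_ddual [IsLocallyNoetherian X]
    (hreg : ∀ x : X, IsRegularLocalRing (X.presheaf.stalk x)) (F : X.Modules) (hF : Coh.IsCoh F) :
    IsNormalMod (ddual F) := by
  haveI : SheafOfModules.IsFinitePresentation.{u} (R := X.ringCatSheaf) (dual F) :=
    Groth.Agent.S16240.isFinitePresentation_of_isCoh _
      (isCoh_homSh F (Coh.structureModule X) hF (isCoh_structureModule X))
  exact isNormalMod_homSh (dual F) (Coh.structureModule X) (isNormalMod_structureModule hreg)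

/-- a reflexive coherent module on a regular locally Noetherian scheme is normal. -/
theorem isNormalMod_of_isReflexive [IsLocallyNoetherian X]
    (hreg : ∀ x : X, IsRegularLocalRing (X.presheaf.stalk x)) (F : X.Modules) (hF : Coh.IsCoh F)
    (hr : IsReflexive F) : IsNormalMod F := by
  haveI : IsIso (bidualMap F) := hr
  exact (isNormalMod_ddual hreg F hF).of_iso (asIso (bidualMap F)).symm

/-- a morphism bijective on the stalks at all points of `V` is bijective on sections over `V`. -/
theorem bijective_app_of_stalkMapₗ {F G : X.Modules} (φ : F ⟶ G) (V : X.Opens)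
    (h : ∀ z ∈ V, Function.Bijective (stalkMapₗ φ z)) : Function.Bijective (φ.app V) := by
  let Fs : TopCat.Sheaf Ab X := ⟨F.presheaf, F.isSheaf⟩
  let Gs : TopCat.Sheaf Ab X := ⟨G.presheaf, G.isSheaf⟩
  let f : Fs ⟶ Gs := ⟨φ.mapPresheaf⟩
  exact TopCat.Presheaf.app_bijective_of_stalkFunctor_map_bijective f V h

end Groth.Agent.Lib.Helper1.RefHullLib
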