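import Groth.Agent.Lib.Helper1.RefHull1
import Groth.Agent.S16240
import Groth.Agent.Lib.Helper28.FinTypeConv

/-!
# The sheaf Hom of coherent modules on a locally Noetherian scheme is coherent (helper1)

For `F` quasi-coherent of finite presentation with a presentation `A^m → A^n → Γ(F, U) → 0` over an affine
open `U`, a section `h` of `homSh F G` over `V ≤ U` is determined by the images `ev h i ∈ Γ(G, V)` of the
generators, and the tuples `t` arising are exactly those satisfying the relations
(`S16485.liftSection`).  From this we get the localization property of `homSh F G` on affine opens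
(quasi-coherence) and finiteness of its modules of sections over Noetherian affine opens.
-/

set_option autoImplicit false
universe u
open CategoryTheory CategoryTheory.Limits AlgebraicGeometry Opposite TopologicalSpace
open RefHull

namespace Groth.Agent.Lib.Helper1.RefHullLib

open Groth.Agent.Lib.Helper28.QCohLoc Groth.Agent.Lib.Helper29.QCohStalk
open Groth.Agent.S16485

variable {X : Scheme.{u}}

theorem app_zero_left {F G : X.Modules} {V : X.Opens} {V' : X.Opens} (h : V' ≤ V) (m : Γ(F, V')) :
    app (0 : Γ(homSh F G, V)) h m = 0 :=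
  app_eq_of_gm _ h _ _ fun y hy => by
    rw [gm_zero]
    rfl

theorem resO_self {U : X.Opens} (r : Γ(X, U)) : resO (le_refl U) r = r := by
  unfold resO
  have : (homOfLE (le_refl U)).op = 𝟙 (op U) := rfl
  rw [this, X.presheaf.map_id]
  rfl

/-- a common exponent for finitely many monotone properties. -/
theorem exists_common_nat {ι : Type*} [Finite ι] (P : ι → ℕ → Prop)
    (hmono : ∀ i k k', k ≤ k' → P i k → P i k') (h : ∀ i, ∃ k, P i k) : ∃ k, ∀ i, P i k := by
  classical
  haveI := Fintype.ofFinite ι
  choose k hk using h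
  exact ⟨Finset.univ.sup k, fun i => hmono i _ _ (Finset.le_sup (Finset.mem_univ i)) (hk i)⟩

theorem comb_smul_left (G : X.Modules) {U V : X.Opens} (hVU : V ≤ U) {n : ℕ} (c : Γ(X, V))
    (t : Fin n → Γ(G, V)) (a : Fin n → Γ(X, U)) :
    comb G hVU (fun i => c • t i) a = c • comb G hVU t a := by
  unfold comb
  rw [Finset.smul_sum]
  refine Finset.sum_congr rfl fun i _ => ?_
  rw [smul_smul, smul_smul, mul_comm]

theorem comb_stdB (G : X.Modules) {U V : X.Opens} (hVU : V ≤ U) {n : ℕ} (t : Fin n → Γ(G, V)) (i : Fin n) :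
    comb G hVU t (stdB n i) = t i := by
  unfold comb
  rw [Finset.sum_eq_single i]
  · simp [stdB, resO_one]
  · intro j _ hji
    simp [stdB, Ne.symm hji, resO_zero]
  · intro h
    exact absurd (Finset.mem_univ i) h

section ev

variable (F G : X.Modules) {U : X.Opens} {n : ℕ} (fN : (Fin n → Γ(X, U)) →ₗ[Γ(X, U)] Γ(F, U))

/-- the images of the generators under a section of the sheaf Hom. -/
noncomputable def ev {V : X.Opens} (hVU : V ≤ U) (h : Γ(homSh F G, V)) : Fin n → Γ(G, V) :=
  fun i => app h (le_refl V) (res F hVU (fN (stdB n i)))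

variable {F G}

theorem comb_ev {V : X.Opens} (hVU : V ≤ U) (h : Γ(homSh F G, V)) (a : Fin n → Γ(X, U)) :
    comb G hVU (ev F G fN hVU h) a = app h (le_refl V) (res F hVU (fN a)) := by
  have h1 : fN a = ∑ i, a i • fN (stdB n i) := LinearMap.pi_apply_eq_sum_univ fN a
  rw [h1, show res F hVU (∑ i, a i • fN (stdB n i)) = ∑ i, res F hVU (a i • fN (stdB n i)) from
    map_sum (F.presheaf.map (homOfLE hVU).op).hom _ _]
  change _ = appHom h (le_refl V) _
  rw [map_sum]
  unfold comb
  refine Finset.sum_congr rfl fun i _ => ?_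
  change _ = app h (le_refl V) _
  rw [res_smul, app_smul_right]
  rfl

theorem comb_ev_eq_zero {V : X.Opens} (hVU : V ≤ U) (h : Γ(homSh F G, V)) (a : Fin n → Γ(X, U))
    (ha : fN a = 0) : comb G hVU (ev F G fN hVU h) a = 0 := by
  rw [comb_ev, ha, res_zero, app_zero_right]

theorem ev_add {V : X.Opens} (hVU : V ≤ U) (h h' : Γ(homSh F G, V)) :
    ev F G fN hVU (h + h') = ev F G fN hVU h + ev F G fN hVU h' :=
  funext fun _ => app_add_left h h' _ _

theorem ev_zero {V : X.Opens} (hVU : V ≤ U) : ev F G fN hVU (0 : Γ(homSh F G, V)) = 0 :=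
  funext fun _ => app_zero_left _ _

theorem ev_smul {V : X.Opens} (hVU : V ≤ U) (r : Γ(X, V)) (h : Γ(homSh F G, V)) :
    ev F G fN hVU (r • h) = r • ev F G fN hVU h :=
  funext fun i => by
    change app (r • h) (le_refl V) _ = r • app h (le_refl V) (res F hVU (fN (stdB n i)))
    rw [app_smul_left, resO_self]

theorem ev_res {V W : X.Opens} (hVU : V ≤ U) (hWV : W ≤ V) (h : Γ(homSh F G, V)) :
    ev F G fN (hWV.trans hVU) (res (homSh F G) hWV h) = fun i => res G hWV (ev F G fN hVU h i) :=
  funext fun i => by
    change app (res (homSh F G) hWV h) _ _ = res G hWV (app h _ _)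
    rw [app_res, res_app, res_res]

variable [F.IsQuasicoherent] (hU : IsAffineOpen U) (hfN : Function.Surjective fN)
include hU hfN

theorem ev_injective {V : X.Opens} (hVU : V ≤ U) (h h' : Γ(homSh F G, V))
    (he : ev F G fN hVU h = ev F G fN hVU h') : h = h' := by
  refine Subtype.ext (funext fun z => LinearMap.ext fun ξ => ?_)
  have hloc := isLocOn_of_isQuasicoherent F hU
  obtain ⟨s, m0, hs, hsm⟩ := exists_germ_smul_eq F hU hloc z.1 (hVU z.2) ξ
  obtain ⟨a, rfl⟩ := hfN m0
  have key : ∀ k : Γ(homSh F G, V), k.1 z (gm F U z.1 (hVU z.2) (fN a)) =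
      gm G V z.1 z.2 (comb G hVU (ev F G fN hVU k) a) := by
    intro k
    rw [comb_ev, gm_app, gm_res]
  have h1 : X.presheaf.germ U z.1 (hVU z.2) s • h.1 z ξ = X.presheaf.germ U z.1 (hVU z.2) s • h'.1 z ξ := by
    rw [← map_smul, ← map_smul, hsm, key, key, he]
  obtain ⟨v, hv⟩ := hs
  rw [← hv] at h1
  have := congrArg (fun y => (↑v⁻¹ : X.presheaf.stalk z.1) • y) h1
  simpa [smul_smul] using this

theorem ev_liftSection {V : X.Opens} (hVU : V ≤ U) (t : Fin n → Γ(G, V))
    (hrel : ∀ a, fN a = 0 → comb G hVU t a = 0) :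
    ev F G fN hVU (liftSection F G hU hVU fN hfN t hrel) = t :=
  funext fun i => app_eq_of_gm _ _ _ _ fun y hy => by
    change _ = stalkLift F G hU hVU fN hfN t hrel y hy _
    rw [gm_res, stalkLift_gm, comb_stdB]

end ev

/-- `homSh F G` has the localization property on an affine open over which `F` is finitely presented. -/
theorem isLocOn_homSh (F G : X.Modules) [F.IsQuasicoherent] [G.IsQuasicoherent] {U : X.Opens}
    (hU : IsAffineOpen U) (hfp : Module.FinitePresentation Γ(X, U) Γ(F, U)) : IsLocOn (homSh F G) U := by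
  obtain ⟨n, m, fN, g, hfN, hex⟩ := Module.FinitePresentation.exists_fin' Γ(X, U) Γ(F, U)
  have hlocG := isLocOn_of_isQuasicoherent G hU
  constructor
  · intro r y
    let D := X.basicOpen r
    have hDU : D ≤ U := X.basicOpen_le r
    let t := ev F G fN hDU y
    -- extend the `t i` after multiplying by a power of `r`
    obtain ⟨k, hk⟩ := exists_common_nat (fun (i : Fin n) k => ∃ s : Γ(G, U),
        ((resO hDU r) ^ k • t i : Γ(G, D)) = res G hDU s)
      (fun i k k' hkk' ⟨s, hs⟩ => ⟨r ^ (k' - k) • s, by
        rw [res_smul, resO_pow, ← hs, smul_smul, ← pow_add, Nat.sub_add_cancel hkk']⟩)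
      (fun i => by
        obtain ⟨k, s, hs⟩ := hlocG.surj r (t i)
        exact ⟨k, s, hs⟩)
    choose s hs using hk
    -- the relations hold after multiplying by a further power of `r`
    have hc : ∀ j : Fin m, res G hDU (comb G (le_refl U) s (g (stdB m j))) = 0 := by
      intro j
      rw [res_comb]
      have h1 : (fun i => res G hDU (s i)) = fun i => (resO hDU r) ^ k • t i := funext fun i => (hs i).symm
      rw [h1, comb_smul_left, comb_ev_eq_zero fN hDU y _ (hex.apply_apply_eq_zero _), smul_zero]
    obtain ⟨l, hl⟩ := exists_common_nat (fun (j : Fin m) l =>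
        (r ^ l • comb G (le_refl U) s (g (stdB m j)) : Γ(G, U)) = 0)
      (fun j l l' hll' h => by
        rw [← Nat.sub_add_cancel hll', pow_add, mul_smul, h, smul_zero])
      (fun j => hlocG.inj r _ (hc j))
    let s' : Fin n → Γ(G, U) := fun i => r ^ l • s i
    have hrel : ∀ a, fN a = 0 → comb G (le_refl U) s' a = 0 := by
      intro a ha
      obtain ⟨b, rfl⟩ := (hex a).1 ha
      refine comb_eq_zero_of_generators G (le_refl U) s' g (fun j => ?_) b
      have h2 : comb G (le_refl U) s' (g (stdB m j)) = resO (le_refl U) (r ^ l) • comb G (le_refl U) s (g (stdB m j)) := by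
        rw [resO_self]
        exact comb_smul_left G (le_refl U) (r ^ l) s _
      rw [h2, resO_self]
      exact hl j
    refine ⟨k + l, liftSection F G hU (le_refl U) fN hfN s' hrel, ?_⟩
    apply ev_injective fN hU hfN hDU
    rw [ev_smul, ev_res fN (le_refl U) hDU, ev_liftSection fN hU hfN]
    funext i
    change (resO hDU r) ^ (k + l) • t i = res G hDU (r ^ l • s i)
    rw [res_smul, ← hs i, resO_pow, smul_smul, ← pow_add, add_comm]
  · intro r x hx
    let D := X.basicOpen r
    have hDU : D ≤ U := X.basicOpen_le r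
    have h0 : ∀ i, res G hDU (ev F G fN (le_refl U) x i) = 0 := by
      intro i
      have h1 := congrFun (ev_res fN (le_refl U) hDU x) i
      rw [hx, ev_zero] at h1
      exact h1.symm
    obtain ⟨k, hk⟩ := exists_common_nat (fun (i : Fin n) k =>
        (r ^ k • ev F G fN (le_refl U) x i : Γ(G, U)) = 0)
      (fun i k k' hkk' h => by
        rw [← Nat.sub_add_cancel hkk', pow_add, mul_smul, h, smul_zero])
      (fun i => hlocG.inj r _ (h0 i))
    refine ⟨k, ev_injective fN hU hfN (le_refl U) _ _ ?_⟩
    rw [ev_smul, ev_zero]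
    funext i
    exact hk i

/-- sections of `homSh F G` over a Noetherian affine open form a finite module when those of `F` and
`G` do. -/
theorem finite_homSh (F G : X.Modules) [F.IsQuasicoherent] {U : X.Opens} (hU : IsAffineOpen U)
    [IsNoetherianRing Γ(X, U)] [Module.Finite Γ(X, U) Γ(F, U)] [Module.Finite Γ(X, U) Γ(G, U)] :
    Module.Finite Γ(X, U) Γ(homSh F G, U) := by
  obtain ⟨n, fN, hfN⟩ := Module.Finite.exists_fin' Γ(X, U) Γ(F, U)
  let Φ : Γ(homSh F G, U) →ₗ[Γ(X, U)] (Fin n → Γ(G, U)) :=
    { toFun := ev F G fN (le_refl U)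
      map_add' := ev_add fN (le_refl U)
      map_smul' := ev_smul fN (le_refl U) }
  exact Module.Finite.of_injective Φ fun h h' he => ev_injective fN hU hfN (le_refl U) h h' he

/-- **the sheaf Hom of coherent modules on a locally Noetherian scheme is coherent.** -/
theorem isCoh_homSh [IsLocallyNoetherian X] (F G : X.Modules) (hF : Coh.IsCoh F) (hG : Coh.IsCoh G) :
    Coh.IsCoh (homSh F G) := by
  haveI := hF.1
  haveI := hF.2
  haveI := hG.1
  haveI := hG.2
  have hq : (homSh F G).IsQuasicoherent := isQuasicoherent_of_forall_isLocOn _ fun U => by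
    haveI : IsNoetherianRing Γ(X, U.1) := IsLocallyNoetherian.component_noetherian U
    haveI : Module.Finite Γ(X, U.1) Γ(F, U.1) :=
      Groth.Agent.Lib.Helper28.FinType.finite_of_isAffineOpen F U.2
    exact isLocOn_homSh F G U.2 (Module.finitePresentation_of_finite _ _)
  haveI := hq
  refine ⟨hq, Groth.Agent.Lib.Helper28.FinType.isFiniteType_of_finite_cover _
    (fun U : X.affineOpens => U.1) (iSup_affineOpens_eq_top X) (fun U => U.2) fun U => ?_⟩
  haveI : IsNoetherianRing Γ(X, U.1) := IsLocallyNoetherian.component_noetherian U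
  haveI : Module.Finite Γ(X, U.1) Γ(F, U.1) :=
    Groth.Agent.Lib.Helper28.FinType.finite_of_isAffineOpen F U.2
  haveI : Module.Finite Γ(X, U.1) Γ(G, U.1) :=
    Groth.Agent.Lib.Helper28.FinType.finite_of_isAffineOpen G U.2
  exact finite_homSh F G U.2

end Groth.Agent.Lib.Helper1.RefHullLib
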