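import Groth.Agent.Lib.Helper1.RefHull3

/-!
# Composition of sections of sheaf Homs; the locus where a morphism is bijective on stalks is open (helper1)
-/

set_option autoImplicit false
universe u
open CategoryTheory CategoryTheory.Limits AlgebraicGeometry Opposite TopologicalSpace
open RefHull

namespace Groth.Agent.Lib.Helper1.RefHullLib

open Groth.Agent.Lib.Helper28.QCohLoc Groth.Agent.Lib.Helper29.QCohStalk

variable {X : Scheme.{u}} {F G H : X.Modules}

/-- composition of sections of sheaf Homs. -/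
noncomputable def compSec {V : X.Opens} (h : Γ(homSh G H, V)) (g : Γ(homSh F G, V)) :
    Γ(homSh F H, V) :=
  ⟨fun z => h.1 z ∘ₗ g.1 z, fun V' i m x =>
    ⟨V', x.2, 𝟙 V', app h i.le (app g i.le m), fun y => by
      have h1 := gm_app h i.le (app g i.le m) y.1 y.2
      have h2 := gm_app g i.le m y.1 y.2
      rw [h2] at h1
      exact h1.symm⟩⟩

@[simp] theorem compSec_apply {V : X.Opens} (h : Γ(homSh G H, V)) (g : Γ(homSh F G, V)) (z : V) :
    (compSec h g).1 z = h.1 z ∘ₗ g.1 z := rfl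

theorem stalkMapₗ_id (F : X.Modules) (z : X) : stalkMapₗ (𝟙 F) z = LinearMap.id := by
  refine LinearMap.ext fun ξ => ?_
  obtain ⟨U, hzU, s, rfl⟩ := TopCat.Presheaf.exists_germ_eq F.presheaf ξ
  rw [stalkMapₗ_germ]
  rfl

/-- two sections of the sheaf Hom out of a finite type module with the same value at `x` agree near `x`. -/
theorem exists_nhd_eq_of_eq_at (hF : CohB1.IsFT F) {V : X.Opens} (a b : Γ(homSh F G, V)) (x : X) (hx : x ∈ V)
    (hab : a.1 ⟨x, hx⟩ = b.1 ⟨x, hx⟩) :
    ∃ (W : X.Opens) (_ : x ∈ W) (hWV : W ≤ V), ∀ (z : X) (hz : z ∈ W), a.1 ⟨z, hWV hz⟩ = b.1 ⟨z, hWV hz⟩ := by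
  have hinj := Groth.Agent.S16484.result X F G hF x
  have h1 : (homSh F G).presheaf.germ V x hx a = (homSh F G).presheaf.germ V x hx b := by
    apply hinj
    rw [evalStalk_germ, evalStalk_germ]
    exact hab
  obtain ⟨W, hxW, iA, iB, hres⟩ := TopCat.Presheaf.germ_eq (homSh F G).presheaf x hx hx _ _ h1
  refine ⟨W, hxW, iA.le, fun z hz => ?_⟩
  have h2 := congrArg (fun t : Γ(homSh F G, W) => t.1 ⟨z, hz⟩) hres
  exact h2

/-- **the locus where a morphism from a finite type module to a finitely presented module is bijective on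
stalks is open.** -/
theorem exists_nhd_bijective_stalkMapₗ (hF : CohB1.IsFT F) (hG : CohB1.IsFP G) (φ : F ⟶ G) (x : X)
    (hx : Function.Bijective (stalkMapₗ φ x)) :
    ∃ W : X.Opens, x ∈ W ∧ ∀ z ∈ W, Function.Bijective (stalkMapₗ φ z) := by
  haveI : SheafOfModules.IsFinitePresentation.{u} (R := X.ringCatSheaf) G := hG
  have hGT : CohB1.IsFT G := Groth.Agent.Lib.Helper29.FPDict.isFiniteType_of_isFinitePresentation G
  let e := LinearEquiv.ofBijective (stalkMapₗ φ x) hx
  obtain ⟨V, hxV, g, hg⟩ := Groth.Agent.S16485.exists_section_of_stalkHom G F x e.symm.toLinearMap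
  obtain ⟨W₁, hxW₁, hW₁V, h1⟩ := exists_nhd_eq_of_eq_at hF (compSec g (ofHom φ V)) (ofHom (𝟙 F) V) x hxV (by
    rw [compSec_apply, hg, ofHom_apply, ofHom_apply, stalkMapₗ_id]
    exact LinearMap.ext fun ξ => e.symm_apply_apply ξ)
  obtain ⟨W₂, hxW₂, hW₂V, h2⟩ := exists_nhd_eq_of_eq_at hGT (compSec (ofHom φ V) g) (ofHom (𝟙 G) V) x hxV (by
    rw [compSec_apply, hg, ofHom_apply, ofHom_apply, stalkMapₗ_id]
    exact LinearMap.ext fun ξ => e.apply_symm_apply ξ)
  refine ⟨W₁ ⊓ W₂, ⟨hxW₁, hxW₂⟩, fun z hz => ?_⟩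
  have e1 := h1 z hz.1
  have e2 := h2 z hz.2
  rw [compSec_apply, ofHom_apply, ofHom_apply, stalkMapₗ_id] at e1 e2
  refine ⟨Function.LeftInverse.injective (g := g.1 ⟨z, hW₁V hz.1⟩) fun ξ => ?_,
    Function.RightInverse.surjective (g := g.1 ⟨z, hW₁V hz.1⟩) fun ξ => ?_⟩
  · exact LinearMap.congr_fun e1 ξ
  · exact LinearMap.congr_fun e2 ξ

/-- bijectivity of the stalk map of the biduality morphism is pointwise reflexivity. -/
theorem bijective_stalkMapₗ_bidualMap_iff [IsLocallyNoetherian X] (F : X.Modules) (hF : Coh.IsCoh F)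
    (x : X) : Function.Bijective (stalkMapₗ (bidualMap F) x) ↔ IsReflexiveAt F x := by
  have hFP : CohB1.IsFP F := Groth.Agent.S16240.isFinitePresentation_of_isCoh F hF
  have hdual : CohB1.IsFP (dual F) :=
    Groth.Agent.S16240.isFinitePresentation_of_isCoh _
      (isCoh_homSh F (Coh.structureModule X) hF (isCoh_structureModule X))
  have hev := Groth.Agent.S16485.result X (dual F) (Coh.structureModule X) hdual x
  have h1 : (bidualAt F x : _ → _) =
      evalStalk (dual F) (Coh.structureModule X) x ∘ stalkMapₗ (bidualMap F) x :=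
    funext fun v => (evalStalk_stalkMapₗ_bidualMap F x v).symm
  rw [isReflexiveAt_iff_bidualAt_bijective F hFP x, h1]
  exact (Function.Bijective.of_comp_iff' hev _).symm

/-- pointwise reflexivity of a coherent module is an open condition. -/
theorem exists_nhd_isReflexiveAt [IsLocallyNoetherian X] (F : X.Modules) (hF : Coh.IsCoh F) (x : X)
    (hx : IsReflexiveAt F x) : ∃ W : X.Opens, x ∈ W ∧ ∀ z ∈ W, IsReflexiveAt F z := by
  have hdd : Coh.IsCoh (ddual F) :=
    isCoh_homSh _ _ (isCoh_homSh F _ hF (isCoh_structureModule X)) (isCoh_structureModule X)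
  obtain ⟨W, hxW, hW⟩ := exists_nhd_bijective_stalkMapₗ hF.2
    (Groth.Agent.S16240.isFinitePresentation_of_isCoh _ hdd) (bidualMap F) x
    ((bijective_stalkMapₗ_bidualMap_iff F hF x).2 hx)
  exact ⟨W, hxW, fun z hz => (bijective_stalkMapₗ_bidualMap_iff F hF z).1 (hW z hz)⟩

end Groth.Agent.Lib.Helper1.RefHullLib
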