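import Groth.Agent.Lib.Helper1.RefHull4

/-!
# Normal modules (Hartogs property) and the sheaf Hom (helper1)

`IsNormalMod G`: for all opens `V ≤ U` such that every point of `U` not in `V` has local ring of dimension
`≥ 2`, restriction `G(U) → G(V)` is bijective.

* `isNormalMod_of_affine`: it suffices to check affine `U`.
* `isNormalMod_homSh`: if `G` is normal and `D` is finitely presented then `homSh D G` is normal.
-/

set_option autoImplicit false
universe u
open CategoryTheory CategoryTheory.Limits AlgebraicGeometry Opposite TopologicalSpace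
open RefHull

namespace Groth.Agent.Lib.Helper1.RefHullLib

open Groth.Agent.Lib.Helper28.QCohLoc Groth.Agent.Lib.Helper29.QCohStalk
open Groth.Agent.S16485

variable {X : Scheme.{u}}

/-- the codimension-two condition on a pair of opens. -/
def CodimTwo (U V : X.Opens) : Prop :=
  ∀ x : X, x ∈ U → x ∉ V → (2 : WithBot ℕ∞) ≤ ringKrullDim (X.presheaf.stalk x)

/-- the Hartogs property of a module. -/
def IsNormalMod (G : X.Modules) : Prop :=
  ∀ (U V : X.Opens) (hVU : V ≤ U), CodimTwo U V → Function.Bijective (G.presheaf.map (homOfLE hVU).op)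

theorem CodimTwo.inf {U V : X.Opens} (h : CodimTwo U V) (W : X.Opens) : CodimTwo (W ⊓ U) (W ⊓ V) :=
  fun x hx hxV => h x hx.2 fun hV => hxV ⟨hx.1, hV⟩

theorem CodimTwo.mono {U V : X.Opens} (h : CodimTwo U V) {W : X.Opens} (hW : W ≤ U) :
    CodimTwo W (W ⊓ V) :=
  fun x hx hxV => h x (hW hx) fun hV => hxV ⟨hx, hV⟩

/-- injectivity of restriction can be checked on affine opens. -/
theorem injective_res_of_affine (G : X.Modules)
    (h : ∀ (U V : X.Opens) (hVU : V ≤ U), IsAffineOpen U → CodimTwo U V →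
      Function.Injective (res G hVU)) (U V : X.Opens) (hVU : V ≤ U) (hc : CodimTwo U V) :
    Function.Injective (res G hVU) := by
  intro s t hst
  refine section_ext G s t fun y hy => ?_
  obtain ⟨W, hW, hyW, hWU⟩ := (Opens.isBasis_iff_nbhd.1 X.isBasis_affineOpens) hy
  have hW : IsAffineOpen W := hW
  have h1 : res G hWU s = res G hWU t := by
    apply h W (W ⊓ V) inf_le_left hW (hc.mono hWU)
    rw [res_res, res_res]
    have h2 := congrArg (res G (inf_le_right : W ⊓ V ≤ V)) hst
    rw [res_res, res_res] at h2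
    exact h2
  rw [← gm_res G hWU y hyW s, ← gm_res G hWU y hyW t, h1]

/-- the Hartogs property can be checked on affine opens. -/
theorem isNormalMod_of_affine (G : X.Modules)
    (h : ∀ (U V : X.Opens) (hVU : V ≤ U), IsAffineOpen U → CodimTwo U V →
      Function.Bijective (res G hVU)) : IsNormalMod G := by
  have hinj := injective_res_of_affine G fun U V hVU hU hc => (h U V hVU hU hc).1
  intro U V hVU hc
  refine ⟨hinj U V hVU hc, fun t => ?_⟩
  -- local extensions over the affine opens inside `U`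
  let ι := {W : X.Opens // IsAffineOpen W ∧ W ≤ U}
  have hloc : ∀ W : ι, ∃ s : Γ(G, W.1), res G (inf_le_left : W.1 ⊓ V ≤ W.1) s =
      res G (inf_le_right : W.1 ⊓ V ≤ V) t :=
    fun W => (h W.1 (W.1 ⊓ V) inf_le_left W.2.1 (hc.mono W.2.2)).2 _
  choose sf hsf using hloc
  obtain ⟨s, hs⟩ := exists_gluing G (fun W : ι => W.1) U (fun W => W.2.2)
    (fun y hy => by
      obtain ⟨W, hW, hyW, hWU⟩ := (Opens.isBasis_iff_nbhd.1 X.isBasis_affineOpens) hy
      exact Opens.mem_iSup.2 ⟨⟨W, hW, hWU⟩, hyW⟩) sf (fun W W' => by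
      apply hinj (W.1 ⊓ W'.1) ((W.1 ⊓ W'.1) ⊓ V) inf_le_left (hc.mono (inf_le_left.trans W.2.2))
      rw [res_res, res_res]
      have h1 := congrArg (res G (inf_le_inf_right V inf_le_left : (W.1 ⊓ W'.1) ⊓ V ≤ W.1 ⊓ V)) (hsf W)
      have h2 := congrArg (res G (inf_le_inf_right V inf_le_right : (W.1 ⊓ W'.1) ⊓ V ≤ W'.1 ⊓ V)) (hsf W')
      rw [res_res, res_res] at h1 h2
      exact h1.trans h2.symm)
  refine ⟨s, ?_⟩
  refine section_ext G _ _ fun y hy => ?_
  obtain ⟨W, hW, hyW, hWU⟩ := (Opens.isBasis_iff_nbhd.1 X.isBasis_affineOpens) (hVU hy)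
  have h1 := hsf ⟨W, hW, hWU⟩
  rw [← hs ⟨W, hW, hWU⟩, res_res] at h1
  have h2 := congrArg (gm G (W ⊓ V) y ⟨hyW, hy⟩) h1
  rw [gm_res, gm_res] at h2
  change gm G V y hy (res G hVU s) = _
  rw [gm_res]
  exact h2

theorem IsNormalMod.of_iso {G G' : X.Modules} (e : G ≅ G') (h : IsNormalMod G) : IsNormalMod G' := by
  intro U V hVU hc
  have hb := h U V hVU hc
  have hU : Function.Bijective (e.hom.app U) :=
    (ConcreteCategory.isIso_iff_bijective (e.hom.app U)).1 inferInstance
  have hV : Function.Bijective (e.hom.app V) :=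
    (ConcreteCategory.isIso_iff_bijective (e.hom.app V)).1 inferInstance
  have hnat : ∀ s : Γ(G, U), e.hom.app V (res G hVU s) = res G' hVU (e.hom.app U s) := fun s =>
    Groth.Agent.Lib.Helper28.QCohLoc.app_res e.hom hVU s
  constructor
  · intro s t hst
    obtain ⟨s', rfl⟩ := hU.2 s
    obtain ⟨t', rfl⟩ := hU.2 t
    change res G' hVU _ = res G' hVU _ at hst
    rw [← hnat, ← hnat] at hst
    rw [hb.1 (hV.1 hst)]
  · intro t
    obtain ⟨t', rfl⟩ := hV.2 t
    obtain ⟨s, rfl⟩ := hb.2 t'
    exact ⟨e.hom.app U s, (hnat s).symm⟩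

/-- **Hartogs for the sheaf Hom**: if `G` is normal and `D` is finitely presented then `homSh D G` is
normal. -/
theorem isNormalMod_homSh (D G : X.Modules)
    [SheafOfModules.IsFinitePresentation.{u} (R := X.ringCatSheaf) D] (hG : IsNormalMod G) :
    IsNormalMod (homSh D G) := by
  obtain ⟨hq, hfp⟩ := (Groth.Agent.Lib.Helper29.FPDict.isFinitePresentation_iff D).1 inferInstance
  haveI := hq
  refine isNormalMod_of_affine _ fun U V hVU hU hc => ?_
  haveI := hfp U hU
  obtain ⟨n, m, fN, g, hfN, hex⟩ := Module.FinitePresentation.exists_fin' Γ(X, U) Γ(D, U)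
  have hGb : Function.Bijective (res G hVU) := hG U V hVU hc
  constructor
  · intro h h' hhh'
    apply ev_injective fN hU hfN (le_refl U)
    funext i
    apply hGb.1
    have e1 := congrFun (ev_res fN (le_refl U) hVU h) i
    have e2 := congrFun (ev_res fN (le_refl U) hVU h') i
    have hhh'' : res (homSh D G) hVU h = res (homSh D G) hVU h' := hhh'
    rw [hhh''] at e1
    exact e1.symm.trans e2
  · intro y
    let t := ev D G fN hVU y
    choose s hs using fun i => hGb.2 (t i)
    have hrel : ∀ a, fN a = 0 → comb G (le_refl U) s a = 0 := by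
      intro a ha
      apply hGb.1
      rw [res_zero, res_comb]
      have h1 : (fun i => res G hVU (s i)) = t := funext hs
      rw [h1]
      exact comb_ev_eq_zero fN hVU y a ha
    refine ⟨liftSection D G hU (le_refl U) fN hfN s hrel, ?_⟩
    apply ev_injective fN hU hfN hVU
    have h2 := ev_res fN (le_refl U) hVU (liftSection D G hU (le_refl U) fN hfN s hrel)
    rw [ev_liftSection] at h2
    exact h2.trans (funext hs)

end Groth.Agent.Lib.Helper1.RefHullLib
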