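import Groth.Agent.Lib.Helper1.RefHull7
import Groth.Agent.Lib.Helper28.RestrictGen
import Groth.Agent.Lib.Helper18.Cyc.UnitStalk
import Groth.Agent.S16082
import Groth.Agent.S16490
import Groth.Prelude.Def_TorSh

/-!
# Rank one reflexive modules: generic generator and torsion-freeness (helper1)
-/

set_option autoImplicit false
universe u
open CategoryTheory CategoryTheory.Limits AlgebraicGeometry Opposite TopologicalSpace
open RefHull

namespace Groth.Agent.Lib.Helper1.RefHullLib

open Groth.Agent.Lib.Helper28.QCohLoc Groth.Agent.Lib.Helper29.QCohStalk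
open Groth.Agent.Lib.Helper28.GenLocus

variable {X : Scheme.{u}}

/-- a generically invertible module on an integral scheme has a generator on an open containing the
generic point. -/
theorem exists_isGen_generic [IsIntegral X] (F : X.Modules) (h : GenInvertible F) :
    ∃ (W : X.Opens) (g : Γ(F, W)), genericPoint X ∈ W ∧ IsGen F W g := by
  obtain ⟨U, hUd, hUinv⟩ := h
  have hη : genericPoint X ∈ U := by
    refine ((genericPoint_spec X).mem_open_set_iff U.isOpen).2 ?_
    obtain ⟨y, hy⟩ := hUd.nonempty
    exact ⟨y, trivial, hy⟩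
  obtain ⟨W', g', hW', hg'⟩ := exists_isGen (F.restrict U.ι) hUinv ⟨genericPoint X, hη⟩
  exact ⟨U.ι ''ᵁ W', g', ⟨⟨genericPoint X, hη⟩, hW', rfl⟩, isGen_of_isGen_restrict F U g' hg'⟩

/-- a generator over `W` generates every stalk at points of `W` freely. -/
theorem bijective_smul_gm_of_isGen {F : X.Modules} {W : X.Opens} {g : Γ(F, W)} (hg : IsGen F W g)
    (x : X) (hx : x ∈ W) :
    Function.Bijective fun a : X.presheaf.stalk x => a • gm F W x hx g := by
  constructor
  · intro a b hab
    obtain ⟨U, hxU, a', rfl⟩ := TopCat.Presheaf.exists_germ_eq X.presheaf a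
    obtain ⟨U', hxU', b', rfl⟩ := TopCat.Presheaf.exists_germ_eq X.presheaf b
    let T : X.Opens := U ⊓ U' ⊓ W
    have hxT : x ∈ T := ⟨⟨hxU, hxU'⟩, hx⟩
    have hTU : T ≤ U := inf_le_left.trans inf_le_left
    have hTU' : T ≤ U' := inf_le_left.trans inf_le_right
    have hTW : T ≤ W := inf_le_right
    have h1 : gm F T x hxT (resO hTU a' • res F hTW g) = gm F T x hxT (resO hTU' b' • res F hTW g) := by
      rw [gm_smul, gm_smul, gm_res, germ_resO, germ_resO]
      exact hab
    obtain ⟨T₁, hxT₁, j₁, j₂, h2⟩ := TopCat.Presheaf.germ_eq F.presheaf x _ _ _ _ h1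
    have h3 : (resO (j₁.le.trans hTU) a' • res F (j₁.le.trans hTW) g : Γ(F, T₁)) =
        resO (j₁.le.trans hTU') b' • res F (j₁.le.trans hTW) g := by
      have e1 := res_smul F j₁.le (resO hTU a') (res F hTW g)
      have e2 := res_smul F j₁.le (resO hTU' b') (res F hTW g)
      rw [resO_resO, res_res] at e1 e2
      rw [← e1, ← e2]
      exact h2
    have h4 := (hg T₁ (j₁.le.trans hTW)).1 h3
    have h5 := congrArg (X.presheaf.germ T₁ x hxT₁) h4
    rw [germ_resO, germ_resO] at h5
    exact h5
  · intro t
    obtain ⟨T, hxT, m, rfl⟩ := TopCat.Presheaf.exists_germ_eq F.presheaf t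
    obtain ⟨c, hc⟩ := (hg (T ⊓ W) inf_le_right).2 (res F inf_le_left m)
    refine ⟨X.presheaf.germ (T ⊓ W) x ⟨hxT, hx⟩ c, ?_⟩
    have h2 := congrArg (gm F (T ⊓ W) x ⟨hxT, hx⟩) hc
    rw [gm_smul, gm_res, gm_res] at h2
    exact h2

/-- the structure module of an integral scheme is torsion-free. -/
theorem isTorsionFree_structureModule [IsIntegral X] : TorSh.IsTorsionFree (Coh.structureModule X) := by
  intro x
  exact Function.Injective.moduleIsTorsionFree (Groth.Agent.Lib.Helper18.CycUnitStalk.e X x).symm
    (Groth.Agent.Lib.Helper18.CycUnitStalk.e X x).symm.injective (fun r m => map_smul _ r m)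

/-- a reflexive coherent module on an integral locally Noetherian scheme is torsion-free. -/
theorem isTorsionFree_of_isReflexive [IsIntegral X] [IsLocallyNoetherian X] (F : X.Modules)
    (hF : Coh.IsCoh F) (hr : IsReflexive F) : TorSh.IsTorsionFree F := by
  have hd : Coh.IsCoh (dual F) := isCoh_homSh F (Coh.structureModule X) hF (isCoh_structureModule X)
  have h1 : TorSh.IsTorsionFree (ddual F) :=
    Groth.Agent.S16082.result X (dual F) (Coh.structureModule X) hd.1
      (Groth.Agent.S16240.isFinitePresentation_of_isCoh _ hd) (isCoh_structureModule X).1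
      isTorsionFree_structureModule
  haveI : IsIso (bidualMap F) := hr
  intro x
  haveI := h1 x
  exact Function.Injective.moduleIsTorsionFree (stalkMapₗ (bidualMap F) x)
    (((isIso_iff_stalkMapₗ_bijective (bidualMap F)).1 hr) x).1 (fun r m => map_smul _ r m)

end Groth.Agent.Lib.Helper1.RefHullLib
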