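import Groth.Agent.Lib.Helper1.WeilIdeal4
import Groth.Agent.Lib.Helper13.CDivFin

/-!
# The divisor of a rational section of a rank one reflexive module is locally finite (helper1)
-/

set_option autoImplicit false
universe u
open CategoryTheory CategoryTheory.Limits AlgebraicGeometry Opposite TopologicalSpace
open RefHull

namespace Groth.Agent.Lib.Helper1.WeilIdeal

open Groth.Agent.Lib.Helper28.QCohLoc Groth.Agent.Lib.Helper29.QCohStalk
open Groth.Agent.Lib.Helper28.GenLocus
open Groth.Agent.Lib.Helper1.RefHullLib
open Groth.Agent.Lib.Helper18.C1Core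
open Groth.Agent.Lib.Helper13.CDivLib CDiv

variable {X : Scheme.{u}}

/-- the codimension one points of an affine open where a nonzero rational function has nonzero
order form a finite set. -/
theorem finite_ord_ne_zero_inter_affine [IsIntegral X] [IsLocallyNoetherian X]
    (f : X.functionField) (hf : f ≠ 0) (V : X.Opens) (hV : IsAffineOpen V) :
    ({z : X | Order.coheight z = 1 ∧ Scheme.ord f z ≠ 0} ∩ (V : Set X)).Finite := by
  let fu : KUnits X := Units.mk0 f hf
  have hA : IsClosed {y : X | germOf X y fu ≠ 1} :=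
    (isOpen_setOf_germOf_eq_one fu).isClosed_compl
  exact finite_maximal_points_inter_affine {y : X | germOf X y fu ≠ 1} hA
    {z : X | Order.coheight z = 1 ∧ Scheme.ord f z ≠ 0}
    (fun z hz => maximal_point_of_ord_ne_zero fu z hz.1 hz.2) V hV

/-- the codimension one points of an affine open outside a given nonempty open form a finite set. -/
theorem finite_coheight_one_not_mem_inter_affine [IsIntegral X] [IsLocallyNoetherian X]
    (W : X.Opens) (hηW : genericPoint X ∈ W) (V : X.Opens) (hV : IsAffineOpen V) :
    ({z : X | Order.coheight z = 1 ∧ z ∉ W} ∩ (V : Set X)).Finite := by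
  refine finite_maximal_points_inter_affine ((W : Set X)ᶜ) W.isOpen.isClosed_compl
    {z : X | Order.coheight z = 1 ∧ z ∉ W} (fun z hz => ⟨hz.2, fun y hy hyz => ?_⟩) V hV
  by_contra hne
  rw [eq_genericPoint_of_specializes_of_coheight_eq_one hz.1 hyz hne] at hy
  exact hy hηW

/-- the orders of a nonzero rational section of a rank one reflexive module form a Weil divisor. -/
theorem exists_cycle_of_section [IsIntegral X] [IsLocallyNoetherian X] (F : X.Modules)
    (hF : IsRef1 F) (s : Cyc.secFibre F (genericPoint X)) (hs : s ≠ 0) :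
    ∃ D : AlgebraicCycle X ℤ, (∀ x : X, Order.coheight x ≠ 1 → D x = 0) ∧
      ∀ (x : X), Order.coheight x = 1 →
        D x = Cyc.secOrdAt F (genericPoint X) x
          ((genericPoint_spec X).specializes (Set.mem_univ x)) s := by
  classical
  obtain ⟨W, g, hηW, hg⟩ := exists_isGen_generic F hF.2.2
  obtain ⟨a, ha⟩ := exists_smul_mk F (Groth.Agent.S16090.freeGen_gm_of_isGen hg (genericPoint X) hηW) s
  have ha0 : (a : X.functionField) ≠ 0 := by
    rintro rfl
    exact hs (by rw [ha, zero_smul])
  let d : X → ℤ := fun x => if Order.coheight x = 1 then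
    Cyc.secOrdAt F (genericPoint X) x ((genericPoint_spec X).specializes (Set.mem_univ x)) s else 0
  have hd1 : ∀ x : X, Order.coheight x ≠ 1 → d x = 0 := fun x hx => if_neg hx
  have hd2 : ∀ x : X, Order.coheight x = 1 → d x =
      Cyc.secOrdAt F (genericPoint X) x ((genericPoint_spec X).specializes (Set.mem_univ x)) s :=
    fun x hx => if_pos hx
  refine ⟨⟨d, fun _ _ => Set.mem_univ _, fun z _ => ?_⟩, hd1, hd2⟩
  obtain ⟨V, hV, hzV⟩ := exists_affine_nhd z
  refine ⟨V, V.isOpen.mem_nhds hzV, ?_⟩
  refine ((finite_ord_ne_zero_inter_affine (a : X.functionField) ha0 V hV).union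
    (finite_coheight_one_not_mem_inter_affine W hηW V hV)).subset ?_
  rintro x ⟨hxV, hx⟩
  have hc : Order.coheight x = 1 := by
    by_contra h
    exact hx (hd1 x h)
  by_cases hxW : x ∈ W
  · left
    refine ⟨⟨hc, ?_⟩, hxV⟩
    have hsp : genericPoint X ⤳ x := (genericPoint_spec X).specializes (Set.mem_univ x)
    have h1 := secOrdAt_smul_mk_gm F hg x hxW hc hsp hηW a ha0
    rw [← ha] at h1
    rw [← h1, ← hd2 x hc]
    exact hx
  · right
    exact ⟨⟨hc, hxW⟩, hxV⟩

end Groth.Agent.Lib.Helper1.WeilIdeal
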