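import Groth.Agent.Lib.Helper1.RefK05
import Groth.Agent.Lib.Helper2.IntNum4
import Mathlib
set_option backward.isDefEq.respectTransparency.types false
set_option autoImplicit false
set_option linter.style.haveILetI false

/-!
# Euler characteristics of twists by powers of an invertible module, on a scheme of dimension `s + 2` after cutting by
`s` first Chern classes (helper1)
-/

universe u
open CategoryTheory CategoryTheory.Limits AlgebraicGeometry Opposite TopologicalSpace MonoidalCategory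

namespace Groth.Agent.Lib.Helper1.RefK0
open Groth.Agent.Lib.Helper6.K0Filt Groth.Agent.Lib.Helper6.K0Len Groth.Agent.Lib.Helper16.Stk
  Groth.Agent.Lib.Helper6.DevCore Groth.Agent.Lib.Helper6.K0Loc Groth.Agent.Lib.Helper6.K0Op
open Groth.Agent.Lib.Helper1.RefHullLib RefHull
open Groth.Agent.Lib.Helper4.Snapper Groth.Agent.Lib.Helper2.IntNum1 Groth.Agent.Lib.Helper2.IntNum2
  Groth.Agent.Lib.Helper2.IntNum4

variable {X : Scheme.{u}}

/-- `T^m y = y + m C y + C(m+1, 2) C² y` when `T (1 - C) = 1` and `C³ y = 0`. -/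
theorem Top_pow_apply_of_cube [IsNoetherian X] (L L' : X.Modules) (hL : PicF.IsInvertible L)
    (e : CohB1.tensorMod L L' ≅ Coh.structureModule X) (y : K0 X)
    (hy : (1 - Top L') ((1 - Top L') ((1 - Top L') y)) = 0) (m : ℕ) :
    (Top L ^ m) y = y + m • (1 - Top L') y + ((m + 1).choose 2) • (1 - Top L') ((1 - Top L') y) := by
  have h1 : Top L * (1 - (1 - Top L')) = 1 := by
    rw [sub_sub_cancel]; exact Top_mul_Top_eq_one L L' hL e
  have hc : ((1 - Top L') ^ (2 + 1)) • y = (0 : K0 X) := by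
    rw [AddMonoid.End.smul_def, pow_succ, pow_succ, pow_one]
    exact hy
  have h2 := pow_smul_eq_sum (Top L) (1 - Top L') h1 y 2 hc m
  rw [AddMonoid.End.smul_def] at h2
  rw [h2, Finset.sum_range_succ, Finset.sum_range_succ, Finset.sum_range_succ, Finset.sum_range_zero, zero_add]
  simp only [AddMonoid.End.smul_def, pow_zero, pow_one, Nat.choose_zero_right, Nat.cast_one, one_smul,
    add_tsub_cancel_right, Nat.choose_one_right, natCast_zsmul]
  have e2 : m + 2 - 1 = m + 1 := by omega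
  rw [e2, pow_succ, pow_one]
  rfl

section chi

variable (k : Type u) [Field k] (X) [X.Over (Spec (CommRingCat.of k))]
  [IsProper (X ↘ Spec (CommRingCat.of k))]

/-- `χ(Ψ T^m c) = χ(Ψ c) + m χ(C Ψ c) + C(m+1, 2) χ(C² Ψ c)` for `Ψ` a product of `s` operators `1 - [M_i ⊗ -]`
on a scheme of dimension `≤ s + 2`. -/
theorem chi_Psi_Top_pow [IsNoetherian X] (s : ℕ) (M : Fin s → X.Modules) (hM : ∀ i, PicF.IsInvertible (M i))
    (L L' : X.Modules) (hL : PicF.IsInvertible L) (e : CohB1.tensorMod L L' ≅ Coh.structureModule X)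
    (c : K0 X) (hc : c ∈ Hlt X (s + 3)) (m : ℕ) :
    chi k X (Psi M ((Top L ^ m) c)) = chi k X (Psi M c) + m * chi k X ((1 - Top L') (Psi M c)) +
      ((m + 1).choose 2 : ℤ) * chi k X ((1 - Top L') ((1 - Top L') (Psi M c))) := by
  have hL' : PicF.IsInvertible L' := Groth.Agent.Lib.Helper6.K0Inv.isInvertible_of_tensor_iso L L' hL e
  have h3 : Psi M c ∈ Hlt X 3 := Psi_mem_Hlt M hM 3 c (by rw [show 3 + s = s + 3 by omega]; exact hc)
  have hy : (1 - Top L') ((1 - Top L') ((1 - Top L') (Psi M c))) = 0 :=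
    eq_zero_of_mem_Hlt_zero _ (sub_Top_mem_Hlt L' hL' 0 _ (sub_Top_mem_Hlt L' hL' 1 _ (sub_Top_mem_Hlt L' hL' 2 _ h3)))
  have hcomm : Psi M ((Top L ^ m) c) = (Top L ^ m) (Psi M c) := by
    have := ((commute_Top_Psi L hL M hM).pow_left m).eq
    exact (DFunLike.congr_fun this c).symm
  rw [hcomm, Top_pow_apply_of_cube L L' hL e _ hy m, map_add, map_add, map_nsmul, map_nsmul, nsmul_eq_mul,
    nsmul_eq_mul]

end chi

/-- `2 (x_m + m (α₀ + m α₁) + C(m+1, 2) β₀) / m² → q + 2 α₁ + β₀` if `2 x_m / m² → q`. -/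
theorem tendsto_quadratic (x : ℕ → ℝ) (q α₀ α₁ β₀ : ℝ)
    (hx : Filter.Tendsto (fun m : ℕ => (2 : ℝ) * x m / ((m : ℝ) ^ 2)) Filter.atTop (nhds q)) :
    Filter.Tendsto (fun m : ℕ => (2 : ℝ) * (x m + (m : ℝ) * (α₀ + (m : ℝ) * α₁) +
      (((m + 1).choose 2 : ℕ) : ℝ) * β₀) / ((m : ℝ) ^ 2)) Filter.atTop (nhds (q + 2 * α₁ + β₀)) := by
  have h2 : Filter.Tendsto (fun m : ℕ => (2 * α₀ + β₀) / (m : ℝ)) Filter.atTop (nhds 0) :=
    tendsto_const_div_atTop_nhds_zero_nat _
  have h3 := (hx.add_const (2 * α₁ + β₀)).add h2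
  rw [add_zero, ← add_assoc] at h3
  refine h3.congr' ?_
  filter_upwards [Filter.eventually_gt_atTop 0] with m hm
  have hm' : (m : ℝ) ≠ 0 := by exact_mod_cast hm.ne'
  rw [Nat.cast_choose_two]
  push_cast
  field_simp
  ring

end Groth.Agent.Lib.Helper1.RefK0
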