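import Groth.Agent.Lib.Helper1.RefK06
import Mathlib
set_option backward.isDefEq.respectTransparency.types false
set_option autoImplicit false
set_option linter.style.haveILetI false

/-!
# The intersection pairing of a Weil divisor with a Cartier divisor: the `K'_0` computations (helper1)
-/

universe u
open CategoryTheory CategoryTheory.Limits AlgebraicGeometry Opposite TopologicalSpace MonoidalCategory

namespace Groth.Agent.Lib.Helper1.RefK0
open Groth.Agent.Lib.Helper6.K0Filt Groth.Agent.Lib.Helper6.K0Len Groth.Agent.Lib.Helper16.Stk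
  Groth.Agent.Lib.Helper6.DevCore Groth.Agent.Lib.Helper6.K0Loc Groth.Agent.Lib.Helper6.K0Op
open Groth.Agent.Lib.Helper1.RefHullLib RefHull
open Groth.Agent.Lib.Helper4.Snapper Groth.Agent.Lib.Helper2.IntNum1 Groth.Agent.Lib.Helper2.IntNum2
  Groth.Agent.Lib.Helper2.IntNum4

variable {X : Scheme.{u}}

/-- a coherent module supported in a closed set of dimension `≤ n` has class in `Hlt X (n + 1)`. -/
theorem cls_mem_Hlt_of_support_subset (n : ℕ) (Y' : Set X) (hdim : topologicalKrullDim ↥Y' ≤ n)
    (G : X.Modules) (hG : Coh.IsCoh G) (hGs : CohB1.support G ⊆ Y') : cls G ∈ Hlt X (n + 1) := by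
  apply cls_mem_Hlt G hG n
  have hind : Topology.IsInducing (Set.inclusion hGs) := (Topology.IsEmbedding.inclusion hGs).isInducing
  exact hind.topologicalKrullDim_le.trans hdim

/-- a generically invertible coherent module has the class of the structure sheaf modulo modules with support of
smaller dimension. -/
theorem cls_sub_structure_mem_Hlt [IsIntegral X] [IsNoetherian X] (n : ℕ)
    (hdim : topologicalKrullDim X = (n + 1 : ℕ)) (F : X.Modules) (hF : Coh.IsCoh F) (hFg : GenInvertible F) :
    cls F - cls (Coh.structureModule X) ∈ Hlt X (n + 1) := by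
  obtain ⟨H, p₁, p₂, U, hH, hηU, hp₁, hp₂⟩ := exists_common F hF hFg
  have hO := isCoh_structureModule X
  have hY' : IsClosed ((U : Set X)ᶜ) := U.isOpen.isClosed_compl
  have hne : ((U : Set X)ᶜ) ≠ Set.univ := fun h => by
    have : genericPoint X ∈ ((U : Set X)ᶜ) := h ▸ Set.mem_univ _
    exact this hηU
  have hdY := dim_closed_le n hdim _ hY' hne
  have key : ∀ {V : X.Modules} (q : H ⟶ V), Coh.IsCoh V → (∀ x ∈ U, IsoAt q x) →
      cls H - cls V ∈ Hlt X (n + 1) := by
    intro V q hV hq
    rw [cls_sub_eq q hH hV]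
    apply AddSubgroup.sub_mem
    · refine cls_mem_Hlt_of_support_subset n _ hdY _ (isCoh_kernel q hH hV) (fun x hx hxU => ?_)
      exact ((isoAt_iff q x).1 (hq x hxU)).1 hx
    · refine cls_mem_Hlt_of_support_subset n _ hdY _ (isCoh_cokernel q hH hV) (fun x hx hxU => ?_)
      exact ((isoAt_iff q x).1 (hq x hxU)).2 hx
  have := AddSubgroup.sub_mem _ (key p₂ hO hp₂) (key p₁ hF hp₁)
  convert this using 1
  abel

section main

variable [IsIntegral X] [IsNoetherian X] (hX : Pi1.IsNormalScheme X) (s : ℕ)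
  (hdim : topologicalKrullDim X = ((s + 1) + 1 : ℕ))

include hX in
/-- `[(F ⊗̂ L)^[m]] = [L]^m [F^[m]]` for `L` invertible. -/
theorem cls_refPow_refTensor (F L : X.Modules) (hF : IsRef1 F) (hL : PicF.IsInvertible L) (m : ℕ) :
    cls (RefPow.refPow (RefPow.refTensor F L) m) = (Top L ^ m) (cls (RefPow.refPow F m)) := by
  obtain ⟨i⟩ := nonempty_refPow_refTensor_iso hX F L hF hL m
  have hLr := isRef1_of_isInvertible L hL
  have hc := (isRef1_refPow _ (isRef1_ddual_tensorMod F L hF hLr) m).1
  rw [cls_iso i hc, ← Top_cls _ (Groth.Agent.Lib.Helper28.GenLocus.isInvertible_tensorPow hL m) _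
    (isRef1_refPow F hF m).1, Top_tensorPow L hL m]

include hX in
/-- `[L^[m]] = [L]^m [O]` for `L` invertible. -/
theorem cls_refPow_of_isInvertible (L : X.Modules) (hL : PicF.IsInvertible L) (m : ℕ) :
    cls (RefPow.refPow L m) = (Top L ^ m) (cls (Coh.structureModule X)) := by
  obtain ⟨i⟩ := nonempty_refPow_iso_tensorPow hX L hL m
  have hLr := isRef1_of_isInvertible L hL
  have hP := Groth.Agent.Lib.Helper28.GenLocus.isInvertible_tensorPow hL m
  have hPc := isCoh_of_isInvertible _ hP
  rw [cls_iso i (isRef1_refPow L hLr m).1, ← Top_tensorPow L hL m, Top_cls _ hP _ (isCoh_structureModule X)]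
  obtain ⟨u⟩ := Groth.Agent.Lib.Helper28.InvQC.nonempty_unit_tensor_iso (CohB1.tensorPow L m)
  have j : CohB1.tensorMod (CohB1.tensorPow L m) (Coh.structureModule X) ≅ CohB1.tensorPow L m :=
    Groth.Agent.Lib.Helper6.K0Inv.braidIso _ _ ≪≫ u
  exact (cls_iso j (isCoh_of_iso j.symm hPc)).symm

include hX hdim in
/-- the operators `C Ψ` and `C² Ψ` on the classes of the reflexive powers. -/
theorem sub_Top_Psi_cls_refPow (M : Fin s → X.Modules) (hM : ∀ i, PicF.IsInvertible (M i))
    (N : X.Modules) (hN : PicF.IsInvertible N) (F : X.Modules) (hF : IsRef1 F) (m : ℕ) :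
    (1 - Top N) (Psi M (cls (RefPow.refPow F m))) =
        (1 - Top N) (Psi M (cls (Coh.structureModule X))) +
          m • (1 - Top N) (Psi M (cls F - cls (Coh.structureModule X))) ∧
      (1 - Top N) ((1 - Top N) (Psi M (cls (RefPow.refPow F m)))) =
        (1 - Top N) ((1 - Top N) (Psi M (cls (Coh.structureModule X)))) := by
  have hm := cls_refPow_mem_Hlt hX (s + 1) hdim F hF m
  have hD := cls_sub_structure_mem_Hlt (s + 1) hdim F hF.1 hF.2.2
  constructor
  · have h1 := Psi_mem_Hlt M hM 1 _ (by rw [show 1 + s = s + 1 by omega]; exact hm)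
    have h2 := eq_zero_of_mem_Hlt_zero _ (sub_Top_mem_Hlt N hN 0 _ h1)
    rw [map_sub, map_sub, map_nsmul, map_sub, map_sub, map_nsmul, sub_eq_zero, sub_eq_iff_eq_add] at h2
    rw [h2]
    abel
  · have hm' : cls (RefPow.refPow F m) - cls (Coh.structureModule X) ∈ Hlt X (s + 2) := by
      have h0 := AddSubgroup.add_mem _ (Hlt_mono (s + 1) hm) (AddSubgroup.nsmul_mem _ hD m)
      convert h0 using 1
      abel
    have h1 := Psi_mem_Hlt M hM 2 _ (by rw [show 2 + s = s + 2 by omega]; exact hm')
    have h2 := eq_zero_of_mem_Hlt_zero _ (sub_Top_mem_Hlt N hN 0 _ (sub_Top_mem_Hlt N hN 1 _ h1))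
    rw [map_sub, map_sub, map_sub, sub_eq_zero] at h2
    exact h2

include hX hdim in
/-- `C Ψ ([F] - [O]) = C Ψ ([O] - [F^∨])`. -/
theorem sub_Top_Psi_cls_dual (M : Fin s → X.Modules) (hM : ∀ i, PicF.IsInvertible (M i))
    (N : X.Modules) (hN : PicF.IsInvertible N) (F : X.Modules) (hF : IsRef1 F) :
    (1 - Top N) (Psi M (cls F - cls (Coh.structureModule X))) =
      (1 - Top N) (Psi M (cls (Coh.structureModule X) - cls (dual F))) := by
  have hc := cls_refTensor_add_mem_Hlt hX (s + 1) hdim (dual F) F (isRef1_dual F hF) hF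
  obtain ⟨i⟩ := nonempty_ddual_dual_tensor_iso hX F hF
  have hi : cls (RefPow.refTensor (dual F) F) = cls (Coh.structureModule X) :=
    cls_iso i (isRef1_ddual_tensorMod _ F (isRef1_dual F hF) hF).1
  rw [hi] at hc
  have h1 := Psi_mem_Hlt M hM 1 _ (by rw [show 1 + s = s + 1 by omega]; exact hc)
  have h2 := eq_zero_of_mem_Hlt_zero _ (sub_Top_mem_Hlt N hN 0 _ h1)
  rw [← sub_eq_zero, ← map_sub, ← map_sub]
  rw [← neg_eq_zero, ← map_neg, ← map_neg] at h2
  convert h2 using 3
  abel

end main

end Groth.Agent.Lib.Helper1.RefK0
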