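import Groth.Agent.Lib.Helper1.RefPowCol6
import Mathlib
set_option backward.isDefEq.respectTransparency.types false
set_option autoImplicit false
set_option linter.style.haveILetI false

/-!
# If `U ⟶ X` is affine then powers of the section lie in `m_x F^[n]_x` off `U` (helper1)
-/

universe u
open CategoryTheory CategoryTheory.Limits AlgebraicGeometry Opposite TopologicalSpace

namespace Groth.Agent.Lib.Helper1.RefPowCol
open Groth.Agent.Lib.Helper28.QCohLoc Groth.Agent.Lib.Helper28.GenLocus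
  Groth.Agent.Lib.Helper28.TensorGen
  Groth.Agent.Lib.Helper29.QCohStalk
open Groth.Agent.Lib.Helper6.K0Loc
open AlgebraicGeometry.Scheme.Modules

theorem mem_smul_top_map {R M N : Type*} [CommRing R] [AddCommGroup M] [Module R M] [AddCommGroup N]
    [Module R N] (I : Ideal R) (f : M →ₗ[R] N) {v : M} (hv : v ∈ I • (⊤ : Submodule R M)) :
    f v ∈ I • (⊤ : Submodule R N) := by
  have h := Submodule.mem_map_of_mem (f := f) hv
  rw [Submodule.map_smul''] at h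
  exact Submodule.smul_mono le_rfl le_top h

variable {X : Scheme.{u}}

/-- the germ lies in `m_x` times the stalk. -/
def InMax (G : X.Modules) (x : X) (v : G.presheaf.stalk x) : Prop :=
  v ∈ IsLocalRing.maximalIdeal (X.presheaf.stalk x) •
    (⊤ : Submodule (X.presheaf.stalk x) (G.presheaf.stalk x))

theorem inMax_stalkMapₗ {G G' : X.Modules} (φ : G ⟶ G') (x : X) {v : G.presheaf.stalk x}
    (hv : InMax G x v) : InMax G' x (RefHull.stalkMapₗ φ x v) :=
  mem_smul_top_map _ (RefHull.stalkMapₗ φ x) hv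

theorem inMax_add {G : X.Modules} {x : X} {v w : G.presheaf.stalk x} (hv : InMax G x v)
    (hw : InMax G x w) : InMax G x (v + w) := Submodule.add_mem _ hv hw

theorem inMax_zero (G : X.Modules) (x : X) : InMax G x 0 := Submodule.zero_mem _

theorem germ_mem_maximalIdeal {W : X.Opens} {x : X} (hxW : x ∈ W) (f : Γ(X, W))
    (hf : x ∉ X.basicOpen f) :
    X.presheaf.germ W x hxW f ∈ IsLocalRing.maximalIdeal (X.presheaf.stalk x) := by
  rw [IsLocalRing.mem_maximalIdeal, mem_nonunits_iff]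
  intro hu
  exact hf ((X.mem_basicOpen f x hxW).2 hu)

theorem inMax_gm_smul {G : X.Modules} {W : X.Opens} {x : X} (hxW : x ∈ W) (f : Γ(X, W))
    (hf : x ∉ X.basicOpen f) (t : Γ(G, W)) : InMax G x (gm G W x hxW (f • t : Γ(G, W))) := by
  rw [gm_smul]
  exact Submodule.smul_mem_smul (germ_mem_maximalIdeal hxW f hf) trivial

variable [IsIntegral X] [IsLocallyNoetherian X] {F : X.Modules}
  (hF : RefHull.IsRef1 F) (s : Coh.structureModule X ⟶ F) (U : X.Opens)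
  (hU : (U : Set X) = RefPow.isoLocus s)

/-- `c` lifts to a section of the `n`-th reflexive power whose germ at `x` lies in `m_x` times the stalk. -/
def LiftAt (n : ℕ) (x : X) {W : X.Opens} (hxW : x ∈ W) (c : Γ(X, U.ι ''ᵁ U.ι ⁻¹ᵁ W)) : Prop :=
  ∃ t : Γ(RefPow.refPow F n, W),
    res (RefPow.refPow F n) (U.ι.image_preimage_le W) t =
      (RefPow.sPow s n).app (U.ι ''ᵁ U.ι ⁻¹ᵁ W) (Groth.Agent.Lib.Helper1.RefHullLib.toO c) ∧
    InMax (RefPow.refPow F n) x (gm (RefPow.refPow F n) W x hxW t)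

omit [IsIntegral X] [IsLocallyNoetherian X] in
theorem res_mulBy_app (n : ℕ) {W Q : X.Opens} (hQW : Q ≤ W) (t : Γ(RefPow.refPow F n, W))
    (c : Γ(Coh.structureModule X, Q))
    (ht : res (RefPow.refPow F n) hQW t = (RefPow.sPow s n).app Q c) :
    res (RefPow.refPow F (n + 1)) hQW ((RefPow.mulBy s n).app W t) = (RefPow.sPow s (n + 1)).app Q c := by
  rw [← app_res, ht]
  rfl

omit [IsIntegral X] [IsLocallyNoetherian X] in
theorem liftAt_succ {n : ℕ} {x : X} {W : X.Opens} (hxW : x ∈ W) {c : Γ(X, U.ι ''ᵁ U.ι ⁻¹ᵁ W)}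
    (h : LiftAt s U n x hxW c) : LiftAt s U (n + 1) x hxW c := by
  obtain ⟨t, ht, hin⟩ := h
  refine ⟨(RefPow.mulBy s n).app W t, res_mulBy_app s n _ t _ ht, ?_⟩
  have := inMax_stalkMapₗ (RefPow.mulBy s n) x hin
  rw [show gm (RefPow.refPow F n) W x hxW t = (RefPow.refPow F n).presheaf.germ W x hxW t from rfl,
    RefHull.stalkMapₗ_germ] at this
  exact this

omit [IsIntegral X] [IsLocallyNoetherian X] in
theorem liftAt_mono {n m : ℕ} (hnm : n ≤ m) {x : X} {W : X.Opens} (hxW : x ∈ W)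
    {c : Γ(X, U.ι ''ᵁ U.ι ⁻¹ᵁ W)} (h : LiftAt s U n x hxW c) : LiftAt s U m x hxW c := by
  induction m, hnm using Nat.le_induction with
  | base => exact h
  | succ m _ ih => exact liftAt_succ s U hxW ih

omit [IsIntegral X] [IsLocallyNoetherian X] in
theorem liftAt_add {n : ℕ} {x : X} {W : X.Opens} (hxW : x ∈ W) {c c' : Γ(X, U.ι ''ᵁ U.ι ⁻¹ᵁ W)}
    (h : LiftAt s U n x hxW c) (h' : LiftAt s U n x hxW c') : LiftAt s U n x hxW (c + c') := by
  obtain ⟨t, ht, hin⟩ := h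
  obtain ⟨t', ht', hin'⟩ := h'
  refine ⟨t + t', ?_, ?_⟩
  · calc res (RefPow.refPow F n) (U.ι.image_preimage_le W) (t + t')
        = res (RefPow.refPow F n) (U.ι.image_preimage_le W) t +
          res (RefPow.refPow F n) (U.ι.image_preimage_le W) t' := map_add _ _ _
      _ = (RefPow.sPow s n).app (U.ι ''ᵁ U.ι ⁻¹ᵁ W) (Groth.Agent.Lib.Helper1.RefHullLib.toO c) +
          (RefPow.sPow s n).app (U.ι ''ᵁ U.ι ⁻¹ᵁ W) (Groth.Agent.Lib.Helper1.RefHullLib.toO c') := by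
          rw [ht, ht']
      _ = (RefPow.sPow s n).app (U.ι ''ᵁ U.ι ⁻¹ᵁ W) (Groth.Agent.Lib.Helper1.RefHullLib.toO (c + c')) :=
          (map_add ((RefPow.sPow s n).app (U.ι ''ᵁ U.ι ⁻¹ᵁ W)).hom _ _).symm
  · have : gm (RefPow.refPow F n) W x hxW (t + t') =
        gm (RefPow.refPow F n) W x hxW t + gm (RefPow.refPow F n) W x hxW t' := map_add _ _ _
    rw [this]
    exact inMax_add hin hin'

omit [IsIntegral X] [IsLocallyNoetherian X] in
theorem liftAt_zero (n : ℕ) {x : X} {W : X.Opens} (hxW : x ∈ W) : LiftAt s U n x hxW 0 := by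
  refine ⟨0, ?_, ?_⟩
  · exact (map_zero _).trans (map_zero ((RefPow.sPow s n).app (U.ι ''ᵁ U.ι ⁻¹ᵁ W)).hom).symm
  · rw [gm_zero]
    exact inMax_zero _ x

include hF hU in
theorem liftAt_mul_of_notMem (hX : Pi1.IsNormalScheme X) (hη : genericPoint X ∈ U) {x : X}
    {W : X.Opens} (hW : IsAffineOpen W) (hxW : x ∈ W) (f : Γ(X, W)) (hf : x ∉ X.basicOpen f)
    (b : Γ(X, U.ι ''ᵁ U.ι ⁻¹ᵁ W)) :
    ∃ n, LiftAt s U n x hxW (b * resO (U.ι.image_preimage_le W) f) := by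
  obtain ⟨n, t₀, ht₀⟩ := exists_legN_app_eq hF s U hU hX hη hW (show Γ(pushO U, W) from b)
  unfold legN at ht₀
  rw [leg_app_eq_iff] at ht₀
  refine ⟨n, (f • t₀ : Γ(RefPow.refPow F n, W)), ?_, inMax_gm_smul hxW f hf t₀⟩
  rw [res_smul, ht₀, ← Scheme.Modules.Hom.app_smul]
  congr 1
  exact mul_comm (resO (U.ι.image_preimage_le W) f) b

include hF hU in
theorem exists_inMax_of_isAffineOpen (hX : Pi1.IsNormalScheme X) (hη : genericPoint X ∈ U) {x : X}
    (hxU : x ∉ U) {W : X.Opens} (hW : IsAffineOpen W) (hxW : x ∈ W)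
    (hQ : IsAffineOpen (U.ι ''ᵁ U.ι ⁻¹ᵁ W)) :
    ∃ n : ℕ, 0 < n ∧ InMax (RefPow.refPow F n) x (RefPow.sPowGerm s n x) := by
  have hQW : U.ι ''ᵁ U.ι ⁻¹ᵁ W ≤ W := U.ι.image_preimage_le W
  have hQU : U.ι ''ᵁ U.ι ⁻¹ᵁ W ≤ U := by rw [image_preimage_eq_inf]; exact inf_le_left
  let S : Set Γ(X, U.ι ''ᵁ U.ι ⁻¹ᵁ W) := {c | ∃ f : Γ(X, W), x ∉ X.basicOpen f ∧ c = resO hQW f}
  have hcover : U.ι ''ᵁ U.ι ⁻¹ᵁ W ≤ ⨆ c : S, X.basicOpen c.1 := by
    intro y hy
    obtain ⟨f, hfQ, hyf⟩ := hW.exists_basicOpen_le (V := U.ι ''ᵁ U.ι ⁻¹ᵁ W) ⟨y, hy⟩ (hQW hy)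
    refine Opens.mem_iSup.2 ⟨⟨resO hQW f, f, fun hx => hxU (hQU (hfQ hx)), rfl⟩, ?_⟩
    show y ∈ X.basicOpen (resO hQW f)
    rw [basicOpen_resO]
    exact ⟨hy, hyf⟩
  have hspan : Ideal.span S = ⊤ := hQ.self_le_iSup_basicOpen_iff.1 hcover
  have h1 : (1 : Γ(X, U.ι ''ᵁ U.ι ⁻¹ᵁ W)) ∈ Ideal.span S := by rw [hspan]; trivial
  have key : ∀ b : Γ(X, U.ι ''ᵁ U.ι ⁻¹ᵁ W), ∃ n, LiftAt s U n x hxW (b * 1) := by
    refine Submodule.span_induction
      (p := fun c _ => ∀ b : Γ(X, U.ι ''ᵁ U.ι ⁻¹ᵁ W), ∃ n, LiftAt s U n x hxW (b * c)) ?_ ?_ ?_ ?_ h1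
    · rintro c ⟨f, hf, rfl⟩ b
      exact liftAt_mul_of_notMem hF s U hU hX hη hW hxW f hf b
    · intro b
      exact ⟨0, by rw [mul_zero]; exact liftAt_zero s U 0 hxW⟩
    · intro c c' _ _ ih ih' b
      obtain ⟨n, hn⟩ := ih b
      obtain ⟨n', hn'⟩ := ih' b
      refine ⟨max n n', ?_⟩
      rw [mul_add]
      exact liftAt_add s U hxW (liftAt_mono s U (le_max_left _ _) hxW hn)
        (liftAt_mono s U (le_max_right _ _) hxW hn')
    · intro a c _ ih b
      obtain ⟨n, hn⟩ := ih (b * a)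
      refine ⟨n, ?_⟩
      rw [smul_eq_mul, ← mul_assoc]
      exact hn
  obtain ⟨n, hn⟩ := key 1
  obtain ⟨t, ht, hin⟩ := liftAt_succ s U hxW hn
  refine ⟨n + 1, Nat.succ_pos n, ?_⟩
  haveI : (RefPow.refPow F (n + 1)).IsQuasicoherent := (isRef1_refPow F hF (n + 1)).1.1
  have hηQ : genericPoint X ∈ U.ι ''ᵁ U.ι ⁻¹ᵁ W := by
    rw [image_preimage_eq_inf]
    exact ⟨hη, generic_mem_of_nonempty ⟨x, hxW⟩⟩
  have ht2 : t = SecTwist.val (RefPow.sPow s (n + 1)) W := by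
    apply Groth.Agent.S16490.injective_res_of_isTorsionFree X _ (isTorsionFree_refPow hF (n + 1)) W _
      hQW hηQ
    rw [ht, res_val, mul_one]
    rfl
  rw [ht2] at hin
  have hg : RefPow.sPowGerm s (n + 1) x =
      gm (RefPow.refPow F (n + 1)) W x hxW (SecTwist.val (RefPow.sPow s (n + 1)) W) := by
    rw [← res_val (RefPow.sPow s (n + 1)) (le_top : W ≤ ⊤), gm_res]
  rw [hg]
  exact hin

include hF hU in
/-- **(1) ⇒ (2)**. -/
theorem exists_inMax_of_isAffineHom (hX : Pi1.IsNormalScheme X) (hAff : IsAffineHom U.ι) (x : X)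
    (hx : x ∉ U) : ∃ n : ℕ, 0 < n ∧ InMax (RefPow.refPow F n) x (RefPow.sPowGerm s n x) := by
  by_cases hη : genericPoint X ∈ U
  · obtain ⟨W, hWaff, hxW, -⟩ := (Opens.isBasis_iff_nbhd.1 X.isBasis_affineOpens)
      (show x ∈ (⊤ : X.Opens) from trivial)
    have hQ := (hAff.isAffine_preimage W hWaff).image_of_isOpenImmersion U.ι
    exact exists_inMax_of_isAffineOpen hF s U hU hX hη hx hWaff hxW hQ
  · refine ⟨1, one_pos, ?_⟩
    have h0 := val_eq_zero_of_generic_not_mem hF s U hU hη ⊤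
    have hg : RefPow.sPowGerm s 1 x = 0 := by
      unfold RefPow.sPowGerm
      rw [RefPow.sPow_one]
      exact (congrArg ((RefPow.refPow F 1).presheaf.germ ⊤ x trivial) h0).trans (map_zero _)
    rw [hg]
    exact inMax_zero _ x

end Groth.Agent.Lib.Helper1.RefPowCol
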