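import Groth.Agent.Lib.Helper1.RefPowAff1
import Mathlib
set_option backward.isDefEq.respectTransparency.types false
set_option autoImplicit false
set_option linter.style.haveILetI false

/-!
# Spreading out the condition `s^n ∈ m_x F^[n]_x` (helper1)
-/

universe u
open CategoryTheory CategoryTheory.Limits AlgebraicGeometry Opposite TopologicalSpace

namespace Groth.Agent.Lib.Helper1.RefPowCol
open Groth.Agent.Lib.Helper28.QCohLoc Groth.Agent.Lib.Helper28.GenLocus
  Groth.Agent.Lib.Helper29.QCohStalk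
open AlgebraicGeometry.Scheme.Modules

variable {X : Scheme.{u}}

/-- the ideal of the functions on `N` vanishing at `x`. -/
noncomputable def Ix (x : X) (N : X.Opens) (hx : x ∈ N) : Ideal Γ(X, N) :=
  Ideal.comap (X.presheaf.germ N x hx).hom (IsLocalRing.maximalIdeal (X.presheaf.stalk x))

theorem mem_Ix_iff {x : X} {N : X.Opens} (hx : x ∈ N) (f : Γ(X, N)) :
    f ∈ Ix x N hx ↔ x ∉ X.basicOpen f := by
  unfold Ix
  rw [Ideal.mem_comap, IsLocalRing.mem_maximalIdeal, mem_nonunits_iff]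
  exact not_congr (X.mem_basicOpen f x hx).symm

theorem resO_mem_Ix {x : X} {N N' : X.Opens} (h : N' ≤ N) (hx : x ∈ N') {f : Γ(X, N)}
    (hf : f ∈ Ix x N (h hx)) : resO h f ∈ Ix x N' hx := by
  rw [mem_Ix_iff] at hf ⊢
  rw [basicOpen_resO]
  exact fun h' => hf h'.2

theorem res_mem_smul_top {G : X.Modules} {x : X} {N N' : X.Opens} (h : N' ≤ N) (hx : x ∈ N')
    {t : Γ(G, N)} (ht : t ∈ Ix x N (h hx) • (⊤ : Submodule Γ(X, N) Γ(G, N))) :
    res G h t ∈ Ix x N' hx • (⊤ : Submodule Γ(X, N') Γ(G, N')) := by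
  refine Submodule.smul_induction_on ht (fun r hr n _ => ?_) (fun a b ha hb => ?_)
  · rw [res_smul]
    exact Submodule.smul_mem_smul (resO_mem_Ix h hx hr) trivial
  · have : res G h (a + b) = res G h a + res G h b := map_add _ _ _
    rw [this]
    exact Submodule.add_mem _ ha hb

theorem exists_section_of_inMax {G : X.Modules} (x : X) (v : G.presheaf.stalk x) (hv : InMax G x v) :
    ∃ (N : X.Opens) (hx : x ∈ N) (t : Γ(G, N)), gm G N x hx t = v ∧
      t ∈ Ix x N hx • (⊤ : Submodule Γ(X, N) Γ(G, N)) := by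
  refine Submodule.smul_induction_on hv (fun a ha w _ => ?_) (fun v w hv hw => ?_)
  · obtain ⟨N1, h1, f, rfl⟩ := TopCat.Presheaf.exists_germ_eq X.presheaf a
    obtain ⟨N2, h2, t, rfl⟩ := TopCat.Presheaf.exists_germ_eq G.presheaf w
    have hf : f ∈ Ix x N1 h1 := ha
    refine ⟨N1 ⊓ N2, ⟨h1, h2⟩, (resO (inf_le_left : N1 ⊓ N2 ≤ N1) f • res G (inf_le_right : N1 ⊓ N2 ≤ N2) t : Γ(G, N1 ⊓ N2)), ?_, ?_⟩
    · rw [gm_smul, gm_res]
      congr 1
      exact TopCat.Presheaf.germ_res_apply X.presheaf (homOfLE inf_le_left) x ⟨h1, h2⟩ f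
    · exact Submodule.smul_mem_smul (resO_mem_Ix inf_le_left ⟨h1, h2⟩ hf) trivial
  · obtain ⟨N1, h1, t1, rfl, ht1⟩ := hv
    obtain ⟨N2, h2, t2, rfl, ht2⟩ := hw
    refine ⟨N1 ⊓ N2, ⟨h1, h2⟩, res G inf_le_left t1 + res G inf_le_right t2, ?_, ?_⟩
    · have : gm G (N1 ⊓ N2) x ⟨h1, h2⟩ (res G inf_le_left t1 + res G inf_le_right t2) =
          gm G (N1 ⊓ N2) x ⟨h1, h2⟩ (res G inf_le_left t1) +
            gm G (N1 ⊓ N2) x ⟨h1, h2⟩ (res G inf_le_right t2) := map_add _ _ _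
      rw [this, gm_res, gm_res]
    · exact Submodule.add_mem _ (res_mem_smul_top inf_le_left ⟨h1, h2⟩ ht1)
        (res_mem_smul_top inf_le_right ⟨h1, h2⟩ ht2)

theorem exists_basicOpen_val_mem {F : X.Modules} (s : Coh.structureModule X ⟶ F) (n : ℕ) (x : X)
    (hin : InMax (RefPow.refPow F n) x (RefPow.sPowGerm s n x))
    {W : X.Opens} (hW : IsAffineOpen W) (hxW : x ∈ W) :
    ∃ (h : Γ(X, W)) (hx : x ∈ X.basicOpen h),
      (SecTwist.val (RefPow.sPow s n) (X.basicOpen h) : Γ(RefPow.refPow F n, X.basicOpen h)) ∈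
        Ix x (X.basicOpen h) hx •
          (⊤ : Submodule Γ(X, X.basicOpen h) Γ(RefPow.refPow F n, X.basicOpen h)) := by
  obtain ⟨N, hxN, t, ht, htI⟩ := exists_section_of_inMax x _ hin
  have h2 : gm (RefPow.refPow F n) N x hxN t =
      gm (RefPow.refPow F n) N x hxN (SecTwist.val (RefPow.sPow s n) N) := by
    rw [ht, ← res_val (RefPow.sPow s n) (le_top : N ≤ ⊤), gm_res]
  obtain ⟨N', hxN', iU, iV, hres⟩ :=
    TopCat.Presheaf.germ_eq (RefPow.refPow F n).presheaf x hxN hxN _ _ h2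
  obtain ⟨h, hle, hxh⟩ := hW.exists_basicOpen_le (V := N') ⟨x, hxN'⟩ hxW
  refine ⟨h, hxh, ?_⟩
  have hres' : res (RefPow.refPow F n) iU.le t =
      res (RefPow.refPow F n) iV.le (SecTwist.val (RefPow.sPow s n) N) := hres
  have h3 : (SecTwist.val (RefPow.sPow s n) (X.basicOpen h) : Γ(RefPow.refPow F n, X.basicOpen h)) =
      res (RefPow.refPow F n) (hle.trans iU.le) t := by
    rw [← res_res (RefPow.refPow F n) iU.le hle t, hres', res_val, res_val]
  rw [h3]
  exact res_mem_smul_top _ hxh htI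

end Groth.Agent.Lib.Helper1.RefPowCol
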