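import Groth.Agent.Lib.Helper1.RefPowAff2
import Mathlib
set_option backward.isDefEq.respectTransparency.types false
set_option autoImplicit false
set_option linter.style.haveILetI false

/-!
# The condition `s^n ∈ m_x F^[n]_x` off `U` implies that `U ⟶ X` is affine (helper1)
-/

universe u
open CategoryTheory CategoryTheory.Limits AlgebraicGeometry Opposite TopologicalSpace

namespace Groth.Agent.Lib.Helper1.RefPowCol
open Groth.Agent.Lib.Helper28.QCohLoc Groth.Agent.Lib.Helper28.GenLocus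
  Groth.Agent.Lib.Helper29.QCohStalk
open AlgebraicGeometry.Scheme.Modules

variable {X : Scheme.{u}} [IsIntegral X] [IsLocallyNoetherian X] {F : X.Modules}
  (hF : RefHull.IsRef1 F) (s : Coh.structureModule X ⟶ F) (U : X.Opens)
  (hU : (U : Set X) = RefPow.isoLocus s)

include hF hU in
/-- the powers of `s` generate the reflexive powers over `U`. -/
theorem isGen_val_sPow_of_le (n : ℕ) {N : X.Opens} (hN : N ≤ U) :
    IsGen (RefPow.refPow F n) N (SecTwist.val (RefPow.sPow s n) N) := by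
  intro W' hW'
  have h := isIso_restrict_sPow hF s U hU n
  have hb := (isIso_restrict_iff (RefPow.sPow s n) U).1 h W' (hW'.trans hN)
  have hfun : (fun c : Γ(X, W') => (c • res (RefPow.refPow F n) hW'
      (SecTwist.val (RefPow.sPow s n) N) : Γ(RefPow.refPow F n, W'))) =
      ((RefPow.sPow s n).app W' : Γ(Coh.structureModule X, W') → Γ(RefPow.refPow F n, W')) := by
    funext c
    rw [res_val]
    exact (app_eq_smul_val (RefPow.sPow s n) W' c).symm
  rw [hfun]
  exact hb

include hF hU in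
theorem false_of_prime {W : X.Opens} (hW : IsAffineOpen W) (q : Ideal Γ(X, U ⊓ W)) (hq : q.IsPrime)
    (x : X) (hxiff : ∀ f : Γ(X, W), x ∈ X.basicOpen f ↔ resO (inf_le_right : U ⊓ W ≤ W) f ∉ q)
    (n : ℕ) (h : Γ(X, W)) (hxh : x ∈ X.basicOpen h)
    (hval : (SecTwist.val (RefPow.sPow s n) (X.basicOpen h) : Γ(RefPow.refPow F n, X.basicOpen h)) ∈
      Ix x (X.basicOpen h) hxh •
        (⊤ : Submodule Γ(X, X.basicOpen h) Γ(RefPow.refPow F n, X.basicOpen h))) : False := by
  have hVW : U ⊓ W ≤ W := inf_le_right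
  set h' : Γ(X, U ⊓ W) := resO hVW h with hh'def
  have hh' : h' ∉ q := (hxiff h).1 hxh
  have hVNV : X.basicOpen h' ≤ U ⊓ W := X.basicOpen_le h'
  have hVN_eq : X.basicOpen h' = (U ⊓ W) ⊓ X.basicOpen h := basicOpen_resO hVW h
  have hVND : X.basicOpen h' ≤ X.basicOpen h := by rw [hVN_eq]; exact inf_le_right
  have hVNU : X.basicOpen h' ≤ U := hVNV.trans inf_le_left
  have hVc : IsCompact ((U ⊓ W : X.Opens) : Set X) := isCompact_of_le_affine hW _ hVW
  have hVqs : IsQuasiSeparated ((U ⊓ W : X.Opens) : Set X) := hW.isQuasiSeparated.of_subset hVW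
  haveI hloc : IsLocalization.Away h' Γ(X, X.basicOpen h') :=
    isLocalization_basicOpen_of_qcqs hVc hVqs h'
  have hdisj : Disjoint (Submonoid.powers h' : Set Γ(X, U ⊓ W)) (q : Set Γ(X, U ⊓ W)) :=
    (Ideal.disjoint_powers_iff_notMem h' hq.isRadical).2 hh'
  set q' : Ideal Γ(X, X.basicOpen h') := Ideal.map (algebraMap Γ(X, U ⊓ W) Γ(X, X.basicOpen h')) q
    with hq'def
  have hq' : q'.IsPrime :=
    IsLocalization.isPrime_of_isPrime_disjoint (Submonoid.powers h') _ q hq hdisj
  have hunit : IsUnit (resO hVNV h') := IsLocalization.Away.algebraMap_isUnit h'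
  -- Claim A
  have claimA : ∀ f' : Γ(X, X.basicOpen h), f' ∈ Ix x (X.basicOpen h) hxh → resO hVND f' ∈ q' := by
    intro f' hf'
    haveI := hW.isLocalization_basicOpen h
    obtain ⟨k, f, hkf⟩ := IsLocalization.Away.surj h f'
    have hkf' : f' * resO (X.basicOpen_le h) h ^ k = resO (X.basicOpen_le h) f := hkf
    have hxf : x ∉ X.basicOpen f := by
      intro hxf
      have h1 : x ∈ X.basicOpen (resO (X.basicOpen_le h) f) := by
        rw [basicOpen_resO]; exact ⟨hxh, hxf⟩
      rw [← hkf', Scheme.basicOpen_mul] at h1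
      exact (mem_Ix_iff hxh f').1 hf' h1.1
    have hfq : resO hVW f ∈ q := by
      by_contra hc
      exact hxf ((hxiff f).2 hc)
    have h4 : resO hVNV (resO hVW f) ∈ q' := Ideal.mem_map_of_mem _ hfq
    have h5 : resO hVNV (resO hVW f) = resO hVND f' * (resO hVNV h') ^ k := by
      have hmul : resO hVND (f' * resO (X.basicOpen_le h) h ^ k) =
          resO hVND f' * resO hVND (resO (X.basicOpen_le h) h ^ k) := map_mul _ _ _
      have hh2 : resO hVNV h' = resO (hVNV.trans hVW) h := resO_resO hVW hVNV h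
      rw [resO_resO, ← resO_resO (X.basicOpen_le h) hVND f, ← hkf', hmul, resO_pow, resO_resO, hh2]
    rw [h5] at h4
    rcases hq'.mem_or_mem h4 with h6 | h6
    · exact h6
    · exfalso
      have h7 := hq'.mem_of_pow_mem k h6
      exact hq'.ne_top (Ideal.eq_top_of_isUnit_mem _ h7 hunit)
  -- Claim B
  have hγ := isGen_val_sPow_of_le hF s U hU n hVNU
  let Φ : Γ(RefPow.refPow F n, X.basicOpen h) → Γ(X, X.basicOpen h') :=
    fun t => hγ.coef le_rfl (res (RefPow.refPow F n) hVND t)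
  have hΦadd : ∀ t t', Φ (t + t') = Φ t + Φ t' := by
    intro t t'
    show hγ.coef le_rfl (res (RefPow.refPow F n) hVND (t + t')) = _
    have : res (RefPow.refPow F n) hVND (t + t') =
        res (RefPow.refPow F n) hVND t + res (RefPow.refPow F n) hVND t' := map_add _ _ _
    rw [this, hγ.coef_add]
  have hΦsmul : ∀ (r : Γ(X, X.basicOpen h)) t, Φ (r • t) = resO hVND r * Φ t := by
    intro r t
    show hγ.coef le_rfl (res (RefPow.refPow F n) hVND (r • t)) = _
    rw [res_smul, hγ.coef_smul_left]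
  have hΦ0 : Φ 0 = 0 := by
    have := hΦsmul 0 0
    have hr0 : resO hVND (0 : Γ(X, X.basicOpen h)) = 0 := map_zero _
    rw [zero_smul, hr0, zero_mul] at this
    exact this
  let M : Submodule Γ(X, X.basicOpen h) Γ(RefPow.refPow F n, X.basicOpen h) :=
    { carrier := {t | Φ t ∈ q'}
      add_mem' := fun {a b} ha hb => by
        show Φ (a + b) ∈ q'
        rw [hΦadd]; exact q'.add_mem ha hb
      zero_mem' := by
        show Φ 0 ∈ q'
        rw [hΦ0]; exact q'.zero_mem
      smul_mem' := fun r t ht => by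
        show Φ (r • t) ∈ q'
        rw [hΦsmul]; exact q'.mul_mem_left _ ht }
  have hle : Ix x (X.basicOpen h) hxh •
      (⊤ : Submodule Γ(X, X.basicOpen h) Γ(RefPow.refPow F n, X.basicOpen h)) ≤ M := by
    rw [Submodule.smul_le]
    intro r hr t _
    show Φ (r • t) ∈ q'
    rw [hΦsmul]
    exact q'.mul_mem_right _ (claimA r hr)
  have h1 : Φ (SecTwist.val (RefPow.sPow s n) (X.basicOpen h)) ∈ q' := hle hval
  have h2 : Φ (SecTwist.val (RefPow.sPow s n) (X.basicOpen h)) = 1 := by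
    show hγ.coef le_rfl (res (RefPow.refPow F n) hVND (SecTwist.val (RefPow.sPow s n) (X.basicOpen h))) = 1
    rw [res_val]
    exact hγ.coef_self
  rw [h2] at h1
  exact hq'.ne_top ((Ideal.eq_top_iff_one _).2 h1)

include hF hU in
theorem isAffineOpen_inf_of_inMax
    (hcond : ∀ x : X, x ∉ U → ∃ n : ℕ, 0 < n ∧ InMax (RefPow.refPow F n) x (RefPow.sPowGerm s n x))
    {W : X.Opens} (hW : IsAffineOpen W) : IsAffineOpen (U ⊓ W) := by
  have hVW : U ⊓ W ≤ W := inf_le_right
  let S : Set Γ(X, U ⊓ W) := {c | ∃ f : Γ(X, W), X.basicOpen f ≤ U ⊓ W ∧ c = resO hVW f}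
  apply isAffineOpen_of_isAffineOpen_basicOpen (U ⊓ W) S
  · by_contra hne
    obtain ⟨q, hqmax, hSq⟩ := Ideal.exists_le_maximal _ hne
    have hq : q.IsPrime := hqmax.isPrime
    let φ : Γ(X, W) →+* Γ(X, U ⊓ W) := (X.presheaf.map (homOfLE hVW).op).hom
    let p : Ideal Γ(X, W) := Ideal.comap φ q
    haveI hp : p.IsPrime := Ideal.comap_isPrime φ q
    let x : X := hW.fromSpec.base ⟨p, hp⟩
    have hxiff : ∀ f : Γ(X, W), x ∈ X.basicOpen f ↔ resO hVW f ∉ q := by
      intro f
      have h1 := hW.fromSpec_preimage_basicOpen f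
      have h2 : x ∈ X.basicOpen f ↔ (⟨p, hp⟩ : PrimeSpectrum Γ(X, W)) ∈
          (hW.fromSpec ⁻¹ᵁ X.basicOpen f : (Spec Γ(X, W)).Opens) := Iff.rfl
      rw [h2, h1]
      exact Iff.rfl
    have hxW : x ∈ W := by
      have h1 : x ∈ hW.fromSpec.opensRange := ⟨_, rfl⟩
      rw [hW.opensRange_fromSpec] at h1
      exact h1
    have hxV : x ∉ U ⊓ W := by
      intro hxV
      obtain ⟨f, hfV, hxf⟩ := hW.exists_basicOpen_le (V := U ⊓ W) ⟨x, hxV⟩ hxW
      have : resO hVW f ∈ q := hSq (Ideal.subset_span ⟨f, hfV, rfl⟩)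
      exact (hxiff f).1 hxf this
    have hxU : x ∉ U := fun h => hxV ⟨h, hxW⟩
    obtain ⟨n, hn, hin⟩ := hcond x hxU
    obtain ⟨h, hxh, hval⟩ := exists_basicOpen_val_mem s n x hin hW hxW
    exact false_of_prime hF s U hU hW q hq x hxiff n h hxh hval
  · rintro c ⟨f, hfV, rfl⟩
    rw [basicOpen_resO, inf_eq_right.2 hfV]
    exact hW.basicOpen f

include hF hU in
/-- **(2) ⇒ (1)**. -/
theorem isAffineHom_of_inMax
    (hcond : ∀ x : X, x ∉ U → ∃ n : ℕ, 0 < n ∧ InMax (RefPow.refPow F n) x (RefPow.sPowGerm s n x)) :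
    IsAffineHom U.ι := by
  refine ⟨fun W hW => ?_⟩
  rw [← U.ι.isAffineOpen_iff_of_isOpenImmersion, image_preimage_eq_inf]
  exact isAffineOpen_inf_of_inMax hF s U hU hcond hW

end Groth.Agent.Lib.Helper1.RefPowCol
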