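import Groth.Agent.Lib.Helper1.RefK02
import Groth.Agent.Lib.Helper1.RefHull12
import Mathlib
set_option backward.isDefEq.respectTransparency.types false
set_option autoImplicit false
set_option linter.style.haveILetI false

/-!
# Reflexive powers on the locus where the section generates (helper1)

For `s : O_X ⟶ F` and a point `x` at which the stalk map of `s` is bijective, all the maps
`mulBy s n : F^[n] ⟶ F^[n+1]` and `sPow s n : O_X ⟶ F^[n]` are isomorphisms on stalks at `x`.
-/

universe u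
open CategoryTheory CategoryTheory.Limits AlgebraicGeometry Opposite TopologicalSpace MonoidalCategory

namespace Groth.Agent.Lib.Helper1.RefPowCol
open Groth.Agent.Lib.Helper6.K0Loc Groth.Agent.Lib.Helper16.Stk
open Groth.Agent.Lib.Helper1.RefHullLib Groth.Agent.Lib.Helper1.RefK0 RefHull
open Groth.Agent.Lib.Helper28.GenLocus

variable {X : Scheme.{u}}

theorem isRef1_refPow [IsIntegral X] [IsLocallyNoetherian X] (F : X.Modules) (hF : IsRef1 F) :
    ∀ m : ℕ, IsRef1 (RefPow.refPow F m)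
  | 0 => isRef1_structureModule
  | 1 => hF
  | (m + 2) => isRef1_ddual_tensorMod _ F (isRef1_refPow F hF (m + 1)) hF

theorem isoAt_iff_bijective {A B : X.Modules} (φ : A ⟶ B) (x : X) :
    IsoAt φ x ↔ Function.Bijective (stalkMapₗ φ x) := by
  unfold IsoAt
  rw [ConcreteCategory.isIso_iff_bijective]
  have hfun : (⇑(ConcreteCategory.hom ((stk x).map φ)) : A.presheaf.stalk x → B.presheaf.stalk x) =
      ⇑(stalkMapₗ φ x) := funext fun v => stk_map_apply _ x v
  exact ⟨fun hb => hfun ▸ hb, fun hb => hfun ▸ hb⟩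

theorem isoAt_of_isIso {A B : X.Modules} (φ : A ⟶ B) [IsIso φ] (x : X) : IsoAt φ x := by
  unfold IsoAt; infer_instance

theorem isoAt_comp {A B C : X.Modules} (φ : A ⟶ B) (ψ : B ⟶ C) (x : X) (h1 : IsoAt φ x)
    (h2 : IsoAt ψ x) : IsoAt (φ ≫ ψ) x := by
  unfold IsoAt at *
  rw [Functor.map_comp]
  infer_instance

/-- tensoring on the left preserves isomorphisms at a point. -/
theorem isoAt_tensorMap_id_left (M : X.Modules) {A B : X.Modules} (p : A ⟶ B) (x : X) (h : IsoAt p x) :
    IsoAt (KoszTw.tensorMap (𝟙 M) p) x := by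
  rw [← KoszTw.tensorBi_obj_map]
  unfold IsoAt at h ⊢
  haveI := h
  have nat := stalkTensorIso_natR x M p
  have : (stk x).map ((DCoh.tensorBi.obj M).map p) =
      (stalkTensorIso x M A).inv ≫ ((stk x).obj M ◁ (stk x).map p) ≫ (stalkTensorIso x M B).hom := by
    rw [nat, Iso.inv_hom_id_assoc]
  have hI : IsIso ((stalkTensorIso x M A).inv ≫ ((stk x).obj M ◁ (stk x).map p) ≫
      (stalkTensorIso x M B).hom) := inferInstance
  rw [← this] at hI
  exact hI

/-- the stalk of the structure module is free of rank one. -/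
theorem nonempty_stk_structure_iso_unit (x : X) :
    Nonempty ((stk x).obj (Coh.structureModule X) ≅ 𝟙_ (ModuleCat.{u} (X.presheaf.stalk x))) :=
  nonempty_stk_iso_unit_of_isGen (isGen_oneSec (⊤ : X.Opens)) x trivial

theorem nonempty_stk_iso_unit_of_isoAt {D : X.Modules} (σ : Coh.structureModule X ⟶ D) (x : X)
    (h : IsoAt σ x) : Nonempty ((stk x).obj D ≅ 𝟙_ (ModuleCat.{u} (X.presheaf.stalk x))) := by
  obtain ⟨e⟩ := nonempty_stk_structure_iso_unit x
  unfold IsoAt at h
  haveI := h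
  exact ⟨(asIso ((stk x).map σ)).symm ≪≫ e⟩

section

variable [IsIntegral X] [IsLocallyNoetherian X] {F : X.Modules}

theorem isoAt_sPow_and_mulBy (hF : IsRef1 F) (s : Coh.structureModule X ⟶ F) (x : X) (hx : IsoAt s x) :
    ∀ n : ℕ, IsoAt (RefPow.sPow s n) x ∧ IsoAt (RefPow.mulBy s n) x
  | 0 => ⟨(show IsoAt (𝟙 (Coh.structureModule X)) x from by
      unfold IsoAt; rw [CategoryTheory.Functor.map_id]; infer_instance), hx⟩
  | n + 1 => by
    obtain ⟨h1, h2⟩ := isoAt_sPow_and_mulBy hF s x hx n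
    have h3 : IsoAt (RefPow.sPow s (n + 1)) x := by
      rw [RefPow.sPow_succ]; exact isoAt_comp _ _ x h1 h2
    refine ⟨h3, ?_⟩
    rw [RefPow.mulBy_succ]
    obtain ⟨e₁⟩ := nonempty_stk_iso_unit_of_isoAt _ x h3
    obtain ⟨e₂⟩ := nonempty_stk_iso_unit_of_isoAt _ x hx
    have hP : Coh.IsCoh (CohB1.tensorMod (RefPow.refPow F (n + 1)) F) :=
      Groth.Agent.Lib.Helper6.K0Op.isCoh_tensorMod _ F (isRef1_refPow F hF (n + 1)).1 hF.1
    refine isoAt_comp _ _ x (isoAt_of_isIso _ x) (isoAt_comp _ _ x ?_ ?_)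
    · exact isoAt_tensorMap_id_left _ s x hx
    · exact isoAt_bidualMap _ hP x (stkTensorUnitIso x e₁ e₂)

theorem isoAt_sPow (hF : IsRef1 F) (s : Coh.structureModule X ⟶ F) (x : X)
    (hx : x ∈ RefPow.isoLocus s) (n : ℕ) : IsoAt (RefPow.sPow s n) x :=
  (isoAt_sPow_and_mulBy hF s x ((isoAt_iff_bijective s x).2 hx) n).1

end

/-- a morphism which is an isomorphism on the stalks at the points of an open is an isomorphism over it. -/
theorem isIso_restrict_of_isoAt {A B : X.Modules} (φ : A ⟶ B) (U : X.Opens) (h : ∀ x ∈ U, IsoAt φ x) :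
    IsIso ((Scheme.Modules.restrictFunctor U.ι).map φ) := by
  rw [isIso_restrict_iff]
  intro W hW
  exact bijective_app_of_stalkMapₗ φ W fun z hz => (isoAt_iff_bijective φ z).1 (h z (hW hz))

theorem isIso_restrict_sPow [IsIntegral X] [IsLocallyNoetherian X] {F : X.Modules} (hF : IsRef1 F)
    (s : Coh.structureModule X ⟶ F) (U : X.Opens) (hU : (U : Set X) = RefPow.isoLocus s) (n : ℕ) :
    IsIso ((Scheme.Modules.restrictFunctor U.ι).map (RefPow.sPow s n)) :=
  isIso_restrict_of_isoAt _ U fun x hx => isoAt_sPow hF s x (hU ▸ hx) n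

end Groth.Agent.Lib.Helper1.RefPowCol
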