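import Groth.Agent.Lib.Helper1.RefPowCol1
import Mathlib
set_option backward.isDefEq.respectTransparency.types false
set_option autoImplicit false
set_option linter.style.haveILetI false

/-!
# The cocone from the reflexive powers to `j_* O_U` (helper1)
-/

universe u
open CategoryTheory CategoryTheory.Limits AlgebraicGeometry Opposite TopologicalSpace

namespace Groth.Agent.Lib.Helper1.RefPowCol
open Groth.Agent.Lib.Helper28.QCohLoc
open AlgebraicGeometry.Scheme.Modules

variable {X : Scheme.{u}} (U : X.Opens)

/-- `j_* (O_X|_U)`. -/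
noncomputable abbrev pushO : X.Modules :=
  (pushforward U.ι).obj ((Coh.structureModule X).restrict U.ι)

/-- the map `D ⟶ j_* O_U` attached to a section of `D` generating it over `U`. -/
noncomputable def leg {D : X.Modules} (σ : Coh.structureModule X ⟶ D)
    (h : IsIso ((restrictFunctor U.ι).map σ)) : D ⟶ pushO U :=
  haveI := h
  (restrictAdjunction U.ι).unit.app D ≫ (pushforward U.ι).map (inv ((restrictFunctor U.ι).map σ))

theorem leg_id (h : IsIso ((restrictFunctor U.ι).map (𝟙 (Coh.structureModule X)))) :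
    leg U (𝟙 (Coh.structureModule X)) h = (restrictAdjunction U.ι).unit.app (Coh.structureModule X) := by
  unfold leg
  have h1 : inv ((restrictFunctor U.ι).map (𝟙 (Coh.structureModule X))) = 𝟙 _ := by
    rw [IsIso.inv_eq_of_hom_inv_id]
    rw [CategoryTheory.Functor.map_id, Category.id_comp]
  rw [h1, CategoryTheory.Functor.map_id]
  exact Category.comp_id _

theorem comp_leg {D D' : X.Modules} (σ : Coh.structureModule X ⟶ D) (m : D ⟶ D')
    (h : IsIso ((restrictFunctor U.ι).map σ)) (h' : IsIso ((restrictFunctor U.ι).map (σ ≫ m))) :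
    m ≫ leg U (σ ≫ m) h' = leg U σ h := by
  haveI := h
  haveI := h'
  unfold leg
  have nat := (restrictAdjunction U.ι).unit.naturality m
  have h1 : (restrictFunctor U.ι).map m ≫ inv ((restrictFunctor U.ι).map (σ ≫ m)) =
      inv ((restrictFunctor U.ι).map σ) := by
    symm
    apply IsIso.inv_eq_of_hom_inv_id
    rw [← Category.assoc, ← Functor.map_comp, IsIso.hom_inv_id]
  rw [← h1, (pushforward U.ι).map_comp, ← Category.assoc, ← Category.assoc]
  congr 1

theorem inv_app_eq_iff {Y : Scheme.{u}} {A B : Y.Modules} (φ : A ⟶ B) [IsIso φ] (V : Y.Opens)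
    (y : Γ(B, V)) (b : Γ(A, V)) : (inv φ).app V y = b ↔ y = φ.app V b := by
  constructor
  · intro e
    rw [← e]
    show y = (inv φ ≫ φ).app V y
    rw [IsIso.inv_hom_id]
    rfl
  · rintro rfl
    show (φ ≫ inv φ).app V b = b
    rw [IsIso.hom_inv_id]
    rfl

/-- the characterization of the leg on sections. -/
theorem leg_app_eq_iff {D : X.Modules} (σ : Coh.structureModule X ⟶ D)
    (h : IsIso ((restrictFunctor U.ι).map σ)) (N : X.Opens) (t : Γ(D, N))
    (b : Γ(Coh.structureModule X, U.ι ''ᵁ U.ι ⁻¹ᵁ N)) :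
    (leg U σ h).app N t = b ↔
      res D (U.ι.image_preimage_le N) t = σ.app (U.ι ''ᵁ U.ι ⁻¹ᵁ N) b := by
  haveI := h
  exact inv_app_eq_iff ((restrictFunctor U.ι).map σ) (U.ι ⁻¹ᵁ N) _ b

section cocone

variable [IsIntegral X] [IsLocallyNoetherian X] {F : X.Modules} (hF : RefHull.IsRef1 F)
  (s : Coh.structureModule X ⟶ F) (hU : (U : Set X) = RefPow.isoLocus s)

/-- the legs of the cocone. -/
noncomputable def legN (n : ℕ) : RefPow.refPow F n ⟶ pushO U :=
  leg U (RefPow.sPow s n) (isIso_restrict_sPow hF s U hU n)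

theorem mulBy_comp_legN (n : ℕ) : RefPow.mulBy s n ≫ legN U hF s hU (n + 1) = legN U hF s hU n :=
  comp_leg U (RefPow.sPow s n) (RefPow.mulBy s n) _ _

/-- the cocone from the system of reflexive powers to `j_* O_U`. -/
noncomputable def coconeι : RefPow.diagram F s ⟶ (Functor.const ℕ).obj (pushO U) :=
  NatTrans.ofSequence (fun n => legN U hF s hU n) (fun n => by
    rw [Functor.const_obj_map]
    refine Eq.trans ?_ (Category.comp_id _).symm
    have h := RefPow.diagram_map F s n
    rw [show (RefPow.diagram F s).map (homOfLE (n.le_add_right 1)) = RefPow.mulBy s n from h]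
    exact mulBy_comp_legN U hF s hU n)

theorem coconeι_app (n : ℕ) : (coconeι U hF s hU).app n = legN U hF s hU n := rfl

theorem coconeι_app_zero :
    (coconeι U hF s hU).app 0 = (restrictAdjunction U.ι).unit.app (Coh.structureModule X) :=
  leg_id U _

end cocone

end Groth.Agent.Lib.Helper1.RefPowCol
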