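import Groth.Agent.Lib.Helper1.RefPowCol2
import Mathlib
set_option backward.isDefEq.respectTransparency.types false
set_option autoImplicit false
set_option linter.style.haveILetI false

/-!
# Local extension of sections of `j_* O_U` to a reflexive power (helper1)
-/

universe u
open CategoryTheory CategoryTheory.Limits AlgebraicGeometry Opposite TopologicalSpace

namespace Groth.Agent.Lib.Helper1.RefPowCol
open Groth.Agent.Lib.Helper28.QCohLoc Groth.Agent.Lib.Helper28.GenLocus
  Groth.Agent.Lib.Helper28.TensorGen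
open Groth.Agent.Lib.Helper6.K0Loc Groth.Agent.Lib.Helper1.RefHullLib
open AlgebraicGeometry.Scheme.Modules

variable {X : Scheme.{u}}

theorem exists_res_eq_mul_pow {N Q : X.Opens} (hN : IsAffineOpen N) (a : Γ(X, N))
    (hQ : Q = X.basicOpen a) (hQN : Q ≤ N) (b : Γ(X, Q)) :
    ∃ (n : ℕ) (c : Γ(X, N)), resO hQN c = b * resO hQN a ^ n := by
  subst hQ
  haveI := hN.isLocalization_basicOpen a
  obtain ⟨n, c, h⟩ := IsLocalization.Away.surj a b
  exact ⟨n, c, h.symm⟩

theorem val_comp {D D' : X.Modules} (σ : Coh.structureModule X ⟶ D) (m : D ⟶ D') (N : X.Opens) :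
    SecTwist.val (σ ≫ m) N = m.app N (SecTwist.val σ N) := rfl

theorem app_eq_smul_val {L : X.Modules} (σ : Coh.structureModule X ⟶ L) (W : X.Opens) (c : Γ(X, W)) :
    σ.app W (show Γ(Coh.structureModule X, W) from c) =
      (c • (show Γ(L, W) from SecTwist.val σ W) : Γ(L, W)) := by
  have h1 : (show Γ(Coh.structureModule X, W) from c) =
      (c • (show Γ(Coh.structureModule X, W) from (1 : Γ(X, W))) : Γ(Coh.structureModule X, W)) :=
    (mul_one c).symm
  calc σ.app W (show Γ(Coh.structureModule X, W) from c)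
      = σ.app W (c • (show Γ(Coh.structureModule X, W) from (1 : Γ(X, W))) :
          Γ(Coh.structureModule X, W)) := congrArg _ h1
    _ = (c • σ.app W (show Γ(Coh.structureModule X, W) from (1 : Γ(X, W))) : Γ(L, W)) :=
        Scheme.Modules.Hom.app_smul σ c _

theorem res_val {L : X.Modules} (σ : Coh.structureModule X ⟶ L) {W W' : X.Opens} (h : W' ≤ W) :
    res L h (SecTwist.val σ W) = SecTwist.val σ W' :=
  SecTwist.map_val σ (homOfLE h)

/-- powers of a local section of `F` in the reflexive powers of `F`. -/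
noncomputable def gpow (F : X.Modules) {N : X.Opens} (g : Γ(F, N)) : ∀ k : ℕ, Γ(RefPow.refPow F k, N)
  | 0 => (show Γ(Coh.structureModule X, N) from (1 : Γ(X, N)))
  | 1 => g
  | k + 2 => (RefPow.toRefTensor (RefPow.refPow F (k + 1)) F).app N
      (tmulSec (RefPow.refPow F (k + 1)) F (gpow F g (k + 1)) g)

theorem val_sPow_eq {F : X.Modules} (s : Coh.structureModule X ⟶ F) {N : X.Opens} (g : Γ(F, N))
    (a : Γ(X, N)) (ha : (show Γ(F, N) from SecTwist.val s N) = (a • g : Γ(F, N))) :
    ∀ k : ℕ, (show Γ(RefPow.refPow F k, N) from SecTwist.val (RefPow.sPow s k) N) =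
      (a ^ k • gpow F g k : Γ(RefPow.refPow F k, N))
  | 0 => by
    rw [pow_zero, one_smul]
    rfl
  | 1 => by
    rw [pow_one, RefPow.sPow_one]
    exact ha
  | k + 2 => by
    have ih := val_sPow_eq s g a ha (k + 1)
    rw [RefPow.sPow_succ, val_comp]
    have h1 := RefPow.mulBy_succ_app s k N (SecTwist.val (RefPow.sPow s (k + 1)) N)
    refine h1.trans ?_
    have h2 : SecTwist.tmul (RefPow.refPow F (k + 1)) F N (SecTwist.val (RefPow.sPow s (k + 1)) N)
        (SecTwist.val s N) =
        ((a ^ (k + 2)) • tmulSec (RefPow.refPow F (k + 1)) F (gpow F g (k + 1)) g :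
          Γ(CohB1.tensorMod (RefPow.refPow F (k + 1)) F, N)) := by
      show tmulSec (RefPow.refPow F (k + 1)) F
        (show Γ(RefPow.refPow F (k + 1), N) from SecTwist.val (RefPow.sPow s (k + 1)) N)
        (show Γ(F, N) from SecTwist.val s N) = _
      rw [ih, ha, tmulSec_smul_left, tmulSec_smul_right, ← mul_smul, ← pow_succ]
    rw [h2]
    exact Scheme.Modules.Hom.app_smul _ _ _

theorem image_preimage_eq_inf (U N : X.Opens) : U.ι ''ᵁ U.ι ⁻¹ᵁ N = U ⊓ N := by
  rw [Scheme.Hom.image_preimage_eq_opensRange_inf, Scheme.Opens.opensRange_ι]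

section

variable {F : X.Modules} (s : Coh.structureModule X ⟶ F) (U : X.Opens)
  (hU : (U : Set X) = RefPow.isoLocus s)
include hU

theorem eq_genLocus : U = CohB1.genLocus F s := by
  apply le_antisymm
  · apply le_genLocus s U
    have h := isIso_restrict_of_isoAt s U (fun x hx => (isoAt_iff_bijective s x).2 (by
      have h' : x ∈ (U : Set X) := hx
      rw [hU] at h'
      exact h'))
    exact (isIso_restrict_iff s U).1 h
  · intro x hx
    obtain ⟨U', hxU', hU'⟩ := (mem_genLocus_iff s x).1 hx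
    have h := (isIso_restrict_iff s U').2 hU'
    have := isoAt_of_isIso_restrict U' s h x hxU'
    show x ∈ (U : Set X)
    rw [hU]
    exact (isoAt_iff_bijective s x).1 this

theorem image_preimage_eq_basicOpen {N : X.Opens} (g : Γ(F, N)) (hg : IsGen F N g) (a : Γ(X, N))
    (ha : (show Γ(F, N) from SecTwist.val s N) = (a • g : Γ(F, N))) :
    U.ι ''ᵁ U.ι ⁻¹ᵁ N = X.basicOpen a := by
  rw [image_preimage_eq_inf, eq_genLocus s U hU]
  exact genLocus_inf_eq_basicOpen s N g hg a ha

end

section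

variable [IsIntegral X] [IsLocallyNoetherian X] {F : X.Modules} (hF : RefHull.IsRef1 F)
  (s : Coh.structureModule X ⟶ F) (U : X.Opens) (hU : (U : Set X) = RefPow.isoLocus s)

/-- **local solvability**: over an affine open on which `F` has a generator, every section of `j_* O_U`
comes from some reflexive power. -/
theorem exists_legN_app_eq_of_isGen {N : X.Opens} (hN : IsAffineOpen N) (g : Γ(F, N)) (hg : IsGen F N g)
    (b : Γ(pushO U, N)) :
    ∃ (n : ℕ) (t : Γ(RefPow.refPow F n, N)), (legN U hF s hU n).app N t = b := by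
  let a : Γ(X, N) := hg.coef le_rfl (SecTwist.val s N)
  have ha : (show Γ(F, N) from SecTwist.val s N) = (a • g : Γ(F, N)) := by
    have := hg.coef_smul le_rfl (SecTwist.val s N)
    rw [res_self] at this
    exact this.symm
  have hQ := image_preimage_eq_basicOpen s U hU g hg a ha
  have hQN : U.ι ''ᵁ U.ι ⁻¹ᵁ N ≤ N := U.ι.image_preimage_le N
  obtain ⟨n, c, hc⟩ := exists_res_eq_mul_pow hN a hQ hQN (show Γ(X, U.ι ''ᵁ U.ι ⁻¹ᵁ N) from b)
  refine ⟨n, (c • gpow F g n : Γ(RefPow.refPow F n, N)), ?_⟩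
  unfold legN
  rw [leg_app_eq_iff]
  let b' : Γ(X, U.ι ''ᵁ U.ι ⁻¹ᵁ N) := b
  have h3 := val_sPow_eq s g a ha n
  refine Eq.trans ?_ (app_eq_smul_val (RefPow.sPow s n) (U.ι ''ᵁ U.ι ⁻¹ᵁ N) b').symm
  calc res (RefPow.refPow F n) hQN (c • gpow F g n : Γ(RefPow.refPow F n, N))
      = (resO hQN c • res (RefPow.refPow F n) hQN (gpow F g n) : Γ(RefPow.refPow F n, _)) :=
        res_smul (RefPow.refPow F n) hQN c _
    _ = ((b' * resO hQN a ^ n) • res (RefPow.refPow F n) hQN (gpow F g n) :
          Γ(RefPow.refPow F n, _)) := by rw [hc]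
    _ = (b' • (resO hQN a ^ n • res (RefPow.refPow F n) hQN (gpow F g n) :
          Γ(RefPow.refPow F n, _)) : Γ(RefPow.refPow F n, _)) := mul_smul _ _ _
    _ = (b' • res (RefPow.refPow F n) hQN (a ^ n • gpow F g n : Γ(RefPow.refPow F n, N)) :
          Γ(RefPow.refPow F n, _)) := by rw [res_smul, resO_pow]
    _ = (b' • res (RefPow.refPow F n) hQN (SecTwist.val (RefPow.sPow s n) N) :
          Γ(RefPow.refPow F n, _)) :=
        congrArg (fun z => (b' • res (RefPow.refPow F n) hQN z : Γ(RefPow.refPow F n, _))) h3.symm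
    _ = (b' • (SecTwist.val (RefPow.sPow s n) (U.ι ''ᵁ U.ι ⁻¹ᵁ N)) : Γ(RefPow.refPow F n, _)) := by
        rw [res_val]; rfl

end

end Groth.Agent.Lib.Helper1.RefPowCol
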