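import Groth.Agent.Lib.Helper1.RefPowCol3
import Mathlib
set_option backward.isDefEq.respectTransparency.types false
set_option autoImplicit false
set_option linter.style.haveILetI false

/-!
# Sections of `j_* O_U` over affine opens come from the reflexive powers (helper1)
-/

universe u
open CategoryTheory CategoryTheory.Limits AlgebraicGeometry Opposite TopologicalSpace

namespace Groth.Agent.Lib.Helper1.RefPowCol
open Groth.Agent.Lib.Helper28.QCohLoc Groth.Agent.Lib.Helper28.GenLocus
  Groth.Agent.Lib.Helper28.TensorGen Groth.Agent.Lib.Helper29.QCohStalk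
open Groth.Agent.Lib.Helper6.K0Loc Groth.Agent.Lib.Helper1.RefHullLib
open AlgebraicGeometry.Scheme.Modules

variable {X : Scheme.{u}} [IsIntegral X] [IsLocallyNoetherian X] {F : X.Modules}
  (hF : RefHull.IsRef1 F) (s : Coh.structureModule X ⟶ F) (U : X.Opens)
  (hU : (U : Set X) = RefPow.isoLocus s)

include hF in
theorem isTorsionFree_refPow (n : ℕ) : TorSh.IsTorsionFree (RefPow.refPow F n) :=
  isTorsionFree_of_isReflexive _ (isRef1_refPow F hF n).1 (isRef1_refPow F hF n).2.1

theorem legN_app_res (n : ℕ) {N N' : X.Opens} (h : N' ≤ N) (t : Γ(RefPow.refPow F n, N)) :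
    (legN U hF s hU n).app N' (res _ h t) = res (pushO U) h ((legN U hF s hU n).app N t) :=
  app_res _ h t

theorem legN_mulBy_app (n : ℕ) (N : X.Opens) (t : Γ(RefPow.refPow F n, N)) :
    (legN U hF s hU (n + 1)).app N ((RefPow.mulBy s n).app N t) = (legN U hF s hU n).app N t := by
  have h := congrArg (fun φ => φ.app N t) (mulBy_comp_legN U hF s hU n)
  exact h

omit [IsIntegral X] [IsLocallyNoetherian X] in
/-- sections over the empty open vanish. -/
theorem eq_zero_of_not_nonempty (G : X.Modules) {N : X.Opens} (hN : ¬ (N : Set X).Nonempty)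
    (t : Γ(G, N)) : t = 0 :=
  section_ext G t 0 fun y hy => (hN ⟨y, hy⟩).elim

omit [IsLocallyNoetherian X] in
theorem generic_mem_of_nonempty {N : X.Opens} (hN : (N : Set X).Nonempty) : genericPoint X ∈ N := by
  obtain ⟨y, hy⟩ := hN
  exact ((genericPoint_spec X).mem_open_set_iff N.isOpen).2 ⟨y, trivial, hy⟩

include hF in
theorem injective_legN_app (hη : genericPoint X ∈ U) (n : ℕ) (N : X.Opens) :
    Function.Injective ((legN U hF s hU n).app N) := by
  haveI : (RefPow.refPow F n).IsQuasicoherent := (isRef1_refPow F hF n).1.1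
  have key : ∀ t : Γ(RefPow.refPow F n, N), (legN U hF s hU n).app N t = 0 → t = 0 := by
    intro t ht
    by_cases hN : (N : Set X).Nonempty
    · have hηN := generic_mem_of_nonempty hN
      unfold legN at ht
      rw [leg_app_eq_iff] at ht
      have h0 : (RefPow.sPow s n).app (U.ι ''ᵁ U.ι ⁻¹ᵁ N) 0 = 0 := map_zero _
      replace ht : res (RefPow.refPow F n) (U.ι.image_preimage_le N) t = 0 := ht.trans h0
      have hηQ : genericPoint X ∈ U.ι ''ᵁ U.ι ⁻¹ᵁ N := by
        rw [image_preimage_eq_inf]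
        exact ⟨hη, hηN⟩
      apply Groth.Agent.S16490.injective_res_of_isTorsionFree X _ (isTorsionFree_refPow hF n) N _
        (U.ι.image_preimage_le N) hηQ
      rw [ht]
      exact (map_zero _).symm
    · exact eq_zero_of_not_nonempty _ hN t
  intro t t' htt
  have h1 : (legN U hF s hU n).app N (t - t') = 0 := by
    rw [map_sub, htt, sub_self]
  exact sub_eq_zero.1 (key _ h1)

omit [IsIntegral X] in
theorem isCompact_of_le_affine {W : X.Opens} (hW : IsAffineOpen W) (V : X.Opens) (hVW : V ≤ W) :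
    IsCompact (V : Set X) := by
  haveI : IsNoetherianRing Γ(X, W) := IsLocallyNoetherian.component_noetherian ⟨W, hW⟩
  have h1 : NoetherianSpace W := noetherianSpace_of_isAffineOpen W hW
  exact (noetherianSpace_set_iff (W : Set X)).1 h1 _ hVW

/-- the opens of `W` over which `b` lifts to the `n`-th reflexive power. -/
def LiftOpen (n : ℕ) {W : X.Opens} (b : Γ(pushO U, W)) : Type u :=
  {N : X.Opens // ∃ hN : N ≤ W, ∃ t : Γ(RefPow.refPow F n, N),
    (legN U hF s hU n).app N t = res (pushO U) hN b}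

/-- the union of these opens. -/
noncomputable def liftLocus (n : ℕ) {W : X.Opens} (b : Γ(pushO U, W)) : X.Opens :=
  ⨆ N : LiftOpen hF s U hU n b, N.1

theorem liftLocus_le (n : ℕ) {W : X.Opens} (b : Γ(pushO U, W)) : liftLocus hF s U hU n b ≤ W :=
  iSup_le fun N => N.2.1

theorem liftLocus_mono (n : ℕ) {W : X.Opens} (b : Γ(pushO U, W)) :
    liftLocus hF s U hU n b ≤ liftLocus hF s U hU (n + 1) b := by
  refine iSup_le fun N => ?_
  obtain ⟨hN, t, ht⟩ := N.2
  have : N.1 ≤ liftLocus hF s U hU (n + 1) b :=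
    le_iSup (fun N : LiftOpen hF s U hU (n + 1) b => N.1)
      ⟨N.1, hN, (RefPow.mulBy s n).app N.1 t, by rw [legN_mulBy_app]; exact ht⟩
  exact this

theorem liftLocus_mono' {n m : ℕ} (h : n ≤ m) {W : X.Opens} (b : Γ(pushO U, W)) :
    liftLocus hF s U hU n b ≤ liftLocus hF s U hU m b := by
  induction m, h using Nat.le_induction with
  | base => exact le_rfl
  | succ m _ ih => exact ih.trans (liftLocus_mono hF s U hU m b)

/-- the lifts glue over the lift locus. -/
theorem exists_lift_liftLocus (hη : genericPoint X ∈ U) (n : ℕ) {W : X.Opens} (b : Γ(pushO U, W)) :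
    ∃ t : Γ(RefPow.refPow F n, liftLocus hF s U hU n b),
      (legN U hF s hU n).app _ t = res (pushO U) (liftLocus_le hF s U hU n b) b := by
  have hex : ∀ N : LiftOpen hF s U hU n b, ∃ t : Γ(RefPow.refPow F n, N.1),
      (legN U hF s hU n).app N.1 t = res (pushO U) N.2.1 b := fun N => N.2.2
  choose tf htf using hex
  have hle : ∀ N : LiftOpen hF s U hU n b, N.1 ≤ liftLocus hF s U hU n b :=
    fun N => le_iSup (fun N : LiftOpen hF s U hU n b => N.1) N
  obtain ⟨t, ht⟩ := exists_gluing (RefPow.refPow F n) (fun N : LiftOpen hF s U hU n b => N.1)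
    (liftLocus hF s U hU n b) hle le_rfl tf (fun N N' => by
      apply injective_legN_app hF s U hU hη n
      rw [legN_app_res, legN_app_res, htf, htf, res_res, res_res])
  refine ⟨t, ?_⟩
  apply eq_of_locally_eq (pushO U) (fun N : LiftOpen hF s U hU n b => N.1) _ hle le_rfl
  intro N
  rw [← legN_app_res, ht, htf, res_res]

/-- the union of the affine opens of `W` over which `F` has a generator. -/
noncomputable def genOpen (F : X.Modules) (W : X.Opens) : X.Opens :=
  ⨆ N : {N : X.Opens // IsAffineOpen N ∧ N ≤ W ∧ ∃ g : Γ(F, N), IsGen F N g}, N.1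

omit [IsIntegral X] [IsLocallyNoetherian X] in
theorem genOpen_le (W : X.Opens) : genOpen F W ≤ W := iSup_le fun N => N.2.2.1

theorem exists_genOpen_le_liftLocus {W : X.Opens} (hW : IsAffineOpen W) (b : Γ(pushO U, W)) :
    ∃ n : ℕ, genOpen F W ≤ liftLocus hF s U hU n b := by
  have hc : IsCompact (genOpen F W : Set X) := isCompact_of_le_affine hW _ (genOpen_le W)
  have hcov : (genOpen F W : Set X) ⊆ ⋃ n, (liftLocus hF s U hU n b : Set X) := by
    intro x hx
    obtain ⟨N, hxN⟩ := Opens.mem_iSup.1 hx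
    obtain ⟨hNaff, hNW, g, hg⟩ := N.2
    obtain ⟨n, t, ht⟩ := exists_legN_app_eq_of_isGen hF s U hU hNaff g hg (res (pushO U) hNW b)
    have hle : N.1 ≤ liftLocus hF s U hU n b :=
      le_iSup (fun N : LiftOpen hF s U hU n b => N.1) ⟨N.1, hNW, t, ht⟩
    exact Set.mem_iUnion.2 ⟨n, hle hxN⟩
  have hmono : Monotone (fun n => (liftLocus hF s U hU n b : Set X)) :=
    fun n m h => liftLocus_mono' hF s U hU h b
  obtain ⟨n, hn⟩ := hc.elim_directed_cover (fun n => (liftLocus hF s U hU n b : Set X))
    (fun n => (liftLocus hF s U hU n b).isOpen) hcov hmono.directed_le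
  exact ⟨n, hn⟩

include hF in
theorem codimTwo_genOpen (hX : Pi1.IsNormalScheme X) (W : X.Opens) : CodimTwo W (genOpen F W) := by
  intro x hxW hx
  by_contra h2
  obtain ⟨N0, g, hxN0, hg⟩ := exists_isGen_of_isRef1 hX F hF x h2
  obtain ⟨N, hNaff, hxN, hNle⟩ := (Opens.isBasis_iff_nbhd.1 X.isBasis_affineOpens)
    (show x ∈ N0 ⊓ W from ⟨hxN0, hxW⟩)
  exact hx (Opens.mem_iSup.2 ⟨⟨N, hNaff, hNle.trans inf_le_right,
    res F (hNle.trans inf_le_left) g, hg.res _⟩, hxN⟩)

omit [IsIntegral X] [IsLocallyNoetherian X] in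
include hU in
theorem isGen_val_of_le {N : X.Opens} (hN : N ≤ U) : IsGen F N (SecTwist.val s N) := by
  intro W' hW'
  have h := isIso_restrict_of_isoAt s U (fun x hx => (isoAt_iff_bijective s x).2 (by
      have h' : x ∈ (U : Set X) := hx
      rw [hU] at h'
      exact h'))
  have hb := (isIso_restrict_iff s U).1 h W' (hW'.trans hN)
  have hfun : (fun c : Γ(X, W') => (c • res F hW' (SecTwist.val s N) : Γ(F, W'))) =
      (s.app W' : Γ(Coh.structureModule X, W') → Γ(F, W')) := by
    funext c
    rw [res_val]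
    exact (app_eq_smul_val s W' c).symm
  rw [hfun]
  exact hb

omit [IsIntegral X] [IsLocallyNoetherian X] in
include hU in
theorem inf_le_genOpen (W : X.Opens) : U ⊓ W ≤ genOpen F W := by
  intro x hx
  obtain ⟨N, hNaff, hxN, hNle⟩ := (Opens.isBasis_iff_nbhd.1 X.isBasis_affineOpens) hx
  exact Opens.mem_iSup.2 ⟨⟨N, hNaff, hNle.trans inf_le_right, SecTwist.val s N,
    isGen_val_of_le s U hU (hNle.trans inf_le_left)⟩, hxN⟩

/-- **Key lemma**: over an affine open, every section of `j_* O_U` comes from a reflexive power. -/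
theorem exists_legN_app_eq (hX : Pi1.IsNormalScheme X) (hη : genericPoint X ∈ U) {W : X.Opens}
    (hW : IsAffineOpen W) (b : Γ(pushO U, W)) :
    ∃ (n : ℕ) (t : Γ(RefPow.refPow F n, W)), (legN U hF s hU n).app W t = b := by
  obtain ⟨n, hn⟩ := exists_genOpen_le_liftLocus hF s U hU hW b
  obtain ⟨t₁, ht₁⟩ := exists_lift_liftLocus hF s U hU hη n b
  have hLW := liftLocus_le hF s U hU n b
  have hc : CodimTwo W (liftLocus hF s U hU n b) :=
    fun x hxW hx => codimTwo_genOpen hF hX W x hxW (fun h => hx (hn h))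
  have hnm := isNormalMod_of_isReflexive_of_normal hX (RefPow.refPow F n) (isRef1_refPow F hF n).1
    (isRef1_refPow F hF n).2.1
  obtain ⟨t, ht⟩ := (hnm W (liftLocus hF s U hU n b) hLW hc).2 t₁
  refine ⟨n, t, ?_⟩
  have hopen : U.ι ''ᵁ U.ι ⁻¹ᵁ (liftLocus hF s U hU n b) = U.ι ''ᵁ U.ι ⁻¹ᵁ W := by
    rw [image_preimage_eq_inf, image_preimage_eq_inf]
    apply le_antisymm
    · exact inf_le_inf_left U hLW
    · exact le_inf inf_le_left ((inf_le_genOpen s U hU W).trans hn)
  have hinj : Function.Injective (res (pushO U) hLW) := (bijective_resO_of_eq hopen).1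
  apply hinj
  rw [← legN_app_res]
  have ht' : res (RefPow.refPow F n) hLW t = t₁ := ht
  rw [ht']
  exact ht₁

end Groth.Agent.Lib.Helper1.RefPowCol
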