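import Groth.Agent.Lib.Helper1.RefPowCol4
import Groth.Agent.Lib.Helper16.Stk7
import Mathlib
set_option backward.isDefEq.respectTransparency.types false
set_option autoImplicit false
set_option linter.style.haveILetI false

/-!
# `j_* O_U` is the colimit of the reflexive powers (helper1)
-/

universe u
open CategoryTheory CategoryTheory.Limits AlgebraicGeometry Opposite TopologicalSpace

namespace Groth.Agent.Lib.Helper1.RefPowCol
open Groth.Agent.Lib.Helper28.QCohLoc Groth.Agent.Lib.Helper28.GenLocus
  Groth.Agent.Lib.Helper29.QCohStalk Groth.Agent.Lib.Helper16.Stk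
open Groth.Agent.Lib.Helper6.K0Loc Groth.Agent.Lib.Helper1.RefHullLib
open AlgebraicGeometry.Scheme.Modules

variable {X : Scheme.{u}} [IsIntegral X] [IsLocallyNoetherian X] {F : X.Modules}
  (hF : RefHull.IsRef1 F) (s : Coh.structureModule X ⟶ F) (U : X.Opens)
  (hU : (U : Set X) = RefPow.isoLocus s)

/-- the cocone. -/
noncomputable abbrev theCocone : Cocone (RefPow.diagram F s) := Cocone.mk (pushO U) (coconeι U hF s hU)

/-- the comparison map. -/
noncomputable abbrev cmp : colimit (RefPow.diagram F s) ⟶ pushO U :=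
  colimit.desc (RefPow.diagram F s) (theCocone hF s U hU)

theorem ι_cmp (n : ℕ) : colimit.ι (RefPow.diagram F s) n ≫ cmp hF s U hU = legN U hF s hU n :=
  colimit.ι_desc _ _

theorem stk_ι_cmp_apply (x : X) (n : ℕ) (w : (RefPow.refPow F n).presheaf.stalk x) :
    ((stk x).map (cmp hF s U hU)).hom (((stk x).map (colimit.ι (RefPow.diagram F s) n)).hom w) =
      ((stk x).map (legN U hF s hU n)).hom w := by
  have h2 : (stk x).map (colimit.ι (RefPow.diagram F s) n) ≫ (stk x).map (cmp hF s U hU) =
      (stk x).map (legN U hF s hU n) :=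
    ((stk x).map_comp _ _).symm.trans (congrArg (stk x).map (ι_cmp hF s U hU n))
  exact congrArg (fun φ => φ.hom w) h2

omit [IsIntegral X] [IsLocallyNoetherian X] in
theorem exists_rep (x : X) (v : ((stk x).obj (colimit (RefPow.diagram F s)) : Type u)) :
    ∃ (n : ℕ) (w : (RefPow.refPow F n).presheaf.stalk x),
      ((stk x).map (colimit.ι (RefPow.diagram F s) n)).hom w = v := by
  haveI : PreservesColimitsOfShape ℕ (stk x) := preservesColimitsOfShape_stalkFunctor x ℕ
  have hcx : IsColimit ((stk x).mapCocone (colimit.cocone (RefPow.diagram F s))) :=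
    isColimitOfPreserves (stk x) (colimit.isColimit _)
  have hpf : PreservesFilteredColimitsOfSize.{0, 0} (forget (ModuleCat.{u} (X.presheaf.stalk x))) :=
    preservesSmallestFilteredColimits_of_preservesFilteredColimits.{u, u} _
  haveI hps : PreservesColimitsOfShape ℕ (forget (ModuleCat.{u} (X.presheaf.stalk x))) :=
    hpf.preserves_filtered_colimits ℕ
  obtain ⟨n, w, hw⟩ := Concrete.isColimit_exists_rep (RefPow.diagram F s ⋙ stk x) hcx v
  exact ⟨n, w, hw⟩

theorem stk_legN_germ (x : X) (n : ℕ) (N : X.Opens) (hx : x ∈ N) (t : Γ(RefPow.refPow F n, N)) :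
    ((stk x).map (legN U hF s hU n)).hom ((RefPow.refPow F n).presheaf.germ N x hx t) =
      (pushO U).presheaf.germ N x hx ((legN U hF s hU n).app N t) :=
  DerSch.stalkFunctor_map_germ x _ N hx t

include hF in
theorem injective_stk_cmp (hη : genericPoint X ∈ U) (x : X) :
    Function.Injective ((stk x).map (cmp hF s U hU)).hom := by
  rw [injective_iff_map_eq_zero]
  intro v hv
  obtain ⟨n, w, rfl⟩ := exists_rep s x v
  rw [stk_ι_cmp_apply] at hv
  obtain ⟨N, hxN, t, rfl⟩ := TopCat.Presheaf.exists_germ_eq (RefPow.refPow F n).presheaf w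
  rw [stk_legN_germ] at hv
  have h0 : (pushO U).presheaf.germ N x hxN ((legN U hF s hU n).app N t) =
      (pushO U).presheaf.germ N x hxN 0 := hv.trans (map_zero _).symm
  obtain ⟨N', hxN', iU, iV, hres⟩ := TopCat.Presheaf.germ_eq (pushO U).presheaf x hxN hxN _ _ h0
  have hres' : res (pushO U) iU.le ((legN U hF s hU n).app N t) = 0 := by
    have : (pushO U).presheaf.map iV.op (0 : Γ(pushO U, N)) = 0 := map_zero _
    rw [this] at hres
    exact hres
  rw [← legN_app_res] at hres'
  have ht0 : res (RefPow.refPow F n) iU.le t = 0 :=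
    injective_legN_app hF s U hU hη n N' (hres'.trans (map_zero _).symm)
  have hg : (RefPow.refPow F n).presheaf.germ N x hxN t =
      (RefPow.refPow F n).presheaf.germ N' x hxN' (res (RefPow.refPow F n) iU.le t) :=
    (gm_res (RefPow.refPow F n) iU.le x hxN' t).symm
  rw [hg, ht0, map_zero]
  exact map_zero ((stk x).map (colimit.ι (RefPow.diagram F s) n)).hom

theorem surjective_stk_cmp (hX : Pi1.IsNormalScheme X) (hη : genericPoint X ∈ U) (x : X) :
    Function.Surjective ((stk x).map (cmp hF s U hU)).hom := by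
  intro v'
  obtain ⟨N, hxN, b, rfl⟩ := TopCat.Presheaf.exists_germ_eq (pushO U).presheaf v'
  obtain ⟨W, hWaff, hxW, hWN⟩ := (Opens.isBasis_iff_nbhd.1 X.isBasis_affineOpens) hxN
  obtain ⟨n, t, ht⟩ := exists_legN_app_eq hF s U hU hX hη hWaff (res (pushO U) hWN b)
  refine ⟨((stk x).map (colimit.ι (RefPow.diagram F s) n)).hom
    ((RefPow.refPow F n).presheaf.germ W x hxW t), ?_⟩
  rw [stk_ι_cmp_apply, stk_legN_germ, ht]
  exact gm_res (pushO U) hWN x hxW b

theorem isIso_cmp (hX : Pi1.IsNormalScheme X) (hη : genericPoint X ∈ U) : IsIso (cmp hF s U hU) := by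
  haveI : Mono (cmp hF s U hU) := by
    apply mono_of_forall_stalk
    intro x
    rw [ModuleCat.mono_iff_injective]
    exact injective_stk_cmp hF s U hU hη x
  haveI : Epi (cmp hF s U hU) := by
    apply epi_of_forall_stalk
    intro x
    rw [ModuleCat.epi_iff_surjective]
    exact surjective_stk_cmp hF s U hU hX hη x
  exact isIso_of_mono_of_epi _

/-- **the colimit property**, when `U` is not empty. -/
theorem nonempty_isColimit_of_generic_mem (hX : Pi1.IsNormalScheme X) (hη : genericPoint X ∈ U) :
    Nonempty (IsColimit (Cocone.mk (pushO U) (coconeι U hF s hU))) := by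
  haveI : IsIso ((colimit.isColimit (RefPow.diagram F s)).desc (theCocone hF s U hU)) :=
    isIso_cmp hF s U hU hX hη
  exact ⟨IsColimit.ofPointIso (colimit.isColimit (RefPow.diagram F s))⟩

end Groth.Agent.Lib.Helper1.RefPowCol
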