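import Groth.Agent.Lib.Helper1.RefPowCol5
import Mathlib
set_option backward.isDefEq.respectTransparency.types false
set_option autoImplicit false
set_option linter.style.haveILetI false

/-!
# The degenerate case: the section vanishes (helper1)
-/

universe u
open CategoryTheory CategoryTheory.Limits AlgebraicGeometry Opposite TopologicalSpace

namespace Groth.Agent.Lib.Helper1.RefPowCol
open Groth.Agent.Lib.Helper28.QCohLoc Groth.Agent.Lib.Helper28.GenLocus
  Groth.Agent.Lib.Helper28.TensorGen
  Groth.Agent.Lib.Helper29.QCohStalk Groth.Agent.Lib.Helper16.Stk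
open Groth.Agent.Lib.Helper6.K0Loc Groth.Agent.Lib.Helper1.RefHullLib
open AlgebraicGeometry.Scheme.Modules

variable {X : Scheme.{u}} [IsIntegral X] [IsLocallyNoetherian X] {F : X.Modules}
  (hF : RefHull.IsRef1 F) (s : Coh.structureModule X ⟶ F) (U : X.Opens)
  (hU : (U : Set X) = RefPow.isoLocus s)

include hF hU in
/-- if the generic point is not in `U` then `s` vanishes. -/
theorem val_eq_zero_of_generic_not_mem (hη : genericPoint X ∉ U) (N : X.Opens) :
    (SecTwist.val s N : Γ(F, N)) = 0 := by
  haveI : F.IsQuasicoherent := hF.1.1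
  obtain ⟨W, g, hηW, hg⟩ := exists_isGen_generic F hF.2.2
  let a : Γ(X, W) := hg.coef le_rfl (SecTwist.val s W)
  have ha : (show Γ(F, W) from SecTwist.val s W) = (a • g : Γ(F, W)) := by
    have := hg.coef_smul le_rfl (SecTwist.val s W)
    rw [res_self] at this
    exact this.symm
  have hQ : U ⊓ W = X.basicOpen a := by
    rw [eq_genLocus s U hU]
    exact genLocus_inf_eq_basicOpen s W g hg a ha
  have hbot : X.basicOpen a = ⊥ := by
    by_contra hne
    have hne' : (X.basicOpen a : Set X).Nonempty := by
      rw [Set.nonempty_iff_ne_empty]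
      intro h
      exact hne (Opens.ext h)
    have := generic_mem_of_nonempty hne'
    rw [← hQ] at this
    exact hη this.1
  have ha0 : a = 0 := (basicOpen_eq_bot_iff a).1 hbot
  have hW0 : (SecTwist.val s W : Γ(F, W)) = 0 := by
    have := ha
    rw [ha0, zero_smul] at this
    exact this
  by_cases hN : (N : Set X).Nonempty
  · have hηN := generic_mem_of_nonempty hN
    apply Groth.Agent.S16490.injective_res_of_isTorsionFree X F
      (isTorsionFree_of_isReflexive F hF.1 hF.2.1) N (N ⊓ W) inf_le_left ⟨hηN, hηW⟩
    rw [res_val, ← res_val s (inf_le_right : N ⊓ W ≤ W), hW0]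
    exact (map_zero _).trans (map_zero _).symm
  · exact eq_zero_of_not_nonempty _ hN _

omit [IsIntegral X] [IsLocallyNoetherian X] in
theorem mulBy_eq_zero (hv : ∀ N : X.Opens, (SecTwist.val s N : Γ(F, N)) = 0) (n : ℕ) :
    RefPow.mulBy s n = 0 := by
  cases n with
  | zero =>
    rw [RefPow.mulBy_zero]
    apply Scheme.Modules.hom_ext
    intro N
    ext c
    have h1 := app_eq_smul_val s N c
    rw [hv N] at h1
    let c' : Γ(X, N) := c
    have hz : (c' • (0 : Γ(F, N)) : Γ(F, N)) = 0 := smul_zero c'
    exact h1.trans hz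
  | succ n =>
    apply Scheme.Modules.hom_ext
    intro N
    ext t
    have h1 := RefPow.mulBy_succ_app s n N t
    have h2 : SecTwist.tmul (RefPow.refPow F (n + 1)) F N t (SecTwist.val s N) = 0 := by
      show tmulSec (RefPow.refPow F (n + 1)) F t (SecTwist.val s N : Γ(F, N)) = 0
      rw [hv N]
      have h3 := tmulSec_smul_right (RefPow.refPow F (n + 1)) F (0 : Γ(X, N)) t (0 : Γ(F, N))
      rw [zero_smul, zero_smul] at h3
      exact h3
    rw [h2] at h1
    exact h1.trans (map_zero _)

omit [IsLocallyNoetherian X] in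
theorem isZero_pushO_of_generic_not_mem (hη : genericPoint X ∉ U) : IsZero (pushO U) := by
  rw [IsZero.iff_id_eq_zero]
  apply Scheme.Modules.hom_ext
  intro N
  ext b
  have hQ : ¬ ((U.ι ''ᵁ U.ι ⁻¹ᵁ N : X.Opens) : Set X).Nonempty := by
    intro h
    have := generic_mem_of_nonempty h
    rw [image_preimage_eq_inf] at this
    exact hη this.1
  exact eq_zero_of_not_nonempty (Coh.structureModule X) hQ b

/-- **the colimit property**, when `U` is empty. -/
theorem nonempty_isColimit_of_generic_not_mem (hη : genericPoint X ∉ U) :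
    Nonempty (IsColimit (Cocone.mk (pushO U) (coconeι U hF s hU))) := by
  have hz := isZero_pushO_of_generic_not_mem U hη
  have hm := mulBy_eq_zero s (val_eq_zero_of_generic_not_mem hF s U hU hη)
  refine ⟨{ desc := fun c' => 0, fac := ?_, uniq := ?_ }⟩
  · intro c' n
    have hw := c'.w (homOfLE (Nat.le_succ n))
    rw [RefPow.diagram_map, hm] at hw
    rw [comp_zero]
    exact (zero_comp (f := c'.ι.app (n + 1))).symm.trans hw
  · intro c' m _
    exact hz.eq_of_src _ _

/-- **`j_* O_U` is the colimit of the reflexive powers.** -/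
theorem nonempty_isColimit (hX : Pi1.IsNormalScheme X) :
    Nonempty (IsColimit (Cocone.mk (pushO U) (coconeι U hF s hU))) := by
  by_cases hη : genericPoint X ∈ U
  · exact nonempty_isColimit_of_generic_mem hF s U hU hX hη
  · exact nonempty_isColimit_of_generic_not_mem hF s U hU hη

end Groth.Agent.Lib.Helper1.RefPowCol
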