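import Mathlib

/-!
# Functionals on submodules of finite free modules over a domain (helper1)

`exists_smul_eq_restrict`: over a domain `A`, every functional `θ` on a submodule `H ⊆ A^n` becomes, after
multiplication by a nonzero scalar, the restriction of a functional on `A^n`.
-/

set_option autoImplicit false
universe u

namespace Groth.Agent.Lib.Helper1.ReflexiveAlg

variable (A : Type u) [CommRing A] [IsDomain A]

/-- functionals on submodules of `L` extend to `L` up to a nonzero scalar. -/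
def Good (L : Type u) [AddCommGroup L] [Module A L] : Prop :=
  ∀ (H : Submodule A L) (θ : H →ₗ[A] A), ∃ a : A, a ≠ 0 ∧ ∃ c : L →ₗ[A] A, ∀ h : H, a * θ h = c h

variable {A}

theorem good_of_subsingleton (L : Type u) [AddCommGroup L] [Module A L] [Subsingleton L] : Good A L := by
  intro H θ
  refine ⟨1, one_ne_zero, 0, fun h => ?_⟩
  have : h = 0 := Subsingleton.elim _ _
  rw [this, map_zero, mul_zero, LinearMap.zero_apply]

theorem Good.of_equiv {L L' : Type u} [AddCommGroup L] [Module A L] [AddCommGroup L'] [Module A L']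
    (e : L ≃ₗ[A] L') (h : Good A L) : Good A L' := by
  intro H θ
  -- transport `H` and `θ` to `L`
  let H₀ : Submodule A L := H.comap e.toLinearMap
  let θ₀ : H₀ →ₗ[A] A := θ ∘ₗ (e.toLinearMap.restrict (p := H₀) (q := H) fun x hx => hx)
  obtain ⟨a, ha, c, hc⟩ := h H₀ θ₀
  refine ⟨a, ha, c ∘ₗ e.symm.toLinearMap, fun x => ?_⟩
  have hx : e.symm x.1 ∈ H₀ := by
    change e (e.symm x.1) ∈ H
    rw [e.apply_symm_apply]
    exact x.2
  have h1 := hc ⟨e.symm x.1, hx⟩
  have h2 : θ₀ ⟨e.symm x.1, hx⟩ = θ x := by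
    change θ _ = θ x
    congr 1
    exact Subtype.ext (e.apply_symm_apply x.1)
  rw [h2] at h1
  exact h1

theorem Good.prod {L : Type u} [AddCommGroup L] [Module A L] (h : Good A L) : Good A (A × L) := by
  intro H θ
  -- the part of `H` with vanishing first coordinate, as a submodule of `L`
  let H₀ : Submodule A L := H.comap (LinearMap.inr A A L)
  let θ₀ : H₀ →ₗ[A] A := θ ∘ₗ ((LinearMap.inr A A L).restrict (p := H₀) (q := H) fun x hx => hx)
  obtain ⟨a₀, ha₀, c₀, hc₀⟩ := h H₀ θ₀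
  by_cases hp : ∀ x : H, x.1.1 = 0
  · -- `H` lies in `0 × L`
    refine ⟨a₀, ha₀, c₀ ∘ₗ LinearMap.snd A A L, fun x => ?_⟩
    have hx : x.1.2 ∈ H₀ := by
      change ((0 : A), x.1.2) ∈ H
      have : ((0 : A), x.1.2) = x.1 := Prod.ext (hp x).symm rfl
      rw [this]
      exact x.2
    have h1 := hc₀ ⟨x.1.2, hx⟩
    have h2 : θ₀ ⟨x.1.2, hx⟩ = θ x := by
      change θ _ = θ x
      congr 1
      exact Subtype.ext (Prod.ext (hp x).symm rfl)
    rw [h2] at h1
    exact h1
  · push Not at hp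
    obtain ⟨h₁, hb⟩ := hp
    set b := h₁.1.1 with hbdef
    -- for `x ∈ H`: `b x - x.1 h₁ ∈ 0 × H₀`
    have hmem : ∀ x : H, b • x.1.2 - x.1.1 • h₁.1.2 ∈ H₀ := by
      intro x
      change ((0 : A), b • x.1.2 - x.1.1 • h₁.1.2) ∈ H
      have : ((0 : A), b • x.1.2 - x.1.1 • h₁.1.2) = b • x.1 - x.1.1 • h₁.1 := by
        refine Prod.ext ?_ rfl
        change (0 : A) = b * x.1.1 - x.1.1 * h₁.1.1
        rw [← hbdef]; ring
      rw [this]
      exact H.sub_mem (H.smul_mem _ x.2) (H.smul_mem _ h₁.2)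
    refine ⟨a₀ * b, mul_ne_zero ha₀ hb,
      b • (c₀ ∘ₗ LinearMap.snd A A L) + (a₀ * θ h₁ - c₀ h₁.1.2) • LinearMap.fst A A L, fun x => ?_⟩
    have h1 := hc₀ ⟨_, hmem x⟩
    have h2 : θ₀ ⟨_, hmem x⟩ = b * θ x - x.1.1 * θ h₁ := by
      change θ _ = _
      have : (⟨((0 : A), b • x.1.2 - x.1.1 • h₁.1.2), hmem x⟩ : H) = b • x - x.1.1 • h₁ := by
        refine Subtype.ext (Prod.ext ?_ rfl)
        change (0 : A) = b * x.1.1 - x.1.1 * h₁.1.1
        rw [← hbdef]; ring
      change θ (⟨((0 : A), b • x.1.2 - x.1.1 • h₁.1.2), hmem x⟩ : H) = _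
      rw [this, map_sub, map_smul, map_smul, smul_eq_mul, smul_eq_mul]
    rw [h2, map_sub, map_smul, map_smul, smul_eq_mul, smul_eq_mul] at h1
    simp only [LinearMap.add_apply, LinearMap.smul_apply, LinearMap.comp_apply, LinearMap.snd_apply,
      LinearMap.fst_apply, smul_eq_mul]
    linear_combination h1

theorem good_pi (n : ℕ) : Good A (Fin n → A) := by
  induction n with
  | zero => exact good_of_subsingleton _
  | succ n ih => exact ih.prod.of_equiv (Fin.consLinearEquiv A (fun _ : Fin (n + 1) => A))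

/-- over a domain, a functional on a submodule of `A^n` extends to `A^n` up to a nonzero scalar. -/
theorem exists_smul_eq_restrict {n : ℕ} (H : Submodule A (Fin n → A)) (θ : H →ₗ[A] A) :
    ∃ a : A, a ≠ 0 ∧ ∃ c : (Fin n → A) →ₗ[A] A, ∀ h : H, a * θ h = c h :=
  good_pi n H θ

end Groth.Agent.Lib.Helper1.ReflexiveAlg
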