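import Mathlib.RingTheory.RegularLocalRing.Defs
import Mathlib.RingTheory.KrullDimension.NonZeroDivisors
import Mathlib.RingTheory.Ideal.KrullsHeightTheorem
import Mathlib.RingTheory.MvPowerSeries.Equiv
import Mathlib.RingTheory.Nakayama
import Mathlib.Algebra.Module.SpanRankOperations

set_option autoImplicit false
universe u

namespace Groth.Agent.Lib.Helper1.RegBounds

open IsLocalRing

theorem le_ringKrullDim_mvPowerSeries (A : Type*) [CommRing A] [Nontrivial A] (d : ℕ) :
    (d : WithBot ℕ∞) ≤ ringKrullDim (MvPowerSeries (Fin d) A) := by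
  induction d with
  | zero => exact ringKrullDim_nonneg_of_nontrivial
  | succ n ih =>
    rw [ringKrullDim_eq_of_ringEquiv (MvPowerSeries.finSuccEquiv A n).toRingEquiv]
    refine le_trans ?_ ringKrullDim_succ_le_ringKrullDim_powerseries
    push_cast
    gcongr

section

variable {P R : Type*} [CommRing P] [CommRing R] [IsLocalRing P] [IsLocalRing R]

lemma map_maximalIdeal_eq (π : P →+* R) (hπ : Function.Surjective π) :
    Ideal.map π (maximalIdeal P) = maximalIdeal R := by
  apply le_antisymm
  · rw [Ideal.map_le_iff_le_comap]
    intro b hb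
    rw [Ideal.mem_comap, mem_maximalIdeal, mem_nonunits_iff]
    intro hu
    haveI : IsLocalHom π := hπ.isLocalHom π
    exact hb (isUnit_of_map_unit π b hu)
  · intro a ha
    obtain ⟨b, rfl⟩ := hπ a
    apply Ideal.mem_map_of_mem
    rw [mem_maximalIdeal, mem_nonunits_iff] at ha ⊢
    exact fun hu => ha (hu.map π)

variable [IsNoetherianRing P]

/-- A surjection of local rings whose kernel lies in the square of the maximal ideal preserves
the embedding dimension. -/
theorem spanFinrank_maximalIdeal_eq_of_ker_le_sq (π : P →+* R) (hπ : Function.Surjective π)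
    (hker : RingHom.ker π ≤ maximalIdeal P ^ 2) :
    (maximalIdeal P).spanFinrank = (maximalIdeal R).spanFinrank := by
  classical
  have hmap := map_maximalIdeal_eq π hπ
  have hfgP : (maximalIdeal P).FG := IsNoetherian.noetherian _
  have hfgR : (maximalIdeal R).FG := by rw [← hmap]; exact hfgP.map _
  apply le_antisymm
  · obtain ⟨s, hcard, hspan⟩ := Submodule.FG.exists_span_finset_card_eq_spanFinrank hfgR
    have hπ' := hπ
    choose z hz using hπ'
    set N : Ideal P := Ideal.span (z '' (s : Set R)) with hN
    have hmapN : Ideal.map π N = maximalIdeal R := by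
      rw [hN, Ideal.map_span, ← Set.image_comp]
      have : (⇑π ∘ z) = id := funext hz
      rw [this, Set.image_id]
      exact hspan
    have hle : maximalIdeal P ≤ N := by
      apply Submodule.le_of_le_smul_of_le_jacobson_bot (I := maximalIdeal P) hfgP
        (maximalIdeal_le_jacobson _)
      intro x hx
      have hπx : π x ∈ Ideal.map π N := by
        rw [hmapN, ← hmap]
        exact Ideal.mem_map_of_mem _ hx
      obtain ⟨w, hw, hwx⟩ := (Ideal.mem_map_iff_of_surjective π hπ).1 hπx
      have hxw : x - w ∈ maximalIdeal P ^ 2 := hker (by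
        rw [RingHom.mem_ker, map_sub, hwx, sub_self])
      have e : x = w + (x - w) := by ring
      rw [e]
      refine Submodule.add_mem_sup hw ?_
      rw [smul_eq_mul, ← pow_two]
      exact hxw
    have hge : N ≤ maximalIdeal P := by
      rw [hN, Ideal.span_le]
      rintro _ ⟨y, hy, rfl⟩
      have hym : y ∈ maximalIdeal R := by
        rw [← hspan]; exact Submodule.subset_span hy
      rw [SetLike.mem_coe, mem_maximalIdeal, mem_nonunits_iff]
      intro hu
      have := hu.map π
      rw [hz] at this
      exact hym this
    have hEq : maximalIdeal P = N := le_antisymm hle hge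
    rw [hEq, hN, ← hcard]
    refine (Submodule.spanFinrank_span_le_ncard_of_finite
      ((Finset.finite_toSet s).image z)).trans ?_
    refine (Set.ncard_image_le (Finset.finite_toSet s)).trans ?_
    rw [Set.ncard_coe_finset]
  · have := Ideal.spanFinrank_map_le_of_fg π hfgP
    rwa [hmap] at this

end

section Bounds

variable {P R : Type u} [CommRing P] [CommRing R] [IsRegularLocalRing P] [IsLocalRing R]
  [IsNoetherianRing R]

/-- The dimension estimates for a quotient of a regular local ring by an ideal inside the square
of the maximal ideal generated by `r` elements. -/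
theorem bounds (π : P →+* R) (hπ : Function.Surjective π)
    (hker : RingHom.ker π ≤ maximalIdeal P ^ 2) (r : ℕ) (g : Fin r → P)
    (hg : Ideal.span (Set.range g) = RingHom.ker π) :
    ringKrullDim R ≤ (Module.finrank (ResidueField R) (CotangentSpace R) : WithBot ℕ∞) ∧
      (Module.finrank (ResidueField R) (CotangentSpace R) : WithBot ℕ∞) ≤
          ringKrullDim R + (r : WithBot ℕ∞) ∧
      (r = 0 → IsRegularLocalRing R) ∧
      (ringKrullDim R + (r : WithBot ℕ∞) =
          (Module.finrank (ResidueField R) (CotangentSpace R) : WithBot ℕ∞) →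
        ∃ (P : Type u) (_ : CommRing P) (_ : IsRegularLocalRing P) (π : P →+* R) (s : Finset P),
          Function.Surjective π ∧ Ideal.span (s : Set P) = RingHom.ker π ∧
            ringKrullDim P = ringKrullDim R + (s.card : WithBot ℕ∞)) := by
  classical
  rw [← spanFinrank_maximalIdeal_eq_finrank_cotangentSpace]
  have hemb := spanFinrank_maximalIdeal_eq_of_ker_le_sq π hπ hker
  have hdimP : ((maximalIdeal P).spanFinrank : WithBot ℕ∞) = ringKrullDim P :=
    IsRegularLocalRing.spanFinrank_maximalIdeal
  have h1 : ringKrullDim R ≤ ((maximalIdeal R).spanFinrank : WithBot ℕ∞) :=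
    ringKrullDim_le_spanFinrank_maximalIdeal R
  set s : Finset P := Finset.univ.image g with hs
  have hsspan : Ideal.span (s : Set P) = RingHom.ker π := by
    rw [hs, Finset.coe_image, Finset.coe_univ, Set.image_univ]
    exact hg
  have hscard : s.card ≤ r := by
    refine Finset.card_image_le.trans ?_
    rw [Finset.card_univ, Fintype.card_fin]
  have hkerm : RingHom.ker π ≤ maximalIdeal P := hker.trans (Ideal.pow_le_self two_ne_zero)
  have hsj : (s : Set P) ⊆ Ring.jacobson P := by
    intro x hx
    have : x ∈ RingHom.ker π := by rw [← hsspan]; exact Ideal.subset_span hx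
    rw [← Ideal.jacobson_bot]
    exact (maximalIdeal_le_jacobson ⊥) (hkerm this)
  have hquot : ringKrullDim (P ⧸ Ideal.span (s : Set P)) = ringKrullDim R := by
    rw [hsspan]
    exact ringKrullDim_eq_of_ringEquiv (RingHom.quotientKerEquivOfSurjective hπ)
  have h2' : ringKrullDim P ≤ ringKrullDim R + (s.card : WithBot ℕ∞) := by
    have := ringKrullDim_le_ringKrullDim_quotient_add_card s hsj
    rwa [hquot] at this
  have hcardle : ringKrullDim R + (s.card : WithBot ℕ∞) ≤ ringKrullDim R + (r : WithBot ℕ∞) := by
    gcongr
  have h2 : ((maximalIdeal R).spanFinrank : WithBot ℕ∞) ≤ ringKrullDim R + (r : WithBot ℕ∞) := by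
    rw [← hemb, hdimP]
    exact h2'.trans hcardle
  refine ⟨h1, h2, ?_, ?_⟩
  · intro hr
    apply IsRegularLocalRing.of_spanFinrank_maximalIdeal_le
    rw [hr] at h2
    simpa using h2
  · intro heq
    refine ⟨P, inferInstance, inferInstance, π, s, hπ, hsspan, ?_⟩
    apply le_antisymm h2'
    rw [← hdimP, hemb, ← heq]
    exact hcardle

end Bounds

end Groth.Agent.Lib.Helper1.RegBounds
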