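import Groth.Agent.Lib.Helper1.RegBounds
import Groth.Agent.Lib.Helper1.PSDecomp
import Mathlib.RingTheory.MvPowerSeries.NoZeroDivisors
import Mathlib.RingTheory.LocalRing.ResidueField.Basic

set_option autoImplicit false
universe u

namespace Groth.Agent.Lib.Helper1.RegPS

open IsLocalRing

variable {k : Type u} [Field k]

lemma maximalIdeal_ps_eq (d : ℕ) :
    maximalIdeal (MvPowerSeries (Fin d) k) = Ideal.span (Set.range MvPowerSeries.X) := by
  apply le_antisymm
  · intro f hf
    rw [PSDecomp.mem_maximalIdeal_iff, maximalIdeal_eq_bot, Ideal.mem_bot] at hf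
    rw [PSDecomp.decomp f]
    have h0 : MvPowerSeries.coeff 0 f = 0 := hf
    rw [h0, map_zero, zero_add]
    refine Ideal.sum_mem _ fun i _ => ?_
    exact Ideal.mul_mem_right _ _ (Ideal.subset_span ⟨i, rfl⟩)
  · rw [Ideal.span_le]
    rintro _ ⟨i, rfl⟩
    exact PSDecomp.X_mem_maximalIdeal i

lemma spanFinrank_maximalIdeal_ps_le (d : ℕ) :
    (maximalIdeal (MvPowerSeries (Fin d) k)).spanFinrank ≤ d := by
  rw [maximalIdeal_ps_eq]
  have := Submodule.spanFinrank_span_le_ncard_of_finite (R := MvPowerSeries (Fin d) k)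
    (Set.finite_range (MvPowerSeries.X : Fin d → MvPowerSeries (Fin d) k))
  have h2 : (Set.range (MvPowerSeries.X : Fin d → MvPowerSeries (Fin d) k)).ncard ≤ d := by
    have := Set.ncard_image_le (f := (MvPowerSeries.X : Fin d → MvPowerSeries (Fin d) k))
      (Set.finite_univ)
    rw [Set.image_univ, Set.ncard_univ, Nat.card_eq_fintype_card, Fintype.card_fin] at this
    exact this
  exact this.trans h2

instance isRegularLocalRing_ps (d : ℕ) : IsRegularLocalRing (MvPowerSeries (Fin d) k) := by
  apply IsRegularLocalRing.of_spanFinrank_maximalIdeal_le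
  refine le_trans ?_ (RegBounds.le_ringKrullDim_mvPowerSeries k d)
  exact_mod_cast spanFinrank_maximalIdeal_ps_le d

theorem ringKrullDim_ps (d : ℕ) : ringKrullDim (MvPowerSeries (Fin d) k) = d := by
  apply le_antisymm
  · refine (ringKrullDim_le_spanFinrank_maximalIdeal _).trans ?_
    exact_mod_cast spanFinrank_maximalIdeal_ps_le d
  · exact RegBounds.le_ringKrullDim_mvPowerSeries k d

/-- A surjection from a Noetherian local domain of finite dimension onto a ring of the same
dimension is injective. -/
theorem injective_of_ringKrullDim_eq {P R : Type*} [CommRing P] [IsDomain P] [CommRing R]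
    (π : P →+* R) (hπ : Function.Surjective π) (n : ℕ) (hP : ringKrullDim P = n)
    (hR : ringKrullDim R = n) : Function.Injective π := by
  rw [injective_iff_map_eq_zero]
  intro a ha
  by_contra hne
  have hnzd : a ∈ nonZeroDivisors P := mem_nonZeroDivisors_of_ne_zero hne
  have h1 := ringKrullDim_quotient_succ_le_of_nonZeroDivisor hnzd
  have hle : Ideal.span {a} ≤ RingHom.ker π := by
    rw [Ideal.span_le, Set.singleton_subset_iff]; exact ha
  have h2 : ringKrullDim R ≤ ringKrullDim (P ⧸ Ideal.span {a}) :=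
    ringKrullDim_le_of_surjective (Ideal.Quotient.lift (Ideal.span {a}) π (fun x hx => hle hx))
      (fun y => by
        obtain ⟨x, rfl⟩ := hπ y
        exact ⟨Ideal.Quotient.mk _ x, rfl⟩)
  rw [hP] at h1
  rw [hR] at h2
  have h3 : ((n : WithBot ℕ∞)) + 1 ≤ n := (add_le_add_left h2 1).trans h1
  have h4 : ((n + 1 : ℕ) : WithBot ℕ∞) ≤ (n : WithBot ℕ∞) := by exact_mod_cast h3
  have h5 : n + 1 ≤ n := by exact_mod_cast h4
  omega

end Groth.Agent.Lib.Helper1.RegPS
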