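import Mathlib

/-!
# Helper1 — SplitSeq: colimits of sequences of split monomorphisms

For `F : ℕ ⥤ A` whose transition maps are split monomorphisms with chosen complements `C k`,
a colimit of `F` is `F 0 ⊞ ∐ C`.  Also: a cocone over `ℕ` whose legs are eventually isomorphisms
is a colimit cocone.
-/

set_option autoImplicit false
open CategoryTheory CategoryTheory.Limits

namespace Groth.Agent.Lib.Helper1.SplitSeq

section

variable {A : Type*} [Category A] [Preadditive A]

/-- splitting data for a morphism: `Y ≅ X ⊞ C` with `f` the inclusion of `X`. -/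
structure StepSplit {X Y : A} (f : X ⟶ Y) where
  C : A
  r : Y ⟶ X
  p : Y ⟶ C
  s : C ⟶ Y
  f_r : f ≫ r = 𝟙 X
  s_p : s ≫ p = 𝟙 C
  f_p : f ≫ p = 0
  s_r : s ≫ r = 0
  total : r ≫ f + p ≫ s = 𝟙 Y

attribute [reassoc] StepSplit.f_r StepSplit.s_p StepSplit.f_p StepSplit.s_r

/-- transport of splitting data along an equality of morphisms -/
def StepSplit.ofEq {X Y : A} {f f' : X ⟶ Y} (h : f = f') (σ : StepSplit f) : StepSplit f' where
  C := σ.C
  r := σ.r
  p := σ.p
  s := σ.s
  f_r := by rw [← h]; exact σ.f_r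
  s_p := σ.s_p
  f_p := by rw [← h]; exact σ.f_p
  s_r := σ.s_r
  total := by rw [← h]; exact σ.total

section Iso

variable [HasBinaryBiproducts A] {X Y : A} {f : X ⟶ Y} (σ : StepSplit f)

/-- the isomorphism `Y ≅ X ⊞ C` -/
noncomputable def StepSplit.iso : Y ≅ X ⊞ σ.C where
  hom := biprod.lift σ.r σ.p
  inv := biprod.desc f σ.s
  hom_inv_id := by
    rw [biprod.lift_desc]
    exact σ.total
  inv_hom_id := by
    apply biprod.hom_ext'
    · apply biprod.hom_ext <;> simp [σ.f_r, σ.f_p]
    · apply biprod.hom_ext <;> simp [σ.s_r, σ.s_p]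

lemma StepSplit.f_iso_hom : f ≫ σ.iso.hom = biprod.inl := by
  apply biprod.hom_ext <;> simp [StepSplit.iso, σ.f_r, σ.f_p]

end Iso

lemma isZero_biprod [HasBinaryBiproducts A] {X Y : A} (hX : IsZero X) (hY : IsZero Y) :
    IsZero (X ⊞ Y) := by
  rw [IsZero.iff_id_eq_zero]
  exact biprod.hom_ext _ _ (hX.eq_of_tgt _ _) (hY.eq_of_tgt _ _)

lemma isZero_sigma {ι : Type*} (X : ι → A) [HasCoproduct X] (h : ∀ i, IsZero (X i)) :
    IsZero (∐ X) := by
  rw [IsZero.iff_id_eq_zero]
  exact Sigma.hom_ext _ _ (fun i => (h i).eq_of_src _ _)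

variable [HasBinaryBiproducts A] (F : ℕ ⥤ A)
  (σ : ∀ k : ℕ, StepSplit (F.map (homOfLE (k.le_add_right 1))))
  [HasCoproduct (fun k : ℕ => (σ k).C)]

/-- the model of the colimit -/
noncomputable abbrev T : A := F.obj 0 ⊞ ∐ (fun k => (σ k).C)

/-- the legs of the colimit cocone -/
noncomputable def leg : ∀ k, F.obj k ⟶ T F σ
  | 0 => biprod.inl
  | k + 1 => (σ k).r ≫ leg k + (σ k).p ≫ Sigma.ι (fun k => (σ k).C) k ≫ biprod.inr

lemma leg_zero : leg F σ 0 = biprod.inl := rfl

lemma leg_succ (k : ℕ) : leg F σ (k + 1) =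
    (σ k).r ≫ leg F σ k + (σ k).p ≫ Sigma.ι (fun k => (σ k).C) k ≫ biprod.inr := rfl

lemma map_leg (k : ℕ) : F.map (homOfLE (k.le_add_right 1)) ≫ leg F σ (k + 1) = leg F σ k := by
  rw [leg_succ, Preadditive.comp_add, (σ k).f_r_assoc, (σ k).f_p_assoc, zero_comp, add_zero]

lemma s_leg (k : ℕ) : (σ k).s ≫ leg F σ (k + 1) =
    Sigma.ι (fun k => (σ k).C) k ≫ biprod.inr := by
  rw [leg_succ, Preadditive.comp_add, (σ k).s_r_assoc, (σ k).s_p_assoc, zero_comp, zero_add]

/-- the colimit cocone -/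
noncomputable def cocone : Cocone F where
  pt := T F σ
  ι := NatTrans.ofSequence (F := F) (G := (Functor.const ℕ).obj (T F σ)) (leg F σ)
    (fun k => by
      simp only [Functor.const_obj_obj, Functor.const_obj_map, Category.comp_id]
      exact map_leg F σ k)

@[simp] lemma cocone_ι_app (k : ℕ) : (cocone F σ).ι.app k = leg F σ k := rfl

/-- the descent map -/
noncomputable def descT (t : Cocone F) : T F σ ⟶ t.pt :=
  biprod.desc (t.ι.app 0) (Sigma.desc (fun k => (σ k).s ≫ t.ι.app (k + 1)))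

lemma leg_descT (t : Cocone F) (k : ℕ) : leg F σ k ≫ descT F σ t = t.ι.app k := by
  induction k with
  | zero => simp [leg_zero, descT]
  | succ k ih =>
    rw [leg_succ, Preadditive.add_comp, Category.assoc, ih, Category.assoc, Category.assoc]
    have h1 : biprod.inr ≫ descT F σ t = Sigma.desc (fun k => (σ k).s ≫ t.ι.app (k + 1)) := by
      simp [descT]
    rw [h1, Sigma.ι_desc, ← t.w (homOfLE (k.le_add_right 1)), ← Category.assoc,
      ← Category.assoc (σ k).p, ← Preadditive.add_comp, (σ k).total, Category.id_comp]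

/-- the cocone is a colimit cocone -/
noncomputable def isColimit : IsColimit (cocone F σ) where
  desc t := descT F σ t
  fac t k := leg_descT F σ t k
  uniq t m hm := by
    change T F σ ⟶ t.pt at m
    apply biprod.hom_ext'
    · have h0 : biprod.inl ≫ m = t.ι.app 0 := hm 0
      rw [h0]
      simp [descT]
    · apply Sigma.hom_ext
      intro k
      have h0 : leg F σ (k + 1) ≫ m = t.ι.app (k + 1) := hm (k + 1)
      have h1 : biprod.inr ≫ descT F σ t = Sigma.desc (fun k => (σ k).s ≫ t.ι.app (k + 1)) := by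
        simp [descT]
      rw [h1, Sigma.ι_desc, ← h0, ← Category.assoc (σ k).s, s_leg, Category.assoc]

/-- any colimit of `F` is `F 0 ⊞ ∐ C`, compatibly with the inclusion of `F 0`. -/
theorem exists_iso {c : Cocone F} (hc : IsColimit c) :
    ∃ e : c.pt ≅ F.obj 0 ⊞ ∐ (fun k => (σ k).C), c.ι.app 0 ≫ e.hom = biprod.inl := by
  exact ⟨hc.coconePointUniqueUpToIso (isColimit F σ),
    hc.comp_coconePointUniqueUpToIso_hom (isColimit F σ) 0⟩

end

section EventuallyIso

variable {A : Type*} [Category A] {F : ℕ ⥤ A} (s : Cocone F) (N : ℕ)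
  (h : ∀ n, N ≤ n → IsIso (s.ι.app n))

/-- a cocone over `ℕ` whose legs are eventually isomorphisms is a colimit cocone -/
noncomputable def isColimitOfEventuallyIso : IsColimit s := by
  haveI := h N le_rfl
  refine
    { desc := fun t => inv (s.ι.app N) ≫ t.ι.app N
      fac := fun t n => ?_
      uniq := fun t m hm => ?_ }
  · by_cases hn : n ≤ N
    · rw [← s.w (homOfLE hn), Category.assoc, IsIso.hom_inv_id_assoc, t.w]
    · have hn' : N ≤ n := by omega
      haveI := h n hn'
      rw [← t.w (homOfLE hn'), ← cancel_epi (inv (s.ι.app n)), IsIso.inv_hom_id_assoc,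
        ← Category.assoc]
      congr 1
      rw [IsIso.inv_comp_eq, IsIso.eq_comp_inv, s.w]
  · rw [IsIso.eq_inv_comp, hm]

end EventuallyIso

end Groth.Agent.Lib.Helper1.SplitSeq
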