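import Groth.Agent.Lib.Helper1.CellRes
import Groth.Agent.Lib.Helper1.SplitSeq

/-!
# Helper1 — RelCell: relative cellular resolutions

Given `q : P ⟶ G`, a complex `relP` with `relι : P ⟶ relP` (termwise split, with complement
built from covers) and a termwise epimorphic quasi-isomorphism `relq : relP ⟶ G` extending `q`.
-/

set_option autoImplicit false
open CategoryTheory CategoryTheory.Limits HomologicalComplex CochainComplex HomComplex ZeroObject

namespace Groth.Agent.Lib.Helper1.RelCell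

open Groth.Agent.Lib.Helper16.BiCx Groth.Agent.Lib.Helper1.CellRes
  Groth.Agent.Lib.Helper1.SplitSeq

variable {A : Type*} [Category A] [Abelian A]

section GSeq

variable (cv : Cov A) {G : CochainComplex A ℤ} (s₀ : Stage G)

/-- the sequence of cellular approximations starting from `s₀` -/
noncomputable def gstage : ℕ → Stage G
  | 0 => s₀
  | n + 1 => ⟨stepP cv (gstage n).q, stepq cv (gstage n).q⟩

noncomputable abbrev gP (n : ℕ) : CochainComplex A ℤ := (gstage cv s₀ n).P

noncomputable abbrev gq (n : ℕ) : gP cv s₀ n ⟶ G := (gstage cv s₀ n).q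

noncomputable def gι (n : ℕ) : gP cv s₀ n ⟶ gP cv s₀ (n + 1) := stepι cv (gq cv s₀ n)

@[reassoc (attr := simp)]
lemma gι_q (n : ℕ) : gι cv s₀ n ≫ gq cv s₀ (n + 1) = gq cv s₀ n := stepι_q cv _

/-- the sequence as a functor -/
noncomputable def gF : ℕ ⥤ CochainComplex A ℤ := Functor.ofSequence (gι cv s₀)

/-- the cocone to `G` -/
noncomputable def gCocone : Cocone (gF cv s₀) where
  pt := G
  ι := NatTrans.ofSequence (F := gF cv s₀) (G := (Functor.const ℕ).obj G) (gq cv s₀)
    (fun n => by
      simp only [gF, Functor.ofSequence_map_homOfLE_succ, Functor.const_obj_obj,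
        Functor.const_obj_map]
      exact (gι_q cv s₀ n).trans (Category.comp_id _).symm)

lemma epi_gq_f (h0 : ∀ m, Epi (s₀.q.f m)) (n : ℕ) (m : ℤ) : Epi ((gq cv s₀ n).f m) := by
  induction n with
  | zero => exact h0 m
  | succ n ih =>
    have h : (gι cv s₀ n).f m ≫ (gq cv s₀ (n + 1)).f m = (gq cv s₀ n).f m := by
      rw [← HomologicalComplex.comp_f, gι_q]
    haveI : Epi ((gι cv s₀ n).f m ≫ (gq cv s₀ (n + 1)).f m) := by rw [h]; exact ih
    exact epi_of_epi ((gι cv s₀ n).f m) _

variable [HasColimitsOfShape ℕ A]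

/-- the resolution -/
noncomputable abbrev gresP : CochainComplex A ℤ := colimit (gF cv s₀)

/-- the resolution map -/
noncomputable def gresq : gresP cv s₀ ⟶ G := colimit.desc (gF cv s₀) (gCocone cv s₀)

@[reassoc (attr := simp)]
lemma ι_gresq (n : ℕ) : colimit.ι (gF cv s₀) n ≫ gresq cv s₀ = gq cv s₀ n :=
  colimit.ι_desc _ _

theorem epi_gresq_f (h0 : ∀ m, Epi (s₀.q.f m)) (m : ℤ) : Epi ((gresq cv s₀).f m) := by
  have h : (colimit.ι (gF cv s₀) 0).f m ≫ (gresq cv s₀).f m = (gq cv s₀ 0).f m := by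
    rw [← HomologicalComplex.comp_f, ι_gresq]
  haveI : Epi ((colimit.ι (gF cv s₀) 0).f m ≫ (gresq cv s₀).f m) := by
    rw [h]; exact h0 m
  exact epi_of_epi ((colimit.ι (gF cv s₀) 0).f m) _

variable [HasExactColimitsOfShape ℕ A]

theorem quasiIso_gresq : QuasiIso (gresq cv s₀) := by
  rw [quasiIso_iff_exactAt_mappingCone]
  have hcol := isColimitConeCocone (gresq cv s₀) (colimit.isColimit (gF cv s₀))
  have hac : Acyc (mappingCone (gresq cv s₀)) :=
    acyc_of_isColimit_of_homologyMap_eq_zero hcol (fun n m => by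
      change homologyMap (mappingCone.map _ _ _ _ (legq_comm _ _ _)) m = 0
      exact homologyMap_map_eq_zero cv G (gq cv s₀ n) _ _ _ (ι_gresq cv s₀ n)
        (ι_gresq cv s₀ (n + 1)) (Functor.ofSequence_map_homOfLE_succ _ n) _ m)
  intro n
  rw [exactAt_iff_isZero_homology]
  exact hac n

end GSeq

section ConeSplit

variable {N P : CochainComplex A ℤ} (φ : N ⟶ P)

/-- the inclusion of `P` into the cone of `φ : N ⟶ P` is termwise split with complement
`N.X (i + 1)` -/
noncomputable def coneSplit (i : ℤ) : StepSplit ((mappingCone.inr φ).f i) where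
  C := N.X (i + 1)
  r := (mappingCone.snd φ).v i i (add_zero i)
  p := (mappingCone.fst φ).1.v i (i + 1) rfl
  s := (mappingCone.inl φ).v (i + 1) i (by omega)
  f_r := by simp
  s_p := by simp
  f_p := by simp
  s_r := by simp
  total := by
    rw [add_comm]
    exact mappingCone.id_X φ i (i + 1) rfl

end ConeSplit

section BiprodSplit

variable (P D : CochainComplex A ℤ)

/-- the inclusion `P ⟶ P ⊞ D` is termwise split with complement `D.X i` -/
noncomputable def biprodSplit (i : ℤ) : StepSplit ((biprod.inl : P ⟶ P ⊞ D).f i) where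
  C := D.X i
  r := (biprod.fst : P ⊞ D ⟶ P).f i
  p := (biprod.snd : P ⊞ D ⟶ D).f i
  s := (biprod.inr : D ⟶ P ⊞ D).f i
  f_r := by rw [← HomologicalComplex.comp_f, biprod.inl_fst, HomologicalComplex.id_f]
  s_p := by rw [← HomologicalComplex.comp_f, biprod.inr_snd, HomologicalComplex.id_f]
  f_p := by rw [← HomologicalComplex.comp_f, biprod.inl_snd, HomologicalComplex.zero_f]
  s_r := by rw [← HomologicalComplex.comp_f, biprod.inr_fst, HomologicalComplex.zero_f]
  total := by
    rw [← HomologicalComplex.comp_f, ← HomologicalComplex.comp_f, ← HomologicalComplex.add_f_apply,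
      biprod.total, HomologicalComplex.id_f]

end BiprodSplit

section Rel

variable (cv : Cov A) {P G : CochainComplex A ℤ} (q : P ⟶ G)

/-- the starting point of the relative construction -/
noncomputable def relStart : Stage G := ⟨P ⊞ diskP cv G, biprod.desc q (diskq cv G)⟩

lemma epi_relStart_q_f (m : ℤ) : Epi ((relStart cv q).q.f m) := by
  show Epi ((biprod.desc q (diskq cv G)).f m)
  have h : (biprod.inr : diskP cv G ⟶ P ⊞ diskP cv G).f m ≫
      (biprod.desc q (diskq cv G)).f m = (diskq cv G).f m := by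
    rw [← HomologicalComplex.comp_f, biprod.inr_desc]
  haveI : Epi ((biprod.inr : diskP cv G ⟶ P ⊞ diskP cv G).f m ≫
      (biprod.desc q (diskq cv G)).f m) := by rw [h]; infer_instance
  exact epi_of_epi ((biprod.inr : diskP cv G ⟶ P ⊞ diskP cv G).f m) _

lemma isZero_cone_X {P G : CochainComplex A ℤ} (q : P ⟶ G) (j : ℤ) (h1 : IsZero (P.X (j + 1)))
    (h2 : IsZero (G.X j)) : IsZero ((mappingCone q).X j) :=
  IsZero.of_iso (isZero_biprod h2 h1) (coneSplit q j).iso

lemma isZero_cellN_X (hcv : ∀ X, IsZero X → IsZero (cv.obj X)) (p : ℤ)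
    (h1 : IsZero (P.X (p - 1 + 1))) (h2 : IsZero (G.X (p - 1))) :
    IsZero ((cellN cv q).X p) :=
  hcv _ (IsZero.of_mono ((mappingCone q).iCycles (p - 1)) (isZero_cone_X q (p - 1) h1 h2))

lemma isZero_diskP_X (hcv : ∀ X, IsZero X → IsZero (cv.obj X)) (i : ℤ)
    (h1 : IsZero (G.X (i - 1))) (h2 : IsZero (G.X (i + 1 - 1))) :
    IsZero ((diskP cv G).X i) :=
  IsZero.of_iso (isZero_biprod (hcv _ h1) (hcv _ h2)) (coneSplit (𝟙 (diskN cv G)) i).iso

/-- boundedness of the stages -/
lemma isZero_gP_X (hcv : ∀ X, IsZero X → IsZero (cv.obj X)) (b : ℤ)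
    (hP : ∀ i, b < i → IsZero (P.X i)) (hG : ∀ i, b ≤ i → IsZero (G.X i)) (k : ℕ) :
    ∀ i, b < i → IsZero ((gP cv (relStart cv q) k).X i) := by
  induction k with
  | zero =>
    intro i hi
    exact IsZero.of_iso (isZero_biprod (hP i hi)
      (isZero_diskP_X cv hcv i (hG _ (by omega)) (hG _ (by omega))))
      (biprodSplit P (diskP cv G) i).iso
  | succ k ih =>
    intro i hi
    refine IsZero.of_iso (isZero_biprod (ih i hi) ?_)
      (coneSplit (cellφ cv (gq cv (relStart cv q) k)) i).iso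
    exact isZero_cellN_X cv _ hcv (i + 1) (ih _ (by omega)) (hG _ (by omega))

variable [HasColimitsOfShape ℕ A]

/-- the relative resolution -/
noncomputable abbrev relP : CochainComplex A ℤ := gresP cv (relStart cv q)

/-- the map from the relative resolution -/
noncomputable def relq : relP cv q ⟶ G := gresq cv (relStart cv q)

/-- the inclusion of the starting point -/
noncomputable def relι₀ : P ⊞ diskP cv G ⟶ relP cv q := colimit.ι (gF cv (relStart cv q)) 0

@[reassoc]
lemma relι₀_q : relι₀ cv q ≫ relq cv q = biprod.desc q (diskq cv G) :=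
  ι_gresq cv (relStart cv q) 0

/-- the inclusion into the relative resolution -/
noncomputable def relι : P ⟶ relP cv q :=
  (biprod.inl : P ⟶ P ⊞ diskP cv G) ≫ relι₀ cv q

@[reassoc (attr := simp)]
lemma relι_q : relι cv q ≫ relq cv q = q := by
  rw [relι, Category.assoc, relι₀_q]
  exact biprod.inl_desc _ _

theorem epi_relq_f (m : ℤ) : Epi ((relq cv q).f m) :=
  epi_gresq_f cv _ (epi_relStart_q_f cv q) m

theorem quasiIso_relq [HasExactColimitsOfShape ℕ A] : QuasiIso (relq cv q) :=
  quasiIso_gresq cv _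

/-- the complement of the `k`-th cell attachment in degree `i` -/
noncomputable abbrev relC (i : ℤ) (k : ℕ) : A :=
  (cellN cv (gq cv (relStart cv q) k)).X (i + 1)

/-- the splitting of the `k`-th transition map in degree `i` -/
noncomputable def relσ (i : ℤ) (k : ℕ) :
    StepSplit ((gF cv (relStart cv q) ⋙ HomologicalComplex.eval A (ComplexShape.up ℤ) i).map
      (homOfLE (k.le_add_right 1))) :=
  (coneSplit (cellφ cv (gq cv (relStart cv q) k)) i).ofEq
    (congrArg (fun φ => φ.f i)
      (Functor.ofSequence_map_homOfLE_succ (gι cv (relStart cv q)) k)).symm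

variable [HasColimitsOfShape (Discrete ℕ) A]

/-- the complement of `P` in the relative resolution, in degree `i` -/
noncomputable abbrev relT (i : ℤ) : A := (diskP cv G).X i ⊞ ∐ (relC cv q i)

/-- **the terms of the relative resolution** -/
theorem exists_iso_relP_X (i : ℤ) :
    ∃ e : (relP cv q).X i ≅ P.X i ⊞ relT cv q i, (relι cv q).f i ≫ e.hom = biprod.inl := by
  let E := HomologicalComplex.eval A (ComplexShape.up ℤ) i
  have hc : IsColimit (E.mapCocone (colimit.cocone (gF cv (relStart cv q)))) :=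
    isColimitOfPreserves E (colimit.isColimit _)
  haveI : HasCoproduct (fun k => (relσ cv q i k).C) :=
    inferInstanceAs (HasCoproduct (relC cv q i))
  obtain ⟨e₁, he₁⟩ : ∃ e₁ : (relP cv q).X i ≅ (P ⊞ diskP cv G).X i ⊞ ∐ (relC cv q i),
      (relι₀ cv q).f i ≫ e₁.hom = biprod.inl := SplitSeq.exists_iso _ (relσ cv q i) hc
  let e₂ : (P ⊞ diskP cv G).X i ≅ P.X i ⊞ (diskP cv G).X i := (biprodSplit P (diskP cv G) i).iso
  have he₂ : (biprod.inl : P ⟶ P ⊞ diskP cv G).f i ≫ e₂.hom = biprod.inl :=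
    (biprodSplit P (diskP cv G) i).f_iso_hom
  refine ⟨e₁ ≪≫ biprod.mapIso e₂ (Iso.refl _) ≪≫ biprod.associator _ _ _, ?_⟩
  rw [relι, HomologicalComplex.comp_f, Iso.trans_hom, Iso.trans_hom, Category.assoc,
    reassoc_of% he₁, biprod.mapIso_hom, biprod.inl_map_assoc, reassoc_of% he₂]
  apply biprod.hom_ext
  · simp
  · rw [biprod.inl_snd, Category.assoc, Category.assoc, biprod.associator_hom, biprod.lift_snd]
    apply biprod.hom_ext <;> simp

omit [HasColimitsOfShape ℕ A] in
theorem W_relT (W : A → Prop) (hWiso : ∀ {X Y : A}, (X ≅ Y) → W X → W Y)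
    (hWcv : ∀ X, W (cv.obj X)) (hWbiprod : ∀ {X Y : A}, W X → W Y → W (X ⊞ Y))
    (hWsigma : ∀ (X : ℕ → A), (∀ k, W (X k)) → W (∐ X)) (i : ℤ) : W (relT cv q i) := by
  refine hWbiprod ?_ (hWsigma _ (fun k => hWcv _))
  exact hWiso (coneSplit (𝟙 (diskN cv G)) i).iso.symm (hWbiprod (hWcv _) (hWcv _))

omit [HasColimitsOfShape ℕ A] in
theorem isZero_relT (hcv : ∀ X, IsZero X → IsZero (cv.obj X)) (b : ℤ)
    (hP : ∀ i, b < i → IsZero (P.X i)) (hG : ∀ i, b ≤ i → IsZero (G.X i)) (i : ℤ) (hi : b < i) :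
    IsZero (relT cv q i) := by
  refine isZero_biprod (isZero_diskP_X cv hcv i (hG _ (by omega)) (hG _ (by omega)))
    (isZero_sigma _ (fun k => ?_))
  exact isZero_cellN_X cv _ hcv (i + 1) (isZero_gP_X cv q hcv b hP hG k _ (by omega))
    (hG _ (by omega))

theorem isZero_relP_X (hcv : ∀ X, IsZero X → IsZero (cv.obj X)) (b : ℤ)
    (hP : ∀ i, b < i → IsZero (P.X i)) (hG : ∀ i, b ≤ i → IsZero (G.X i)) (i : ℤ) (hi : b < i) :
    IsZero ((relP cv q).X i) := by
  obtain ⟨e, -⟩ := exists_iso_relP_X cv q i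
  exact IsZero.of_iso (isZero_biprod (hP i hi) (isZero_relT cv q hcv b hP hG i hi)) e

end Rel

end Groth.Agent.Lib.Helper1.RelCell
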