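import Groth.Agent.Lib.Helper1.PresRestrict
import Groth.Agent.Lib.Helper1.FreeOnMap

/-!
# Restriction to `C/W` of finite free modules, on sections
-/

set_option autoImplicit false
universe u
open CategoryTheory CategoryTheory.Limits Opposite

namespace Groth.Agent.Lib.Helper1.RestrFree

open Groth.Agent.Lib.Helper1.RestrExact Groth.Agent.Lib.Helper1.FinFreeSections
  Groth.Agent.Lib.Helper1.LazardB Groth.Agent.Lib.Helper1.PresRestrict

variable {C : Type u} [SmallCategory C] {J : GrothendieckTopology C}
  (O : Sheaf J CommRingCat.{u}) (W : C)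

/-- `free I ≅ (free I)|_W` for finite `I` -/
noncomputable def εr (I : Type u) [Fintype I] :
    SheafOfModules.free (R := ModSite.ringSh (O.over W)) I ≅
      (ModSite.restr O W).obj (SheafOfModules.free (R := ModSite.ringSh O) I) :=
  haveI : PreservesColimitsOfShape (Discrete I) (ModSite.restr O W) := inferInstance
  SheafOfModules.mapFreeIso (ModSite.restr O W) I (Iso.refl _)

lemma εr_bas (I : Type u) [Fintype I] (i : I) :
    (εr O W I).hom.val.app (op (top W))
        (bas (R := ModSite.ringSh (O.over W)) (X := top W) I i) =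
      bas (R := ModSite.ringSh O) (X := W) I i := by
  haveI : PreservesColimitsOfShape (Discrete I) (ModSite.restr O W) := inferInstance
  have h1 : SheafOfModules.ιFree i ≫ (εr O W I).hom =
      (ModSite.restr O W).map (SheafOfModules.ιFree (R := ModSite.ringSh O) i) := by
    have := SheafOfModules.ιFree_mapFreeIso_hom (ModSite.restr O W) I (Iso.refl _) i
    rw [Iso.refl_hom] at this
    exact this.trans (Category.id_comp
      ((ModSite.restr O W).map (SheafOfModules.ιFree (R := ModSite.ringSh O) i)))
  exact congrArg (fun φ => φ.val.app (op (top W))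
    (1 : (ModSite.ringSh (O.over W)).obj.obj (op (top W)))) h1

/-- naturality of the basis sections -/
lemma map_bas (I : Type u) {V : C} (g : W ⟶ V) (i : I) :
    (SheafOfModules.free (R := ModSite.ringSh O) I).val.map g.op
      (bas (R := ModSite.ringSh O) (X := V) I i) = bas (R := ModSite.ringSh O) (X := W) I i := by
  have h := PresheafOfModules.naturality_apply
    (SheafOfModules.ιFree (R := ModSite.ringSh O) i).val g.op
    (1 : (ModSite.ringSh O).obj.obj (op V))
  refine h.symm.trans ?_
  congr 1
  exact map_one ((ModSite.ringSh O).obj.map g.op).hom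

variable {O}

/-- a morphism from a retract of a finite free module lifts locally through an epimorphism -/
theorem local_lift_retract {E F G : ModSite.Mod O} {I : Type u} [Fintype I]
    (i : E ⟶ SheafOfModules.free (R := ModSite.ringSh O) I)
    (r : SheafOfModules.free (R := ModSite.ringSh O) I ⟶ E) (hir : i ≫ r = 𝟙 E)
    (p : G ⟶ F) [Epi p] (φ : E ⟶ F) (V : C) :
    ∃ R ∈ J V, ∀ ⦃W : C⦄ (g : W ⟶ V), R g →
      ∃ l : (ModSite.restr O W).obj E ⟶ (ModSite.restr O W).obj G,
        l ≫ (ModSite.restr O W).map p = (ModSite.restr O W).map φ := by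
  classical
  let s : I → F.val.obj (op V) := fun k =>
    (r ≫ φ).val.app (op V) (bas (R := ModSite.ringSh O) (X := V) I k)
  have h1 := fun k => Groth.Agent.Lib.Helper1.FreeOnMap.exists_local_lift O p (s k)
  choose S hS hlift using h1
  refine ⟨⨅ k, S k, Groth.Agent.Lib.Helper1.TensorLoc.iInf_mem J S hS, ?_⟩
  intro W g hg
  rw [Groth.Agent.Lib.Helper1.TensorLoc.iInf_apply] at hg
  have h2 := fun k => hlift k g (hg k)
  choose t ht using h2
  let T : SheafOfModules.free (R := ModSite.ringSh (O.over W)) I ⟶ (ModSite.restr O W).obj G :=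
    ofVals (topIsTerminal W) ((ModSite.restr O W).obj G) t
  refine ⟨(ModSite.restr O W).map i ≫ (εr O W I).inv ≫ T, ?_⟩
  have hφ : (ModSite.restr O W).map φ =
      (ModSite.restr O W).map i ≫ (ModSite.restr O W).map (r ≫ φ) := by
    rw [← Functor.map_comp, ← Category.assoc, hir, Category.id_comp]
  rw [hφ, Category.assoc, Category.assoc]
  congr 1
  rw [Iso.inv_comp_eq]
  apply free_hom_ext (topIsTerminal W)
  intro k
  rw [Functor.map_comp, Functor.map_comp]
  show ((ModSite.restr O W).map p).val.app (op (top W))
      (((Γ (ModSite.ringSh (O.over W)) (X := top W)).map T).hom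
        (bas (R := ModSite.ringSh (O.over W)) (X := top W) I k)) =
    ((ModSite.restr O W).map (r ≫ φ)).val.app (op (top W))
      ((εr O W I).hom.val.app (op (top W)) (bas (R := ModSite.ringSh (O.over W)) (X := top W) I k))
  rw [ofVals_bas, εr_bas]
  refine (ht k).trans ?_
  show F.val.map g.op ((r ≫ φ).val.app (op V) (bas (R := ModSite.ringSh O) (X := V) I k)) =
    (r ≫ φ).val.app (op W) (bas (R := ModSite.ringSh O) (X := W) I k)
  rw [← map_bas O W I g k]
  exact (PresheafOfModules.naturality_apply (r ≫ φ).val g.op _).symm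

end Groth.Agent.Lib.Helper1.RestrFree
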