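import Mathlib
import Groth.Agent.Lib.Helper1.ProjDimAlg

/-!
# The affine Segre cone: a height bound and rank-one points on linear sections (helper1)
-/

set_option autoImplicit false

namespace Groth.Agent.Lib.Helper1.SegreCone

open MvPolynomial Groth.Agent.Lib.Helper1.ProjDimAlg

variable (k : Type*) [Field k] (a b : ℕ)

/-- `σ : k[x_{ij}] → k[s_i, t_j]`, `x_{ij} ↦ s_i t_j` -/
noncomputable def sg : MvPolynomial (Fin (a * b)) k →ₐ[k] MvPolynomial (Fin a ⊕ Fin b) k :=
  aeval (fun m => X (Sum.inl (finProdFinEquiv.symm m).1) * X (Sum.inr (finProdFinEquiv.symm m).2))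

/-- order in which the variables `s_i`, `t_j` are killed; `t_0` is never killed -/
def rk : Fin a ⊕ Fin b → ℕ
  | Sum.inl i => (b - 1) + i.val
  | Sum.inr j => if j.val = 0 then a + b else j.val - 1

/-- kill the variables of rank `< t` -/
noncomputable def killT (t : ℕ) :
    MvPolynomial (Fin a ⊕ Fin b) k →ₐ[k] MvPolynomial (Fin a ⊕ Fin b) k :=
  aeval (fun v => if rk a b v < t then 0 else X v)

/-- the primes of the chain -/
noncomputable def P (t : ℕ) : Ideal (MvPolynomial (Fin (a * b)) k) :=
  RingHom.ker ((killT k a b t).comp (sg k a b)).toRingHom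

instance (t : ℕ) : (P k a b t).IsPrime := RingHom.ker_isPrime _

variable {k a b}

theorem killT_X (t : ℕ) (v : Fin a ⊕ Fin b) :
    killT k a b t (X v) = if rk a b v < t then 0 else X v := by
  simp [killT]

theorem killT_comp {t t' : ℕ} (h : t ≤ t') :
    (killT k a b t').comp (killT k a b t) = killT k a b t' := by
  apply MvPolynomial.algHom_ext
  intro v
  rw [AlgHom.comp_apply, killT_X]
  split_ifs with h1
  · rw [map_zero, killT_X, if_pos (lt_of_lt_of_le h1 h)]
  · rfl

theorem P_mono {t t' : ℕ} (h : t ≤ t') : P k a b t ≤ P k a b t' := by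
  intro f hf
  have hf' : killT k a b t (sg k a b f) = 0 := hf
  show killT k a b t' (sg k a b f) = 0
  rw [← killT_comp h, AlgHom.comp_apply, hf', map_zero]

theorem X_mem_P (t : ℕ) (i : Fin a) (j : Fin b) :
    (X (finProdFinEquiv (i, j)) : MvPolynomial (Fin (a * b)) k) ∈ P k a b t ↔
      rk a b (Sum.inl i) < t ∨ rk a b (Sum.inr j) < t := by
  show killT k a b t (sg k a b (X (finProdFinEquiv (i, j)))) = 0 ↔ _
  simp only [sg, aeval_X, Equiv.symm_apply_apply, map_mul, killT_X]
  constructor
  · intro h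
    by_contra hcon
    push Not at hcon
    rw [if_neg (not_lt.mpr hcon.1), if_neg (not_lt.mpr hcon.2)] at h
    exact (mul_ne_zero (X_ne_zero _) (X_ne_zero _)) h
  · rintro (h | h)
    · rw [if_pos h, zero_mul]
    · rw [if_pos h, mul_zero]

theorem P_lt (ha : 0 < a) (hb : 0 < b) {t : ℕ} (ht : t + 2 ≤ a + b) :
    P k a b t < P k a b (t + 1) := by
  refine lt_of_le_of_ne (P_mono (Nat.le_succ t)) ?_
  intro heq
  by_cases h1 : t + 1 < b
  · -- witness `x_{0, t+1}`
    have hmem : (X (finProdFinEquiv ((⟨0, ha⟩ : Fin a), (⟨t + 1, h1⟩ : Fin b))) :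
        MvPolynomial (Fin (a * b)) k) ∈ P k a b (t + 1) := by
      rw [X_mem_P]; right; simp [rk]
    rw [← heq, X_mem_P] at hmem
    simp only [rk] at hmem
    rcases hmem with h | h
    · omega
    · simp at h
  · -- witness `x_{t-(b-1), 0}`
    have hi : t - (b - 1) < a := by omega
    have hmem : (X (finProdFinEquiv ((⟨t - (b - 1), hi⟩ : Fin a), (⟨0, hb⟩ : Fin b))) :
        MvPolynomial (Fin (a * b)) k) ∈ P k a b (t + 1) := by
      rw [X_mem_P]; left; simp only [rk]; omega
    rw [← heq, X_mem_P] at hmem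
    simp only [rk] at hmem
    rcases hmem with h | h
    · omega
    · simp at h; omega

theorem height_P_ge (ha : 0 < a) (hb : 0 < b) (t : ℕ) (ht : t + 1 ≤ a + b) :
    (P k a b 0).height + t ≤ (P k a b t).height := by
  induction t with
  | zero => simp
  | succ t ih =>
    have h1 := ih (by omega)
    have h2 := Ideal.height_strict_mono_of_isPrime_of_isPrime (P_lt (k := k) ha hb (t := t) (by omega))
    have h3 : (P k a b t).height + 1 ≤ (P k a b (t + 1)).height := Order.add_one_le_of_lt h2
    calc (P k a b 0).height + ((t + 1 : ℕ) : ℕ∞) = ((P k a b 0).height + t) + 1 := by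
          push_cast; rw [add_assoc]
      _ ≤ (P k a b t).height + 1 := by gcongr
      _ ≤ _ := h3

/-- the height bound for the Segre prime -/
theorem height_P_zero_add_le (ha : 0 < a) (hb : 0 < b) :
    (P k a b 0).height + ((a + b - 1 : ℕ) : ℕ∞) ≤ ((a * b : ℕ) : ℕ∞) := by
  refine (height_P_ge (k := k) ha hb (a + b - 1) (by omega)).trans ?_
  have h := Groth.Agent.Lib.Helper7.AffDim.mvPolynomial_height_add k (a * b) (P k a b (a + b - 1))
  have h0 : (0 : WithBot ℕ∞) ≤ ringKrullDim (MvPolynomial (Fin (a * b)) k ⧸ P k a b (a + b - 1)) :=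
    ringKrullDim_nonneg_of_nontrivial
  have h1 : ((P k a b (a + b - 1)).height : WithBot ℕ∞) ≤ ((a * b : ℕ) : WithBot ℕ∞) := by
    rw [← h]; exact le_add_of_nonneg_right h0
  exact_mod_cast h1

/-- the `2 × 2` minors lie in the Segre prime -/
theorem minor_mem_P (i p : Fin a) (j q : Fin b) :
    (X (finProdFinEquiv (i, j)) * X (finProdFinEquiv (p, q)) -
      X (finProdFinEquiv (i, q)) * X (finProdFinEquiv (p, j)) :
        MvPolynomial (Fin (a * b)) k) ∈ P k a b 0 := by
  show killT k a b 0 (sg k a b _) = 0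
  have : sg k a b (X (finProdFinEquiv (i, j)) * X (finProdFinEquiv (p, q)) -
      X (finProdFinEquiv (i, q)) * X (finProdFinEquiv (p, j))) = 0 := by
    simp only [sg, map_sub, map_mul, aeval_X, Equiv.symm_apply_apply]
    ring
  rw [this, map_zero]

/-- elements of the Segre prime vanish at the origin -/
theorem eval_zero_of_mem_P {t : ℕ} {f : MvPolynomial (Fin (a * b)) k} (hf : f ∈ P k a b t) :
    eval (0 : Fin (a * b) → k) f = 0 := by
  have hcomp : ((aeval (0 : Fin a ⊕ Fin b → k)).comp ((killT k a b t).comp (sg k a b))) =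
      (aeval (0 : Fin (a * b) → k) : MvPolynomial (Fin (a * b)) k →ₐ[k] k) := by
    apply MvPolynomial.algHom_ext
    intro m
    simp only [AlgHom.comp_apply, sg, aeval_X, map_mul, killT_X]
    split_ifs <;> simp
  have hf' : killT k a b t (sg k a b f) = 0 := hf
  have h1 := congrArg (fun φ => φ f) hcomp
  simp only [AlgHom.comp_apply, hf', map_zero] at h1
  rw [← h1.symm]
  rfl

variable [IsAlgClosed k]

/-- a linear section of the Segre cone by fewer than `a + b - 1` hypersurfaces through the origin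
contains a nonzero rank-one point -/
theorem exists_rankOne_zero (ha : 0 < a) (hb : 0 < b) (L : Finset (MvPolynomial (Fin (a * b)) k))
    (hL0 : ∀ f ∈ L, eval (0 : Fin (a * b) → k) f = 0) (hc : L.card + 2 ≤ a + b) :
    ∃ (α : Fin a → k) (β : Fin b → k), α ≠ 0 ∧ β ≠ 0 ∧
      ∀ f ∈ L, eval (fun m => α (finProdFinEquiv.symm m).1 * β (finProdFinEquiv.symm m).2) f = 0 := by
  classical
  set m₀ : Ideal (MvPolynomial (Fin (a * b)) k) := vanishingIdeal k {(0 : Fin (a * b) → k)} with hm₀
  have hm₀max : m₀.IsMaximal := isMaximal_iff_eq_vanishingIdeal_singleton.mpr ⟨0, rfl⟩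
  haveI := hm₀max.isPrime
  have hle : P k a b 0 ⊔ Ideal.span (L : Set (MvPolynomial (Fin (a * b)) k)) ≤ m₀ := by
    refine sup_le ?_ (Ideal.span_le.mpr ?_)
    · intro f hf
      rw [hm₀, mem_vanishingIdeal_singleton_iff]
      exact eval_zero_of_mem_P hf
    · intro f hf
      show f ∈ m₀
      rw [hm₀, mem_vanishingIdeal_singleton_iff]
      exact hL0 f hf
  obtain ⟨r, hr, hrm⟩ := Ideal.exists_minimalPrimes_le hle
  haveI hrp : r.IsPrime := hr.1.1
  have hht := height_le_add_card (p := P k a b 0) (q := r) L hr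
  have hP0 := height_P_zero_add_le (k := k) ha hb
  -- height of m₀
  have hm₀ht : m₀.height = ((a * b : ℕ) : ℕ∞) := by
    have h := Groth.Agent.Lib.Helper7.AffDim.mvPolynomial_height_add k (a * b) m₀
    letI := Ideal.Quotient.field m₀
    rw [ringKrullDim_eq_zero_of_field, add_zero] at h
    exact_mod_cast h
  have hrne : r ≠ m₀ := by
    intro h
    rw [h, hm₀ht] at hht
    obtain ⟨h0, hh0⟩ := ENat.ne_top_iff_exists.mp
      (Ideal.height_ne_top (I := P k a b 0) (Ideal.IsPrime.ne_top inferInstance))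
    rw [← hh0] at hht hP0
    have e1 : a * b ≤ h0 + L.card := by exact_mod_cast hht
    have e2 : h0 + (a + b - 1) ≤ a * b := by exact_mod_cast hP0
    omega
  -- a nonzero point of the zero locus of `r`
  obtain ⟨v, hv, hv0⟩ : ∃ v ∈ zeroLocus k r, v ≠ 0 := by
    by_contra hcon
    push Not at hcon
    have hsub : zeroLocus k r ⊆ {(0 : Fin (a * b) → k)} := fun v hv => hcon v hv
    have h1 := vanishingIdeal_anti_mono (k := k) hsub
    rw [IsPrime.vanishingIdeal_zeroLocus] at h1
    exact hrne (le_antisymm hrm h1)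
  have hvan : ∀ f ∈ r, eval v f = 0 := fun f hf => hv f hf
  have hminor : ∀ (i p : Fin a) (j q : Fin b),
      v (finProdFinEquiv (i, j)) * v (finProdFinEquiv (p, q)) =
        v (finProdFinEquiv (i, q)) * v (finProdFinEquiv (p, j)) := by
    intro i p j q
    have := hvan _ (hr.1.2 (Ideal.mem_sup_left (minor_mem_P (k := k) i p j q)))
    simp only [map_sub, map_mul, eval_X] at this
    exact sub_eq_zero.mp this
  obtain ⟨m, hm⟩ : ∃ m, v m ≠ 0 := by
    by_contra h; push Not at h; exact hv0 (funext h)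
  obtain ⟨⟨p, q⟩, rfl⟩ := finProdFinEquiv.surjective m
  refine ⟨fun i => v (finProdFinEquiv (i, q)) / v (finProdFinEquiv (p, q)),
    fun j => v (finProdFinEquiv (p, j)), ?_, ?_, ?_⟩
  · intro h
    have := congrFun h p
    simp only [Pi.zero_apply] at this
    rw [div_self hm] at this
    exact one_ne_zero this
  · intro h
    exact hm (congrFun h q)
  · intro f hf
    have hveq : (fun m' => v (finProdFinEquiv ((finProdFinEquiv.symm m').1, q)) /
        v (finProdFinEquiv (p, q)) * v (finProdFinEquiv (p, (finProdFinEquiv.symm m').2))) = v := by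
      funext m'
      obtain ⟨⟨i, j⟩, rfl⟩ := finProdFinEquiv.surjective m'
      simp only [Equiv.symm_apply_apply]
      rw [div_mul_eq_mul_div, ← hminor i p j q, mul_div_assoc, div_self hm, mul_one]
    rw [hveq]
    exact hvan f (hr.1.2 (Ideal.mem_sup_right (Ideal.subset_span hf)))

end Groth.Agent.Lib.Helper1.SegreCone
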