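import Groth.Agent.Lib.Helper1.ArtEssential
import Mathlib.RingTheory.Etale.Field
import Mathlib.LinearAlgebra.Dual.Lemmas

set_option autoImplicit false
universe u v

open CategoryTheory

namespace Groth.Agent.Lib.Helper1.SepDer

open ArtFun ArtFun.Art Groth.Agent.Lib.Helper1.ArtFunBasic Groth.Agent.Lib.Helper1.ArtEssential

variable {Λ : Type u} {k : Type u} [CommRing Λ] [Field k] [Algebra Λ k]

attribute [local instance] resAlg

theorem ker_isMaximal [Module.Finite Λ k] : (RingHom.ker (algebraMap Λ k)).IsMaximal := by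
  haveI : Algebra.IsIntegral Λ k := Algebra.IsIntegral.of_finite Λ k
  have := Ideal.isMaximal_comap_of_isIntegral_of_isMaximal (R := Λ) (S := k) (⊥ : Ideal k)
  rwa [← RingHom.ker_eq_comap_bot] at this

/-- Abstract version: a local-ish ring `B` over `Λ` with a surjection to `k`. -/
theorem exists_der_ne_zero [Module.Finite Λ k]
    [Algebra.IsSeparable (↥(algebraMap Λ k).range) k]
    (B : Art Λ k) (j : B) (hj : j ∈ IsLocalRing.maximalIdeal B)
    (hj' : j ∉ Ideal.map (algebraMap Λ B) (RingHom.ker (algebraMap Λ k)) ⊔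
      IsLocalRing.maximalIdeal B ^ 2) :
    ∃ D : Derivation Λ B k, D j ≠ 0 := by
  classical
  haveI hImax : (RingHom.ker (algebraMap Λ k)).IsMaximal := ker_isMaximal
  letI : Field (Λ ⧸ RingHom.ker (algebraMap Λ k)) := Ideal.Quotient.field _
  let J : Ideal B := Ideal.map (algebraMap Λ B) (RingHom.ker (algebraMap Λ k)) ⊔
      IsLocalRing.maximalIdeal B ^ 2
  have hmem : ∀ b : B, b ∈ IsLocalRing.maximalIdeal B ↔ B.res b = 0 := fun b =>
    mem_maximalIdeal_iff B b
  have hJm : J ≤ IsLocalRing.maximalIdeal B := by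
    refine sup_le ?_ (Ideal.pow_le_self two_ne_zero)
    rw [Ideal.map_le_iff_le_comap]
    intro l hl
    rw [Ideal.mem_comap, hmem, AlgHom.commutes]
    exact hl
  letI algKk : Algebra (Λ ⧸ RingHom.ker (algebraMap Λ k)) k :=
    (Ideal.Quotient.lift _ (algebraMap Λ k) (fun a ha => ha)).toAlgebra
  letI algKB : Algebra (Λ ⧸ RingHom.ker (algebraMap Λ k)) (B ⧸ J) :=
    (Ideal.Quotient.lift _ ((Ideal.Quotient.mk J).comp (algebraMap Λ B)) (fun a ha => by
      rw [RingHom.comp_apply, Ideal.Quotient.eq_zero_iff_mem]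
      exact Ideal.mem_sup_left (Ideal.mem_map_of_mem _ ha))).toAlgebra
  have hfld : IsField (↥(algebraMap Λ k).range) :=
    (RingHom.quotientKerEquivRange (algebraMap Λ k)).symm.toMulEquiv.isField
      (Field.toIsField (Λ ⧸ RingHom.ker (algebraMap Λ k)))
  haveI : Algebra.IsSeparable (Λ ⧸ RingHom.ker (algebraMap Λ k)) k := by
    letI : Field (↥(algebraMap Λ k).range) := hfld.toField
    refine Algebra.IsSeparable.of_equiv_equiv (A₁ := ↥(algebraMap Λ k).range) (B₁ := k)
      (RingHom.quotientKerEquivRange (algebraMap Λ k)).symm (RingEquiv.refl k) ?_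
    ext ⟨y, l, rfl⟩
    have h1 : (RingHom.quotientKerEquivRange (algebraMap Λ k)).symm ⟨algebraMap Λ k l, l, rfl⟩ =
        Ideal.Quotient.mk _ l := by
      rw [RingEquiv.symm_apply_eq]
      rfl
    change algebraMap (Λ ⧸ RingHom.ker (algebraMap Λ k)) k
      ((RingHom.quotientKerEquivRange (algebraMap Λ k)).symm ⟨algebraMap Λ k l, l, rfl⟩) = algebraMap Λ k l
    rw [h1]
    rfl
  haveI : Algebra.FormallyEtale (Λ ⧸ RingHom.ker (algebraMap Λ k)) k :=
    Algebra.FormallyEtale.of_isSeparable _ k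
  haveI : Algebra.FormallySmooth (Λ ⧸ RingHom.ker (algebraMap Λ k)) k := inferInstance
  -- the residue map on the quotient
  let r₀ : B ⧸ J →+* k := Ideal.Quotient.lift J B.res.toRingHom
    (fun a ha => (hmem a).1 (hJm ha))
  let r : B ⧸ J →ₐ[Λ ⧸ RingHom.ker (algebraMap Λ k)] k :=
    { r₀ with
      commutes' := fun x => by
        obtain ⟨l, rfl⟩ := Ideal.Quotient.mk_surjective x
        change B.res (algebraMap Λ B l) = algebraMap Λ k l
        exact B.res.commutes l }
  have hr : ∀ b : B, r (Ideal.Quotient.mk J b) = B.res b := fun b => rfl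
  have hrsurj : Function.Surjective r := fun c => by
    obtain ⟨b, rfl⟩ := B.res_surjective c
    exact ⟨Ideal.Quotient.mk J b, rfl⟩
  have hsq : ∀ x y : B ⧸ J, r x = 0 → r y = 0 → x * y = 0 := by
    intro x y hx hy
    obtain ⟨a, rfl⟩ := Ideal.Quotient.mk_surjective x
    obtain ⟨b, rfl⟩ := Ideal.Quotient.mk_surjective y
    rw [hr] at hx hy
    rw [← map_mul, Ideal.Quotient.eq_zero_iff_mem]
    refine Ideal.mem_sup_right ?_
    rw [pow_two]
    exact Ideal.mul_mem_mul ((hmem a).2 hx) ((hmem b).2 hy)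
  have hnil : IsNilpotent (RingHom.ker (r : B ⧸ J →+* k)) := by
    refine ⟨2, ?_⟩
    rw [pow_two, Ideal.zero_eq_bot, eq_bot_iff, Ideal.mul_le]
    intro x hx y hy
    exact hsq x y hx hy
  let σ : k →ₐ[Λ ⧸ RingHom.ker (algebraMap Λ k)] (B ⧸ J) :=
    Algebra.FormallySmooth.liftOfSurjective (AlgHom.id _ k) r hrsurj hnil
  have hσ : ∀ c : k, r (σ c) = c := fun c =>
    Algebra.FormallySmooth.liftOfSurjective_apply (AlgHom.id _ k) r hrsurj hnil c
  letI algkB : Algebra k (B ⧸ J) := σ.toRingHom.toAlgebra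
  have hsmul : ∀ (c : k) (x : B ⧸ J), c • x = σ c * x := fun c x => Algebra.smul_def c x
  have hπj : Ideal.Quotient.mk J j ≠ 0 := fun h => hj' (Ideal.Quotient.eq_zero_iff_mem.1 h)
  obtain ⟨φ, hφ⟩ : ∃ φ : Module.Dual k (B ⧸ J), φ (Ideal.Quotient.mk J j) ≠ 0 := by
    by_contra hcon
    push Not at hcon
    exact hπj ((Module.forall_dual_apply_eq_zero_iff k _).1 hcon)
  have hσalg : ∀ l : Λ, σ (algebraMap Λ k l) = Ideal.Quotient.mk J (algebraMap Λ B l) := fun l =>
    σ.commutes (Ideal.Quotient.mk _ l)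
  let δ : B → B ⧸ J := fun b => Ideal.Quotient.mk J b - σ (B.res b)
  have hδ : ∀ b, δ b = Ideal.Quotient.mk J b - σ (B.res b) := fun b => rfl
  have hδr : ∀ b, r (δ b) = 0 := fun b => by rw [hδ, map_sub, hr, hσ, sub_self]
  have hδmul : ∀ a b : B, δ (a * b) = σ (B.res a) * δ b + σ (B.res b) * δ a := by
    intro a b
    have h0 := hsq _ _ (hδr a) (hδr b)
    rw [hδ, hδ] at h0
    rw [hδ, hδ, hδ, map_mul, map_mul, map_mul]
    linear_combination h0
  have hδsmul : ∀ (l : Λ) (b : B), δ (l • b) = σ (algebraMap Λ k l) * δ b := by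
    intro l b
    rw [hδ, hδ, Algebra.smul_def, map_mul, map_mul, AlgHom.commutes, map_mul, hσalg]
    ring
  have hδadd : ∀ a b : B, δ (a + b) = δ a + δ b := by
    intro a b
    rw [hδ, hδ, hδ, map_add, map_add, map_add]
    ring
  let L : B →ₗ[Λ] k :=
    { toFun := fun b => φ (δ b)
      map_add' := fun a b => by rw [hδadd, map_add]
      map_smul' := fun l b => by
        rw [hδsmul, ← hsmul, map_smul, RingHom.id_apply, smul_eq_mul, Algebra.smul_def] }
  have hL : ∀ b, L b = φ (δ b) := fun b => rfl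
  refine ⟨Derivation.mk' L (fun a b => ?_), ?_⟩
  · rw [hL, hL, hL, hδmul, map_add, ← hsmul, ← hsmul, map_smul, map_smul, smul_eq_mul, smul_eq_mul,
      Algebra.smul_def, Algebra.smul_def]
    rfl
  · change φ (δ j) ≠ 0
    rw [hδ, (hmem j).1 hj, map_zero, sub_zero]
    exact hφ

end Groth.Agent.Lib.Helper1.SepDer
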