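import Mathlib.CategoryTheory.Abelian.SerreClass.Localization
import Mathlib.CategoryTheory.Localization.CalculusOfFractions
import Mathlib.CategoryTheory.Limits.Preserves.Shapes.Kernels

/-!
# Full faithfulness of the functor induced on Serre quotients by a full exact subcategory
-/

set_option autoImplicit false
universe v u v' u' v'' u''
open CategoryTheory CategoryTheory.Limits

namespace Groth.Agent.Lib.Helper1.SerreFF

variable {A A' : Type u} [Category.{v} A] [Abelian A] [Category.{v} A'] [Abelian A']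
  (i : A' ⥤ A) [i.Full] [i.Faithful] [PreservesFiniteLimits i] [PreservesFiniteColimits i]
  (J : ObjectProperty A) [J.IsSerreClass] [(J.inverseImage i).IsSerreClass]

/-- `i` sends `J'`-isomorphisms to `J`-isomorphisms -/
lemma map_isoModSerre {M N : A'} (h : M ⟶ N) (hh : (J.inverseImage i).isoModSerre h) :
    J.isoModSerre (i.map h) := by
  constructor
  · exact J.prop_of_iso (PreservesKernel.iso i h) hh.1
  · exact J.prop_of_iso (PreservesCokernel.iso i h) hh.2

/-- (T): killing a `J`-subobject of `i N` by a `J'`-isomorphism out of `N` -/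
lemma exists_kill (hsub : ∀ (M : A') (N : A) (f : N ⟶ i.obj M), Mono f → J N → i.essImage N)
    {N : A'} {K : A} (k : K ⟶ i.obj N) (hK : J K) :
    ∃ (N' : A') (t : N ⟶ N'), (J.inverseImage i).isoModSerre t ∧ k ≫ i.map t = 0 := by
  have hJ : J (Abelian.image k) :=
    J.prop_of_epi (Abelian.factorThruImage k) hK
  have hess := hsub N (Abelian.image k) (Abelian.image.ι k) inferInstance hJ
  let N₁ := hess.witness
  let c : i.obj N₁ ≅ Abelian.image k := hess.getIso
  let n₁ : N₁ ⟶ N := i.preimage (c.hom ≫ Abelian.image.ι k)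
  have hn₁ : i.map n₁ = c.hom ≫ Abelian.image.ι k := i.map_preimage _
  haveI : Mono (i.map n₁) := by rw [hn₁]; infer_instance
  haveI : Mono n₁ := i.mono_of_mono_map inferInstance
  refine ⟨cokernel n₁, cokernel.π n₁, ?_, ?_⟩
  · rw [ObjectProperty.isoModSerre_iff_of_epi]
    have hlim := Abelian.monoIsKernelOfCokernel (f := n₁) _ (cokernelIsCokernel n₁)
    let e' : kernel (cokernel.π n₁) ≅ N₁ :=
      IsLimit.conePointUniqueUpToIso (kernelIsKernel (cokernel.π n₁)) hlim
    refine (J.inverseImage i).prop_of_iso e'.symm ?_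
    show J (i.obj N₁)
    exact J.prop_of_iso c.symm hJ
  · have : k = Abelian.factorThruImage k ≫ c.inv ≫ i.map n₁ := by
      rw [hn₁, Iso.inv_hom_id_assoc, Abelian.image.fac]
    rw [this, Category.assoc, Category.assoc, ← i.map_comp, cokernel.condition, i.map_zero,
      comp_zero, comp_zero]

/-- (R): replacing the source of a `J`-isomorphism into `i M` by an object of `A'` -/
lemma exists_replace (hquot : ∀ (M : A') (N : A) (p : i.obj M ⟶ N), Epi p → J N → i.essImage N)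
    {M : A'} {X : A} (s : X ⟶ i.obj M) (hs : J.isoModSerre s) :
    ∃ (M₁ : A') (ι₁ : M₁ ⟶ M) (p : X ⟶ i.obj M₁), (J.inverseImage i).isoModSerre ι₁ ∧ Epi p ∧
      p ≫ i.map ι₁ = s ∧ J (kernel p) := by
  have hess := hquot M (cokernel s) (cokernel.π s) inferInstance hs.2
  let Q₁ := hess.witness
  let c : i.obj Q₁ ≅ cokernel s := hess.getIso
  let q : M ⟶ Q₁ := i.preimage (cokernel.π s ≫ c.inv)
  have hq : i.map q = cokernel.π s ≫ c.inv := i.map_preimage _
  haveI : Epi (i.map q) := by rw [hq]; infer_instance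
  haveI : Epi q := i.epi_of_epi_map inferInstance
  have h0 : s ≫ i.map q = 0 := by rw [hq, ← Category.assoc, cokernel.condition, zero_comp]
  have hlim : IsLimit ((KernelFork.ofι (kernel.ι q) (kernel.condition q)).map i) :=
    KernelFork.mapIsLimit _ (kernelIsKernel q) i
  obtain ⟨p, hp'⟩ : ∃ p : X ⟶ i.obj (kernel q), p ≫ i.map (kernel.ι q) = s :=
    ⟨(KernelFork.IsLimit.lift' hlim s h0).1, (KernelFork.IsLimit.lift' hlim s h0).2⟩
  have hι0 : i.map (kernel.ι q) ≫ cokernel.π s = 0 := by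
    have h1 : i.map (kernel.ι q) ≫ i.map q = 0 := by
      rw [← i.map_comp, kernel.condition, i.map_zero]
    rw [hq, ← Category.assoc] at h1
    rw [← cancel_mono c.inv, zero_comp]
    exact h1
  have hker : IsLimit (KernelFork.ofι (i.map (kernel.ι q)) hι0) :=
    isKernelOfComp (f := cokernel.π s) c.inv (i.map q) hlim hι0 hq.symm
  let u : i.obj (kernel q) ≅ Abelian.image s :=
    IsLimit.conePointUniqueUpToIso hker (limit.isLimit (parallelPair (cokernel.π s) 0))
  have hu : u.hom ≫ Abelian.image.ι s = i.map (kernel.ι q) :=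
    IsLimit.conePointUniqueUpToIso_hom_comp hker (limit.isLimit (parallelPair (cokernel.π s) 0))
      WalkingParallelPair.zero
  have hpu : p ≫ u.hom = Abelian.factorThruImage s := by
    rw [← cancel_mono (Abelian.image.ι s), Category.assoc, hu, hp', Abelian.image.fac]
  have hpe : Epi p := by
    have : p = Abelian.factorThruImage s ≫ u.inv := by
      rw [← hpu, Category.assoc, Iso.hom_inv_id, Category.comp_id]
    rw [this]; infer_instance
  refine ⟨kernel q, kernel.ι q, p, ?_, hpe, hp', ?_⟩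
  · rw [ObjectProperty.isoModSerre_iff_of_mono]
    have hcolim := Abelian.epiIsCokernelOfKernel (f := q) _ (kernelIsKernel q)
    let e' : cokernel (kernel.ι q) ≅ Q₁ :=
      IsColimit.coconePointUniqueUpToIso (cokernelIsCokernel (kernel.ι q)) hcolim
    refine (J.inverseImage i).prop_of_iso e'.symm ?_
    show J (i.obj Q₁)
    exact J.prop_of_iso c.symm hs.2
  · haveI : Mono (i.map (kernel.ι q)) := inferInstance
    have hk : kernel.ι p ≫ s = 0 := by
      rw [← hp', ← Category.assoc, kernel.condition, zero_comp]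
    haveI : Mono (kernel.lift s (kernel.ι p) hk) :=
      mono_of_mono_fac (kernel.lift_ι s (kernel.ι p) hk)
    exact J.prop_of_mono (kernel.lift s (kernel.ι p) hk) hs.1

section Main

variable {Q : Type u'} [Category.{v'} Q] {Q' : Type u''} [Category.{v''} Q']

omit [Abelian A] [Abelian A'] [i.Full] [i.Faithful] [PreservesFiniteLimits i]
  [PreservesFiniteColimits i] in
lemma Φ_map_L' (L : A ⥤ Q) (L' : A' ⥤ Q') (Φ : Q' ⥤ Q) (e : L' ⋙ Φ ≅ i ⋙ L) {x y : A'}
    (h : x ⟶ y) :
    Φ.map (L'.map h) = (e.app x).hom ≫ L.map (i.map h) ≫ (e.app y).inv := by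
  have := e.hom.naturality h
  simp only [Functor.comp_map] at this
  rw [← Category.assoc, Iso.app_hom, ← this, Category.assoc]
  simp

variable (L : A ⥤ Q) [L.IsLocalization J.isoModSerre]
  (L' : A' ⥤ Q') [L'.IsLocalization (J.inverseImage i).isoModSerre]
  (Φ : Q' ⥤ Q) (e : L' ⋙ Φ ≅ i ⋙ L)

include e in
/-- (A): `Φ ∘ L'` detects equality of images under `L'` -/
lemma L'_map_eq_of_Φ
    (hquot : ∀ (M : A') (N : A) (p : i.obj M ⟶ N), Epi p → J N → i.essImage N)
    {x y : A'} (g g' : x ⟶ y) (h : Φ.map (L'.map g) = Φ.map (L'.map g')) :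
    L'.map g = L'.map g' := by
  rw [Φ_map_L' i L L' Φ e, Φ_map_L' i L L' Φ e] at h
  have h1 : L.map (i.map g) = L.map (i.map g') := by
    have := congrArg (fun k => (e.app x).inv ≫ k ≫ (e.app y).hom) h
    simpa using this
  obtain ⟨X, s, hs, hh⟩ := (MorphismProperty.map_eq_iff_precomp L J.isoModSerre _ _).1 h1
  obtain ⟨M₁, ι₁, p, hι₁, hpe, hp, -⟩ := exists_replace i J hquot s hs
  have h2 : i.map (ι₁ ≫ g) = i.map (ι₁ ≫ g') := by
    rw [← cancel_epi p, i.map_comp, i.map_comp, ← Category.assoc, ← Category.assoc, hp, hh]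
  have h3 : ι₁ ≫ g = ι₁ ≫ g' := i.map_injective h2
  haveI : IsIso (L'.map ι₁) := Localization.inverts L' _ ι₁ hι₁
  rw [← cancel_epi (L'.map ι₁), ← L'.map_comp, ← L'.map_comp, h3]

omit [i.Full] [i.Faithful] [PreservesFiniteLimits i] [PreservesFiniteColimits i] in
lemma exists_fraction {a b : A'} (f : L'.obj a ⟶ L'.obj b) :
    ∃ (a' : A') (s : a' ⟶ a) (_ : (J.inverseImage i).isoModSerre s) (g : a' ⟶ b),
      L'.map s ≫ f = L'.map g := by
  obtain ⟨φ, hφ⟩ := Localization.exists_rightFraction L' (J.inverseImage i).isoModSerre f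
  refine ⟨_, φ.s, φ.hs, φ.f, ?_⟩
  rw [hφ]
  exact φ.map_s_comp_map L' _

include e in
lemma faithful_aux
    (hquot : ∀ (M : A') (N : A) (p : i.obj M ⟶ N), Epi p → J N → i.essImage N)
    {a b : A'} (f₁ f₂ : L'.obj a ⟶ L'.obj b) (h : Φ.map f₁ = Φ.map f₂) :
    f₁ = f₂ := by
  obtain ⟨a₁, s₁, hs₁, g₁, h₁⟩ := exists_fraction i J L' f₁
  obtain ⟨a₃, s₃, hs₃, g₃, h₃⟩ := exists_fraction i J L' (L'.map s₁ ≫ f₂)
  have hs : (J.inverseImage i).isoModSerre (s₃ ≫ s₁) :=
    (J.inverseImage i).isoModSerre.comp_mem _ _ hs₃ hs₁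
  haveI : IsIso (L'.map (s₃ ≫ s₁)) := Localization.inverts L' _ _ hs
  have e1 : L'.map (s₃ ≫ s₁) ≫ f₂ = L'.map g₃ := by
    rw [L'.map_comp, Category.assoc, h₃]
  have e2 : L'.map (s₃ ≫ s₁) ≫ f₁ = L'.map (s₃ ≫ g₁) := by
    rw [L'.map_comp, Category.assoc, h₁, ← L'.map_comp]
  have e3 : Φ.map (L'.map g₃) = Φ.map (L'.map (s₃ ≫ g₁)) := by
    rw [← e1, ← e2, Φ.map_comp, Φ.map_comp, h]
  have e4 := L'_map_eq_of_Φ i J L L' Φ e hquot _ _ e3
  rw [← cancel_epi (L'.map (s₃ ≫ s₁)), e1, e2, e4]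

include e in
lemma full_aux
    (hsub : ∀ (M : A') (N : A) (f : N ⟶ i.obj M), Mono f → J N → i.essImage N)
    (hquot : ∀ (M : A') (N : A) (p : i.obj M ⟶ N), Epi p → J N → i.essImage N)
    {M N : A'} (ψ : Φ.obj (L'.obj M) ⟶ Φ.obj (L'.obj N)) :
    ∃ φ : L'.obj M ⟶ L'.obj N, Φ.map φ = ψ := by
  let ψ' : L.obj (i.obj M) ⟶ L.obj (i.obj N) := (e.app M).inv ≫ ψ ≫ (e.app N).hom
  obtain ⟨φr, hφ⟩ := Localization.exists_rightFraction L J.isoModSerre ψ'
  have h1 : L.map φr.s ≫ ψ' = L.map φr.f := by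
    rw [hφ]; exact φr.map_s_comp_map L _
  obtain ⟨M₁, ι₁, p, hι₁, hpe, hp, hK⟩ := exists_replace i J hquot φr.s φr.hs
  obtain ⟨N', t, ht, hkt⟩ := exists_kill i J hsub (kernel.ι p ≫ φr.f) hK
  let fb : i.obj M₁ ⟶ i.obj N' :=
    Abelian.epiDesc p (φr.f ≫ i.map t) (by rw [← Category.assoc]; exact hkt)
  have hfb : p ≫ fb = φr.f ≫ i.map t := Abelian.comp_epiDesc p _ _
  let f₂ : M₁ ⟶ N' := i.preimage fb
  have hf₂ : i.map f₂ = fb := i.map_preimage _
  have hWι : J.isoModSerre (i.map ι₁) := map_isoModSerre i J ι₁ hι₁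
  have hWp : J.isoModSerre p :=
    J.isoModSerre.of_postcomp (W' := J.isoModSerre) p (i.map ι₁) hWι (by rw [hp]; exact φr.hs)
  haveI : IsIso (L.map p) := Localization.inverts L _ p hWp
  haveI : IsIso (L'.map ι₁) := Localization.inverts L' _ ι₁ hι₁
  haveI : IsIso (L'.map t) := Localization.inverts L' _ t ht
  have key : L.map (i.map f₂) = L.map (i.map ι₁) ≫ ψ' ≫ L.map (i.map t) := by
    rw [← cancel_epi (L.map p), ← L.map_comp, hf₂, hfb, L.map_comp, ← h1, ← hp, L.map_comp]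
    simp only [Category.assoc]
  refine ⟨inv (L'.map ι₁) ≫ L'.map f₂ ≫ inv (L'.map t), ?_⟩
  haveI : IsIso (Φ.map (L'.map ι₁)) := inferInstance
  haveI : IsIso (Φ.map (L'.map t)) := inferInstance
  rw [← cancel_epi (Φ.map (L'.map ι₁)), ← cancel_mono (Φ.map (L'.map t)), ← Φ.map_comp,
    ← Φ.map_comp]
  simp only [Category.assoc, IsIso.inv_hom_id, Category.comp_id, IsIso.hom_inv_id_assoc]
  rw [Φ_map_L' i L L' Φ e, Φ_map_L' i L L' Φ e, Φ_map_L' i L L' Φ e, key]
  simp [ψ']

include e in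
theorem full_and_faithful
    (hsub : ∀ (M : A') (N : A) (f : N ⟶ i.obj M), Mono f → J N → i.essImage N)
    (hquot : ∀ (M : A') (N : A) (p : i.obj M ⟶ N), Epi p → J N → i.essImage N) :
    Φ.Full ∧ Φ.Faithful := by
  haveI : L'.EssSurj := Localization.essSurj L' (J.inverseImage i).isoModSerre
  constructor
  · refine ⟨fun {X Y} g => ?_⟩
    let iX := L'.objObjPreimageIso X
    let iY := L'.objObjPreimageIso Y
    obtain ⟨f, hf⟩ := full_aux i J L L' Φ e hsub hquot (Φ.map iX.hom ≫ g ≫ Φ.map iY.inv)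
    refine ⟨iX.inv ≫ f ≫ iY.hom, ?_⟩
    rw [Φ.map_comp, Φ.map_comp, hf]
    simp only [Category.assoc, ← Φ.map_comp, Iso.inv_hom_id, Φ.map_id, Category.comp_id]
    rw [← Category.assoc, ← Φ.map_comp, Iso.inv_hom_id, Φ.map_id, Category.id_comp]
  · refine ⟨fun {X Y} f₁ f₂ h => ?_⟩
    let iX := L'.objObjPreimageIso X
    let iY := L'.objObjPreimageIso Y
    have := faithful_aux i J L L' Φ e hquot (iX.hom ≫ f₁ ≫ iY.inv) (iX.hom ≫ f₂ ≫ iY.inv)
      (by simp only [Φ.map_comp, h])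
    rwa [cancel_epi, cancel_mono] at this

end Main

end Groth.Agent.Lib.Helper1.SerreFF
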