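import Groth.Agent.Lib.Helper1.ShriekProjNat
import Groth.Agent.Lib.Helper1.RestrExact
import Groth.Agent.Lib.Helper1.DerivedExact
import Groth.Prelude.Def_ModSite2

/-!
# Internal hom and local Ext sheaves commute with restriction to `C/X`
-/

set_option autoImplicit false
universe u
open CategoryTheory CategoryTheory.Limits

namespace Groth.Agent.Lib.Helper1.SheafHomRestr

open Groth.Agent.Lib.Helper1.ShriekProjNat Groth.Agent.Lib.Helper1.ShriekProj
  Groth.Agent.Lib.Helper1.ModFlat Groth.Agent.Lib.Helper1.ShriekSheaf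
  Groth.Agent.Lib.Helper1.RestrExact Groth.Agent.Lib.Helper1.DerivedExact

variable {C : Type u} [SmallCategory C] {J : GrothendieckTopology C}
  (O : Sheaf J CommRingCat.{u}) (X : C) (M : ModSite.Mod O)
  [ModSite.HasSheafHom M] [ModSite.HasSheafHom ((ModSite.restr O X).obj M)]

/-- `j^* Hom(M, -) ≅ Hom(j^* M, j^* -)` -/
noncomputable def sheafHomRestrIso :
    ModSite.sheafHom M ⋙ ModSite.restr O X ≅
      ModSite.restr O X ⋙ ModSite.sheafHom ((ModSite.restr O X).obj M) :=
  let A₁ : tens (O.over X) ((ModSite.restr O X).obj M) ⋙ ez' O X ⊣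
      ModSite.restr O X ⋙ ModSite.sheafHom ((ModSite.restr O X).obj M) :=
    (ModSite.sheafHomAdj ((ModSite.restr O X).obj M)).comp (ezAdj' O X)
  let A₂ : ez' O X ⋙ tens O M ⊣ ModSite.sheafHom M ⋙ ModSite.restr O X :=
    (ezAdj' O X).comp (ModSite.sheafHomAdj M)
  ((A₁.ofNatIsoLeft (projNatLeft O X M)).rightAdjointUniq A₂).symm

/-- local Ext sheaves commute with restriction -/
noncomputable def extShRestrIso [HasInjectiveResolutions (ModSite.Mod O)]
    [HasInjectiveResolutions (ModSite.Mod (O.over X))] (q : ℕ) :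
    ModSite.extSh M q ⋙ ModSite.restr O X ≅
      ModSite.restr O X ⋙ ModSite.extSh ((ModSite.restr O X).obj M) q :=
  rightDerivedCompIso (ModSite.restr O X) (ModSite.restr O X) (ModSite.sheafHom M)
    (ModSite.sheafHom ((ModSite.restr O X).obj M)) (sheafHomRestrIso O X M) q

end Groth.Agent.Lib.Helper1.SheafHomRestr
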