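import Mathlib.Algebra.Category.ModuleCat.Presheaf.Pushforward
import Mathlib.Algebra.DirectSum.Module
import Mathlib.CategoryTheory.Comma.Over.Basic
import Mathlib.Algebra.Category.ModuleCat.Presheaf.EpiMono

/-!
# Extension by zero of presheaves of modules along `Over X ⥤ C`
-/

set_option autoImplicit false
universe u
open CategoryTheory Opposite DirectSum
open scoped Classical

namespace Groth.Agent.Lib.Helper1.Shriek

variable {C : Type u} [SmallCategory C] (R : Cᵒᵖ ⥤ RingCat.{u}) (X : C)

/-- the restricted presheaf of rings on `Over X` -/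
abbrev RX : (Over X)ᵒᵖ ⥤ RingCat.{u} := (Over.forget X).op ⋙ R

variable {R X}
variable (P : PresheafOfModules.{u} (RX R X))

/-- the summand indexed by `φ` -/
abbrev summand {V : C} (φ : V ⟶ X) : Type u := P.obj (op (Over.mk φ))

instance {V : C} (φ : V ⟶ X) : Module (R.obj (op V)) (summand P φ) :=
  inferInstanceAs (Module ((RX R X).obj (op (Over.mk φ))) (P.obj (op (Over.mk φ))))

/-- sections of the extension by zero -/
abbrev Sec (V : C) : Type u := ⨁ (φ : V ⟶ X), summand P φ

/-- restriction on summands -/
noncomputable def resSummand {V W : C} (g : W ⟶ V) (φ : V ⟶ X) :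
    summand P φ →+ summand P (g ≫ φ) :=
  (P.presheaf.map (Over.homMk g : Over.mk (g ≫ φ) ⟶ Over.mk φ).op).hom

lemma resSummand_apply {V W : C} (g : W ⟶ V) (φ : V ⟶ X) (x : summand P φ) :
    resSummand P g φ x = P.map (Over.homMk g : Over.mk (g ≫ φ) ⟶ Over.mk φ).op x := rfl

/-- transport lemma for summand indices -/
lemma of_congr {V : C} {φ ψ : V ⟶ X} (h : φ = ψ) {Z : Over X} (a : Over.mk φ ⟶ Z)
    (b : Over.mk ψ ⟶ Z) (hab : a.left = b.left) (x : P.obj (op Z)) :
    DirectSum.of (fun φ : V ⟶ X => summand P φ) φ (P.map a.op x) =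
      DirectSum.of (fun φ : V ⟶ X => summand P φ) ψ (P.map b.op x) := by
  subst h
  have : a = b := Over.OverMorphism.ext hab
  subst this
  rfl

/-- restriction of sections -/
noncomputable def resSec {V W : C} (g : W ⟶ V) : Sec P V →+ Sec P W :=
  DirectSum.toAddMonoid (fun φ =>
    (DirectSum.of (fun ψ : W ⟶ X => summand P ψ) (g ≫ φ)).comp (resSummand P g φ))

@[simp]
lemma resSec_of {V W : C} (g : W ⟶ V) (φ : V ⟶ X) (x : summand P φ) :
    resSec P g (DirectSum.of _ φ x) =
      DirectSum.of (fun ψ : W ⟶ X => summand P ψ) (g ≫ φ) (resSummand P g φ x) := by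
  simp [resSec]

lemma resSec_id (V : C) : resSec P (𝟙 V) = AddMonoidHom.id _ := by
  refine DirectSum.addHom_ext (fun φ x => ?_)
  rw [resSec_of, resSummand_apply]
  refine (of_congr P (Category.id_comp φ) (Over.homMk (𝟙 V) : Over.mk (𝟙 V ≫ φ) ⟶ Over.mk φ)
    (𝟙 (Over.mk φ)) rfl x).trans ?_
  rw [op_id]
  erw [P.map_id]
  rfl

lemma resSec_comp {V W U : C} (g : W ⟶ V) (h : U ⟶ W) :
    resSec P (h ≫ g) = (resSec P h).comp (resSec P g) := by
  refine DirectSum.addHom_ext (fun φ x => ?_)
  rw [AddMonoidHom.comp_apply, resSec_of, resSec_of, resSec_of, resSummand_apply,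
    resSummand_apply, resSummand_apply]
  refine (of_congr P (Category.assoc h g φ)
    (Over.homMk (h ≫ g) : Over.mk ((h ≫ g) ≫ φ) ⟶ Over.mk φ)
    ((Over.homMk h : Over.mk (h ≫ g ≫ φ) ⟶ Over.mk (g ≫ φ)) ≫
      (Over.homMk g : Over.mk (g ≫ φ) ⟶ Over.mk φ)) rfl x).trans ?_
  rw [op_comp, PresheafOfModules.map_comp_apply]

/-- the underlying presheaf of abelian groups of the extension by zero -/
noncomputable def shriekAb : Cᵒᵖ ⥤ Ab.{u} where
  obj V := AddCommGrpCat.of (Sec P V.unop)
  map g := AddCommGrpCat.ofHom (resSec P g.unop)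
  map_id V := by
    ext : 1
    exact resSec_id P V.unop
  map_comp g h := by
    ext : 1
    exact resSec_comp P g.unop h.unop

instance (V : Cᵒᵖ) : Module (R.obj V) ((shriekAb P).obj V) :=
  inferInstanceAs (Module (R.obj (op V.unop)) (Sec P V.unop))

lemma resSec_smul {V W : C} (g : W ⟶ V) (r : R.obj (op V)) (s : Sec P V) :
    resSec P g (r • s) = (R.map g.op r : R.obj (op W)) • resSec P g s := by
  induction s using DirectSum.induction_on with
  | zero => simp
  | of φ x =>
    rw [← DirectSum.of_smul, resSec_of, resSec_of, ← DirectSum.of_smul]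
    congr 1
    exact P.map_smul (Over.homMk g : Over.mk (g ≫ φ) ⟶ Over.mk φ).op r x
  | add x y hx hy => rw [smul_add, map_add, hx, hy, map_add, smul_add]

/-- extension by zero of a presheaf of modules -/
noncomputable def shriekObj : PresheafOfModules.{u} R :=
  PresheafOfModules.ofPresheaf (shriekAb P) (fun V W g r s => resSec_smul P g.unop r s)

/-- restriction of presheaves of modules to `Over X` -/
noncomputable abbrev restrP : PresheafOfModules.{u} R ⥤ PresheafOfModules.{u} (RX R X) :=
  PresheafOfModules.pushforward₀ (Over.forget X) R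

/-- the inclusion of a summand, as a linear map -/
noncomputable def inclSummand {V : C} (φ : V ⟶ X) :
    summand P φ →ₗ[R.obj (op V)] (shriekObj P).obj (op V) :=
  DirectSum.lof (R.obj (op V)) (V ⟶ X) (fun φ => summand P φ) φ

variable {P}

/-- one direction of the adjunction -/
noncomputable def homEquivToFun {Q : PresheafOfModules.{u} R} (β : shriekObj P ⟶ Q) :
    P ⟶ (restrP (X := X)).obj Q where
  app Z := ModuleCat.ofHom ((β.app (op Z.unop.left)).hom ∘ₗ inclSummand P Z.unop.hom)
  naturality {Z Z'} f := by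
    ext x
    show β.app _ (inclSummand P (unop Z').hom (P.map f x)) =
      Q.map (f.unop.left.op) (β.app _ (inclSummand P (unop Z).hom x))
    rw [← PresheafOfModules.naturality_apply]
    congr 1
    show DirectSum.of (fun ψ : (unop Z').left ⟶ X => summand P ψ) (unop Z').hom (P.map f x) =
      resSec P f.unop.left (DirectSum.of (fun ψ : (unop Z).left ⟶ X => summand P ψ) (unop Z).hom x)
    rw [resSec_of]
    exact of_congr P (Over.w f.unop).symm f.unop
      (Over.homMk f.unop.left : Over.mk (f.unop.left ≫ (unop Z).hom) ⟶ Over.mk (unop Z).hom) rfl x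

/-- the other direction of the adjunction, objectwise -/
noncomputable def homEquivInvApp {Q : PresheafOfModules.{u} R} (ψ : P ⟶ (restrP (X := X)).obj Q)
    (V : C) : (shriekObj P).obj (op V) ⟶ Q.obj (op V) :=
  ModuleCat.ofHom (DirectSum.toModule (R.obj (op V)) (V ⟶ X) (Q.obj (op V))
    (fun φ => (ψ.app (op (Over.mk φ))).hom))

lemma homEquivInvApp_of {Q : PresheafOfModules.{u} R} (ψ : P ⟶ (restrP (X := X)).obj Q)
    (V : C) (φ : V ⟶ X) (x : summand P φ) :
    homEquivInvApp ψ V (DirectSum.of (fun ψ : V ⟶ X => summand P ψ) φ x) =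
      ψ.app (op (Over.mk φ)) x :=
  DirectSum.toModule_lof _ _ _

/-- the other direction of the adjunction -/
noncomputable def homEquivInvFun {Q : PresheafOfModules.{u} R} (ψ : P ⟶ (restrP (X := X)).obj Q) :
    shriekObj P ⟶ Q where
  app V := homEquivInvApp ψ V.unop
  naturality {V W} g := by
    ext s
    have key : ((homEquivInvApp ψ W.unop).hom.toAddMonoidHom.comp (resSec P g.unop)) =
        ((Q.map g).hom.toAddMonoidHom.comp (homEquivInvApp ψ V.unop).hom.toAddMonoidHom) := by
      refine DirectSum.addHom_ext (fun φ x => ?_)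
      show homEquivInvApp ψ W.unop (resSec P g.unop (DirectSum.of _ φ x)) =
        Q.map g (homEquivInvApp ψ V.unop (DirectSum.of _ φ x))
      rw [resSec_of, homEquivInvApp_of, homEquivInvApp_of, resSummand_apply]
      exact PresheafOfModules.naturality_apply ψ
        (Over.homMk g.unop : Over.mk (g.unop ≫ φ) ⟶ Over.mk φ).op x
    exact DFunLike.congr_fun key s

lemma homEquivToFun_app_apply {Q : PresheafOfModules.{u} R} (β : shriekObj P ⟶ Q)
    {V : C} (φ : V ⟶ X) (x : summand P φ) :
    (homEquivToFun β).app (op (Over.mk φ)) x =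
      β.app (op V) (DirectSum.of (fun ψ : V ⟶ X => summand P ψ) φ x) := rfl

variable (P) in
/-- the adjunction bijection -/
noncomputable def homEquiv (Q : PresheafOfModules.{u} R) :
    (shriekObj P ⟶ Q) ≃ (P ⟶ (restrP (X := X)).obj Q) where
  toFun := homEquivToFun
  invFun := homEquivInvFun
  left_inv β := by
    ext V s
    have key : ((homEquivInvFun (homEquivToFun β)).app V).hom.toAddMonoidHom =
        (β.app V).hom.toAddMonoidHom := by
      refine DirectSum.addHom_ext (fun φ x => ?_)
      exact homEquivInvApp_of (homEquivToFun β) V.unop φ x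
    exact DFunLike.congr_fun key s
  right_inv ψ := by
    ext Z x
    exact homEquivInvApp_of ψ Z.unop.left Z.unop.hom x

lemma homEquiv_naturality (Q Q' : PresheafOfModules.{u} R) (g : Q ⟶ Q') (h : shriekObj P ⟶ Q) :
    homEquiv P Q' (h ≫ g) = homEquiv P Q h ≫ (restrP (X := X)).map g := rfl

/-- extension by zero of presheaves of modules, as a functor -/
noncomputable def shriek : PresheafOfModules.{u} (RX R X) ⥤ PresheafOfModules.{u} R :=
  Adjunction.leftAdjointOfEquiv (fun P Q => homEquiv P Q)
    (fun P Q Q' g h => homEquiv_naturality Q Q' g h)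

/-- the adjunction between extension by zero and restriction, on presheaves of modules -/
noncomputable def shriekAdj : shriek (R := R) (X := X) ⊣ restrP :=
  Adjunction.adjunctionOfEquivLeft _ _

lemma shriek_map_app_of {P P' : PresheafOfModules.{u} (RX R X)} (f : P ⟶ P') {V : C}
    (φ : V ⟶ X) (x : summand P φ) :
    ((shriek (R := R) (X := X)).map f).app (op V)
        (DirectSum.of (fun ψ : V ⟶ X => summand P ψ) φ x) =
      DirectSum.of (fun ψ : V ⟶ X => summand P' ψ) φ (f.app (op (Over.mk φ)) x) := by
  show homEquivInvApp (f ≫ homEquivToFun (𝟙 _)) V _ = _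
  rw [homEquivInvApp_of]
  rfl

/-- extension by zero preserves monomorphisms -/
instance {P P' : PresheafOfModules.{u} (RX R X)} (f : P ⟶ P') [Mono f] :
    Mono ((shriek (R := R) (X := X)).map f) := by
  refine PresheafOfModules.mono_of_injective (fun V => ?_)
  have key : (((shriek (R := R) (X := X)).map f).app V).hom.toAddMonoidHom =
      DirectSum.map (fun φ : V.unop ⟶ X => (f.app (op (Over.mk φ))).hom.toAddMonoidHom) := by
    refine DirectSum.addHom_ext (fun φ x => ?_)
    refine (shriek_map_app_of f φ x).trans ?_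
    exact (DirectSum.map_of (fun φ : V.unop ⟶ X => (f.app (op (Over.mk φ))).hom.toAddMonoidHom)
      φ x).symm
  have hinj : Function.Injective
      (DirectSum.map (fun φ : V.unop ⟶ X => (f.app (op (Over.mk φ))).hom.toAddMonoidHom)) := by
    rw [DirectSum.map_injective]
    intro φ
    exact PresheafOfModules.injective_of_mono f _
  intro a b hab
  apply hinj
  rw [← key]
  exact hab

end Groth.Agent.Lib.Helper1.Shriek
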