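import Groth.Agent.Lib.Helper1.Shriek
import Mathlib.Algebra.Category.ModuleCat.Sheaf.PushforwardContinuous
import Mathlib.Algebra.Category.ModuleCat.Presheaf.Sheafification
import Mathlib.CategoryTheory.Adjunction.Restrict
import Mathlib.CategoryTheory.Sites.Over
import Groth.Prelude.Def_ModSite
import Mathlib.Algebra.Homology.ShortComplex.ExactFunctor

/-!
# Extension by zero of sheaves of modules: an explicit left adjoint of restriction to `Over X`
-/

set_option autoImplicit false
universe u
open CategoryTheory CategoryTheory.Limits Opposite

namespace Groth.Agent.Lib.Helper1.ShriekSheaf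

open Groth.Agent.Lib.Helper1.Shriek

variable {C : Type u} [SmallCategory C] {J : GrothendieckTopology C} (A : Sheaf J RingCat.{u}) (X : C)

/-- a right exact functor between abelian categories preserving monomorphisms is exact -/
lemma preservesFiniteLimits_of_preservesMono {𝒜 ℬ : Type*} [Category 𝒜] [Category ℬ]
    [Abelian 𝒜] [Abelian ℬ] (F : 𝒜 ⥤ ℬ) [PreservesFiniteColimits F]
    [F.PreservesMonomorphisms] : PreservesFiniteLimits F := by
  haveI : F.Additive := by
    have h : rightExactFunctor _ _ F := by
      rw [rightExactFunctor_iff]
      infer_instance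
    exact rightExactFunctor_le_additiveFunctor _ _ _ h
  rw [Functor.preservesFiniteLimits_iff_forall_exact_map_and_mono]
  intro S hS
  have h30 := (Functor.preservesFiniteColimits_tfae F).out 3 0
  have hex := h30.1 inferInstance S hS
  haveI := hS.mono_f
  exact ⟨hex.1, inferInstance⟩

/-- presheaves of modules over the restricted ring -/
abbrev PModX := PresheafOfModules.{u} (RX A.obj X)

/-- forgetting the sheaf condition over `X` -/
noncomputable abbrev inclX : SheafOfModules.{u} (A.over X) ⥤ PModX A X :=
  SheafOfModules.forget (A.over X)

/-- forgetting the sheaf condition (as right adjoint of sheafification) -/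
noncomputable abbrev incl : SheafOfModules.{u} A ⥤ PresheafOfModules.{u} A.obj :=
  SheafOfModules.forget A ⋙ PresheafOfModules.restrictScalars (𝟙 A.obj)

/-- sheafification -/
noncomputable abbrev shf : PresheafOfModules.{u} A.obj ⥤ SheafOfModules.{u} A :=
  PresheafOfModules.sheafification.{u} (𝟙 A.obj)

/-- the sheafification adjunction -/
noncomputable abbrev adjShf : shf A ⊣ incl A :=
  PresheafOfModules.sheafificationAdjunction (𝟙 A.obj)

/-- the explicit extension by zero -/
noncomputable def extZero' : SheafOfModules.{u} (A.over X) ⥤ SheafOfModules.{u} A :=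
  inclX A X ⋙ shriek (R := A.obj) (X := X) ⋙ shf A

/-- restriction commutes with forgetting the sheaf condition -/
noncomputable def comm2 : 𝟭 _ ⋙ (incl A ⋙ restrP (R := A.obj) (X := X)) ≅
    SheafOfModules.overFunctor.{u} A X ⋙ inclX A X :=
  NatIso.ofComponents (fun M => Iso.refl _) (by
    intro M M' f
    simp only [Iso.refl_hom, Category.comp_id, Category.id_comp]
    rfl)

/-- the adjunction between the explicit extension by zero and restriction -/
noncomputable def adj' : extZero' A X ⊣ SheafOfModules.overFunctor.{u} A X :=
  ((shriekAdj (R := A.obj) (X := X)).comp (adjShf A)).restrictFullyFaithful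
    (iC := inclX A X) (iD := 𝟭 _)
    (SheafOfModules.fullyFaithfulForget (A.over X)) (Functor.FullyFaithful.id _)
    (Functor.rightUnitor _).symm (comm2 A X)

instance : (SheafOfModules.overFunctor.{u} A X).IsRightAdjoint := (adj' A X).isRightAdjoint

instance : (extZero' A X).IsLeftAdjoint := (adj' A X).isLeftAdjoint

instance : (extZero' A X).PreservesMonomorphisms where
  preserves {M M'} f hf := by
    haveI := hf
    haveI : Mono ((inclX A X).map f) :=
      inferInstanceAs (Mono ((SheafOfModules.forget (A.over X)).map f))
    haveI : Mono ((shriek (R := A.obj) (X := X)).map ((inclX A X).map f)) := inferInstance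
    exact inferInstanceAs (Mono ((shf A).map
      ((shriek (R := A.obj) (X := X)).map ((inclX A X).map f))))

instance : PreservesFiniteLimits (extZero' A X) :=
  preservesFiniteLimits_of_preservesMono _

open Classical in
/-- the unit of the adjunction, on underlying presheaves -/
lemma inclX_map_unit_app_apply (M : SheafOfModules.{u} (A.over X)) (Z : (Over X)ᵒᵖ)
    (x : M.val.obj Z) :
    ((inclX A X).map ((adj' A X).unit.app M)).app Z x =
      ((adjShf A).unit.app ((shriek (R := A.obj) (X := X)).obj ((inclX A X).obj M))).app
        (op Z.unop.left)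
        (DirectSum.of (fun ψ : Z.unop.left ⟶ X => summand ((inclX A X).obj M) ψ) Z.unop.hom x) := by
  have h := Adjunction.map_restrictFullyFaithful_unit_app
    ((shriekAdj (R := A.obj) (X := X)).comp (adjShf A)) (iC := inclX A X) (iD := 𝟭 _)
    (SheafOfModules.fullyFaithfulForget (A.over X)) (Functor.FullyFaithful.id _)
    (Functor.rightUnitor _).symm (comm2 A X) M
  have h' : (inclX A X).map ((adj' A X).unit.app M) = _ := h
  rw [h']
  rfl

open Classical in
instance mono_unit (M : SheafOfModules.{u} (A.over X)) : Mono ((adj' A X).unit.app M) := by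
  haveI : Mono ((inclX A X).map ((adj' A X).unit.app M)) := by
    refine PresheafOfModules.mono_of_injective (fun Z => ?_)
    intro x x' hxx'
    rw [inclX_map_unit_app_apply, inclX_map_unit_app_apply] at hxx'
    set P := (inclX A X).obj M with hP
    -- local injectivity of the unit of sheafification
    have hli : Presheaf.IsLocallyInjective J ((PresheafOfModules.toPresheaf _).map
        ((adjShf A).unit.app ((shriek (R := A.obj) (X := X)).obj P))) := by
      show Presheaf.IsLocallyInjective J
        (toSheafify J ((shriek (R := A.obj) (X := X)).obj P).presheaf)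
      infer_instance
    have hS := hli.equalizerSieve_mem (X := op Z.unop.left)
      (DirectSum.of (fun ψ : Z.unop.left ⟶ X => summand P ψ) Z.unop.hom x)
      (DirectSum.of (fun ψ : Z.unop.left ⟶ X => summand P ψ) Z.unop.hom x') hxx'
    -- the corresponding covering sieve of `Z`
    have hS' : (Sieve.overEquiv Z.unop).symm _ ∈ (J.over X) Z.unop :=
      J.overEquiv_symm_mem_over Z.unop _ hS
    have hsep := ((isSheaf_iff_isSheaf_of_type _ _).1
      ((Presheaf.isSheaf_iff_isSheaf_forget (J.over X) M.val.presheaf
        (forget AddCommGrpCat)).1 M.isSheaf)).isSeparated _ hS'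
    refine hsep.ext ?_
    intro Z' f hf
    rw [Sieve.overEquiv_symm_iff] at hf
    -- `hf : resSec f.left (of φ x) = resSec f.left (of φ x')`
    have hf' : resSec P f.left (DirectSum.of _ Z.unop.hom x) =
        resSec P f.left (DirectSum.of _ Z.unop.hom x') := hf
    rw [resSec_of, resSec_of] at hf'
    have hf'' := DirectSum.of_injective _ hf'
    rw [resSummand_apply, resSummand_apply] at hf''
    -- transport along `Z' ≅ Over.mk (f.left ≫ Z.hom)`
    let k : Z' ⟶ Over.mk (f.left ≫ Z.unop.hom) := Over.homMk (𝟙 Z'.left) (by simp)
    have hk : f = k ≫ (Over.homMk f.left : Over.mk (f.left ≫ Z.unop.hom) ⟶ Over.mk Z.unop.hom) := by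
      ext
      simp [k]
    show M.val.map f.op x = M.val.map f.op x'
    rw [hk, op_comp, PresheafOfModules.map_comp_apply, PresheafOfModules.map_comp_apply]
    exact congrArg _ hf''
  haveI : (inclX A X).ReflectsMonomorphisms :=
    inferInstanceAs (SheafOfModules.forget (A.over X)).ReflectsMonomorphisms
  exact (inclX A X).mono_of_mono_map inferInstance

instance : (extZero' A X).Faithful := (adj' A X).faithful_L_of_mono_unit_app

end Groth.Agent.Lib.Helper1.ShriekSheaf
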