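import Groth.Agent.Lib.Helper1.ShriekSheaf
import Groth.Agent.Lib.Helper1.TensorRestr
import Mathlib.LinearAlgebra.DirectSum.TensorProduct

/-!
# Projection formula for extension by zero: presheaf level
-/

set_option autoImplicit false
universe u
open CategoryTheory CategoryTheory.Limits MonoidalCategory Opposite TensorProduct
open scoped Classical

namespace Groth.Agent.Lib.Helper1.ShriekTensor

open Groth.Agent.Lib.Helper1.Shriek Groth.Agent.Lib.Helper1.TensorAdj
  Groth.Agent.Lib.Helper1.TensorRestr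

variable {C : Type u} [SmallCategory C] {J : GrothendieckTopology C} (O : Sheaf J CommRingCat.{u})
  (X : C)

/-- extension by zero of presheaves of modules, typed on `PMod` -/
noncomputable abbrev sh : PMod (O.over X) ⥤ PMod O :=
  shriek (R := O.obj ⋙ forget₂ CommRingCat.{u} RingCat.{u}) (X := X)

/-- the adjunction, typed on `PMod` -/
noncomputable abbrev shAdj : sh O X ⊣ j₀ O X :=
  shriekAdj (R := O.obj ⋙ forget₂ CommRingCat.{u} RingCat.{u}) (X := X)

/-- the adjunction bijection, typed on `PMod` -/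
noncomputable def hEquiv (P : PMod (O.over X)) (Q : PMod O) :
    ((sh O X).obj P ⟶ Q) ≃ (P ⟶ (j₀ O X).obj Q) :=
  Shriek.homEquiv (R := O.obj ⋙ forget₂ CommRingCat.{u} RingCat.{u}) (X := X) P Q

/-- the unit, typed on `PMod` -/
noncomputable def unitP (P : PMod (O.over X)) : P ⟶ (j₀ O X).obj ((sh O X).obj P) :=
  hEquiv O X P _ (𝟙 _)

/-- the comparison map of the projection formula -/
noncomputable def θ (P : PMod (O.over X)) (N' : PMod O) :
    (sh O X).obj (P ⊗ (j₀ O X).obj N') ⟶ (sh O X).obj P ⊗ N' :=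
  (hEquiv O X (P ⊗ (j₀ O X).obj N') _).symm
    ((unitP O X P ▷ (j₀ O X).obj N') ≫ (μ' O X ((sh O X).obj P) N').hom)

variable {O X}

/-- summands, typed on `PMod` -/
abbrev summ (P : PMod (O.over X)) {V : C} (φ : V ⟶ X) : Type u :=
  summand (R := O.obj ⋙ forget₂ CommRingCat.{u} RingCat.{u}) (X := X) P φ

instance (P : PMod (O.over X)) {V : C} (φ : V ⟶ X) : Module (O.obj.obj (op V)) (summ P φ) :=
  inferInstanceAs (Module ((O.obj ⋙ forget₂ CommRingCat.{u} RingCat.{u}).obj (op V))
    (summand (R := O.obj ⋙ forget₂ CommRingCat.{u} RingCat.{u}) (X := X) P φ))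

lemma θ_app_of_tmul (P : PMod (O.over X)) (N' : PMod O) {V : C} (φ : V ⟶ X)
    (x : summ P φ) (n : N'.obj (op V)) :
    (θ O X P N').app (op V)
      (DirectSum.of (fun ψ : V ⟶ X => summ (MonoidalCategory.tensorObj P ((j₀ O X).obj N')) ψ) φ
        (x ⊗ₜ[O.obj.obj (op V)] n)) =
    (DirectSum.of (fun ψ : V ⟶ X => summ P ψ) φ x) ⊗ₜ[O.obj.obj (op V)] n := by
  refine (Shriek.homEquivInvApp_of (R := O.obj ⋙ forget₂ CommRingCat.{u} RingCat.{u}) (X := X)
    ((unitP O X P ▷ (j₀ O X).obj N') ≫ (μ' O X ((sh O X).obj P) N').hom) V φ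
    (x ⊗ₜ[O.obj.obj (op V)] n)).trans ?_
  rfl

/-- the distributivity isomorphism -/
noncomputable abbrev dsl (P : PMod (O.over X)) (N' : PMod O) (V : C) :=
  TensorProduct.directSumLeft (O.obj.obj (op V)) (O.obj.obj (op V)) (fun φ : V ⟶ X => summ P φ)
    (N'.obj (op V))

lemma dsl_θ (P : PMod (O.over X)) (N' : PMod O) (V : C)
    (s : ((sh O X).obj (MonoidalCategory.tensorObj P ((j₀ O X).obj N'))).obj (op V)) :
    dsl P N' V ((θ O X P N').app (op V) s) = s := by
  have key : ((dsl P N' V).toLinearMap.toAddMonoidHom.comp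
      ((θ O X P N').app (op V)).hom.toAddMonoidHom) = AddMonoidHom.id _ := by
    refine DirectSum.addHom_ext (fun φ t => ?_)
    let A : summ (MonoidalCategory.tensorObj P ((j₀ O X).obj N')) φ →+ _ :=
      ((dsl P N' V).toLinearMap.toAddMonoidHom.comp
        ((θ O X P N').app (op V)).hom.toAddMonoidHom).comp
        (DirectSum.of (fun ψ : V ⟶ X => summ (MonoidalCategory.tensorObj P ((j₀ O X).obj N')) ψ) φ)
    let B : summ (MonoidalCategory.tensorObj P ((j₀ O X).obj N')) φ →+ _ :=
      DirectSum.of (fun ψ : V ⟶ X => summ (MonoidalCategory.tensorObj P ((j₀ O X).obj N')) ψ) φ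
    show A t = B t
    refine TensorProduct.induction_on (motive := fun t => A t = B t) t ?_ ?_ ?_
    · exact (map_zero A).trans (map_zero B).symm
    · intro x n
      show dsl P N' V ((θ O X P N').app (op V) (DirectSum.of
        (fun ψ : V ⟶ X => summ (MonoidalCategory.tensorObj P ((j₀ O X).obj N')) ψ) φ
          ((x : summ P φ) ⊗ₜ[O.obj.obj (op V)] (n : N'.obj (op V))))) = _
      rw [θ_app_of_tmul]
      exact TensorProduct.directSumLeft_tmul_lof _ _ _ _ _
    · intro a b ha hb
      exact (map_add A a b).trans ((congrArg₂ (· + ·) ha hb).trans (map_add B a b).symm)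
  exact DFunLike.congr_fun key s

instance isIso_θ (P : PMod (O.over X)) (N' : PMod O) : IsIso (θ O X P N') := by
  haveI : IsIso ((PresheafOfModules.toPresheaf _).map (θ O X P N')) := by
    rw [NatTrans.isIso_iff_isIso_app]
    intro V
    rw [ConcreteCategory.isIso_iff_bijective]
    have hinj : Function.Injective ((θ O X P N').app V) := by
      intro a b hab
      rw [← dsl_θ P N' V.unop a, ← dsl_θ P N' V.unop b]
      exact congrArg _ hab
    refine ⟨hinj, fun y => ⟨(dsl P N' V.unop) y, ?_⟩⟩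
    apply (dsl P N' V.unop).injective
    exact dsl_θ P N' V.unop _
  exact isIso_of_reflects_iso (θ O X P N') (PresheafOfModules.toPresheaf _)

end Groth.Agent.Lib.Helper1.ShriekTensor
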