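import Groth.Agent.Lib.Helper1.StalkFlatConv2
import Groth.Agent.Lib.Helper1.PresRestrict

/-!
# A map to a finite type module which is surjective on a stalk is an epimorphism near the point
-/

set_option autoImplicit false
universe u
open CategoryTheory CategoryTheory.Limits Opposite

namespace Groth.Agent.Lib.Helper1.StalkEpi

open ModSite Groth.Agent.Lib.Helper1.EqCritMatrix Groth.Agent.Lib.Helper1.TensorAdj
  Groth.Agent.Lib.Helper1.StalkFlat Groth.Agent.Lib.Helper1.StalkFlatConv
  Groth.Agent.Lib.Helper1.PresRestrict Groth.Agent.Lib.Helper1.FinFreeSections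
  Groth.Agent.Lib.Helper1.LazardB Groth.Agent.Lib.Helper1.OverMapExact

variable {C : Type u} [SmallCategory C] {J : GrothendieckTopology C}
  (p : GrothendieckTopology.Point.{u} J) {O : Sheaf J CommRingCat.{u}}

theorem epi_restr_of_stalk_surj {G F : ModSite.Mod O} (φ : G ⟶ F) {U₀ : C} (x₀ : p.fiber.obj U₀)
    {I₀ : Type u} [Fintype I₀]
    (π₀ : SheafOfModules.free (R := ModSite.ringSh (O.over U₀)) I₀ ⟶ (ModSite.restr O U₀).obj F)
    [Epi π₀] (hx : Function.Surjective (stalkMap p φ).hom) :
    ∃ (V : C) (q : V ⟶ U₀) (y : p.fiber.obj V), p.fiber.map q y = x₀ ∧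
      Epi ((ModSite.restr O V).map φ) := by
  classical
  let s : I₀ → (under O F).obj (op U₀) := fun j =>
    π₀.val.app (op (top U₀)) (bas (R := ModSite.ringSh (O.over U₀)) (X := top U₀) I₀ j)
  choose γ hγ using fun j => hx (germ p F U₀ x₀ (s j))
  let e : I₀ ≃ Fin (Fintype.card I₀) := Fintype.equivFin I₀
  obtain ⟨U₁, q₁, x₁, hx₁, -, g', -, hg'⟩ := exists_lift_over p G x₀ (A := Fin 0)
    (B := Fin (Fintype.card I₀)) Fin.elim0 (fun k => γ (e.symm k))
  have hgerm : ∀ k, germ p F U₁ x₁ ((φ.val.app (op U₁)).hom (g' k)) =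
      germ p F U₁ x₁ (res F q₁ (s (e.symm k))) := by
    intro k
    rw [germ_res'' p F q₁ x₁ x₀ hx₁, ← stalkMap_germ, hg' k]
    exact hγ (e.symm k)
  obtain ⟨V, q₂, y, hy, heq⟩ := exists_nbhd_eq p F x₁
    (fun k => (φ.val.app (op U₁)).hom (g' k)) (fun k => res F q₁ (s (e.symm k))) hgerm
  refine ⟨V, q₂ ≫ q₁, y, ?_, ?_⟩
  · rw [CategoryTheory.Functor.map_comp_apply, hy, hx₁]
  · let q : V ⟶ U₀ := q₂ ≫ q₁
    let γ' : SheafOfModules.free (R := ModSite.ringSh (O.over V)) I₀ ⟶ (ModSite.restr O V).obj G :=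
      ofVals (topIsTerminal V) _ (fun j => res G q₂ (g' (e j)))
    have hcomp : γ' ≫ (ModSite.restr O V).map φ = π' O q π₀ := by
      refine free_hom_ext (topIsTerminal V) _ _ (fun j => ?_)
      have h1 : ((Γ (ModSite.ringSh (O.over V)) (X := top V)).map
          (γ' ≫ (ModSite.restr O V).map φ)).hom
          (bas (R := ModSite.ringSh (O.over V)) (X := top V) I₀ j) =
          (φ.val.app (op V)).hom (res G q₂ (g' (e j))) := by
        have := ofVals_bas (topIsTerminal V) ((ModSite.restr O V).obj G)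
          (fun j => res G q₂ (g' (e j))) j
        rw [Functor.map_comp]
        exact congrArg (φ.val.app (op V)).hom this
      have h2 : ((Γ (ModSite.ringSh (O.over V)) (X := top V)).map (π' O q π₀)).hom
          (bas (R := ModSite.ringSh (O.over V)) (X := top V) I₀ j) =
          F.val.map (Q q).hom.op (s j) := π'_bas O q (π := π₀) j
      rw [h1, h2]
      have h3 : (φ.val.app (op V)).hom (res G q₂ (g' (e j))) =
          res F q₂ ((φ.val.app (op U₁)).hom (g' (e j))) :=
        (PresheafOfModules.naturality_apply φ.val q₂.op (g' (e j)))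
      rw [h3, heq (e j), Equiv.symm_apply_apply, ← res_comp]
      have h4 : (Q q).hom = q₂ ≫ q₁ := Category.id_comp _
      rw [h4]
      rfl
    haveI : Epi (π' O q π₀) := by
      unfold π'
      infer_instance
    haveI : Epi (γ' ≫ (ModSite.restr O V).map φ) := by
      rw [hcomp]
      infer_instance
    exact epi_of_epi γ' _

end Groth.Agent.Lib.Helper1.StalkEpi
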