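import Groth.Prelude.Def_ModSite2
import Groth.Agent.Lib.Helper1.EqCritMatrix
import Mathlib.RingTheory.Flat.EquationalCriterion

/-!
# The stalk of a flat module at a point of the site is flat
-/

set_option autoImplicit false
universe u
open CategoryTheory CategoryTheory.Limits Opposite

namespace Groth.Agent.Lib.Helper1.StalkFlat

open ModSite Groth.Agent.Lib.Helper1.EqCritMatrix Groth.Agent.Lib.Helper1.TensorAdj

variable {C : Type u} [SmallCategory C] {J : GrothendieckTopology C}
  (p : GrothendieckTopology.Point.{u} J) {O : Sheaf J CommRingCat.{u}}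

lemma germRing_res {X Y : C} (g : Y ⟶ X) (y : p.fiber.obj Y) (r : O.obj.obj (op X)) :
    germRing p Y y ((O.obj.map g.op).hom r) = germRing p X (p.fiber.map g y) r :=
  p.toPresheafFiber_w_apply g y O.obj r

lemma germ_res (F : ModSite.Mod O) {X Y : C} (g : Y ⟶ X) (y : p.fiber.obj Y) (s : sect F X) :
    germ p F Y y (((toAb F).obj.map g.op).hom s) = germ p F X (p.fiber.map g y) s :=
  p.toPresheafFiber_w_apply g y (toAb F).obj s

lemma germRing_res' {X : C} {x : p.fiber.obj X} {Y : C} {y : p.fiber.obj Y}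
    (g : (Functor.elementsMk p.fiber Y y) ⟶ (Functor.elementsMk p.fiber X x))
    (r : O.obj.obj (op X)) :
    germRing p X x r = germRing p Y y ((O.obj.map g.1.op).hom r) := by
  rw [germRing_res]
  exact (congrArg (fun t => germRing p X t r) g.2).symm

lemma germ_res' (F : ModSite.Mod O) {X : C} {x : p.fiber.obj X} {Y : C} {y : p.fiber.obj Y}
    (g : (Functor.elementsMk p.fiber Y y) ⟶ (Functor.elementsMk p.fiber X x))
    (s : sect F X) :
    germ p F X x s = germ p F Y y (((toAb F).obj.map g.1.op).hom s) := by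
  rw [germ_res]
  exact (congrArg (fun t => germ p F X t s) g.2).symm

lemma exists_common_nbhd (F : ModSite.Mod O) {l : ℕ} (f : Fin l → stalkRing p O)
    (x : Fin l → stalkAb p F) :
    ∃ (X : C) (x₀ : p.fiber.obj X) (f' : Fin l → O.obj.obj (op X)) (s : Fin l → sect F X),
      (∀ i, germRing p X x₀ (f' i) = f i) ∧ (∀ i, germ p F X x₀ (s i) = x i) := by
  classical
  have h1 : ∀ i, ∃ (X : C) (x₁ : p.fiber.obj X) (r : O.obj.obj (op X)), germRing p X x₁ r = f i :=
    fun i => p.toPresheafFiber_jointly_surjective (P := O.obj) (f i)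
  have h2 : ∀ i, ∃ (Y : C) (y₁ : p.fiber.obj Y) (m : sect F Y), germ p F Y y₁ m = x i :=
    fun i => p.toPresheafFiber_jointly_surjective (P := (toAb F).obj) (x i)
  choose X₁ x₁ r hr using h1
  choose Y₁ y₁ m hm using h2
  let o₁ : Fin l → p.fiber.Elements := fun i => Functor.elementsMk p.fiber (X₁ i) (x₁ i)
  let o₂ : Fin l → p.fiber.Elements := fun i => Functor.elementsMk p.fiber (Y₁ i) (y₁ i)
  obtain ⟨S, hS⟩ := IsCofiltered.inf_objs_exists (Finset.univ.image o₁ ∪ Finset.univ.image o₂)
  have g₁ : ∀ i, S ⟶ o₁ i := fun i =>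
    (hS (Finset.mem_union_left _ (Finset.mem_image_of_mem _ (Finset.mem_univ i)))).some
  have g₂ : ∀ i, S ⟶ o₂ i := fun i =>
    (hS (Finset.mem_union_right _ (Finset.mem_image_of_mem _ (Finset.mem_univ i)))).some
  refine ⟨S.1, S.2, fun i => (O.obj.map (g₁ i).1.op).hom (r i),
    fun i => ((toAb F).obj.map (g₂ i).1.op).hom (m i), fun i => ?_, fun i => ?_⟩
  · rw [← hr i]
    exact (germRing_res' p (Y := S.1) (y := S.2) (g₁ i) (r i)).symm
  · rw [← hm i]
    exact (germ_res' p F (Y := S.1) (y := S.2) (g₂ i) (m i)).symm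

lemma germ_sum (F : ModSite.Mod O) (X : C) (x₀ : p.fiber.obj X) {κ : Type*} (σ : Finset κ)
    (s : κ → sect F X) :
    germ p F X x₀ (∑ k ∈ σ, s k) = ∑ k ∈ σ, germ p F X x₀ (s k) :=
  map_sum (p.toPresheafFiber X x₀ (toAb F).obj).hom s σ

lemma germRing_sum (X : C) (x₀ : p.fiber.obj X) {κ : Type*} (σ : Finset κ)
    (r : κ → O.obj.obj (op X)) :
    germRing p X x₀ (∑ k ∈ σ, r k) = ∑ k ∈ σ, germRing p X x₀ (r k) :=
  map_sum (p.toPresheafFiber X x₀ O.obj).hom r σ

theorem flat_stalk (F : ModSite.Mod O) (hF : ModSite.IsFlat F) :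
    Module.Flat (stalkRing p O) (stalkMod p F) := by
  apply Module.Flat.of_forall_isTrivialRelation
  intro l f x hrel
  obtain ⟨X, x₀, f', s, hf, hs⟩ := exists_common_nbhd p F f x
  have h0 : germ p F X x₀ (∑ i, f' i • s i) = germ p F X x₀ 0 := by
    rw [germ_sum]
    have : germ p F X x₀ 0 = 0 := map_zero (p.toPresheafFiber X x₀ (toAb F).obj).hom
    rw [this, ← hrel]
    refine Finset.sum_congr rfl (fun i _ => ?_)
    rw [germ_smul, hf, hs]
  obtain ⟨Y, g, y, hy, hg⟩ := (p.toPresheafFiber_eq_iff' (P := (toAb F).obj) X x₀ _ _).mp h0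
  have hrelY : ∑ i, (O.obj.map g.op (f' i)) • res F g (s i) = 0 := by
    have e1 : res F g (∑ i, (f' i • s i : (under O F).obj (op X))) = 0 := by
      refine Eq.trans hg ?_
      exact map_zero ((toAb F).obj.map g.op).hom
    rw [res_sum] at e1
    rw [← e1]
    refine Finset.sum_congr rfl (fun i _ => ?_)
    exact (res_smul F g (f' i) (s i)).symm
  obtain ⟨S, hS, hloc⟩ := eqCrit_one F hF Y (fun i => O.obj.map g.op (f' i))
    (fun i => res F g (s i)) hrelY
  obtain ⟨V, g', hg', v, hv⟩ := p.jointly_surjective S hS y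
  obtain ⟨k, t, a, h1, h2⟩ := hloc g' hg'
  refine ⟨k, fun i j => germRing p V v (a i j), fun j => germ p F V v (t j), ?_, ?_⟩
  · intro i
    have e1 : x i = germ p F V v (res F g' (res F g (s i))) := by
      rw [← hs i]
      have a1 : germ p F X x₀ (s i) = germ p F Y y (res F g (s i)) := by
        have := germ_res p F g y (s i)
        rw [hy] at this
        exact this.symm
      have a2 : germ p F Y y (res F g (s i)) = germ p F V v (res F g' (res F g (s i))) := by
        have := germ_res p F g' v (res F g (s i))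
        rw [hv] at this
        exact this.symm
      exact a1.trans a2
    rw [e1, h1 i]
    refine (germ_sum p F V v _ _).trans ?_
    refine Finset.sum_congr rfl (fun j _ => ?_)
    exact germ_smul p F V v (a i j) (t j)
  · intro j
    have e2 : ∀ i, f i = germRing p V v (O.obj.map g'.op (O.obj.map g.op (f' i))) := by
      intro i
      rw [← hf i]
      have a1 : germRing p X x₀ (f' i) = germRing p Y y (O.obj.map g.op (f' i)) := by
        have := germRing_res p g y (f' i)
        rw [hy] at this
        exact this.symm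
      have a2 : germRing p Y y (O.obj.map g.op (f' i)) =
          germRing p V v (O.obj.map g'.op (O.obj.map g.op (f' i))) := by
        have := germRing_res p g' v (O.obj.map g.op (f' i))
        rw [hv] at this
        exact this.symm
      exact a1.trans a2
    have e3 := congrArg (germRing p V v) (h2 j)
    rw [germRing_sum] at e3
    have e4 : germRing p V v (0 : O.obj.obj (op V)) = 0 :=
      map_zero (p.toPresheafFiber V v O.obj).hom
    rw [e4] at e3
    rw [← e3]
    refine Finset.sum_congr rfl (fun i _ => ?_)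
    rw [e2 i]
    refine Eq.trans (mul_comm _ _) ?_
    exact (map_mul (p.toPresheafFiber V v O.obj).hom _ _).symm

end Groth.Agent.Lib.Helper1.StalkFlat
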