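import Groth.Agent.Lib.Helper1.StalkFlat
import Groth.Agent.Lib.Helper1.FreeOnMap
import Mathlib.CategoryTheory.Sites.Point.Conservative
import Mathlib.LinearAlgebra.TensorProduct.Vanishing

/-!
# A module on a ringed site with flat stalks at a conservative family of points is flat
-/

set_option autoImplicit false
universe u
open CategoryTheory CategoryTheory.Limits MonoidalCategory Opposite TensorProduct

namespace Groth.Agent.Lib.Helper1.StalkFlatConv

open ModSite Groth.Agent.Lib.Helper1.EqCritMatrix Groth.Agent.Lib.Helper1.TensorAdj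
  Groth.Agent.Lib.Helper1.EqCrit Groth.Agent.Lib.Helper1.StalkFlat

variable {C : Type u} [SmallCategory C] {J : GrothendieckTopology C}
  (p : GrothendieckTopology.Point.{u} J) {O : Sheaf J CommRingCat.{u}}

lemma germ_zero (F : ModSite.Mod O) (X : C) (x : p.fiber.obj X) :
    germ p F X x 0 = 0 :=
  map_zero (p.toPresheafFiber X x (toAb F).obj).hom

lemma germ_add (F : ModSite.Mod O) (X : C) (x : p.fiber.obj X) (s t : sect F X) :
    germ p F X x (s + t) = germ p F X x s + germ p F X x t :=
  map_add (p.toPresheafFiber X x (toAb F).obj).hom s t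

lemma stalkMap_germ {G G' : ModSite.Mod O} (φ : G ⟶ G') (X : C) (x : p.fiber.obj X)
    (s : sect G X) :
    (stalkMap p φ).hom (germ p G X x s) = germ p G' X x ((φ.val.app (op X)).hom s) :=
  p.toPresheafFiber_naturality_apply ((SheafOfModules.toSheaf (ringSh O)).map φ).hom X x s

/-- germs along a refinement -/
lemma germ_res'' (F : ModSite.Mod O) {X Y : C} (g : Y ⟶ X) (y : p.fiber.obj Y) (x : p.fiber.obj X)
    (hy : p.fiber.map g y = x) (s : sect F X) :
    germ p F Y y (res F g s) = germ p F X x s := by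
  have := germ_res p F g y s
  rw [hy] at this
  exact this

lemma germRing_res'' {X Y : C} (g : Y ⟶ X) (y : p.fiber.obj Y) (x : p.fiber.obj X)
    (hy : p.fiber.map g y = x) (r : O.obj.obj (op X)) :
    germRing p Y y (O.obj.map g.op r) = germRing p X x r := by
  have := germRing_res p g y r
  rw [hy] at this
  exact this

lemma exists_nbhd_eq (F : ModSite.Mod O) {X : C} (x : p.fiber.obj X) :
    ∀ {n : ℕ} (s s' : Fin n → sect F X), (∀ i, germ p F X x (s i) = germ p F X x (s' i)) →
    ∃ (Y : C) (g : Y ⟶ X) (y : p.fiber.obj Y), p.fiber.map g y = x ∧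
      ∀ i, res F g (s i) = res F g (s' i) := by
  intro n
  induction n with
  | zero =>
    intro s s' _
    exact ⟨X, 𝟙 X, x, by simp, fun i => i.elim0⟩
  | succ n ih =>
    intro s s' h
    obtain ⟨Y, g, y, hy, hg⟩ := ih (fun i => s i.castSucc) (fun i => s' i.castSucc)
      (fun i => h i.castSucc)
    have h0 : germ p F Y y (res F g (s (Fin.last n))) = germ p F Y y (res F g (s' (Fin.last n))) := by
      rw [germ_res'' p F g y x hy, germ_res'' p F g y x hy]
      exact h (Fin.last n)
    obtain ⟨Z, g', z, hz, hg'⟩ := (p.toPresheafFiber_eq_iff' (P := (toAb F).obj) Y y _ _).mp h0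
    refine ⟨Z, g' ≫ g, z, ?_, ?_⟩
    · rw [CategoryTheory.Functor.map_comp_apply, hz, hy]
    · intro i
      rw [res_comp, res_comp]
      refine Fin.lastCases ?_ (fun j => ?_) i
      · exact hg'
      · rw [hg j]

lemma exists_lift_over (F : ModSite.Mod O) {V : C} (y : p.fiber.obj V) {A B : Type} [Finite A]
    [Finite B] (f : A → stalkRing p O) (m : B → stalkAb p F) :
    ∃ (W : C) (g : W ⟶ V) (z : p.fiber.obj W), p.fiber.map g z = y ∧
      ∃ (f' : A → O.obj.obj (op W)) (m' : B → sect F W),
        (∀ a, germRing p W z (f' a) = f a) ∧ (∀ b, germ p F W z (m' b) = m b) := by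
  classical
  cases nonempty_fintype A
  cases nonempty_fintype B
  have h1 : ∀ a, ∃ (X : C) (x₁ : p.fiber.obj X) (r : O.obj.obj (op X)), germRing p X x₁ r = f a :=
    fun a => p.toPresheafFiber_jointly_surjective (P := O.obj) (f a)
  have h2 : ∀ b, ∃ (Y : C) (y₁ : p.fiber.obj Y) (s : sect F Y), germ p F Y y₁ s = m b :=
    fun b => p.toPresheafFiber_jointly_surjective (P := (toAb F).obj) (m b)
  choose X₁ x₁ r hr using h1
  choose Y₁ y₁ s hs using h2
  let o₁ : A → p.fiber.Elements := fun a => Functor.elementsMk p.fiber (X₁ a) (x₁ a)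
  let o₂ : B → p.fiber.Elements := fun b => Functor.elementsMk p.fiber (Y₁ b) (y₁ b)
  let o₃ : p.fiber.Elements := Functor.elementsMk p.fiber V y
  obtain ⟨S, hS⟩ := IsCofiltered.inf_objs_exists
    (insert o₃ (Finset.univ.image o₁ ∪ Finset.univ.image o₂))
  have g₁ : ∀ a, S ⟶ o₁ a := fun a =>
    (hS (Finset.mem_insert_of_mem (Finset.mem_union_left _
      (Finset.mem_image_of_mem _ (Finset.mem_univ a))))).some
  have g₂ : ∀ b, S ⟶ o₂ b := fun b =>
    (hS (Finset.mem_insert_of_mem (Finset.mem_union_right _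
      (Finset.mem_image_of_mem _ (Finset.mem_univ b))))).some
  have g₃ : S ⟶ o₃ := (hS (Finset.mem_insert_self _ _)).some
  refine ⟨S.1, g₃.1, S.2, g₃.2, fun a => (O.obj.map (g₁ a).1.op).hom (r a),
    fun b => ((toAb F).obj.map (g₂ b).1.op).hom (s b), fun a => ?_, fun b => ?_⟩
  · rw [← hr a]
    exact (germRing_res' p (Y := S.1) (y := S.2) (g₁ a) (r a)).symm
  · rw [← hs b]
    exact (germ_res' p F (Y := S.1) (y := S.2) (g₂ b) (s b)).symm

section Pure

variable {G F : ModSite.Mod O}

lemma pure_zero_left {W : C} (t : (under O F).obj (op W)) :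
    pure O (0 : (under O G).obj (op W)) t = 0 := by
  rw [pure_def, TensorProduct.zero_tmul]
  exact map_zero ((η O G F).app (op W)).hom

lemma pure_sum_left {W : C} {κ : Type*} (σ : Finset κ) (x : κ → (under O G).obj (op W))
    (t : (under O F).obj (op W)) :
    pure O (∑ k ∈ σ, x k) t = ∑ k ∈ σ, pure O (x k) t := by
  classical
  induction σ using Finset.induction_on with
  | empty => simpa using pure_zero_left (G := G) t
  | insert a σ ha ih => rw [Finset.sum_insert ha, Finset.sum_insert ha, pure_add_left, ih]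

lemma pure_sum_right {W : C} {κ : Type*} (σ : Finset κ) (x : (under O G).obj (op W))
    (t : κ → (under O F).obj (op W)) :
    pure O x (∑ k ∈ σ, t k) = ∑ k ∈ σ, pure O x (t k) := by
  classical
  induction σ using Finset.induction_on with
  | empty => simpa using pure_zero_right (F := F) x
  | insert a σ ha ih => rw [Finset.sum_insert ha, Finset.sum_insert ha, pure_add_right, ih]

lemma isLocallyInjective_η (G F : ModSite.Mod O) :
    Presheaf.IsLocallyInjective J ((PresheafOfModules.toPresheaf _).map (η O G F)) := by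
  show Presheaf.IsLocallyInjective J (toSheafify J (under O G ⊗ under O F).presheaf)
  infer_instance

theorem local_zero_of_pure_sum_zero {V : C} {l : ℕ} (a : Fin l → (under O G).obj (op V))
    (t : Fin l → (under O F).obj (op V)) (h : ∑ k, pure O (a k) (t k) = 0) :
    ∃ S ∈ J V, ∀ ⦃W : C⦄ (g : W ⟶ V), S g →
      ∑ k, (res G g (a k)) ⊗ₜ[O.obj.obj (op W)] (res F g (t k)) = 0 := by
  have hli := isLocallyInjective_η G F
  have h' : ((PresheafOfModules.toPresheaf _).map (η O G F)).app (op V)
      (∑ k, (a k) ⊗ₜ[O.obj.obj (op V)] (t k)) =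
      ((PresheafOfModules.toPresheaf _).map (η O G F)).app (op V) 0 := by
    have e1 : ((η O G F).app (op V)).hom (∑ k, (a k) ⊗ₜ[O.obj.obj (op V)] (t k)) =
        ∑ k, pure O (a k) (t k) := map_sum ((η O G F).app (op V)).hom _ _
    have e2 : ((η O G F).app (op V)).hom 0 = 0 := map_zero _
    exact (e1.trans h).trans e2.symm
  have hS := hli.equalizerSieve_mem (X := op V) _ _ h'
  refine ⟨_, hS, fun W g hg => ?_⟩
  have hg' : (under O G ⊗ under O F).presheaf.map g.op
      (∑ k, (a k) ⊗ₜ[O.obj.obj (op V)] (t k)) =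
      (under O G ⊗ under O F).presheaf.map g.op 0 := hg
  have e3 : (under O G ⊗ under O F).presheaf.map g.op 0 = 0 :=
    map_zero ((under O G ⊗ under O F).presheaf.map g.op).hom
  rw [e3] at hg'
  have e4 : (under O G ⊗ under O F).presheaf.map g.op
      (∑ k, (a k) ⊗ₜ[O.obj.obj (op V)] (t k)) =
      ∑ k, (under O G ⊗ under O F).presheaf.map g.op ((a k) ⊗ₜ[O.obj.obj (op V)] (t k)) :=
    map_sum ((under O G ⊗ under O F).presheaf.map g.op).hom _ _
  have e5 : (∑ k, (res G g (a k)) ⊗ₜ[O.obj.obj (op W)] (res F g (t k))) =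
      (under O G ⊗ under O F).presheaf.map g.op
        (∑ k, (a k) ⊗ₜ[O.obj.obj (op V)] (t k)) := by
    rw [e4]
    rfl
  exact e5.trans hg'

end Pure

end Groth.Agent.Lib.Helper1.StalkFlatConv
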