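import Groth.Agent.Lib.Helper1.StalkFlatConv

/-!
# A module on a ringed site with flat stalks at a conservative family of points is flat (part 2)
-/

set_option autoImplicit false
universe u
open CategoryTheory CategoryTheory.Limits MonoidalCategory Opposite TensorProduct

namespace Groth.Agent.Lib.Helper1.StalkFlatConv

open ModSite Groth.Agent.Lib.Helper1.EqCritMatrix Groth.Agent.Lib.Helper1.TensorAdj
  Groth.Agent.Lib.Helper1.EqCrit Groth.Agent.Lib.Helper1.StalkFlat Groth.Agent.Lib.Helper1.ModFlat

variable {C : Type u} [SmallCategory C] {J : GrothendieckTopology C}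
  (p : GrothendieckTopology.Point.{u} J) {O : Sheaf J CommRingCat.{u}}

section GermTensor

variable (G F : ModSite.Mod O) (W : C) (z : p.fiber.obj W)

/-- germ with values in the stalk module, with sections typed via `under` -/
noncomputable def gm (a : (under O G).obj (op W)) : stalkMod p G := germ p G W z a

lemma gm_zero : gm p G W z 0 = 0 := germ_zero p G W z
lemma gm_add (a a' : (under O G).obj (op W)) : gm p G W z (a + a') = gm p G W z a + gm p G W z a' :=
  germ_add p G W z a a'
lemma gm_smul (r : O.obj.obj (op W)) (a : (under O G).obj (op W)) :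
    gm p G W z (r • a) = germRing p W z r • gm p G W z a :=
  germ_smul p G W z r a

/-- `a ⊗ t ↦ germ a ⊗ germ t` -/
noncomputable def germTensor :
    ((under O G).obj (op W) ⊗[O.obj.obj (op W)] (under O F).obj (op W)) →+
      (stalkMod p G ⊗[stalkRing p O] stalkMod p F) :=
  TensorProduct.liftAddHom
    { toFun := fun a =>
        { toFun := fun t => gm p G W z a ⊗ₜ[stalkRing p O] gm p F W z t
          map_zero' := by rw [gm_zero, TensorProduct.tmul_zero]
          map_add' := fun t t' => by rw [gm_add, TensorProduct.tmul_add] }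
      map_zero' := by
        ext t
        show gm p G W z 0 ⊗ₜ[stalkRing p O] gm p F W z t = 0
        rw [gm_zero, TensorProduct.zero_tmul]
      map_add' := fun a a' => by
        ext t
        show gm p G W z (a + a') ⊗ₜ[stalkRing p O] gm p F W z t =
          gm p G W z a ⊗ₜ[stalkRing p O] gm p F W z t + gm p G W z a' ⊗ₜ[stalkRing p O] gm p F W z t
        rw [gm_add, TensorProduct.add_tmul] }
    (fun r a t => by
      show gm p G W z (r • a) ⊗ₜ[stalkRing p O] gm p F W z t =
          gm p G W z a ⊗ₜ[stalkRing p O] gm p F W z (r • t)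
      rw [gm_smul, gm_smul]
      exact TensorProduct.smul_tmul _ _ _)

lemma germTensor_tmul (a : (under O G).obj (op W)) (t : (under O F).obj (op W)) :
    germTensor p G F W z (a ⊗ₜ[O.obj.obj (op W)] t) =
      gm p G W z a ⊗ₜ[stalkRing p O] gm p F W z t :=
  rfl

end GermTensor


section Spread

variable {G F : ModSite.Mod O}

/-- a trivially vanishing sum of pure tensors vanishes -/
lemma pure_sum_zero_of_trivial {W : C} {l k : ℕ} (a : Fin l → (under O G).obj (op W))
    (t : Fin l → (under O F).obj (op W)) (β : Fin l → Fin k → O.obj.obj (op W))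
    (y : Fin k → (under O F).obj (op W)) (h1 : ∀ i, t i = ∑ j, β i j • y j)
    (h2 : ∀ j, ∑ i, β i j • a i = 0) :
    ∑ i, pure O (a i) (t i) = 0 := by
  have e1 : ∀ i, pure O (a i) (t i) = ∑ j, pure O (β i j • a i) (y j) := by
    intro i
    rw [h1 i, pure_sum_right]
    refine Finset.sum_congr rfl (fun j _ => ?_)
    exact (pure_smul (β i j) (a i) (y j)).symm
  rw [Finset.sum_congr rfl (fun i _ => e1 i), Finset.sum_comm]
  refine Finset.sum_eq_zero (fun j _ => ?_)
  rw [← pure_sum_left, h2 j, pure_zero_left]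

/-- simultaneous refinement for two modules -/
lemma exists_nbhd_eq₂ (F G : ModSite.Mod O) {X : C} (x : p.fiber.obj X) {n m : ℕ}
    (s s' : Fin n → sect F X) (u u' : Fin m → sect G X)
    (hs : ∀ i, germ p F X x (s i) = germ p F X x (s' i))
    (hu : ∀ j, germ p G X x (u j) = germ p G X x (u' j)) :
    ∃ (Y : C) (g : Y ⟶ X) (y : p.fiber.obj Y), p.fiber.map g y = x ∧
      (∀ i, res F g (s i) = res F g (s' i)) ∧ (∀ j, res G g (u j) = res G g (u' j)) := by
  obtain ⟨Y, g, y, hy, hg⟩ := exists_nbhd_eq p F x s s' hs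
  obtain ⟨Z, g', z, hz, hg'⟩ := exists_nbhd_eq p G y (fun j => res G g (u j))
    (fun j => res G g (u' j)) (fun j => by
      rw [germ_res'' p G g y x hy, germ_res'' p G g y x hy]
      exact hu j)
  refine ⟨Z, g' ≫ g, z, ?_, fun i => ?_, fun j => ?_⟩
  · rw [CategoryTheory.Functor.map_comp_apply, hz, hy]
  · rw [res_comp, res_comp, hg i]
  · rw [res_comp, res_comp]
    exact hg' j


/-- a sum of pure tensors whose germ vanishes in `G_p ⊗ F_p` vanishes on a neighbourhood, if `F_p`
is flat -/
theorem spread_zero (hFp : Module.Flat (stalkRing p O) (stalkMod p F)) {W : C} (z : p.fiber.obj W)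
    {l : ℕ} (a : Fin l → (under O G).obj (op W)) (t : Fin l → (under O F).obj (op W))
    (h : ∑ i, gm p G W z (a i) ⊗ₜ[stalkRing p O] gm p F W z (t i) = 0) :
    ∃ (W' : C) (g : W' ⟶ W) (z' : p.fiber.obj W'), p.fiber.map g z' = z ∧
      ∑ i, pure O (res G g (a i)) (res F g (t i)) = 0 := by
  have hinj : Function.Injective (LinearMap.rTensor (stalkMod p F)
      (Submodule.span (stalkRing p O) (Set.range (fun i => gm p G W z (a i)))).subtype) :=
    Module.Flat.rTensor_preserves_injective_linearMap _ (Submodule.subtype_injective _)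
  obtain ⟨k, α, y, h1, h2⟩ :=
    TensorProduct.vanishesTrivially_of_sum_tmul_eq_zero_of_rTensor_injective (stalkRing p O) hinj h
  obtain ⟨W₁, g₁, z₁, hz₁, α', y', hα, hy⟩ :=
    exists_lift_over p F z (fun ij : Fin l × Fin k => α ij.1 ij.2) y
  have hF0 : ∀ i, germ p F W₁ z₁ (res F g₁ (t i)) =
      germ p F W₁ z₁ (∑ j, (α' (i, j) • y' j : (under O F).obj (op W₁))) := by
    intro i
    rw [germ_res'' p F g₁ z₁ z hz₁, germ_sum]
    refine (h1 i).trans ?_
    refine Finset.sum_congr rfl (fun j _ => ?_)
    rw [germ_smul, hα, hy]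
  have hG0 : ∀ j, germ p G W₁ z₁ (∑ i, (α' (i, j) • res G g₁ (a i) : (under O G).obj (op W₁))) =
      germ p G W₁ z₁ (0 : (under O G).obj (op W₁)) := by
    intro j
    rw [germ_sum]
    refine Eq.trans ?_ (germ_zero p G W₁ z₁).symm
    refine Eq.trans ?_ (h2 j)
    refine Finset.sum_congr rfl (fun i _ => ?_)
    refine (germ_smul p G W₁ z₁ _ _).trans ?_
    rw [hα, germ_res'' p G g₁ z₁ z hz₁]
    rfl
  obtain ⟨W₂, g₂, z₂, hz₂, hF, hG⟩ := exists_nbhd_eq₂ p F G z₁ (fun i => res F g₁ (t i))
    (fun i => ∑ j, (α' (i, j) • y' j : (under O F).obj (op W₁)))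
    (fun j => ∑ i, (α' (i, j) • res G g₁ (a i) : (under O G).obj (op W₁)))
    (fun _ => (0 : (under O G).obj (op W₁))) hF0 hG0
  refine ⟨W₂, g₂ ≫ g₁, z₂, ?_, ?_⟩
  · rw [CategoryTheory.Functor.map_comp_apply, hz₂, hz₁]
  · refine pure_sum_zero_of_trivial _ _ (fun i j => O.obj.map g₂.op (α' (i, j)))
      (fun j => res F g₂ (y' j)) (fun i => ?_) (fun j => ?_)
    · rw [res_comp, hF i]
      refine (res_sum F g₂ _ _).trans ?_
      refine Finset.sum_congr rfl (fun j _ => ?_)
      exact res_smul F g₂ _ _
    · have e := hG j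
      rw [res_zero] at e
      rw [← e]
      refine Eq.trans ?_ (res_sum G g₂ _ _).symm
      refine Finset.sum_congr rfl (fun i _ => ?_)
      rw [res_comp]
      exact (res_smul G g₂ _ _).symm

end Spread


section StalkMono

lemma app_injective_of_mono {G G' : ModSite.Mod O} (ι : G ⟶ G') [Mono ι] (X : C) :
    Function.Injective ((underMap O ι).app (op X)) := by
  haveI : (incl O).PreservesMonomorphisms := Functor.preservesMonomorphisms_of_adjunction (adj O)
  haveI : Mono (underMap O ι) := inferInstanceAs (Mono ((incl O).map ι))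
  exact PresheafOfModules.injective_of_mono (underMap O ι) (op X)

lemma stalkMap_injective {G G' : ModSite.Mod O} (ι : G ⟶ G') [Mono ι] :
    Function.Injective (stalkMap p ι).hom := by
  rw [injective_iff_map_eq_zero]
  intro a ha
  obtain ⟨X, x, s, rfl⟩ := p.toPresheafFiber_jointly_surjective (P := (toAb G).obj) a
  have ha' : germ p G' X x ((ι.val.app (op X)).hom s) = germ p G' X x 0 :=
    ((stalkMap_germ p ι X x s).symm.trans ha).trans (germ_zero p G' X x).symm
  obtain ⟨Y, g, y, hy, hg⟩ := (p.toPresheafFiber_eq_iff' (P := (toAb G').obj) X x _ _).mp ha'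
  have h1 : (underMap O ι).app (op Y) (res G g s) = 0 := by
    have n := PresheafOfModules.naturality_apply (underMap O ι) g.op s
    refine n.trans ?_
    refine Eq.trans hg ?_
    exact res_zero G' g
  have h2 : res G g s = 0 := by
    apply app_injective_of_mono ι Y
    rw [h1]
    exact (map_zero ((underMap O ι).app (op Y)).hom).symm
  have h3 := germ_res'' p G g y x hy s
  rw [h2] at h3
  exact h3.symm.trans (germ_zero p G Y y)

end StalkMono


section Main

variable {G G' F : ModSite.Mod O}

/-- at a point where `F_p` is flat, a section of `G ⊗ F` killed by `ι ⊗ F` (`ι` mono) vanishes on a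
neighbourhood of the point -/
theorem local_vanish (hFp : Module.Flat (stalkRing p O) (stalkMod p F)) (ι : G ⟶ G') [Mono ι]
    {U : C} (w : ((incl O).obj ((tens O F).obj G)).obj (op U))
    (hw : ((incl O).map ((tens O F).map ι)).app (op U) w = 0) (x : p.fiber.obj U) :
    ∃ (V : C) (g : V ⟶ U) (y : p.fiber.obj V), p.fiber.map g y = x ∧
      ((incl O).obj ((tens O F).obj G)).map g.op w = 0 := by
  obtain ⟨S, hS, hloc⟩ := exists_local_pure (G := G) (F := F) w
  obtain ⟨V, g, hg, y, hy⟩ := p.jointly_surjective S hS x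
  obtain ⟨l, a, t, hat⟩ := hloc g hg
  have h0 : ∑ k, pure O ((underMap O ι).app (op V) (a k)) (t k) = 0 := by
    have n := PresheafOfModules.naturality_apply ((incl O).map ((tens O F).map ι)) g.op w
    rw [hw, hat] at n
    have e1 : ((incl O).map ((tens O F).map ι)).app (op V) (∑ k, pure O (a k) (t k)) =
        ∑ k, ((incl O).map ((tens O F).map ι)).app (op V) (pure O (a k) (t k)) :=
      map_sum (((incl O).map ((tens O F).map ι)).app (op V)).hom _ _
    rw [e1] at n
    have e2 : ((incl O).obj ((tens O F).obj G')).map g.op 0 = 0 :=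
      map_zero (((incl O).obj ((tens O F).obj G')).map g.op).hom
    rw [e2] at n
    refine Eq.trans ?_ n
    refine Finset.sum_congr rfl (fun k _ => ?_)
    exact (map_pure ι (a k) (t k)).symm
  obtain ⟨S', hS', hloc'⟩ := local_zero_of_pure_sum_zero (G := G') (F := F) _ t h0
  obtain ⟨W, g', hg', z, hz⟩ := p.jointly_surjective S' hS' y
  have h1 := hloc' g' hg'
  have h2 := congrArg (germTensor p G' F W z) h1
  rw [map_sum, map_zero] at h2
  have h3 : (LinearMap.rTensor (stalkMod p F) (stalkMap p ι).hom)
      (∑ k, gm p G W z (res G g' (a k)) ⊗ₜ[stalkRing p O] gm p F W z (res F g' (t k))) = 0 := by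
    rw [map_sum]
    refine Eq.trans ?_ h2
    refine Finset.sum_congr rfl (fun k _ => ?_)
    rw [LinearMap.rTensor_tmul, germTensor_tmul]
    congr 1
    refine (stalkMap_germ p ι W z _).trans ?_
    refine congrArg (germ p G' W z) ?_
    exact (PresheafOfModules.naturality_apply (underMap O ι) g'.op (a k))
  have h4 := Module.Flat.rTensor_preserves_injective_linearMap (M := stalkMod p F)
    (stalkMap p ι).hom (stalkMap_injective p ι) (h3.trans (map_zero _).symm)
  obtain ⟨W', g'', z', hz', hfin⟩ := spread_zero p hFp z _ _ h4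
  refine ⟨W', g'' ≫ g' ≫ g, z', ?_, ?_⟩
  · rw [CategoryTheory.Functor.map_comp_apply, CategoryTheory.Functor.map_comp_apply, hz', hz, hy]
  · have c1 : ((incl O).obj ((tens O F).obj G)).map (g'' ≫ g' ≫ g).op w =
        ((incl O).obj ((tens O F).obj G)).map (g'' ≫ g').op
          (((incl O).obj ((tens O F).obj G)).map g.op w) := by
      rw [← Category.assoc, op_comp, PresheafOfModules.map_comp]
      rfl
    rw [c1, hat]
    refine (map_sum (((incl O).obj ((tens O F).obj G)).map (g'' ≫ g').op).hom _ _).trans ?_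
    refine Eq.trans ?_ hfin
    refine Finset.sum_congr rfl (fun k _ => ?_)
    refine (res_pure (g'' ≫ g') (a k) (t k)).trans ?_
    have r1 : (under O G).map (g'' ≫ g').op (a k) = res G g'' (res G g' (a k)) :=
      res_comp G g' g'' (a k)
    have r2 : (under O F).map (g'' ≫ g').op (t k) = res F g'' (res F g' (t k)) :=
      res_comp F g' g'' (t k)
    rw [r1, r2]


/-- the sieve of arrows along which a section vanishes -/
def zeroSieve (M : PMod O) {U : C} (w : M.obj (op U)) : Sieve U where
  arrows V g := M.map g.op w = 0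
  downward_closed := by
    intro V V' g hg h
    show M.map (h ≫ g).op w = 0
    have c : M.map (h ≫ g).op w = M.map h.op (M.map g.op w) := by
      rw [op_comp, PresheafOfModules.map_comp]
      rfl
    rw [c, hg]
    exact map_zero (M.map h.op).hom

theorem isFlat_of_flat_stalks (P : ObjectProperty (GrothendieckTopology.Point.{u} J))
    (hP : P.IsConservativeFamilyOfPoints) (F : ModSite.Mod O)
    (hF : ∀ p : GrothendieckTopology.Point.{u} J, P p →
      Module.Flat (stalkRing p O) (stalkMod p F)) : ModSite.IsFlat F := by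
  rw [ModFlat.isFlat_iff]
  constructor
  intro G G' ι _
  haveI : (incl O).ReflectsMonomorphisms := Functor.reflectsMonomorphisms_of_faithful _
  apply (incl O).mono_of_mono_map
  apply PresheafOfModules.mono_of_injective
  intro X
  rw [injective_iff_map_eq_zero]
  intro w hw
  induction X using Opposite.rec with
  | op U =>
  let S₀ : Sieve U := zeroSieve ((incl O).obj ((tens O F).obj G)) w
  have hS₀ : S₀ ∈ J U := by
    let I : Type u := Σ V : C, {g : V ⟶ U // S₀ g}
    have hle : Sieve.ofArrows (fun i : I => i.1) (fun i => i.2.1) ≤ S₀ := by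
      rw [Sieve.generate_le_iff, Presieve.ofArrows_le_iff]
      exact fun i => i.2.2
    refine J.superset_covering hle ?_
    rw [hP.jointly_reflect_ofArrows_mem]
    intro Φ x
    obtain ⟨V, g, y, hy, hg⟩ := local_vanish Φ.obj (hF Φ.obj Φ.property) ι w hw x
    exact ⟨⟨V, g, hg⟩, y, hy⟩
  refine FreeOnMap.sec_ext O ((tens O F).obj G) S₀ hS₀ w 0 (fun V g hg => ?_)
  refine Eq.trans hg ?_
  exact (map_zero (((incl O).obj ((tens O F).obj G)).map g.op).hom).symm

end Main

end Groth.Agent.Lib.Helper1.StalkFlatConv
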