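import Mathlib.CategoryTheory.Sites.Pullback
import Mathlib.CategoryTheory.Sites.CoverLifting
import Mathlib.CategoryTheory.Sites.Over
import Mathlib.CategoryTheory.Functor.KanExtension.Adjunction

/-!
# The unit of `j_! ⊣ j^*` for a subterminal object `U`
-/

set_option autoImplicit false
universe v u w w'
open CategoryTheory CategoryTheory.Limits Opposite

namespace Groth.Agent.Lib.Helper1.SubtermUnit

variable {C : Type u} [Category.{v} C] (J : GrothendieckTopology C) (U : C)

/-- if every object has at most one map to `U`, the forgetful functor `Over U ⥤ C` is full -/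
lemma full_forget (hU : ∀ V : C, Subsingleton (V ⟶ U)) : (Over.forget U).Full where
  map_surjective {X Y} f := ⟨Over.homMk f (Subsingleton.elim (h := hU _) _ _), rfl⟩

variable (A : Type w) [Category.{w'} A]
  [HasWeakSheafify J A] [HasWeakSheafify (J.over U) A]
  [∀ (P : (Over U)ᵒᵖ ⥤ A), (Over.forget U).op.HasPointwiseLeftKanExtension P]
  [∀ (P : (Over U)ᵒᵖ ⥤ A), (Over.forget U).op.HasPointwiseRightKanExtension P]

/-- the unit of the constructed adjunction is an isomorphism -/
theorem isIso_unit_construction (hU : ∀ V : C, Subsingleton (V ⟶ U))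
    (F : Sheaf (J.over U) A) :
    IsIso ((Functor.sheafPullbackConstruction.sheafAdjunctionContinuous
      (Over.forget U) A (J.over U) J).unit.app F) := by
  haveI := full_forget U hU
  let G := Over.forget U
  let Q : Cᵒᵖ ⥤ A := G.op.lan.obj F.obj
  -- the presheaf level unit is an isomorphism
  haveI h1 : IsIso (G.op.lanUnit.app F.obj) := inferInstance
  have hsh : Presheaf.IsSheaf (J.over U) (G.op ⋙ Q) :=
    (Presheaf.isSheaf_of_iso_iff (asIso (G.op.lanUnit.app F.obj))).1 F.property
  haveI h2 : IsIso (toSheafify (J.over U) (G.op ⋙ Q)) := isIso_toSheafify _ hsh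
  have h3 := G.toSheafify_pullbackSheafificationCompatibility A (J.over U) J Q
  haveI h4 : IsIso (Functor.whiskerLeft G.op (toSheafify J Q)) := by
    rw [← h3]
    haveI : IsIso ((G.pushforwardContinuousSheafificationCompatibility A (J.over U) J).hom.app Q).hom :=
      (inferInstance : IsIso ((sheafToPresheaf (J.over U) A).map
        ((G.pushforwardContinuousSheafificationCompatibility A (J.over U) J).hom.app Q)))
    exact @IsIso.comp_isIso _ _ _ _ _ _ _ h2 this
  haveI : IsIso ((sheafToPresheaf (J.over U) A).map
      ((Functor.sheafPullbackConstruction.sheafAdjunctionContinuous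
        G A (J.over U) J).unit.app F)) := by
    unfold Functor.sheafPullbackConstruction.sheafAdjunctionContinuous
    rw [Adjunction.map_restrictFullyFaithful_unit_app, Adjunction.comp_unit_app]
    rw [Functor.lanAdjunction_unit]
    dsimp
    haveI h5 : IsIso (G.op.lanUnit.app F.obj ≫
        G.op.whiskerLeft (toSheafify J (G.op.lan.obj F.obj))) :=
      @IsIso.comp_isIso _ _ _ _ _ _ _ h1 h4
    haveI h6 : IsIso (G.op.whiskerLeft
        (𝟙 ((presheafToSheaf J A).obj (G.op.lan.obj F.obj)).obj)) := by
      haveI : IsIso (𝟙 ((presheafToSheaf J A).obj (G.op.lan.obj F.obj)).obj) := inferInstance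
      exact (inferInstance : IsIso (((Functor.whiskeringLeft _ _ A).obj G.op).map
        (𝟙 ((presheafToSheaf J A).obj (G.op.lan.obj F.obj)).obj)))
    haveI h7 : IsIso (𝟙 (G.op ⋙ ((Functor.sheafPullbackConstruction.sheafPullback G A
        (J.over U) J).obj F).obj)) := inferInstance
    exact @IsIso.comp_isIso _ _ _ _ _ _ _ h5 (@IsIso.comp_isIso _ _ _ _ _ _ _ h6 h7)
  exact isIso_of_reflects_iso _ (sheafToPresheaf (J.over U) A)

/-- the unit of the abstract adjunction is an isomorphism -/
theorem isIso_unit (hU : ∀ V : C, Subsingleton (V ⟶ U))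
    (F : Sheaf (J.over U) A) :
    IsIso (((Over.forget U).sheafAdjunctionContinuous A (J.over U) J).unit.app F) := by
  let adj := (Over.forget U).sheafAdjunctionContinuous A (J.over U) J
  let adj₀ := Functor.sheafPullbackConstruction.sheafAdjunctionContinuous
      (Over.forget U) A (J.over U) J
  have h := adj₀.unit_leftAdjointUniq_hom_app adj F
  haveI := isIso_unit_construction J U A hU F
  rw [← h]
  infer_instance

end Groth.Agent.Lib.Helper1.SubtermUnit
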