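import Groth.Agent.Lib.Helper1.PSDecomp
import Mathlib.RingTheory.MvPowerSeries.Trunc
import Mathlib.RingTheory.MvPowerSeries.Derivative
import Mathlib.Algebra.MvPolynomial.PDeriv

set_option autoImplicit false
universe u

namespace Groth.Agent.Lib.Helper1.T1Core

open MvPowerSeries IsLocalRing Finsupp Groth.Agent.Lib.Helper1.PSDecomp

variable {k : Type u} [Field k] {d : ℕ}

/-- Over a field, `m^N` consists of the power series without terms of degree `< N`. -/
lemma mem_pow_iff (N : ℕ) (f : MvPowerSeries (Fin d) k) :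
    f ∈ maximalIdeal (MvPowerSeries (Fin d) k) ^ N ↔
      ∀ e : Fin d →₀ ℕ, e.degree < N → coeff e f = 0 := by
  rw [← W_eq_pow, mem_W]
  have hbot : maximalIdeal k = ⊥ := IsLocalRing.maximalIdeal_eq_bot
  constructor
  · intro h e he
    have h1 := h e
    have hpos : N - e.degree ≠ 0 := by omega
    rw [hbot, ← Ideal.zero_eq_bot, zero_pow hpos, Ideal.zero_eq_bot, Ideal.mem_bot] at h1
    exact h1
  · intro h e
    by_cases he : e.degree < N
    · rw [h e he]; exact Ideal.zero_mem _
    · have : N - e.degree = 0 := by omega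
      rw [this, pow_zero, Ideal.one_eq_top]
      exact Submodule.mem_top

section Chain

variable {A : Type u} [CommRing A] [Algebra k A] (q : MvPowerSeries (Fin d) k →ₐ[k] A)
  (D : MvPowerSeries (Fin d) k →ₗ[k] A)
  (hD : ∀ p p', D (p * p') = q p * D p' + q p' * D p)

include hD in
lemma D_one : D 1 = 0 := by
  have h := hD 1 1
  rw [mul_one, map_one q, one_mul] at h
  have h2 : D 1 + 0 = D 1 + D 1 := by rw [add_zero]; exact h
  exact (add_left_cancel h2).symm

include hD in
/-- The chain rule on polynomials. -/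
lemma chain (f : MvPolynomial (Fin d) k) :
    D (f : MvPowerSeries (Fin d) k) =
      ∑ i, q ((MvPolynomial.pderiv i f : MvPolynomial (Fin d) k) : MvPowerSeries (Fin d) k) *
        D (X i) := by
  classical
  induction f using MvPolynomial.induction_on with
  | C a =>
    rw [MvPolynomial.coe_C]
    have h1 : (MvPowerSeries.C a : MvPowerSeries (Fin d) k) = a • 1 := by
      rw [smul_eq_C_mul, mul_one]
    rw [h1, map_smul, D_one q D hD, smul_zero]
    symm
    apply Finset.sum_eq_zero
    intro i _
    rw [MvPolynomial.pderiv_C, MvPolynomial.coe_zero, map_zero, zero_mul]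
  | add f g hf hg =>
    rw [MvPolynomial.coe_add, map_add, hf, hg, ← Finset.sum_add_distrib]
    apply Finset.sum_congr rfl
    intro i _
    rw [map_add, MvPolynomial.coe_add, map_add, add_mul]
  | mul_X f j hf =>
    rw [MvPolynomial.coe_mul, MvPolynomial.coe_X, hD, hf]
    have h1 : ∀ i, q ((MvPolynomial.pderiv i (f * MvPolynomial.X j) : MvPolynomial (Fin d) k) :
        MvPowerSeries (Fin d) k) * D (X i) =
        q (X j) * (q ((MvPolynomial.pderiv i f : MvPolynomial (Fin d) k) :
          MvPowerSeries (Fin d) k) * D (X i)) +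
          (if i = j then q (f : MvPowerSeries (Fin d) k) * D (X i) else 0) := by
      intro i
      rw [MvPolynomial.pderiv_mul, MvPolynomial.pderiv_X, MvPolynomial.coe_add, MvPolynomial.coe_mul,
        MvPolynomial.coe_mul, MvPolynomial.coe_X, map_add, map_mul, map_mul, Pi.single_apply]
      by_cases hij : i = j
      · subst hij
        rw [if_pos rfl, if_pos rfl, MvPolynomial.coe_one, map_one]
        ring
      · rw [if_neg hij, if_neg (fun h => hij h.symm), MvPolynomial.coe_zero, map_zero]
        ring
    simp_rw [h1]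
    rw [Finset.sum_add_distrib, ← Finset.mul_sum, Finset.sum_ite_eq' Finset.univ j]
    rw [if_pos (Finset.mem_univ j)]
    ring

end Chain

section Step

variable [CharZero k] {N : ℕ} (J : Ideal (MvPowerSeries (Fin d) k))
  (hJ : J ≤ maximalIdeal (MvPowerSeries (Fin d) k) ^ (N + 1))
  {A : Type u} [CommRing A] [Algebra k A] (q : MvPowerSeries (Fin d) k →ₐ[k] A)
  (hq : ∀ p, q p = 0 ↔ p ∈ maximalIdeal (MvPowerSeries (Fin d) k) ^ (N + 1))
  (D : Fin d → MvPowerSeries (Fin d) k →ₗ[k] A)
  (hD : ∀ j p p', D j (p * p') = q p * D j p' + q p' * D j p)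
  (hDJ : ∀ j, ∀ g ∈ J, D j g = 0)
  (hDX : ∀ i j, ∃ n ∈ maximalIdeal (MvPowerSeries (Fin d) k),
    D j (X i) = (if i = j then 1 else 0) + q n)

include hD in
omit [CharZero k] in
lemma D_mem (j : Fin d) (n : ℕ) :
    ∀ p ∈ maximalIdeal (MvPowerSeries (Fin d) k) ^ (n + 1),
      D j p ∈ Ideal.map q (maximalIdeal (MvPowerSeries (Fin d) k) ^ n) := by
  induction n with
  | zero =>
    intro p _
    rw [pow_zero, Ideal.one_eq_top]
    have : Ideal.map q (⊤ : Ideal (MvPowerSeries (Fin d) k)) = ⊤ := by
      rw [Ideal.eq_top_iff_one]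
      have := Ideal.mem_map_of_mem q (Submodule.mem_top : (1 : MvPowerSeries (Fin d) k) ∈ ⊤)
      rwa [map_one] at this
    rw [this]
    exact Submodule.mem_top
  | succ n ih =>
    intro p hp
    rw [pow_succ'] at hp
    refine Submodule.mul_induction_on hp ?_ ?_
    · intro a ha b hb
      rw [hD]
      apply Ideal.add_mem
      · have h1 : q a * D j b ∈ Ideal.map q (maximalIdeal (MvPowerSeries (Fin d) k)) *
            Ideal.map q (maximalIdeal (MvPowerSeries (Fin d) k) ^ n) :=
          Ideal.mul_mem_mul (Ideal.mem_map_of_mem q ha) (ih b hb)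
        rwa [← Ideal.map_mul, ← pow_succ'] at h1
      · exact Ideal.mul_mem_right _ _ (Ideal.mem_map_of_mem q hb)
    · intro x y hx hy
      rw [map_add]
      exact Ideal.add_mem _ hx hy

include hq hD in
omit [CharZero k] in
lemma D_eq_zero (j : Fin d) (p : MvPowerSeries (Fin d) k)
    (hp : p ∈ maximalIdeal (MvPowerSeries (Fin d) k) ^ (N + 2)) : D j p = 0 := by
  have h1 := D_mem q D hD j (N + 1) p hp
  have h2 : Ideal.map q (maximalIdeal (MvPowerSeries (Fin d) k) ^ (N + 1)) = ⊥ := by
    rw [Ideal.map_eq_bot_iff_le_ker]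
    intro x hx
    exact (hq x).2 hx
  rwa [h2, Ideal.mem_bot] at h1

include hJ hq hD hDJ hDX in
theorem step : J ≤ maximalIdeal (MvPowerSeries (Fin d) k) ^ (N + 2) := by
  classical
  intro g hg
  have hgN := (mem_pow_iff (N + 1) g).1 (hJ hg)
  set T : MvPolynomial (Fin d) k := truncTotal (N + 2) g with hT
  have hTc : ∀ e : Fin d →₀ ℕ, e.degree < N + 2 → MvPolynomial.coeff e T = coeff e g :=
    fun e he => coeff_truncTotal g he
  have hTz : ∀ e : Fin d →₀ ℕ, e.degree < N + 1 → MvPolynomial.coeff e T = 0 := by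
    intro e he
    rw [hTc e (by omega), hgN e he]
  -- the tail
  have htail : g - (T : MvPowerSeries (Fin d) k) ∈
      maximalIdeal (MvPowerSeries (Fin d) k) ^ (N + 2) := by
    rw [mem_pow_iff]
    intro e he
    rw [map_sub, MvPolynomial.coeff_coe, hTc e he, sub_self]
  -- the partial derivatives of the truncation
  have ha : ∀ i, ((MvPolynomial.pderiv i T : MvPolynomial (Fin d) k) : MvPowerSeries (Fin d) k) ∈
      maximalIdeal (MvPowerSeries (Fin d) k) ^ N := by
    intro i
    rw [mem_pow_iff]
    intro e he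
    rw [MvPolynomial.coeff_coe, MvPolynomial.coeff_pderiv, hTz, zero_mul]
    rw [map_add, Finsupp.degree_single]
    omega
  have hkey : ∀ j, ((MvPolynomial.pderiv j T : MvPolynomial (Fin d) k) :
      MvPowerSeries (Fin d) k) ∈ maximalIdeal (MvPowerSeries (Fin d) k) ^ (N + 1) := by
    intro j
    rw [← hq]
    have h0 : D j (T : MvPowerSeries (Fin d) k) = 0 := by
      have h1 := D_eq_zero q hq D hD j _ htail
      rw [map_sub, hDJ j g hg, zero_sub, neg_eq_zero] at h1
      exact h1
    rw [chain q (D j) (hD j)] at h0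
    have h2 : ∀ i, q ((MvPolynomial.pderiv i T : MvPolynomial (Fin d) k) :
        MvPowerSeries (Fin d) k) * D j (X i) =
        if i = j then q ((MvPolynomial.pderiv i T : MvPolynomial (Fin d) k) :
          MvPowerSeries (Fin d) k) else 0 := by
      intro i
      obtain ⟨n, hn, hDn⟩ := hDX i j
      rw [hDn, mul_add]
      have h3 : q ((MvPolynomial.pderiv i T : MvPolynomial (Fin d) k) :
          MvPowerSeries (Fin d) k) * q n = 0 := by
        rw [← map_mul, hq, pow_succ]
        exact Ideal.mul_mem_mul (ha i) hn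
      rw [h3, add_zero]
      by_cases hij : i = j
      · rw [if_pos hij, if_pos hij, mul_one]
      · rw [if_neg hij, if_neg hij, mul_zero]
    simp_rw [h2] at h0
    rw [Finset.sum_ite_eq' Finset.univ j, if_pos (Finset.mem_univ j)] at h0
    exact h0
  rw [mem_pow_iff]
  intro e' he'
  by_cases hlt : e'.degree < N + 1
  · exact hgN e' hlt
  · have hdeg : e'.degree = N + 1 := by omega
    have hex : ∃ j, e' j ≠ 0 := by
      by_contra hcon
      push Not at hcon
      have : e' = 0 := Finsupp.ext hcon
      rw [this, map_zero] at hdeg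
      omega
    obtain ⟨j, hj⟩ := hex
    set e : Fin d →₀ ℕ := e' - single j 1 with he
    have hee : e + single j 1 = e' := by
      apply tsub_add_cancel_of_le
      intro i
      by_cases hij : i = j
      · subst hij
        rw [Finsupp.single_eq_same]
        exact Nat.one_le_iff_ne_zero.2 hj
      · rw [Finsupp.single_eq_of_ne hij]
        exact Nat.zero_le _
    have hedeg : e.degree = N := by
      have h1 : (e + single j 1).degree = N + 1 := by rw [hee, hdeg]
      rw [map_add, Finsupp.degree_single] at h1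
      omega
    have h1 := (mem_pow_iff (N + 1) _).1 (hkey j) e (by omega)
    rw [MvPolynomial.coeff_coe, MvPolynomial.coeff_pderiv, hee, hTc e' he'] at h1
    rcases mul_eq_zero.1 h1 with h | h
    · exact h
    · exfalso
      have : ((e j + 1 : ℕ) : k) = 0 := by push_cast; exact h
      exact (Nat.cast_ne_zero.2 (Nat.succ_ne_zero (e j))) this

end Step

end Groth.Agent.Lib.Helper1.T1Core
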