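import Groth.Agent.Lib.Helper1.T1Core
import Groth.Agent.Lib.Helper1.ArtFunPS
import Groth.Agent.Lib.Helper1.ArtFunObsPS

set_option autoImplicit false
universe u

open CategoryTheory

namespace Groth.Agent.Lib.Helper1.T1Glue

open ArtFun ArtFun.Art IsLocalRing Groth.Agent.Lib.Helper1.PSRing
  Groth.Agent.Lib.Helper1.ArtFunObsPS

variable {k : Type u} [Field k]

/-- The augmentation of a coefficient ring over `k` is its only `k`-algebra map to `k`. -/
theorem algHom_eq_res (R : CRing k k) (χ : R.carrier →ₐ[k] k) : χ = R.res := by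
  have hm : ∀ x ∈ maximalIdeal R.carrier, χ x = 0 := by
    intro x hx
    by_contra hne
    set c := χ x with hc
    have hu : IsUnit (x - algebraMap k R.carrier c) := by
      by_contra hnu
      have h1 : x - algebraMap k R.carrier c ∈ maximalIdeal R.carrier :=
        (mem_maximalIdeal _).2 hnu
      have h2 : algebraMap k R.carrier c ∈ maximalIdeal R.carrier := by
        have := Ideal.sub_mem _ hx h1
        rwa [sub_sub_cancel] at this
      have h3 : IsUnit (algebraMap k R.carrier c) := (IsUnit.mk0 c hne).map _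
      exact (mem_maximalIdeal _).1 h2 h3
    have hz : χ (x - algebraMap k R.carrier c) = 0 := by
      rw [map_sub, AlgHom.commutes, ← hc]
      exact sub_self c
    have := hu.map χ
    rw [hz] at this
    exact not_isUnit_zero this
  apply AlgHom.ext
  intro r
  have h1 : r - algebraMap k R.carrier (R.res r) ∈ maximalIdeal R.carrier := by
    rw [R.mem_maximalIdeal_iff, map_sub, AlgHom.commutes]
    exact sub_self _
  have h2 := hm _ h1
  rw [map_sub, AlgHom.commutes, sub_eq_zero] at h2
  exact h2

section TszeHom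

variable {R A M : Type u} [CommRing R] [Algebra k R] [CommRing A] [Algebra k A]
  [AddCommGroup M] [Module A M] [Module Aᵐᵒᵖ M] [IsCentralScalar A M] [Module k M]
  [IsScalarTower k A M] [IsScalarTower k Aᵐᵒᵖ M]

/-- The algebra map `r ↦ (ρ r, δ r)` into a trivial square-zero extension. -/
def tszeHom (ρ : R →ₐ[k] A) (δ : R →ₗ[k] M)
    (hδ : ∀ a b, δ (a * b) = ρ a • δ b + ρ b • δ a) : R →ₐ[k] TrivSqZeroExt A M :=
  have h1 : δ 1 = 0 := by
    have h := hδ 1 1
    rw [mul_one, map_one ρ, one_smul] at h
    have h2 : δ 1 + 0 = δ 1 + δ 1 := by rw [add_zero]; exact h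
    exact (add_left_cancel h2).symm
  { toFun := fun r => ((ρ r, δ r) : TrivSqZeroExt A M)
    map_one' := TrivSqZeroExt.ext (map_one ρ) h1
    map_mul' := fun a b => TrivSqZeroExt.ext (map_mul ρ a b) (by
      change δ (a * b) = ρ a • δ b + MulOpposite.op (ρ b) • δ a
      rw [hδ, op_smul_eq_smul])
    map_zero' := TrivSqZeroExt.ext (map_zero ρ) (map_zero δ)
    map_add' := fun a b => TrivSqZeroExt.ext (map_add ρ a b) (map_add δ a b)
    commutes' := fun c => by
      rw [TrivSqZeroExt.algebraMap_eq_inl']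
      refine TrivSqZeroExt.ext (ρ.commutes c) ?_
      change δ (algebraMap k R c) = 0
      rw [Algebra.algebraMap_eq_smul_one, map_smul, h1, smul_zero] }

lemma tszeHom_fst (ρ : R →ₐ[k] A) (δ : R →ₗ[k] M)
    (hδ : ∀ a b, δ (a * b) = ρ a • δ b + ρ b • δ a) (r : R) :
    (tszeHom ρ δ hδ r).fst = ρ r := rfl

lemma tszeHom_snd (ρ : R →ₐ[k] A) (δ : R →ₗ[k] M)
    (hδ : ∀ a b, δ (a * b) = ρ a • δ b + ρ b • δ a) (r : R) :
    (tszeHom ρ δ hδ r).snd = δ r := rfl

end TszeHom

/-- The `T¹`-lifting criterion: if all maps `R → A ⊕ (A/m)^d` lift to `A ⊕ A^d` (characteristic zero),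
then `R` is a power series ring. -/
theorem exists_bijective_of_lifting [CharZero k] (R : CRing k k)
    (HT : ∀ (A : Art k k) (d : ℕ)
      (φ : R.carrier →ₐ[k] TrivSqZeroExt A (Fin d → A ⧸ maximalIdeal A)),
      ∃ ψ : R.carrier →ₐ[k] TrivSqZeroExt A (Fin d → A),
        ∀ r, (ψ r).fst = (φ r).fst ∧
          ∀ j, Ideal.Quotient.mk (maximalIdeal A) ((ψ r).snd j) = (φ r).snd j) :
    ∃ (d : ℕ) (π : MvPowerSeries (Fin d) k →ₐ[k] R.carrier), Function.Bijective π := by
  classical
  letI : Algebra R.carrier k := R.res.toRingHom.toAlgebra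
  haveI : IsScalarTower k R.carrier k :=
    IsScalarTower.of_algebraMap_eq (fun l => (R.res.commutes l).symm)
  have hresdef : ∀ a : R.carrier, algebraMap R.carrier k a = R.res a := fun _ => rfl
  obtain ⟨d, π, hres, hπ, hE, hker⟩ :=
    Groth.Agent.Lib.Helper1.ArtFunPresent.exists_presentation' hsurj_id R
  refine ⟨d, π, ?_, hπ⟩
  choose Λ hΛ using fun j : Fin d => hE.2 (fun i => if i = j then 1 else 0)
  have hΛ' : ∀ i j, Λ j (π (MvPowerSeries.X i)) = if i = j then 1 else 0 :=
    fun i j => congrFun (hΛ j) i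
  let P := psRing (Λ := k) (k := k) hsurj_id d
  have hresπ : ∀ p : MvPowerSeries (Fin d) k, R.res (π p) = P.res p :=
    fun p => congrArg (fun g : MvPowerSeries (Fin d) k →ₐ[k] k => g p) hres
  -- the induction
  have hind : ∀ n : ℕ, RingHom.ker π ≤ maximalIdeal (MvPowerSeries (Fin d) k) ^ (n + 1) := by
    intro n
    induction n with
    | zero =>
      intro s hs
      rw [zero_add, pow_one]
      rw [RingHom.mem_ker] at hs
      have h1 := hresπ s
      rw [hs, map_zero] at h1
      exact (P.mem_maximalIdeal_iff s).2 h1.symm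
    | succ n ih =>
      let A : Art k k := P.trunc n
      let q : MvPowerSeries (Fin d) k →ₐ[k] A := (P.truncHom n).1
      have hq : ∀ p, q p = 0 ↔ p ∈ maximalIdeal (MvPowerSeries (Fin d) k) ^ (n + 1) :=
        fun p => Ideal.Quotient.eq_zero_iff_mem
      have hqres : ∀ p, A.res (q p) = P.res p := fun p =>
        congrArg (fun g : MvPowerSeries (Fin d) k →ₐ[k] k => g p) (P.truncHom n).2
      have hqs : Function.Surjective q := Ideal.Quotient.mk_surjective
      have H : RingHom.ker π.toRingHom ≤ RingHom.ker q.toRingHom := by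
        intro s hs
        rw [RingHom.mem_ker]
        exact (hq s).2 (ih hs)
      let ρ : R.carrier →ₐ[k] A := AlgHom.liftOfSurjective π hπ q H
      have hρ : ∀ p, ρ (π p) = q p := fun p => AlgHom.liftOfSurjective_apply π hπ q H p
      have hρres : ∀ r, A.res (ρ r) = R.res r := by
        intro r
        obtain ⟨p, rfl⟩ := hπ r
        rw [hρ, hqres, hresπ]
      have hmk : ∀ r, Ideal.Quotient.mk (maximalIdeal A) (ρ r) =
          algebraMap k (A ⧸ maximalIdeal A) (R.res r) := by
        intro r
        rw [IsScalarTower.algebraMap_apply k A (A ⧸ maximalIdeal A), Ideal.Quotient.algebraMap_eq,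
          Ideal.Quotient.eq, A.mem_maximalIdeal_iff, map_sub, hρres, AlgHom.commutes]
        exact sub_self _
      let δ : R.carrier →ₗ[k] (Fin d → A ⧸ maximalIdeal A) :=
        LinearMap.pi fun j => (Algebra.linearMap k (A ⧸ maximalIdeal A)).comp (Λ j : R.carrier →ₗ[k] k)
      have hδapp : ∀ r j, δ r j = algebraMap k (A ⧸ maximalIdeal A) (Λ j r) := fun _ _ => rfl
      have hδ : ∀ a b, δ (a * b) = ρ a • δ b + ρ b • δ a := by
        intro a b
        funext j
        rw [Pi.add_apply, Pi.smul_apply, Pi.smul_apply, hδapp, hδapp, hδapp, Derivation.leibniz,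
          map_add, Algebra.smul_def a, Algebra.smul_def b, hresdef, hresdef, map_mul, map_mul,
          ← hmk, ← hmk]
        rfl
      obtain ⟨ψ, hψ⟩ := HT A d (tszeHom ρ δ hδ)
      have hψfst : ∀ p, (ψ (π p)).fst = q p := by
        intro p
        rw [(hψ (π p)).1, tszeHom_fst, hρ]
      let D : Fin d → MvPowerSeries (Fin d) k →ₗ[k] A := fun j =>
        { toFun := fun p => (ψ (π p)).snd j
          map_add' := fun a b => by
            rw [map_add, map_add, TrivSqZeroExt.snd_add, Pi.add_apply]
          map_smul' := fun c a => by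
            rw [map_smul, map_smul, TrivSqZeroExt.snd_smul, Pi.smul_apply, RingHom.id_apply] }
      have hDapp : ∀ j p, D j p = (ψ (π p)).snd j := fun _ _ => rfl
      have hD : ∀ j p p', D j (p * p') = q p * D j p' + q p' * D j p := by
        intro j p p'
        rw [hDapp, hDapp, hDapp, map_mul, map_mul, TrivSqZeroExt.snd_mul, Pi.add_apply,
          Pi.smul_apply, Pi.smul_apply, hψfst, hψfst, op_smul_eq_smul, smul_eq_mul, smul_eq_mul]
      have hDJ : ∀ j, ∀ g ∈ RingHom.ker π, D j g = 0 := by
        intro j g hg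
        rw [RingHom.mem_ker] at hg
        rw [hDapp, hg, map_zero]
        rfl
      have hDX : ∀ i j, ∃ m ∈ maximalIdeal (MvPowerSeries (Fin d) k),
          D j (MvPowerSeries.X i) = (if i = j then 1 else 0) + q m := by
        intro i j
        obtain ⟨m, hm⟩ := hqs (D j (MvPowerSeries.X i) - (if i = j then 1 else 0))
        refine ⟨m, ?_, by rw [hm]; ring⟩
        have h1 : q m ∈ maximalIdeal A := by
          rw [hm, ← Ideal.Quotient.eq, hDapp, (hψ _).2 j, tszeHom_snd, hδapp, hΛ']
          split_ifs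
          · rw [map_one, map_one]
          · rw [map_zero, map_zero]
        rw [A.mem_maximalIdeal_iff, hqres] at h1
        exact (P.mem_maximalIdeal_iff m).2 h1
      exact Groth.Agent.Lib.Helper1.T1Core.step (RingHom.ker π) ih q hq D hD hDJ hDX
  rw [injective_iff_map_eq_zero]
  intro s hs
  haveI : IsNoetherianRing (MvPowerSeries (Fin d) k) := P.isNoetherianRing
  have hmem : ∀ n : ℕ, s ∈ maximalIdeal (MvPowerSeries (Fin d) k) ^ n := by
    intro n
    exact Ideal.pow_le_pow_right (Nat.le_succ n) (hind n (RingHom.mem_ker.2 hs))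
  have hbot := Ideal.iInf_pow_eq_bot_of_isLocalRing (maximalIdeal (MvPowerSeries (Fin d) k))
    (IsLocalRing.maximalIdeal.isMaximal (MvPowerSeries (Fin d) k)).ne_top
  have : s ∈ (⨅ n : ℕ, maximalIdeal (MvPowerSeries (Fin d) k) ^ n) := by
    rw [Ideal.mem_iInf]; exact hmem
  rwa [hbot, Ideal.mem_bot] at this

end Groth.Agent.Lib.Helper1.T1Glue
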