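import Groth.Prelude.Def_ArtFun2
import Mathlib.RingTheory.DualNumber
import Mathlib.RingTheory.Artinian.Algebra
import Mathlib.RingTheory.Finiteness.Prod

set_option autoImplicit false
universe u

open CategoryTheory

namespace Groth.Agent.Lib.Helper1.T1Tsze

open ArtFun ArtFun.Art IsLocalRing TrivSqZeroExt

variable {k : Type u} [Field k]

section MapK

variable {A : Type u} [CommRing A] [Algebra k A]
  {M : Type u} [AddCommGroup M] [Module A M] [Module Aᵐᵒᵖ M] [IsCentralScalar A M] [Module k M]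
  [IsScalarTower k A M] [IsScalarTower k Aᵐᵒᵖ M]
  {M' : Type u} [AddCommGroup M'] [Module A M'] [Module Aᵐᵒᵖ M'] [IsCentralScalar A M']
  [Module k M'] [IsScalarTower k A M'] [IsScalarTower k Aᵐᵒᵖ M']

/-- The `k`-algebra map `A ⊕ M' → A ⊕ M` induced by an `A`-linear map. -/
def mapK (f : M' →ₗ[A] M) : TrivSqZeroExt A M' →ₐ[k] TrivSqZeroExt A M where
  toFun x := (x.fst, f x.snd)
  map_one' := TrivSqZeroExt.ext rfl (by
    change f (1 : TrivSqZeroExt A M').snd = (1 : TrivSqZeroExt A M).snd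
    rw [TrivSqZeroExt.snd_one, TrivSqZeroExt.snd_one, map_zero])
  map_mul' x y := TrivSqZeroExt.ext rfl (by
    change f (x.fst • y.snd + MulOpposite.op y.fst • x.snd) =
      x.fst • f y.snd + MulOpposite.op y.fst • f x.snd
    rw [map_add, map_smul, op_smul_eq_smul, op_smul_eq_smul, map_smul])
  map_zero' := TrivSqZeroExt.ext rfl (by
    change f (0 : TrivSqZeroExt A M').snd = (0 : TrivSqZeroExt A M).snd
    rw [TrivSqZeroExt.snd_zero, TrivSqZeroExt.snd_zero, map_zero])
  map_add' x y := TrivSqZeroExt.ext rfl (by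
    change f (x + y).snd = f x.snd + f y.snd
    rw [TrivSqZeroExt.snd_add, map_add])
  commutes' r := TrivSqZeroExt.ext rfl (by
    change f (algebraMap k (TrivSqZeroExt A M') r).snd = (algebraMap k (TrivSqZeroExt A M) r).snd
    rw [TrivSqZeroExt.algebraMap_eq_inl', TrivSqZeroExt.algebraMap_eq_inl', TrivSqZeroExt.snd_inl,
      TrivSqZeroExt.snd_inl, map_zero])

@[simp] lemma fst_mapK (f : M' →ₗ[A] M) (x : TrivSqZeroExt A M') :
    (mapK (k := k) f x).fst = x.fst := rfl

@[simp] lemma snd_mapK (f : M' →ₗ[A] M) (x : TrivSqZeroExt A M') :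
    (mapK (k := k) f x).snd = f x.snd := rfl

lemma mapK_surjective (f : M' →ₗ[A] M) (hf : Function.Surjective f) :
    Function.Surjective (mapK (k := k) f) := by
  intro x
  obtain ⟨m', hm'⟩ := hf x.snd
  exact ⟨(x.fst, m'), TrivSqZeroExt.ext rfl hm'⟩

end MapK

section ArtObj

variable (A : Art k k)
  (M : Type u) [AddCommGroup M] [Module A M] [Module Aᵐᵒᵖ M] [IsCentralScalar A M] [Module k M]
  [IsScalarTower k A M] [IsScalarTower k Aᵐᵒᵖ M] [Module.Finite A M]

theorem isLocalRing_tszeA : IsLocalRing (TrivSqZeroExt A M) := by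
  refine IsLocalRing.of_isUnit_or_isUnit_one_sub_self fun a => ?_
  rw [TrivSqZeroExt.isUnit_iff_isUnit_fst, TrivSqZeroExt.isUnit_iff_isUnit_fst,
    TrivSqZeroExt.fst_sub, TrivSqZeroExt.fst_one]
  exact IsLocalRing.isUnit_or_isUnit_one_sub_self a.fst

theorem isArtinianRing_tszeA : IsArtinianRing (TrivSqZeroExt A M) :=
  haveI : Module.Finite A (TrivSqZeroExt A M) := inferInstanceAs (Module.Finite A (A × M))
  IsArtinianRing.of_finite A _

/-- The split square-zero extension `A ⊕ M` as an object. -/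
noncomputable def tszeArt : Art k k :=
  { carrier := TrivSqZeroExt A M
    isLocalRing := isLocalRing_tszeA A M
    isArtinianRing := isArtinianRing_tszeA A M
    res := A.res.comp (TrivSqZeroExt.fstHom k A M)
    res_surjective := fun c => by
      obtain ⟨a, ha⟩ := A.res_surjective c
      exact ⟨TrivSqZeroExt.inl a, ha⟩ }

/-- The projection `A ⊕ M → A`. -/
noncomputable def fstA : tszeArt A M ⟶ A := ⟨TrivSqZeroExt.fstHom k A M, rfl⟩

/-- The section `A → A ⊕ M`. -/
noncomputable def inlA : A ⟶ tszeArt A M :=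
  ⟨TrivSqZeroExt.inlAlgHom k A M, AlgHom.ext fun _ => rfl⟩

lemma inlA_fstA : inlA A M ≫ fstA A M = 𝟙 A := hom_ext (AlgHom.ext fun _ => rfl)

omit [Module.Finite A M] in
lemma mul_eq_zero_of_fst (x y : TrivSqZeroExt A M) (hx : x.fst = 0) (hy : y.fst = 0) :
    x * y = 0 := by
  refine TrivSqZeroExt.ext ?_ ?_
  · rw [TrivSqZeroExt.fst_mul, hx, zero_mul, TrivSqZeroExt.fst_zero]
  · rw [TrivSqZeroExt.snd_mul, hx, hy, zero_smul, MulOpposite.op_zero, zero_smul, add_zero,
      TrivSqZeroExt.snd_zero]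

lemma ker_fstA_sq :
    RingHom.ker (fstA A M).toAlgHom * RingHom.ker (fstA A M).toAlgHom = ⊥ := by
  rw [eq_bot_iff, Ideal.mul_le]
  intro x hx y hy
  rw [RingHom.mem_ker] at hx hy
  rw [Ideal.mem_bot]
  exact mul_eq_zero_of_fst A M x y hx hy

variable {M}
variable {M' : Type u} [AddCommGroup M'] [Module A M'] [Module Aᵐᵒᵖ M'] [IsCentralScalar A M']
  [Module k M'] [IsScalarTower k A M'] [IsScalarTower k Aᵐᵒᵖ M'] [Module.Finite A M']

/-- The morphism `A ⊕ M' → A ⊕ M` induced by an `A`-linear map. -/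
noncomputable def mapA (f : M' →ₗ[A] M) : tszeArt A M' ⟶ tszeArt A M :=
  ⟨mapK f, AlgHom.ext fun _ => rfl⟩

lemma mapA_apply (f : M' →ₗ[A] M) (x : TrivSqZeroExt A M') :
    (mapA A f).toAlgHom x = mapK (k := k) f x := rfl

lemma mapA_fstA (f : M' →ₗ[A] M) : mapA A f ≫ fstA A M = fstA A M' :=
  hom_ext (AlgHom.ext fun _ => rfl)

lemma inlA_mapA (f : M' →ₗ[A] M) : inlA A M' ≫ mapA A f = inlA A M := by
  apply hom_ext
  apply AlgHom.ext
  intro a
  refine TrivSqZeroExt.ext rfl ?_
  change f (TrivSqZeroExt.inl a : TrivSqZeroExt A M').snd = (TrivSqZeroExt.inl a : TrivSqZeroExt A M).snd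
  rw [TrivSqZeroExt.snd_inl, TrivSqZeroExt.snd_inl, map_zero]

lemma mapA_surjective (f : M' →ₗ[A] M) (hf : Function.Surjective f) :
    Function.Surjective (mapA A f) := mapK_surjective f hf

end ArtObj

end Groth.Agent.Lib.Helper1.T1Tsze
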