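import Groth.Prelude.Def_W4stk3formalspacesTaut

set_option autoImplicit false

namespace Groth.Agent.Lib.Helper1.Taut

open LinTop Topology

universe u v

section

variable {A : Type u} [CommRing A] [TopologicalSpace A] [IsTopologicalRing A]
variable {B : Type v} [CommRing B] [TopologicalSpace B] [IsTopologicalRing B]

/-- closure of an ideal as a set is the coercion of `Ideal.closure` -/
theorem coe_closure' (I : Ideal B) : closure ((I : Ideal B) : Set B) = ((I.closure : Ideal B) : Set B) :=
  (Ideal.coe_closure I).symm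

/-- for continuous `φ`, the closure of `closure(I) B` equals the closure of `I B` -/
theorem closure_map_closure {φ : A →+* B} (hφ : Continuous φ) (I : Ideal A) :
    (I.closure.map φ).closure = (I.map φ).closure := by
  apply le_antisymm
  · have h1 : I.closure.map φ ≤ (I.map φ).closure := by
      rw [Ideal.map_le_iff_le_comap]
      intro x hx
      rw [Ideal.mem_comap]
      have hx' : x ∈ closure (I : Set A) := by rwa [← Ideal.coe_closure]
      have h2 : φ x ∈ closure (φ '' (I : Set A)) :=
        image_closure_subset_closure_image hφ ⟨x, hx', rfl⟩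
      have h3 : closure (φ '' (I : Set A)) ⊆ closure ((I.map φ : Ideal B) : Set B) := by
        apply closure_mono
        rintro _ ⟨y, hy, rfl⟩
        exact Ideal.mem_map_of_mem φ hy
      have := h3 h2
      rwa [← Ideal.coe_closure] at this
    intro x hx
    have hx' : x ∈ closure ((I.closure.map φ : Ideal B) : Set B) := by rwa [← Ideal.coe_closure]
    have h4 : closure ((I.closure.map φ : Ideal B) : Set B) ⊆ ((I.map φ).closure : Set B) := by
      apply closure_minimal h1
      rw [Ideal.coe_closure]
      exact isClosed_closure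
    exact h4 hx'
  · intro x hx
    have hx' : x ∈ closure ((I.map φ : Ideal B) : Set B) := by rwa [← Ideal.coe_closure]
    have : closure ((I.map φ : Ideal B) : Set B) ⊆ closure ((I.closure.map φ : Ideal B) : Set B) := by
      apply closure_mono
      exact Ideal.map_mono (fun y hy => by
        have : y ∈ closure (I : Set A) := subset_closure hy
        rwa [← Ideal.coe_closure] at this)
    have := this hx'
    rwa [← Ideal.coe_closure] at this


/-- the key consequence of faithful flatness: an open ideal is recovered from its extension -/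
theorem comap_closure_map {φ : A →+* B} (h : IsTautFFlat φ) {I : Ideal A}
    (hI : IsOpen (I : Set A)) : (I.map φ).closure.comap φ = I := by
  apply le_antisymm
  · intro x hx
    rw [Ideal.mem_comap] at hx
    have hinj := (h.2 I hI).injective
    have h1 : descentMap φ I (Ideal.Quotient.mk I x) = 0 := by
      change Ideal.Quotient.mk _ (φ x) = 0
      rwa [Ideal.Quotient.eq_zero_iff_mem]
    have h2 : Ideal.Quotient.mk I x = 0 := hinj (by rw [h1, map_zero])
    rwa [Ideal.Quotient.eq_zero_iff_mem] at h2
  · intro x hx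
    rw [Ideal.mem_comap]
    have : φ x ∈ closure ((I.map φ : Ideal B) : Set B) :=
      subset_closure (Ideal.mem_map_of_mem φ hx)
    rwa [← Ideal.coe_closure] at this

theorem mem_of_map_mem_closure {φ : A →+* B} (h : IsTautFFlat φ) {I : Ideal A}
    (hI : IsOpen (I : Set A)) {x : A} (hx : φ x ∈ closure ((I.map φ : Ideal B) : Set B)) :
    x ∈ I := by
  rw [← comap_closure_map h hI, Ideal.mem_comap, ← SetLike.mem_coe, Ideal.coe_closure]
  exact hx

theorem isCountablyGenerated_of_isTautFFlat [IsLinearTopology A A] {φ : A →+* B}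
    (hφ : IsTautFFlat φ) (hB : (nhds (0 : B)).IsCountablyGenerated) :
    (nhds (0 : A)).IsCountablyGenerated := by
  obtain ⟨⟨hcont, hopen, hfund⟩, hff⟩ := id hφ
  obtain ⟨x, hx⟩ := (nhds (0 : B)).exists_antitone_basis
  have h1 : ∀ k : ℕ, ∃ I : Ideal A, IsOpen (I : Set A) ∧
      closure ((I.map φ : Ideal B) : Set B) ⊆ x k := fun k => hfund _ (hx.mem k)
  choose I hIopen hIx using h1
  have hbasis : (nhds (0 : A)).HasBasis (fun _ : ℕ => True) (fun k => (I k : Set A)) := by
    refine ⟨fun U => ⟨fun hU => ?_, fun ⟨k, _, hk⟩ => ?_⟩⟩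
    · obtain ⟨I', hI'open, hI'U⟩ := (IsLinearTopology.hasBasis_open_ideal (R := A)).mem_iff.1 hU
      have h2 : closure ((I'.map φ : Ideal B) : Set B) ∈ nhds (0 : B) :=
        (hopen I' hI'open).mem_nhds (subset_closure (Ideal.zero_mem _))
      obtain ⟨k, -, hk⟩ := hx.toHasBasis.mem_iff.1 h2
      refine ⟨k, trivial, fun y hy => hI'U ?_⟩
      apply mem_of_map_mem_closure hφ hI'open
      exact hk (hIx k (subset_closure (Ideal.mem_map_of_mem φ hy)))
    · exact Filter.mem_of_superset ((hIopen k).mem_nhds (I k).zero_mem) hk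
  exact hbasis.isCountablyGenerated

theorem isWeaklyPreadmissible_of_isTautFFlat [IsLinearTopology A A] {φ : A →+* B}
    (hφ : IsTautFFlat φ) (hB : IsWeaklyPreadmissible B) : IsWeaklyPreadmissible A := by
  obtain ⟨⟨hcont, hopen, hfund⟩, hff⟩ := id hφ
  obtain ⟨-, J, hJopen, hJnil⟩ := hB
  obtain ⟨I, hIopen, hIJ⟩ := hfund (J : Set B) (hJopen.mem_nhds J.zero_mem)
  refine ⟨inferInstance, I, hIopen, fun f hf => ?_⟩
  have hnil : IsTopologicallyNilpotent (φ f) :=
    hJnil _ (hIJ (subset_closure (Ideal.mem_map_of_mem φ hf)))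
  unfold IsTopologicallyNilpotent at hnil ⊢
  rw [(IsLinearTopology.hasBasis_open_ideal (R := A)).tendsto_right_iff]
  intro I' hI'open
  have h2 : closure ((I'.map φ : Ideal B) : Set B) ∈ nhds (0 : B) :=
    (hopen I' hI'open).mem_nhds (subset_closure (Ideal.zero_mem _))
  filter_upwards [hnil h2] with n hn
  apply mem_of_map_mem_closure hφ hI'open
  simpa using hn

theorem isPreadmissible_of_isTautFFlat [IsLinearTopology A A] {φ : A →+* B}
    (hφ : IsTautFFlat φ) (hB : IsPreadmissible B) : IsPreadmissible A := by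
  obtain ⟨⟨hcont, hopen, hfund⟩, hff⟩ := id hφ
  obtain ⟨-, J, hJopen, hJpow⟩ := hB
  obtain ⟨I, hIopen, hIJ⟩ := hfund (J : Set B) (hJopen.mem_nhds J.zero_mem)
  refine ⟨inferInstance, I, hIopen, fun U hU => ?_⟩
  obtain ⟨I', hI'open, hI'U⟩ := (IsLinearTopology.hasBasis_open_ideal (R := A)).mem_iff.1 hU
  have h2 : closure ((I'.map φ : Ideal B) : Set B) ∈ nhds (0 : B) :=
    (hopen I' hI'open).mem_nhds (subset_closure (Ideal.zero_mem _))
  obtain ⟨n, hn0, hn⟩ := hJpow _ h2
  refine ⟨n, hn0, fun x hx => hI'U ?_⟩
  apply mem_of_map_mem_closure hφ hI'open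
  apply hn
  have h3 : I.map φ ≤ J := fun y hy => hIJ (subset_closure hy)
  have h4 : φ x ∈ (I.map φ) ^ n := by
    rw [← Ideal.map_pow]; exact Ideal.mem_map_of_mem φ hx
  exact Ideal.pow_right_mono h3 n h4

end

end Groth.Agent.Lib.Helper1.Taut
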