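import Groth.Agent.Lib.Helper1.Taut
import Mathlib.Topology.Algebra.OpenSubgroup

set_option autoImplicit false

namespace Groth.Agent.Lib.Helper1.Taut

open LinTop Topology

universe u v

section

variable {A : Type u} [CommRing A] [TopologicalSpace A] [IsTopologicalRing A]
variable {B : Type v} [CommRing B] [TopologicalSpace B] [IsTopologicalRing B]

theorem closure_mul_closure_le (K L : Ideal B) : K.closure * L.closure ≤ (K * L).closure := by
  rw [Ideal.mul_le]
  intro a ha b hb
  have ha' : a ∈ closure (K : Set B) := by rwa [← Ideal.coe_closure]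
  have hb' : b ∈ closure (L : Set B) := by rwa [← Ideal.coe_closure]
  have := map_mem_closure₂ (f := fun x y : B => x * y) (u := ((K * L : Ideal B) : Set B))
    continuous_mul ha' hb' (fun a ha b hb => Ideal.mul_mem_mul ha hb)
  rwa [← Ideal.coe_closure] at this

theorem closure_mono' {K L : Ideal B} (h : K ≤ L) : K.closure ≤ L.closure := by
  intro x hx
  have hx' : x ∈ closure (K : Set B) := by rwa [← Ideal.coe_closure]
  have := closure_mono (show (K : Set B) ⊆ L from h) hx'
  rwa [← Ideal.coe_closure] at this

theorem closure_closure' (K : Ideal B) : K.closure.closure = K.closure :=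
  Ideal.closure_eq_of_isClosed _ (by rw [Ideal.coe_closure]; exact isClosed_closure)

theorem le_closure' (K : Ideal B) : K ≤ K.closure := fun x hx => by
  have : x ∈ closure (K : Set B) := subset_closure hx
  rwa [← Ideal.coe_closure] at this

theorem closure_pow_le (K : Ideal B) (n : ℕ) : K.closure ^ n ≤ (K ^ n).closure := by
  induction n with
  | zero => simp only [pow_zero]; exact le_closure' _
  | succ n ih =>
    rw [pow_succ, pow_succ]
    calc K.closure ^ n * K.closure ≤ (K ^ n).closure * K.closure :=
          Ideal.mul_mono_left ih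
      _ ≤ (K ^ n * K).closure := closure_mul_closure_le _ _

/-- membership in the closure of an ideal in a linearly topologized ring -/
theorem mem_closure_of_forall_sup [IsLinearTopology A A] (K : Ideal A) (x : A)
    (h : ∀ I' : Ideal A, IsOpen (I' : Set A) → x ∈ K ⊔ I') : x ∈ closure (K : Set A) := by
  rw [mem_closure_iff_nhds]
  intro t ht
  have h0 : (fun y => x + y) ⁻¹' t ∈ nhds (0 : A) := by
    have hc : Continuous (fun y : A => x + y) := continuous_const.add continuous_id
    exact hc.continuousAt.preimage_mem_nhds (by simpa using ht)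
  obtain ⟨I', hI'open, hI't⟩ := (IsLinearTopology.hasBasis_open_ideal (R := A)).mem_iff.1 h0
  obtain ⟨a, ha, b, hb, hab⟩ := Submodule.mem_sup.1 (h I' hI'open)
  refine ⟨a, ?_, ha⟩
  have : x + (-b) ∈ t := hI't (I'.neg_mem hb)
  have h2 : a = x + (-b) := by rw [← hab]; ring
  rwa [h2]

theorem isWeaklyPreadic_of_isTautFFlat [IsLinearTopology A A] {φ : A →+* B}
    (hφ : IsTautFFlat φ) (hB : IsWeaklyPreadic B) : IsWeaklyPreadic A := by
  obtain ⟨⟨hcont, hopen, hfund⟩, hff⟩ := id hφ
  obtain ⟨-, J, hJopen, hJfund⟩ := hB
  -- step 1: the ideal I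
  have hJ1 : closure ((J ^ 1 : Ideal B) : Set B) ∈ nhds (0 : B) :=
    (hJopen 1).mem_nhds (subset_closure (Ideal.zero_mem _))
  obtain ⟨I, hIopen, hIJ⟩ := hfund _ hJ1
  rw [pow_one] at hIJ
  have hIJ' : (I.map φ).closure ≤ J.closure := by
    intro x hx
    have : x ∈ closure ((I.map φ : Ideal B) : Set B) := by rwa [← Ideal.coe_closure]
    have := hIJ this
    rwa [← Ideal.coe_closure] at this
  obtain ⟨m, hm⟩ := hJfund _ ((hopen I hIopen).mem_nhds (subset_closure (Ideal.zero_mem _)))
  have hm' : (J ^ m).closure ≤ (I.map φ).closure := by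
    intro x hx
    have : x ∈ closure ((J ^ m : Ideal B) : Set B) := by rwa [← Ideal.coe_closure]
    have := hm this
    rwa [← Ideal.coe_closure] at this
  -- step 2: closure (I^n B) is open
  have hopenB : ∀ n : ℕ, IsOpen ((((I ^ n).map φ).closure : Ideal B) : Set B) := by
    intro n
    have h1 : (J ^ (m * n)).closure ≤ ((I ^ n).map φ).closure := by
      have h2 : J ^ (m * n) ≤ ((I ^ n).map φ).closure := by
        rw [pow_mul, Ideal.map_pow]
        calc (J ^ m) ^ n ≤ ((J ^ m).closure) ^ n := Ideal.pow_right_mono (le_closure' _) n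
          _ ≤ ((I.map φ).closure) ^ n := Ideal.pow_right_mono hm' n
          _ ≤ ((I.map φ) ^ n).closure := closure_pow_le _ n
      calc (J ^ (m * n)).closure ≤ (((I ^ n).map φ).closure).closure := closure_mono' h2
        _ = ((I ^ n).map φ).closure := closure_closure' _
    refine Submodule.isOpen_mono h1 ?_
    rw [Ideal.coe_closure]
    exact hJopen (m * n)
  -- step 3: closure (I^n) = comap of closure (I^n B)
  have hcl : ∀ n : ℕ, closure ((I ^ n : Ideal A) : Set A) =
      φ ⁻¹' ((((I ^ n).map φ).closure : Ideal B) : Set B) := by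
    intro n
    apply Set.Subset.antisymm
    · intro x hx
      have h2 : φ x ∈ closure (φ '' ((I ^ n : Ideal A) : Set A)) :=
        image_closure_subset_closure_image hcont ⟨x, hx, rfl⟩
      have h3 : closure (φ '' ((I ^ n : Ideal A) : Set A)) ⊆
          closure (((I ^ n).map φ : Ideal B) : Set B) := by
        apply closure_mono
        rintro _ ⟨y, hy, rfl⟩
        exact Ideal.mem_map_of_mem φ hy
      have := h3 h2
      rw [← Ideal.coe_closure] at this
      exact this
    · intro x hx
      apply mem_closure_of_forall_sup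
      intro I' hI'open
      have hKopen : IsOpen ((I ^ n ⊔ I' : Ideal A) : Set A) :=
        Submodule.isOpen_mono le_sup_right hI'open
      apply mem_of_map_mem_closure hφ hKopen
      have h4 : ((I ^ n).map φ).closure ≤ ((I ^ n ⊔ I').map φ).closure :=
        closure_mono' (Ideal.map_mono le_sup_left)
      have := h4 hx
      rwa [← SetLike.mem_coe, Ideal.coe_closure] at this
  refine ⟨inferInstance, I, fun n => ?_, fun U hU => ?_⟩
  · rw [hcl n]
    exact (hopenB n).preimage hcont
  · obtain ⟨I', hI'open, hI'U⟩ := (IsLinearTopology.hasBasis_open_ideal (R := A)).mem_iff.1 hU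
    obtain ⟨k, hk⟩ := hJfund _ ((hopen I' hI'open).mem_nhds (subset_closure (Ideal.zero_mem _)))
    refine ⟨k, fun x hx => hI'U ?_⟩
    rw [hcl k] at hx
    apply mem_of_map_mem_closure hφ hI'open
    apply hk
    have h5 : ((I ^ k).map φ).closure ≤ (J ^ k).closure := by
      have h6 : (I ^ k).map φ ≤ (J ^ k).closure := by
        rw [Ideal.map_pow]
        calc (I.map φ) ^ k ≤ ((I.map φ).closure) ^ k := Ideal.pow_right_mono (le_closure' _) k
          _ ≤ J.closure ^ k := Ideal.pow_right_mono hIJ' k
          _ ≤ (J ^ k).closure := closure_pow_le _ k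
      calc ((I ^ k).map φ).closure ≤ ((J ^ k).closure).closure := closure_mono' h6
        _ = (J ^ k).closure := closure_closure' _
    have := h5 hx
    rwa [← SetLike.mem_coe, Ideal.coe_closure] at this

end

end Groth.Agent.Lib.Helper1.Taut
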