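import Groth.Agent.Lib.Helper1.FreeOnMap
import Groth.Agent.Lib.Helper1.QcCover
import Groth.Agent.Lib.Helper1.CokerLemma

/-!
# Modules presented by finitely many `freeOn`s of quasi-compact objects
-/

set_option autoImplicit false
universe u
open CategoryTheory CategoryTheory.Limits Opposite

namespace Groth.Agent.Lib.Helper1.TypeA

open Groth.Agent.Lib.Helper1 Groth.Agent.Lib.Helper1.FreeOnMap Groth.Agent.Lib.Helper1.QcCover

variable {C : Type u} [SmallCategory C] {J : GrothendieckTopology C}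
  (O : Sheaf J CommRingCat.{u}) (B : Set C)

/-- sections lift along an epimorphism on a finite covering family by members of `B` -/
theorem exists_finite_lift
    (hB₁ : ∀ X : C, ∃ (κ : Type u) (Y : κ → C) (g : ∀ k, Y k ⟶ X),
      Sieve.ofArrows Y g ∈ J X ∧ ∀ k, Y k ∈ B)
    (hB₂ : ∀ U ∈ B, CohCx.IsQcObject ((presheafToSheaf J (Type u)).obj (yoneda.obj U)))
    {Q G : ModSite.Mod O} (π : Q ⟶ G) [Epi π] {U : C} (hU : U ∈ B) (s : G.val.obj (op U)) :
    ∃ (n : ℕ) (Y : Fin n → C) (g : ∀ k, Y k ⟶ U) (t : ∀ k, Q.val.obj (op (Y k))),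
      (∀ k, Y k ∈ B) ∧ Sieve.ofArrows Y g ∈ J U ∧
      ∀ k, π.val.app (op (Y k)) (t k) = G.val.map (g k).op s := by
  obtain ⟨S, hS, hlift⟩ := exists_local_lift O π s
  let I : Type u := {p : Σ W : C, (W ⟶ U) // p.1 ∈ B ∧ S p.2}
  have hcov : Sieve.ofArrows (fun p : I => p.1.1) (fun p : I => p.1.2) ∈ J U := by
    refine J.transitive hS _ (fun V' h hh => ?_)
    obtain ⟨κ, Z, q, hq, hZ⟩ := hB₁ V'
    refine J.superset_covering ?_ hq
    rintro V'' k ⟨W, r, q', ⟨j⟩, rfl⟩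
    exact ⟨Z j, r, q j ≫ h, Presieve.ofArrows.mk (ι := I)
      (Y := fun p : I => p.1.1) (f := fun p : I => p.1.2)
      ⟨⟨Z j, q j ≫ h⟩, hZ j, S.downward_closed hh (q j)⟩, by simp⟩
  obtain ⟨t, ht⟩ := exists_finite_subcover J (hB₂ U hU) _ _ hcov
  let e := t.equivFin
  have hl : ∀ k : Fin t.card, ∃ x : Q.val.obj (op (e.symm k).1.1.1),
      π.val.app (op (e.symm k).1.1.1) x = G.val.map ((e.symm k).1.1.2).op s :=
    fun k => hlift _ (e.symm k).1.2.2
  choose x hx using hl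
  refine ⟨t.card, fun k => (e.symm k).1.1.1, fun k => (e.symm k).1.1.2, x,
    fun k => (e.symm k).1.2.1, ?_, hx⟩
  refine J.superset_covering ?_ ht
  rintro V' h ⟨W, r, q', ⟨p⟩, rfl⟩
  obtain ⟨k, hk⟩ : ∃ k, e.symm k = p := ⟨e p, e.symm_apply_apply p⟩
  subst hk
  exact Sieve.downward_closed _ (Sieve.ofArrows_mk (fun k : Fin t.card => (e.symm k).1.1.1)
    (fun k : Fin t.card => (e.symm k).1.1.2) k) r

/-- type A modules -/
def IsTypeA (F : ModSite.Mod O) : Prop :=
  ∃ (m' n' : ℕ) (V' : Fin m' → C) (U' : Fin n' → C)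
    (ψ : (∐ fun j => ModSite.freeOn O (V' j)) ⟶ ∐ fun i => ModSite.freeOn O (U' i)),
    (∀ j, V' j ∈ B) ∧ (∀ i, U' i ∈ B) ∧ Nonempty (F ≅ cokernel ψ)

/-- a presentation with an arbitrary finite index type on the source gives type A -/
theorem isTypeA_of_finite {T : Type} [Finite T] (W : T → C) (hW : ∀ t, W t ∈ B)
    {n' : ℕ} (U' : Fin n' → C) (hU' : ∀ i, U' i ∈ B)
    (γ : (∐ fun t => ModSite.freeOn O (W t)) ⟶ ∐ fun i => ModSite.freeOn O (U' i))
    (F : ModSite.Mod O) (e : F ≅ cokernel γ) : IsTypeA O B F := by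
  let eq := Finite.equivFin T
  let w : (∐ fun t => ModSite.freeOn O (W t)) ≅
      ∐ fun j : Fin (Nat.card T) => ModSite.freeOn O (W (eq.symm j)) :=
    Sigma.whiskerEquiv eq (fun t => eqToIso (by rw [eq.symm_apply_apply]))
  refine ⟨Nat.card T, n', fun j => W (eq.symm j), U', w.inv ≫ γ, fun j => hW _, hU', ⟨?_⟩⟩
  exact e ≪≫ (cokernelEpiComp w.inv γ).symm

variable {O B} in
/-- the cokernel of a morphism of type A modules is of type A -/
theorem isTypeA_cokernel
    (hB₁ : ∀ X : C, ∃ (κ : Type u) (Y : κ → C) (g : ∀ k, Y k ⟶ X),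
      Sieve.ofArrows Y g ∈ J X ∧ ∀ k, Y k ∈ B)
    (hB₂ : ∀ U ∈ B, CohCx.IsQcObject ((presheafToSheaf J (Type u)).obj (yoneda.obj U)))
    {F G : ModSite.Mod O} (α : F ⟶ G) (hF : IsTypeA O B F) (hG : IsTypeA O B G) :
    IsTypeA O B (cokernel α) := by
  obtain ⟨mF, nF, VF, UF, ψF, hVF, hUF, ⟨eF⟩⟩ := hF
  obtain ⟨mG, nG, VG, UG, ψG, hVG, hUG, ⟨eG⟩⟩ := hG
  let α' : cokernel ψF ⟶ cokernel ψG := eF.inv ≫ α ≫ eG.hom
  have e0 : cokernel α ≅ cokernel α' :=
    (cokernelCompIsIso α eG.hom).symm ≪≫ (cokernelEpiComp eF.inv (α ≫ eG.hom)).symm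
  -- the sections to lift
  let s : ∀ i : Fin nF, (cokernel ψG).val.obj (op (UF i)) := fun i =>
    ModSiteFree.homEquiv O (UF i) _
      (Sigma.ι (fun i => ModSite.freeOn O (UF i)) i ≫ cokernel.π ψF ≫ α')
  have hl := fun i => exists_finite_lift O B hB₁ hB₂ (cokernel.π ψG) (hUF i) (s i)
  choose n Y g t hYB hcov ht using hl
  -- the cover of `P₀`
  let K : Type := Σ i : Fin nF, Fin (n i)
  let P : ModSite.Mod O := ∐ fun p : K => ModSite.freeOn O (Y p.1 p.2)
  let ρ : P ⟶ ∐ fun i => ModSite.freeOn O (UF i) :=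
    Sigma.desc (fun p : K => FreeOnMap.map O (g p.1 p.2) ≫
      Sigma.ι (fun i => ModSite.freeOn O (UF i)) p.1)
  haveI hρ : Epi ρ := by
    constructor
    intro M a b hab
    refine Sigma.hom_ext _ _ (fun i => ?_)
    haveI := epi_desc_map O (Y i) (g i) (hcov i)
    rw [← cancel_epi (Sigma.desc (fun k => FreeOnMap.map O (g i k)) :
      (∐ fun k => ModSite.freeOn O (Y i k)) ⟶ ModSite.freeOn O (UF i))]
    refine Sigma.hom_ext _ _ (fun k => ?_)
    have := Sigma.ι (fun p : K => ModSite.freeOn O (Y p.1 p.2)) ⟨i, k⟩ ≫= hab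
    simpa [ρ] using this
  let β : P ⟶ ∐ fun i => ModSite.freeOn O (UG i) :=
    Sigma.desc (fun p : K => ofSec O (t p.1 p.2))
  have hβ : β ≫ cokernel.π ψG = (ρ ≫ cokernel.π ψF) ≫ α' := by
    refine Sigma.hom_ext _ _ (fun p => ?_)
    simp only [β, ρ, Sigma.ι_desc_assoc, Category.assoc]
    rw [ofSec_comp, ht]
    have h1 : Sigma.ι (fun i => ModSite.freeOn O (UF i)) p.1 ≫ cokernel.π ψF ≫ α' =
        ofSec O (s p.1) := ((ModSiteFree.homEquiv O (UF p.1) _).symm_apply_apply _).symm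
    rw [h1, map_ofSec]
  -- the presentation
  let T : Type := K ⊕ Fin mG
  let W : T → C := Sum.elim (fun p : K => Y p.1 p.2) VG
  let γ : (∐ fun x : T => ModSite.freeOn O (W x)) ⟶ ∐ fun i => ModSite.freeOn O (UG i) :=
    Sigma.desc (fun x : T => match x with
      | Sum.inl p => ofSec O (t p.1 p.2)
      | Sum.inr j => Sigma.ι (fun j => ModSite.freeOn O (VG j)) j ≫ ψG)
  have hγ : ∀ {Z : ModSite.Mod O} (x : (∐ fun i => ModSite.freeOn O (UG i)) ⟶ Z),
      γ ≫ x = 0 ↔ (β ≫ x = 0 ∧ ψG ≫ x = 0) := by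
    intro Z x
    constructor
    · intro h
      constructor
      · refine Sigma.hom_ext _ _ (fun p => ?_)
        have := Sigma.ι (fun x : T => ModSite.freeOn O (W x)) (Sum.inl p) ≫= h
        simp only [γ, β, Sigma.ι_desc_assoc, comp_zero] at this ⊢
        exact this
      · refine Sigma.hom_ext _ _ (fun j => ?_)
        have := Sigma.ι (fun x : T => ModSite.freeOn O (W x)) (Sum.inr j) ≫= h
        simp only [γ, Sigma.ι_desc_assoc, comp_zero, Category.assoc] at this ⊢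
        exact this
    · rintro ⟨h1, h2⟩
      refine Sigma.hom_ext _ _ (fun x => ?_)
      rcases x with p | j
      · have := Sigma.ι (fun p : K => ModSite.freeOn O (Y p.1 p.2)) p ≫= h1
        simp only [γ, β, Sigma.ι_desc_assoc, comp_zero] at this ⊢
        exact this
      · have := Sigma.ι (fun j => ModSite.freeOn O (VG j)) j ≫= h2
        simp only [γ, Sigma.ι_desc_assoc, comp_zero, Category.assoc] at this ⊢
        exact this
  have e1 : cokernel α' ≅ cokernel γ :=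
    CokerLemma.cokernelIso ψG α' (ρ ≫ cokernel.π ψF) β hβ γ hγ
  refine isTypeA_of_finite O B W ?_ UG hUG γ _ (e0 ≪≫ e1)
  rintro (p | j)
  · exact hYB p.1 p.2
  · exact hVG j

end Groth.Agent.Lib.Helper1.TypeA
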