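import Groth.Prelude.Def_Flat
import Mathlib.AlgebraicGeometry.Morphisms.UniversallyOpen
import Mathlib.AlgebraicGeometry.Morphisms.UniversallyInjective
import Mathlib.AlgebraicGeometry.Morphisms.FlatDescent

set_option autoImplicit false

namespace Groth.Agent.Lib.Helper1.UnivHomeo

open AlgebraicGeometry CategoryTheory MorphismProperty

universe u

theorem isUnivHomeo_eq :
    FlatMor.IsUnivHomeo.{u} = (@UniversallyOpen ⊓ @UniversallyInjective ⊓ @Surjective :
      MorphismProperty Scheme.{u}) := by
  have h1 : (topologically (fun f => IsHomeomorph f) : MorphismProperty Scheme.{u}) =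
      topologically @IsOpenMap ⊓ topologically (Function.Injective ·) ⊓ @Surjective := by
    ext X Y f
    simp only [topologically]
    change IsHomeomorph _ ↔ (IsOpenMap _ ∧ Function.Injective _) ∧ Surjective f
    constructor
    · intro h
      exact ⟨⟨h.isOpenMap, h.injective⟩, ⟨h.surjective⟩⟩
    · rintro ⟨⟨h1, h2⟩, h3⟩
      exact ⟨f.continuous, h1, h2, h3.surj⟩
  unfold FlatMor.IsUnivHomeo
  rw [h1, universally_inf, universally_inf, ← UniversallyOpen.eq, ← universallyInjective_eq,
    IsStableUnderBaseChange.universally_eq]

end Groth.Agent.Lib.Helper1.UnivHomeo
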