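import Groth.Agent.Lib.Helper1.FibGeom6
import Groth.Agent.Lib.Helper1.FibFact4

/-!
# Vertical functions on a regular model: local factorization along the fibre components (helper1)
-/

set_option autoImplicit false
universe u

open CategoryTheory AlgebraicGeometry TopologicalSpace IsLocalRing

namespace Groth.Agent.Lib.Helper1.VertDiv

open Groth.Agent.Lib.Helper13.StalkSpecLoc Groth.Agent.Lib.Helper1.FibGeom

variable (R : Type u) [CommRing R] [IsDomain R] [IsDiscreteValuationRing R]
  (X : Over (Spec (CommRingCat.of R)))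

section MinimalPrimes

variable {n : ℕ} (Γ : Fin n → ArSurf.VertComp R X) (hΓ : Models.IsComponentList R X Γ)
  (x : X.left) {π : R} (hπ : Irreducible π)

include hπ in
theorem mem_specialFibre_iff' (a : Spec (X.left.presheaf.stalk x)) :
    (X.left.fromSpecStalk x) a ∈ Models.specialFibreSet R X ↔
      Ideal.span {Models.stalkHom R X x π} ≤ a.asIdeal := by
  rw [← map_stalkHom_maximalIdeal R X x hπ]
  exact Groth.Agent.Lib.Helper19.ArSec1.mem_specialFibre_iff R X x a

include hΓ hπ in
theorem compPrime_mem_minimalPrimes (i : Fin n) (h : Models.genPtOf R X (Γ i) ⤳ x) :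
    compPrime R X x (Γ i) ∈ (Ideal.span {Models.stalkHom R X x π}).minimalPrimes := by
  rw [compPrime_of_specializes R X x (Γ i) h]
  exact primeOf_mem_minimalPrimes x _ (Models.isClosed_specialFibreSet R X) _
    (mem_specialFibre_iff' R X x hπ) h (mem_fibreComponents R X n Γ hΓ i)

include hΓ hπ in
theorem exists_of_mem_minimalPrimes (Q : Ideal (X.left.presheaf.stalk x))
    (hQ : Q ∈ (Ideal.span {Models.stalkHom R X x π}).minimalPrimes) :
    ∃ i, Models.genPtOf R X (Γ i) ⤳ x ∧ Q = compPrime R X x (Γ i) := by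
  haveI : Q.IsPrime := hQ.1.1
  obtain ⟨ζ, hζ, rfl⟩ := exists_primeOf_eq x Q
  have hmax := maximal_closure_of_mem_minimalPrimes x _ (Models.isClosed_specialFibreSet R X) _
    (mem_specialFibre_iff' R X x hπ) hζ hQ
  have hmem : closure {ζ} ∈ Models.fibreComponents R X := hmax
  rw [← hΓ.2] at hmem
  obtain ⟨i, hi⟩ := hmem
  have hi' : Set.range ((Γ i).ι.base : (Γ i).curve.left → X.left) = closure {ζ} := hi
  rw [range_eq_closure_genPtOf] at hi'
  have h1 : IsGenericPoint (Models.genPtOf R X (Γ i)) (closure {ζ}) := hi'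
  have h2 : IsGenericPoint ζ (closure {ζ}) := rfl
  have h3 : Models.genPtOf R X (Γ i) = ζ := h1.eq h2
  have h4 : Models.genPtOf R X (Γ i) ⤳ x := h3 ▸ hζ
  refine ⟨i, h4, ?_⟩
  rw [compPrime_of_specializes R X x (Γ i) h4]
  congr 1
  exact h3.symm

include hΓ in
theorem compPrime_injective (i j : Fin n) (hi : Models.genPtOf R X (Γ i) ⤳ x)
    (hj : Models.genPtOf R X (Γ j) ⤳ x)
    (he : compPrime R X x (Γ i) = compPrime R X x (Γ j)) : i = j := by
  rw [compPrime_of_specializes R X x (Γ i) hi, compPrime_of_specializes R X x (Γ j) hj] at he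
  have h1 := primeOf_injective x hi hj he
  apply hΓ.1
  change Set.range ((Γ i).ι.base : (Γ i).curve.left → X.left) =
    Set.range ((Γ j).ι.base : (Γ j).curve.left → X.left)
  rw [range_eq_closure_genPtOf, range_eq_closure_genPtOf, h1]

end MinimalPrimes

/-- a function on an open `U` of `X` is vertical if it divides a power of the uniformizer. -/
def IsVertical (π : R) (U : X.left.Opens) (F : Γ(X.left, U)) : Prop :=
  ∃ (G : Γ(X.left, U)) (k : ℕ), F * G = secHom R X U π ^ k

/-- **local factorization of a vertical function** along the components of the closed fibre. -/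
theorem span_germ_eq_prod (hflat : Flat X.hom)
    (hreg : ∀ x : X.left, IsRegularLocalRing (X.left.presheaf.stalk x))
    {n : ℕ} (Γ : Fin n → ArSurf.VertComp R X) (hΓ : Models.IsComponentList R X Γ)
    {π : R} (hπ : Irreducible π) (U : X.left.Opens) (x : X.left) (hx : x ∈ U) (F : Γ(X.left, U))
    (hF : IsVertical R X π U F) (c : Fin n → ℕ)
    (hc : ∀ (i : Fin n) (h : Models.genPtOf R X (Γ i) ⤳ x), c i =
      (Module.length (X.left.presheaf.stalk (Models.genPtOf R X (Γ i)))
        (X.left.presheaf.stalk (Models.genPtOf R X (Γ i)) ⧸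
          Ideal.span {(X.left.presheaf.germ U (Models.genPtOf R X (Γ i)) (h.mem_open U.2 hx)).hom F})).toNat) :
    Ideal.span {(X.left.presheaf.germ U x hx).hom F} = ∏ i, compPrime R X x (Γ i) ^ c i := by
  classical
  haveI := hreg x
  haveI : IsDomain (X.left.presheaf.stalk x) :=
    Groth.Agent.Lib.helper19.isDomain_of_isRegularLocalRing _
  haveI : UniqueFactorizationMonoid (X.left.presheaf.stalk x) :=
    Groth.Agent.Lib.helper11.RegularUFD.ufd _
  set ϖ := Models.stalkHom R X x π with hϖdef
  have hϖ : ϖ ≠ 0 := stalkHom_ne_zero R X hflat x hπ.ne_zero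
  obtain ⟨G, k, hFG⟩ := hF
  set g := (X.left.presheaf.germ U x hx).hom F with hgdef
  have hgk : g ∣ ϖ ^ k := by
    refine ⟨(X.left.presheaf.germ U x hx).hom G, ?_⟩
    rw [hgdef, ← map_mul, hFG, map_pow, germ_secHom]
  have hg0 : g ≠ 0 := by
    rintro h0
    rw [h0] at hgk
    exact pow_ne_zero k hϖ (zero_dvd_iff.mp hgk)
  set S : Finset (Fin n) := Finset.univ.filter (fun i => Models.genPtOf R X (Γ i) ⤳ x) with hS
  have hmemS : ∀ i, i ∈ S ↔ Models.genPtOf R X (Γ i) ⤳ x := by
    intro i
    rw [hS, Finset.mem_filter]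
    simp
  have key : Ideal.span {g} = ∏ i ∈ S, compPrime R X x (Γ i) ^ c i := by
    apply FibFact.span_eq_prod_pow_of_dvd_pow S _ _ hϖ k hgk
    · intro i hi
      exact compPrime_mem_minimalPrimes R X Γ hΓ x hπ i ((hmemS i).mp hi)
    · intro Q hQ
      obtain ⟨i, hi, hQi⟩ := exists_of_mem_minimalPrimes R X Γ hΓ x hπ Q hQ
      exact ⟨i, (hmemS i).mpr hi, hQi⟩
    · intro i hi j hj hij he
      exact hij (compPrime_injective R X Γ hΓ x i j ((hmemS i).mp hi) ((hmemS j).mp hj) he)
    · intro i hi q hq hP
      have h := (hmemS i).mp hi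
      rw [compPrime_of_specializes R X x (Γ i) h] at hP
      letI := (X.left.presheaf.stalkSpecializes h).hom.toAlgebra
      haveI := isLocalization_stalkSpecializes h
      have hlen := FibFact.pow_dvd_and_not_of_length hg0 (primeOf h)
        (X.left.presheaf.stalk (Models.genPtOf R X (Γ i))) hq hP
      have hm : c i =
          (Module.length (X.left.presheaf.stalk (Models.genPtOf R X (Γ i)))
            (X.left.presheaf.stalk (Models.genPtOf R X (Γ i)) ⧸
              Ideal.span {algebraMap (X.left.presheaf.stalk x)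
                (X.left.presheaf.stalk (Models.genPtOf R X (Γ i))) g})).toNat := by
        rw [hc i h]
        have : (X.left.presheaf.germ U (Models.genPtOf R X (Γ i)) (h.mem_open U.2 hx)).hom F =
            algebraMap (X.left.presheaf.stalk x)
              (X.left.presheaf.stalk (Models.genPtOf R X (Γ i))) g :=
          (TopCat.Presheaf.germ_stalkSpecializes_apply X.left.presheaf (U := U) (hy := hx) h F).symm
        rw [this]
      rw [hm]
      exact hlen
  rw [key]
  apply Finset.prod_subset (Finset.subset_univ S)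
  intro i _ hi
  have h : ¬ Models.genPtOf R X (Γ i) ⤳ x := fun h => hi ((hmemS i).mpr h)
  rw [compPrime_of_not_specializes R X x (Γ i) h, ← Ideal.one_eq_top, one_pow]

end Groth.Agent.Lib.Helper1.VertDiv
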