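import Groth.Agent.Lib.Helper1.VertDiv9

/-!
# Isomorphic vertical ideal modules differ by a multiple of the closed fibre (helper1)
-/

set_option autoImplicit false
universe u

open CategoryTheory AlgebraicGeometry TopologicalSpace IsLocalRing

namespace Groth.Agent.Lib.Helper1.VertDiv

open Groth.Agent.Lib.Helper13.StalkSpecLoc Groth.Agent.Lib.Helper1.FibGeom
  Groth.Agent.Lib.Helper28 Groth.Agent.Lib.Helper28.QCohLoc Groth.Agent.Lib.Helper28.GenLocus
  Groth.Agent.Lib.Helper28.IdealDual Groth.Agent.Lib.Helper1.CartCl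

section Inj

variable {Y : Scheme.{u}}

/-- restriction from an affine open `U` to `U ∩ D(ϖ)` is injective when `ϖ` is a nonzerodivisor on `U`. -/
theorem resO_inf_basicOpen_injective {U : Y.Opens} (hU : IsAffineOpen U) (ϖ : Γ(Y, ⊤))
    (hϖ : resO (le_top : U ≤ ⊤) ϖ ∈ nonZeroDivisors Γ(Y, U)) (x y : Γ(Y, U))
    (h : resO (inf_le_left : U ⊓ Y.basicOpen ϖ ≤ U) x = resO (inf_le_left : U ⊓ Y.basicOpen ϖ ≤ U) y) :
    x = y := by
  set ϖU := resO (le_top : U ≤ ⊤) ϖ with hϖU
  have hVb : U ⊓ Y.basicOpen ϖ = Y.basicOpen ϖU := (basicOpen_resO (le_top : U ≤ ⊤) ϖ).symm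
  have hdiff : resO (inf_le_left : U ⊓ Y.basicOpen ϖ ≤ U) (x - y) = 0 := by
    rw [resO_sub, h, sub_self]
  obtain ⟨m, hm⟩ := exists_pow_mul_eq_zero hU.isCompact _ ϖU hVb inf_le_left hdiff
  have hnz : ϖU ^ m ∈ nonZeroDivisors Γ(Y, U) := pow_mem hϖ m
  have h4 : x - y = 0 := (mem_nonZeroDivisors_iff_right.mp hnz) _ (by rw [mul_comm]; exact hm)
  exact sub_eq_zero.mp h4

end Inj

variable (R : Type u) [CommRing R] [IsDomain R] [IsDiscreteValuationRing R]
  (X : Over (Spec (CommRingCat.of R)))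

variable {n : ℕ} (Γ : Fin n → ArSurf.VertComp R X) (hΓ : Models.IsComponentList R X Γ)

include hΓ in
/-- **isomorphic vertical ideal modules**: if `∏ I(Γᵢ)^aᵢ` and `∏ I(Γᵢ)^bᵢ` have isomorphic ideal modules, and
the functions on the generic fibre `D(π)` are fractions of elements of `R`, then `a - b` is an integer multiple
of the vector of multiplicities. -/
theorem exists_int_of_idealMod_iso (hflat : Flat X.hom) (hft : LocallyOfFiniteType X.hom)
    (hreg : ∀ x : X.left, IsRegularLocalRing (X.left.presheaf.stalk x))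
    {π : R} (hπ : Irreducible π) (a b : Fin n → ℕ)
    (hK : ∀ ρ : Γ(X.left, X.left.basicOpen (Coh.toGlobal X.hom π)), IsUnit ρ →
      ∃ s t : R, s ≠ 0 ∧ t ≠ 0 ∧
        resO (le_top : X.left.basicOpen (Coh.toGlobal X.hom π) ≤ ⊤) (Coh.toGlobal X.hom s) * ρ =
          resO (le_top : X.left.basicOpen (Coh.toGlobal X.hom π) ≤ ⊤) (Coh.toGlobal X.hom t))
    (ψ : ClSub.idealMod (∏ i, (Γ i).ι.ker ^ a i) ≅ ClSub.idealMod (∏ i, (Γ i).ι.ker ^ b i)) :
    ∃ c : ℤ, ∀ i, (a i : ℤ) - (b i : ℤ) = c * (Models.mult R X (Γ i) : ℤ) := by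
  set ϖ : Γ(X.left, ⊤) := Coh.toGlobal X.hom π with hϖ
  set W := X.left.basicOpen ϖ with hW
  set A : X.left.IdealSheafData := ∏ i, (Γ i).ι.ker ^ a i with hA
  set B : X.left.IdealSheafData := ∏ i, (Γ i).ι.ker ^ b i with hB
  have hEC : ∀ i, BlowUp.IsEffCartierIdeal (Γ i).ι.ker := fun i =>
    isEffCartierIdeal_ker R X hflat hft hreg Γ hΓ i
  have hAc : BlowUp.IsEffCartierIdeal A :=
    isEffCartierIdeal_prod _ _ fun i _ => isEffCartierIdeal_pow (hEC i) _
  have hBc : BlowUp.IsEffCartierIdeal B :=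
    isEffCartierIdeal_prod _ _ fun i _ => isEffCartierIdeal_pow (hEC i) _
  -- the unit sections over `W`
  obtain ⟨oneA, honeA⟩ := exists_iota_eq_one R X Γ hΓ hπ a
  obtain ⟨oneB, honeB⟩ := exists_iota_eq_one R X Γ hΓ hπ b
  set ρ : Γ(X.left, W) := iota B (ψ.hom.app W oneA) with hρ
  set ρ' : Γ(X.left, W) := iota A (ψ.inv.app W oneB) with hρ'
  have h1 : ψ.hom.app W oneA = (ρ • oneB : Γ(ClSub.idealMod B, W)) := by
    apply iota_injective B
    rw [iota_smul, honeB, mul_one]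
  have h2 : ψ.inv.app W (ψ.hom.app W oneA) = oneA := by
    have := congrArg (fun φ => φ.app W oneA) ψ.hom_inv_id
    exact this
  have hρρ' : ρ * ρ' = 1 := by
    rw [h1, Scheme.Modules.Hom.app_smul] at h2
    have h3 := congrArg (iota A) h2
    rw [iota_smul, honeA] at h3
    exact h3
  have hρu : IsUnit ρ := IsUnit.of_mul_eq_one _ hρρ'
  -- `ρ` is a fraction of elements of `R`
  obtain ⟨s, t, hs0, ht0, hst⟩ := hK ρ hρu
  obtain ⟨α, us, hus⟩ := IsDiscreteValuationRing.eq_unit_mul_pow_irreducible hs0 hπ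
  obtain ⟨β, ut, hut⟩ := IsDiscreteValuationRing.eq_unit_mul_pow_irreducible ht0 hπ
  refine ⟨(α : ℤ) - (β : ℤ), fun i => ?_⟩
  -- a chart at the generic point of `Γᵢ`
  obtain ⟨c, hic⟩ := exists_chart₂ hAc hBc (Models.genPtOf R X (Γ i))
  obtain ⟨φa, hφag, hφae⟩ := exists_isGen_idealMod A c.U.2 c.f c.hf c.hI
  obtain ⟨φb, hφbg, hφbe⟩ := exists_isGen_idealMod B c.U.2 c.g c.hg c.hJ
  set r := hφbg.coef le_rfl (ψ.hom.app c.U.1 φa) with hr
  have hrφ : ψ.hom.app c.U.1 φa = (r • φb : Γ(ClSub.idealMod B, c.U.1)) := by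
    have := hφbg.coef_smul le_rfl (ψ.hom.app c.U.1 φa)
    rw [res_self] at this
    exact this.symm
  -- `r` is a unit
  set r' := hφag.coef le_rfl (ψ.inv.app c.U.1 φb) with hr'
  have hr'φ : ψ.inv.app c.U.1 φb = (r' • φa : Γ(ClSub.idealMod A, c.U.1)) := by
    have := hφag.coef_smul le_rfl (ψ.inv.app c.U.1 φb)
    rw [res_self] at this
    exact this.symm
  have hrr' : r * r' = 1 := by
    have h4 : ψ.inv.app c.U.1 (ψ.hom.app c.U.1 φa) = φa := by
      have := congrArg (fun φ => φ.app c.U.1 φa) ψ.hom_inv_id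
      exact this
    rw [hrφ, Scheme.Modules.Hom.app_smul, hr'φ, ← mul_smul] at h4
    apply (hφag c.U.1 le_rfl).1
    show ((r * r') • res (ClSub.idealMod A) le_rfl φa : Γ(ClSub.idealMod A, c.U.1)) =
      ((1 : Γ(X.left, c.U.1)) • res (ClSub.idealMod A) le_rfl φa : Γ(ClSub.idealMod A, c.U.1))
    rw [res_self, one_smul]
    exact h4
  -- the relation on `V = U ∩ W`
  have hVU : c.U.1 ⊓ W ≤ c.U.1 := inf_le_left
  have hVW : c.U.1 ⊓ W ≤ W := inf_le_right
  have hφa1 : res (ClSub.idealMod A) hVU φa =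
      (resO hVU c.f • res (ClSub.idealMod A) hVW oneA : Γ(ClSub.idealMod A, c.U.1 ⊓ W)) := by
    apply iota_injective A
    rw [iota_smul, iota_res, iota_res, hφae, honeA]
    have : resO hVW (1 : Γ(X.left, W)) = 1 := map_one _
    rw [this, mul_one]
  have hstar : resO hVU r * resO hVU c.g = resO hVU c.f * resO hVW ρ := by
    have h5 := congrArg (ψ.hom.app (c.U.1 ⊓ W)) hφa1
    rw [app_res, hrφ, Scheme.Modules.Hom.app_smul, app_res, res_smul] at h5
    have h6 := congrArg (iota B) h5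
    rw [iota_smul, iota_res, hφbe, iota_smul, iota_res] at h6
    exact h6
  -- the relation on `U`
  have hWs : ∀ z : R, resO hVW (resO (le_top : W ≤ ⊤) (Coh.toGlobal X.hom z)) =
      resO hVU (secHom R X c.U.1 z) := by
    intro z
    rw [resO_resO]
    exact (resO_resO (le_top : c.U.1 ≤ ⊤) hVU (Coh.toGlobal X.hom z)).symm
  have hE : r * c.g * secHom R X c.U.1 s = c.f * secHom R X c.U.1 t := by
    apply resO_inf_basicOpen_injective c.U.2 ϖ
      (secHom_mem_nonZeroDivisors R X hflat c.U hπ.ne_zero)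
    rw [resO_mul, resO_mul, resO_mul, hstar, ← hWs s, ← hWs t, ← hst, resO_mul]
    ring
  -- take germs at the generic point of `Γᵢ`
  set ξ := Models.genPtOf R X (Γ i) with hξ
  set gm := (X.left.presheaf.germ c.U.1 ξ hic).hom with hgm
  obtain ⟨tt, htt0, httm⟩ := exists_maximalIdeal_eq_span R X Γ hΓ hflat hreg i
  haveI := hreg ξ
  haveI : IsDomain (X.left.presheaf.stalk ξ) :=
    Groth.Agent.Lib.helper19.isDomain_of_isRegularLocalRing _
  have hgs : ∀ (z : R) (k : ℕ) (uz : Rˣ), z = (uz : R) * π ^ k →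
      Ideal.span {gm (secHom R X c.U.1 z)} =
        maximalIdeal (X.left.presheaf.stalk ξ) ^ (Models.mult R X (Γ i) * k) := by
    intro z k uz hz
    rw [hgm, germ_secHom, hz, map_mul, map_pow, ← Ideal.span_singleton_mul_span_singleton,
      ← Ideal.span_singleton_pow, span_germ_uniformizer R X Γ hΓ hflat hreg hπ i, ← pow_mul]
    have hu : IsUnit (Models.stalkHom R X ξ (uz : R)) := uz.isUnit.map _
    rw [Ideal.span_singleton_eq_top.mpr hu, Ideal.top_mul]
  have hgf : Ideal.span {gm c.f} = maximalIdeal (X.left.presheaf.stalk ξ) ^ a i := by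
    rw [← map_prod_ideal_germ_genPt R X Γ hΓ a i c.U hic, c.hI, Ideal.map_span, Set.image_singleton]
  have hgg : Ideal.span {gm c.g} = maximalIdeal (X.left.presheaf.stalk ξ) ^ b i := by
    rw [← map_prod_ideal_germ_genPt R X Γ hΓ b i c.U hic, c.hJ, Ideal.map_span, Set.image_singleton]
  have hgr : Ideal.span {gm r} = ⊤ := by
    rw [Ideal.span_singleton_eq_top]
    exact IsUnit.of_mul_eq_one (gm r') (by rw [← map_mul, hrr', map_one])
  have hEg := congrArg (fun z => Ideal.span {gm z}) hE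
  simp only [map_mul] at hEg
  rw [← Ideal.span_singleton_mul_span_singleton, ← Ideal.span_singleton_mul_span_singleton,
    ← Ideal.span_singleton_mul_span_singleton, hgr, Ideal.top_mul, hgg, hgf, hgs s α us hus,
    hgs t β ut hut, ← pow_add, ← pow_add] at hEg
  have hexp := pow_maximalIdeal_injective htt0 httm hEg
  have hexp' : ((b i : ℤ) + (Models.mult R X (Γ i) : ℤ) * α) = (a i : ℤ) + (Models.mult R X (Γ i) : ℤ) * β := by
    exact_mod_cast hexp
  linarith

end Groth.Agent.Lib.Helper1.VertDiv
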