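import Groth.Agent.Lib.Helper1.VertDiv6

/-!
# Invertible modules on a regular proper model which are trivial on the generic fibre (helper1)
-/

set_option autoImplicit false
universe u

open CategoryTheory CategoryTheory.Limits AlgebraicGeometry TopologicalSpace IsLocalRing

namespace Groth.Agent.Lib.Helper1.VertDiv

open Groth.Agent.Lib.Helper28 Groth.Agent.Lib.Helper28.QCohLoc Groth.Agent.Lib.Helper28.GenLocus
  Groth.Agent.Lib.Helper8.PicCl Groth.Agent.Lib.Helper1.CartCl Groth.Agent.Lib.Helper1.FibGeom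

attribute [local instance] Groth.Agent.Lib.Helper8.PicCl.commMonoid

variable (R : Type u) [CommRing R] [IsDomain R] [IsDiscreteValuationRing R]
  {C X : Scheme.{u}} (g : C ⟶ X) (f : C ⟶ Spec (CommRingCat.of (FractionRing R)))
  (p : X ⟶ Spec (CommRingCat.of R))
  (hg : IsPullback g f p (Spec.map (CommRingCat.ofHom (algebraMap R (FractionRing R)))))

include hg in
/-- a module trivial on the generic fibre has a generator over `D(π)`. -/
theorem exists_isGen_basicOpen {π : R} (hπ : Irreducible π) (M : X.Modules)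
    (htriv : Nonempty ((Scheme.Modules.pullback g).obj M ≅ Coh.structureModule C)) :
    ∃ τ : Γ(M, X.basicOpen (Coh.toGlobal p π)), IsGen M (X.basicOpen (Coh.toGlobal p π)) τ := by
  haveI := isOpenImmersion_genericFibre R g f p hg
  obtain ⟨e⟩ := htriv
  obtain ⟨τ₀, hτ₀⟩ := exists_isGen_of_restrict_iso M g
    ((Scheme.Modules.restrictFunctorIsoPullback g).app M ≪≫ e)
  have hW : g ''ᵁ ⊤ = X.basicOpen (Coh.toGlobal p π) := by
    apply Opens.ext
    rw [← range_genericFibre R g f p hg hπ, Scheme.Hom.image_top_eq_opensRange]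
    rfl
  rw [← hW]
  exact ⟨τ₀, hτ₀⟩

include hg in
/-- **invertible modules trivial on the generic fibre are vertical divisors.** -/
theorem exists_multiTwist_iso (hflat : Flat p) (hft : LocallyOfFiniteType p)
    (hreg : ∀ x : X, IsRegularLocalRing (X.presheaf.stalk x))
    [CompactSpace X] [QuasiSeparatedSpace X]
    {n : ℕ} (Γ : Fin n → ArSurf.VertComp R (Over.mk p))
    (hΓ : Models.IsComponentList R (Over.mk p) Γ)
    (L : Fin n → X.Modules) (hL : ∀ i, ClSub.IsInverseOf (L i) (ClSub.idealMod (Γ i).ι.ker))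
    (M : X.Modules) (hM : PicF.IsInvertible M)
    (htriv : Nonempty ((Scheme.Modules.pullback g).obj M ≅ Coh.structureModule C)) :
    ∃ a b : Fin n → ℕ, Nonempty (CohB1.tensorMod M (FGA.multiTwist L a) ≅ FGA.multiTwist L b) := by
  obtain ⟨π, hπ⟩ := IsDiscreteValuationRing.exists_irreducible R
  obtain ⟨τ, hτ⟩ := exists_isGen_basicOpen R g f p hg hπ M htriv
  haveI : CompactSpace (Over.mk p).left := ‹CompactSpace X›
  haveI : QuasiSeparatedSpace (Over.mk p).left := ‹QuasiSeparatedSpace X›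
  obtain ⟨c, ⟨e⟩⟩ := exists_tensor_idealMod_iso R (Over.mk p) hflat hreg Γ hΓ hπ M hM
    (Coh.toGlobal p π) rfl τ hτ
  set I : Fin n → X.IdealSheafData := fun i => (Γ i).ι.ker with hI
  have hEC : ∀ i, BlowUp.IsEffCartierIdeal (I i) := fun i =>
    isEffCartierIdeal_ker R (Over.mk p) hflat hft hreg Γ hΓ i
  have e' : CohB1.tensorMod M (ClSub.idealMod (∏ i, I i ^ c i)) ≅ Coh.structureModule X := e
  have h1 : PicF.cl M * PicF.cl (ClSub.idealMod (∏ i, I i ^ c i)) = 1 := by
    rw [cl_mul_cl, one_def, cl_eq_iff]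
    exact ⟨e'⟩
  have h2 : PicF.cl (ClSub.idealMod (∏ i, I i ^ c i)) =
      ∏ i, PicF.cl (ClSub.idealMod (I i)) ^ c i := by
    rw [cl_idealMod_prod _ _ fun i _ => isEffCartierIdeal_pow (hEC i) _]
    exact Finset.prod_congr rfl fun i _ => cl_idealMod_pow (hEC i) _
  have h3 : ∀ i, PicF.cl (L i) * PicF.cl (ClSub.idealMod (I i)) = 1 :=
    fun i => (isInverseOf_iff _ _).mp (hL i)
  refine ⟨0, c, ?_⟩
  rw [← cl_eq_iff, ← cl_mul_cl, cl_multiTwist, cl_multiTwist]
  simp only [Pi.zero_apply, pow_zero, Finset.prod_const_one, mul_one]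
  calc PicF.cl M = PicF.cl M * ∏ i, (PicF.cl (ClSub.idealMod (I i)) * PicF.cl (L i)) ^ c i := by
        rw [Finset.prod_eq_one, mul_one]
        intro i _
        rw [mul_comm, h3 i, one_pow]
    _ = (PicF.cl M * ∏ i, PicF.cl (ClSub.idealMod (I i)) ^ c i) * ∏ i, PicF.cl (L i) ^ c i := by
        simp only [mul_pow, Finset.prod_mul_distrib, mul_assoc]
    _ = ∏ i, PicF.cl (L i) ^ c i := by rw [← h2, h1, one_mul]

end Groth.Agent.Lib.Helper1.VertDiv
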