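import Groth.Agent.Lib.Helper1.VertDiv10
import Groth.Agent.Lib.Helper1.VertDiv7

/-!
# Functions on the generic fibre of a model of a curve with `H⁰(C, O_C) = K` are fractions of elements of `R` (helper1)
-/

set_option autoImplicit false
universe u

open CategoryTheory CategoryTheory.Limits AlgebraicGeometry TopologicalSpace IsLocalRing

namespace Groth.Agent.Lib.Helper1.VertDiv

open Groth.Agent.Lib.Helper28 Groth.Agent.Lib.Helper28.QCohLoc

variable (R : Type u) [CommRing R] [IsDomain R] [IsDiscreteValuationRing R]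
  {C X : Scheme.{u}} (g : C ⟶ X) (f : C ⟶ Spec (CommRingCat.of (FractionRing R)))
  (p : X ⟶ Spec (CommRingCat.of R))
  (hg : IsPullback g f p (Spec.map (CommRingCat.ofHom (algebraMap R (FractionRing R)))))

theorem appLE_bijective_of_image_top_eq [IsOpenImmersion g] (W : X.Opens) (hW : g ''ᵁ ⊤ = W)
    (hle : (⊤ : C.Opens) ≤ g ⁻¹ᵁ W) : Function.Bijective (g.appLE W ⊤ hle).hom := by
  subst hW
  have h1 : g.appLE (g ''ᵁ ⊤) ⊤ hle = (g.appIso ⊤).hom := (Scheme.Hom.appIso_hom' g ⊤).symm
  rw [h1]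
  exact ConcreteCategory.bijective_of_isIso (g.appIso ⊤).hom

include hg in
/-- **functions on the generic fibre are fractions of elements of `R`** when `H⁰(C, O_C) = K`. -/
theorem exists_fraction (hH0 : IsIso f.appTop) {π : R} (hπ : Irreducible π)
    (ρ : Γ(X, X.basicOpen (Coh.toGlobal p π))) (hρ : IsUnit ρ) :
    ∃ s t : R, s ≠ 0 ∧ t ≠ 0 ∧
      resO (le_top : X.basicOpen (Coh.toGlobal p π) ≤ ⊤) (Coh.toGlobal p s) * ρ =
        resO (le_top : X.basicOpen (Coh.toGlobal p π) ≤ ⊤) (Coh.toGlobal p t) := by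
  haveI := isOpenImmersion_genericFibre R g f p hg
  have hW : g ''ᵁ ⊤ = X.basicOpen (Coh.toGlobal p π) := by
    apply Opens.ext
    rw [← range_genericFibre R g f p hg hπ, Scheme.Hom.image_top_eq_opensRange]
    rfl
  have hle : (⊤ : C.Opens) ≤ g ⁻¹ᵁ X.basicOpen (Coh.toGlobal p π) := by
    intro c _
    show g c ∈ X.basicOpen (Coh.toGlobal p π)
    rw [← SetLike.mem_coe, ← range_genericFibre R g f p hg hπ]
    exact ⟨c, rfl⟩
  set α := (g.appLE (X.basicOpen (Coh.toGlobal p π)) ⊤ hle).hom with hα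
  have hαb : Function.Bijective α := appLE_bijective_of_image_top_eq g _ hW hle
  set β : FractionRing R →+* Γ(C, ⊤) :=
    f.appTop.hom.comp (Scheme.ΓSpecIso (CommRingCat.of (FractionRing R))).inv.hom with hβ
  have hβb : Function.Bijective β := by
    have h1 : Function.Bijective f.appTop.hom := ConcreteCategory.bijective_of_isIso f.appTop
    have h2 : Function.Bijective (Scheme.ΓSpecIso (CommRingCat.of (FractionRing R))).inv.hom :=
      ConcreteCategory.bijective_of_isIso (Scheme.ΓSpecIso (CommRingCat.of (FractionRing R))).inv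
    exact h1.comp h2
  -- compatibility of the two maps on `R`
  have hcomm : ∀ r : R, β (algebraMap R (FractionRing R) r) =
      α (resO (le_top : X.basicOpen (Coh.toGlobal p π) ≤ ⊤) (Coh.toGlobal p r)) := by
    intro r
    have h1 : α (resO (le_top : X.basicOpen (Coh.toGlobal p π) ≤ ⊤) (Coh.toGlobal p r)) =
        g.appTop.hom (Coh.toGlobal p r) := by
      have := Scheme.Hom.map_appLE g (U := X.basicOpen (Coh.toGlobal p π)) (V := ⊤) (U' := ⊤) hle
        (homOfLE le_top).op
      have h3 : ∀ (e : (⊤ : C.Opens) ≤ g ⁻¹ᵁ ⊤), g.appLE ⊤ ⊤ e = g.appTop := by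
        intro e
        exact Scheme.Hom.appLE_eq_app (f := g) (U := ⊤)
      rw [h3] at this
      have h2 := congrArg (fun φ => φ.hom (Coh.toGlobal p r)) this
      exact h2
    rw [h1]
    have h3 := Scheme.ΓSpecIso_inv_naturality (CommRingCat.ofHom (algebraMap R (FractionRing R)))
    have h4 := congrArg (fun φ => φ.hom r) h3
    simp only [CommRingCat.hom_comp, RingHom.comp_apply, CommRingCat.hom_ofHom] at h4
    rw [hβ, RingHom.comp_apply, h4]
    have h5 := congrArg (fun φ => φ.appTop) hg.w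
    simp only [Scheme.Hom.comp_appTop] at h5
    have h6 := congrArg (fun φ => φ.hom ((Scheme.ΓSpecIso (CommRingCat.of R)).inv.hom r)) h5
    simp only [CommRingCat.hom_comp, RingHom.comp_apply] at h6
    exact h6.symm
  -- the fraction
  obtain ⟨κ, hκ⟩ := hβb.2 (α ρ)
  have hκ0 : κ ≠ 0 := by
    rintro rfl
    rw [map_zero] at hκ
    have h1 : ρ = 0 := hαb.1 (by rw [map_zero]; exact hκ.symm)
    rw [h1] at hρ
    have h2 : (1 : Γ(X, X.basicOpen (Coh.toGlobal p π))) = 0 := by
      obtain ⟨v, hv⟩ := hρ.exists_left_inv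
      rw [mul_zero] at hv
      exact hv.symm
    have h3 : (1 : FractionRing R) = 0 := by
      apply hβb.1
      rw [map_one, map_zero, ← map_one α, h2, map_zero]
    exact one_ne_zero h3
  obtain ⟨t, s, hs, hts⟩ := IsFractionRing.div_surjective (A := R) κ
  have hs0 : s ≠ 0 := nonZeroDivisors.ne_zero hs
  have hsK : algebraMap R (FractionRing R) s ≠ 0 := by
    intro h
    exact hs0 ((IsFractionRing.injective R (FractionRing R)) (by rw [h, map_zero]))
  have ht0 : t ≠ 0 := by
    rintro rfl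
    rw [map_zero, zero_div] at hts
    exact hκ0 hts.symm
  refine ⟨s, t, hs0, ht0, ?_⟩
  apply hαb.1
  rw [map_mul, ← hcomm, ← hcomm, ← hκ, ← map_mul]
  congr 1
  rw [← hts, mul_div_cancel₀ _ hsK]

end Groth.Agent.Lib.Helper1.VertDiv
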