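import Groth.Agent.Lib.Helper1.VertDiv11
import Groth.Agent.Lib.Helper1.FibGeom7

/-!
# The kernel of `ℤⁿ → Pic X`, `eᵢ ↦ [O(Γᵢ)]`, is generated by the multiplicity vector (helper1)
-/

set_option autoImplicit false
universe u

open CategoryTheory CategoryTheory.Limits AlgebraicGeometry TopologicalSpace IsLocalRing

namespace Groth.Agent.Lib.Helper1.VertDiv

open Groth.Agent.Lib.Helper8.PicCl Groth.Agent.Lib.Helper1.CartCl Groth.Agent.Lib.Helper1.FibGeom

attribute [local instance] Groth.Agent.Lib.Helper8.PicCl.commMonoid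

section Monoid

variable {M : Type*} [CommMonoid M] {n : ℕ}

theorem prod_pow_eq_of_sub_eq (l : Fin n → M) (m : Fin n → ℕ) (hm : ∏ i, l i ^ m i = 1)
    (a b : Fin n → ℕ) (k : ℕ) (h : ∀ i, a i = b i + k * m i) :
    ∏ i, l i ^ a i = ∏ i, l i ^ b i := by
  have h1 : ∏ i, l i ^ a i = (∏ i, l i ^ b i) * (∏ i, l i ^ m i) ^ k := by
    rw [← Finset.prod_pow, ← Finset.prod_mul_distrib]
    apply Finset.prod_congr rfl
    intro i _
    rw [h i, pow_add, ← pow_mul, mul_comm k]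
  rw [h1, hm, one_pow, mul_one]

theorem prod_pow_eq_of_int (l : Fin n → M) (m : Fin n → ℕ) (hm : ∏ i, l i ^ m i = 1)
    (a b : Fin n → ℕ) (c : ℤ) (h : ∀ i, (a i : ℤ) - (b i : ℤ) = c * (m i : ℤ)) :
    ∏ i, l i ^ a i = ∏ i, l i ^ b i := by
  obtain ⟨k, rfl | rfl⟩ := Int.eq_nat_or_neg c
  · apply prod_pow_eq_of_sub_eq l m hm a b k
    intro i
    have := h i
    zify
    linarith
  · symm
    apply prod_pow_eq_of_sub_eq l m hm b a k
    intro i
    have := h i
    zify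
    linarith

theorem prod_pow_eq_of_inverse (l ι : Fin n → M) (h : ∀ i, l i * ι i = 1) (a b : Fin n → ℕ)
    (hab : ∏ i, l i ^ a i = ∏ i, l i ^ b i) : ∏ i, ι i ^ a i = ∏ i, ι i ^ b i := by
  have h1 : ∀ c : Fin n → ℕ, (∏ i, l i ^ c i) * (∏ i, ι i ^ c i) = 1 := by
    intro c
    rw [← Finset.prod_mul_distrib]
    apply Finset.prod_eq_one
    intro i _
    rw [← mul_pow, h i, one_pow]
  calc ∏ i, ι i ^ a i = ((∏ i, l i ^ b i) * (∏ i, ι i ^ b i)) * ∏ i, ι i ^ a i := by
        rw [h1 b, one_mul]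
    _ = ((∏ i, l i ^ a i) * (∏ i, ι i ^ a i)) * ∏ i, ι i ^ b i := by
        rw [← hab]
        rw [mul_assoc, mul_assoc, mul_comm (∏ i, ι i ^ b i)]
    _ = ∏ i, ι i ^ b i := by rw [h1 a, one_mul]

end Monoid

/-- **S3314 core**. -/
theorem multiTwist_iso_iff (R : Type u) [CommRing R] [IsDomain R] [IsDiscreteValuationRing R]
    (C X : Scheme.{u}) (f : C ⟶ Spec (CommRingCat.of (FractionRing R))) (p : X ⟶ Spec (CommRingCat.of R))
    (hH0 : IsIso f.appTop)
    (hX : Models.IsRegularProperModel R X p C f)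
    {n : ℕ} (Γ : Fin n → ArSurf.VertComp R (Over.mk p)) (hΓ : Models.IsComponentList R (Over.mk p) Γ)
    (L : Fin n → X.Modules) (hL : ∀ i, ClSub.IsInverseOf (L i) (ClSub.idealMod (Γ i).ι.ker)) (a b : Fin n → ℕ) :
    Nonempty (FGA.multiTwist L a ≅ FGA.multiTwist L b) ↔
      ∃ c : ℤ, ∀ i, (a i : ℤ) - (b i : ℤ) = c * (Models.mult R (Over.mk p) (Γ i) : ℤ) := by
  obtain ⟨⟨hflat, hft, hqc, g, hg⟩, hproper, hreg⟩ := hX
  obtain ⟨π, hπ⟩ := IsDiscreteValuationRing.exists_irreducible R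
  set I : Fin n → X.IdealSheafData := fun i => (Γ i).ι.ker with hI
  have hEC : ∀ i, BlowUp.IsEffCartierIdeal (I i) := fun i =>
    isEffCartierIdeal_ker R (Over.mk p) hflat hft hreg Γ hΓ i
  set lam : Fin n → PicF.Cl X := fun i => PicF.cl (L i) with hlam
  set io : Fin n → PicF.Cl X := fun i => PicF.cl (ClSub.idealMod (I i)) with hio
  have hli : ∀ i, lam i * io i = 1 := fun i => (isInverseOf_iff _ _).mp (hL i)
  have hclprod : ∀ c : Fin n → ℕ, PicF.cl (ClSub.idealMod (∏ i, I i ^ c i)) = ∏ i, io i ^ c i := by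
    intro c
    rw [cl_idealMod_prod _ _ fun i _ => isEffCartierIdeal_pow (hEC i) _]
    apply Finset.prod_congr rfl
    intro i _
    exact cl_idealMod_pow (hEC i) _
  have hiom : ∏ i, io i ^ Models.mult R (Over.mk p) (Γ i) = 1 := by
    rw [← hclprod]
    have h1 := specialFibreIdeal_eq_prod R (Over.mk p) hflat hreg Γ hΓ
    have h2 := cl_idealMod_specialFibreIdeal R (Over.mk p) hflat
    rw [h1] at h2
    exact h2
  have hlm : ∏ i, lam i ^ Models.mult R (Over.mk p) (Γ i) = 1 := by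
    have h1 : (∏ i, lam i ^ Models.mult R (Over.mk p) (Γ i)) *
        (∏ i, io i ^ Models.mult R (Over.mk p) (Γ i)) = 1 := by
      rw [← Finset.prod_mul_distrib]
      apply Finset.prod_eq_one
      intro i _
      rw [← mul_pow, hli i, one_pow]
    rw [hiom, mul_one] at h1
    exact h1
  rw [← cl_eq_iff, cl_multiTwist, cl_multiTwist]
  constructor
  · intro hab
    have h1 := prod_pow_eq_of_inverse lam io hli a b hab
    rw [← hclprod, ← hclprod, cl_eq_iff] at h1
    obtain ⟨ψ⟩ := h1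
    exact exists_int_of_idealMod_iso R (Over.mk p) Γ hΓ hflat hft hreg hπ a b
      (exists_fraction R g f p hg hH0 hπ) ψ
  · rintro ⟨c, hc⟩
    exact prod_pow_eq_of_int lam _ hlm a b c hc

end Groth.Agent.Lib.Helper1.VertDiv
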