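import Groth.Agent.Lib.Helper1.VertDiv12

/-!
# `Pic(X)[h] → Pic(C)[h]` is injective for `h` prime to the gcd of the multiplicities (helper1)
-/

set_option autoImplicit false
universe u

open CategoryTheory CategoryTheory.Limits AlgebraicGeometry TopologicalSpace IsLocalRing

namespace Groth.Agent.Lib.Helper1.VertDiv

open Groth.Agent.Lib.Helper8.PicCl Groth.Agent.Lib.Helper1.CartCl Groth.Agent.Lib.Helper1.FibGeom

attribute [local instance] Groth.Agent.Lib.Helper8.PicCl.commMonoid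

theorem exists_int_of_coprime {n : ℕ} (m c : Fin n → ℕ) (h : ℕ) (hh : 0 < h)
    (hcop : Nat.Coprime h (Finset.univ.gcd m)) (k : ℤ)
    (hk : ∀ i, ((h * c i : ℕ) : ℤ) - ((0 : ℕ) : ℤ) = k * (m i : ℤ)) :
    ∃ k' : ℤ, ∀ i, (c i : ℤ) - ((0 : ℕ) : ℤ) = k' * (m i : ℤ) := by
  have h1 : ∀ i, h * c i = k.natAbs * m i := by
    intro i
    have := congrArg Int.natAbs (hk i)
    rw [Nat.cast_zero, sub_zero, Int.natAbs_natCast, Int.natAbs_mul, Int.natAbs_natCast] at this
    exact this
  have h2 : h ∣ Finset.univ.gcd (fun i => k.natAbs * m i) := by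
    apply Finset.dvd_gcd
    intro i _
    exact ⟨c i, (h1 i).symm⟩
  rw [Finset.gcd_mul_left, normalize_eq] at h2
  have h3 : h ∣ k.natAbs := hcop.dvd_of_dvd_mul_right h2
  have h4 : (h : ℤ) ∣ k := Int.natCast_dvd.mpr h3
  obtain ⟨k', rfl⟩ := h4
  refine ⟨k', fun i => ?_⟩
  have h5 := hk i
  have hh0 : (h : ℤ) ≠ 0 := by exact_mod_cast hh.ne'
  apply mul_left_cancel₀ hh0
  push_cast at h5 ⊢
  linarith

/-- **S3341 core**. -/
theorem trivial_of_torsion_of_coprime (R : Type u) [CommRing R] [IsDomain R]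
    [IsDiscreteValuationRing R]
    (C X : Scheme.{u}) (f : C ⟶ Spec (CommRingCat.of (FractionRing R))) (p : X ⟶ Spec (CommRingCat.of R))
    (hH0 : IsIso f.appTop)
    (hX : Models.IsRegularProperModel R X p C f)
    {n : ℕ} (Γ : Fin n → ArSurf.VertComp R (Over.mk p)) (hΓ : Models.IsComponentList R (Over.mk p) Γ)
    (g : C ⟶ X) (hg : IsPullback g f p (Spec.map (CommRingCat.ofHom (algebraMap R (FractionRing R)))))
    (h : ℕ) (hh : 0 < h) (hcop : Nat.Coprime h (Models.multGcd R (Over.mk p) Γ))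
    (M : X.Modules) (hM : PicF.IsInvertible M)
    (htors : Nonempty (CohB1.tensorPow M h ≅ Coh.structureModule X))
    (htriv : Nonempty ((Scheme.Modules.pullback g).obj M ≅ Coh.structureModule C)) :
    Nonempty (M ≅ Coh.structureModule X) := by
  obtain ⟨⟨hflat, hft, hqc, -⟩, hproper, hreg⟩ := hX
  haveI := hqc
  haveI := hproper
  haveI : CompactSpace X := QuasiCompact.compactSpace_of_compactSpace p
  haveI : QuasiSeparatedSpace X := quasiSeparatedSpace_of_quasiSeparated p
  obtain ⟨π, hπ⟩ := IsDiscreteValuationRing.exists_irreducible R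
  set I : Fin n → X.IdealSheafData := fun i => (Γ i).ι.ker with hI
  have hEC : ∀ i, BlowUp.IsEffCartierIdeal (I i) := fun i =>
    isEffCartierIdeal_ker R (Over.mk p) hflat hft hreg Γ hΓ i
  set io : Fin n → PicF.Cl X := fun i => PicF.cl (ClSub.idealMod (I i)) with hio
  have hclprod : ∀ c : Fin n → ℕ, PicF.cl (ClSub.idealMod (∏ i, I i ^ c i)) = ∏ i, io i ^ c i := by
    intro c
    rw [cl_idealMod_prod _ _ fun i _ => isEffCartierIdeal_pow (hEC i) _]
    apply Finset.prod_congr rfl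
    intro i _
    exact cl_idealMod_pow (hEC i) _
  have hiom : ∏ i, io i ^ Models.mult R (Over.mk p) (Γ i) = 1 := by
    rw [← hclprod]
    have h1 := specialFibreIdeal_eq_prod R (Over.mk p) hflat hreg Γ hΓ
    have h2 := cl_idealMod_specialFibreIdeal R (Over.mk p) hflat
    rw [h1] at h2
    exact h2
  -- `M` is a vertical divisor
  obtain ⟨τ, hτ⟩ := exists_isGen_basicOpen R g f p hg hπ M htriv
  haveI : CompactSpace (Over.mk p).left := ‹CompactSpace X›
  haveI : QuasiSeparatedSpace (Over.mk p).left := ‹QuasiSeparatedSpace X›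
  obtain ⟨c, ⟨e⟩⟩ := exists_tensor_idealMod_iso R (Over.mk p) hflat hreg Γ hΓ hπ M hM
    (Coh.toGlobal p π) rfl τ hτ
  have e' : CohB1.tensorMod M (ClSub.idealMod (∏ i, I i ^ c i)) ≅ Coh.structureModule X := e
  have h1 : PicF.cl M * ∏ i, io i ^ c i = 1 := by
    rw [← hclprod, cl_mul_cl, one_def, cl_eq_iff]
    exact ⟨e'⟩
  have h2 : PicF.cl M ^ h = 1 := by
    rw [← cl_tensorPow, one_def, cl_eq_iff]
    exact htors
  have h3 : ∏ i, io i ^ (h * c i) = ∏ i, io i ^ ((fun _ => 0 : Fin n → ℕ) i) := by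
    have h4 : (PicF.cl M * ∏ i, io i ^ c i) ^ h = 1 := by rw [h1, one_pow]
    rw [mul_pow, h2, one_mul, ← Finset.prod_pow] at h4
    simp only [pow_zero, Finset.prod_const_one]
    rw [← h4]
    apply Finset.prod_congr rfl
    intro i _
    rw [← pow_mul, mul_comm]
  rw [← hclprod (fun i => h * c i), ← hclprod (fun _ => 0), cl_eq_iff] at h3
  obtain ⟨ψ⟩ := h3
  obtain ⟨k, hk⟩ := exists_int_of_idealMod_iso R (Over.mk p) Γ hΓ hflat hft hreg hπ
    (fun i => h * c i) (fun _ => 0) (exists_fraction R g f p hg hH0 hπ) ψ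
  obtain ⟨k', hk'⟩ := exists_int_of_coprime (fun i => Models.mult R (Over.mk p) (Γ i)) c h hh hcop k hk
  have h5 := prod_pow_eq_of_int io _ hiom c (fun _ => 0) k' hk'
  simp only [pow_zero, Finset.prod_const_one] at h5
  rw [h5, mul_one, one_def, cl_eq_iff] at h1
  exact h1

end Groth.Agent.Lib.Helper1.VertDiv
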