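import Groth.Agent.Lib.Helper1.VertDiv13

/-!
# Positivity of multiplicities and nonemptiness of the closed fibre of a proper model (helper1)
-/

set_option autoImplicit false
universe u

open CategoryTheory CategoryTheory.Limits AlgebraicGeometry TopologicalSpace IsLocalRing

namespace Groth.Agent.Lib.Helper1.VertDiv

open Groth.Agent.Lib.Helper13.StalkSpecLoc Groth.Agent.Lib.Helper1.FibGeom

variable (R : Type u) [CommRing R] [IsDomain R] [IsDiscreteValuationRing R]
  (X : Over (Spec (CommRingCat.of R)))

variable {n : ℕ} (Γ : Fin n → ArSurf.VertComp R X) (hΓ : Models.IsComponentList R X Γ)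

include hΓ in
/-- the multiplicity of a fibre component of a regular flat model is positive. -/
theorem mult_pos (hflat : Flat X.hom)
    (hreg : ∀ x : X.left, IsRegularLocalRing (X.left.presheaf.stalk x)) (i : Fin n) :
    0 < Models.mult R X (Γ i) := by
  obtain ⟨π, hπ⟩ := IsDiscreteValuationRing.exists_irreducible R
  by_contra h0
  have h0' : Models.mult R X (Γ i) = 0 := by omega
  have h1 := span_germ_uniformizer R X Γ hΓ hflat hreg hπ i
  rw [h0', pow_zero, Ideal.one_eq_top, Ideal.span_singleton_eq_top] at h1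
  have h2 := genPtOf_not_mem_basicOpen R X Γ hΓ hπ i
  rw [Scheme.mem_basicOpen_top] at h2
  exact h2 h1

include hΓ in
/-- every point of the closed fibre lies on some listed component. -/
theorem exists_index_of_mem_specialFibreSet (x : X.left) (hx : x ∈ Models.specialFibreSet R X) :
    ∃ i : Fin n, Models.genPtOf R X (Γ i) ⤳ x := by
  obtain ⟨π, hπ⟩ := IsDiscreteValuationRing.exists_irreducible R
  have h1 : Ideal.span {Models.stalkHom R X x π} ≤ maximalIdeal (X.left.presheaf.stalk x) := by
    rw [Ideal.span_singleton_le_iff_mem, mem_maximalIdeal, mem_nonunits_iff]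
    rw [mem_specialFibreSet_iff_not_mem_basicOpen R X hπ, Scheme.mem_basicOpen_top] at hx
    exact hx
  obtain ⟨Q, hQ, -⟩ := Ideal.exists_minimalPrimes_le h1
  obtain ⟨i, hi, -⟩ := exists_of_mem_minimalPrimes R X Γ hΓ x hπ Q hQ
  exact ⟨i, hi⟩

/-- the closed fibre of a nonempty proper `R`-scheme is nonempty. -/
theorem exists_mem_specialFibreSet [IsProper X.hom] [Nonempty X.left] :
    ∃ x : X.left, x ∈ Models.specialFibreSet R X := by
  obtain ⟨x₀⟩ := ‹Nonempty X.left›
  have hcl : IsClosed (Set.range X.hom.base) := (Scheme.Hom.isClosedMap X.hom).isClosed_range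
  have hspec : X.hom.base x₀ ⤳ closedPoint R := IsLocalRing.specializes_closedPoint _
  obtain ⟨x, hx⟩ := hspec.mem_closed hcl ⟨x₀, rfl⟩
  exact ⟨x, hx⟩

end Groth.Agent.Lib.Helper1.VertDiv
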