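import Groth.Agent.Lib.Helper1.VertDiv15

/-!
# S19918 core: the kernel of `Pic(X)[h] → Pic(C)[h]` (helper1)
-/

set_option autoImplicit false
universe u

open CategoryTheory CategoryTheory.Limits AlgebraicGeometry TopologicalSpace IsLocalRing

namespace Groth.Agent.Lib.Helper1.VertDiv

open Groth.Agent.Lib.Helper8.PicCl Groth.Agent.Lib.Helper1.CartCl Groth.Agent.Lib.Helper1.FibGeom

attribute [local instance] Groth.Agent.Lib.Helper8.PicCl.commMonoid

/-- an invertible module trivial on the generic fibre is a product of powers of the `L i = O(Γ i)`, in the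
class monoid. -/
theorem exists_cl_eq_prod_pow (R : Type u) [CommRing R] [IsDomain R] [IsDiscreteValuationRing R]
    (C X : Scheme.{u}) (f : C ⟶ Spec (CommRingCat.of (FractionRing R))) (p : X ⟶ Spec (CommRingCat.of R))
    (hX : Models.IsRegularProperModel R X p C f)
    {n : ℕ} (Γ : Fin n → ArSurf.VertComp R (Over.mk p)) (hΓ : Models.IsComponentList R (Over.mk p) Γ)
    (g : C ⟶ X) (hg : IsPullback g f p (Spec.map (CommRingCat.ofHom (algebraMap R (FractionRing R)))))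
    (L : Fin n → X.Modules) (hL : ∀ i, ClSub.IsInverseOf (L i) (ClSub.idealMod (Γ i).ι.ker))
    (M : X.Modules) (hM : PicF.IsInvertible M)
    (htriv : Nonempty ((Scheme.Modules.pullback g).obj M ≅ Coh.structureModule C)) :
    ∃ c : Fin n → ℕ, PicF.cl M = ∏ i, PicF.cl (L i) ^ c i := by
  obtain ⟨⟨hflat, hft, hqc, -⟩, hproper, hreg⟩ := hX
  haveI := hqc
  haveI := hproper
  haveI : CompactSpace X := QuasiCompact.compactSpace_of_compactSpace p
  haveI : QuasiSeparatedSpace X := quasiSeparatedSpace_of_quasiSeparated p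
  obtain ⟨π, hπ⟩ := IsDiscreteValuationRing.exists_irreducible R
  set I : Fin n → X.IdealSheafData := fun i => (Γ i).ι.ker with hI
  have hEC : ∀ i, BlowUp.IsEffCartierIdeal (I i) := fun i =>
    isEffCartierIdeal_ker R (Over.mk p) hflat hft hreg Γ hΓ i
  set lam : Fin n → PicF.Cl X := fun i => PicF.cl (L i) with hlam
  set io : Fin n → PicF.Cl X := fun i => PicF.cl (ClSub.idealMod (I i)) with hio
  have hli : ∀ i, lam i * io i = 1 := fun i => (isInverseOf_iff _ _).mp (hL i)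
  have hclprod : ∀ c : Fin n → ℕ, PicF.cl (ClSub.idealMod (∏ i, I i ^ c i)) = ∏ i, io i ^ c i := by
    intro c
    rw [cl_idealMod_prod _ _ fun i _ => isEffCartierIdeal_pow (hEC i) _]
    apply Finset.prod_congr rfl
    intro i _
    exact cl_idealMod_pow (hEC i) _
  obtain ⟨τ, hτ⟩ := exists_isGen_basicOpen R g f p hg hπ M htriv
  haveI : CompactSpace (Over.mk p).left := ‹CompactSpace X›
  haveI : QuasiSeparatedSpace (Over.mk p).left := ‹QuasiSeparatedSpace X›
  obtain ⟨c, ⟨e⟩⟩ := exists_tensor_idealMod_iso R (Over.mk p) hflat hreg Γ hΓ hπ M hM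
    (Coh.toGlobal p π) rfl τ hτ
  have e' : CohB1.tensorMod M (ClSub.idealMod (∏ i, I i ^ c i)) ≅ Coh.structureModule X := e
  have h1 : PicF.cl M * ∏ i, io i ^ c i = 1 := by
    rw [← hclprod, cl_mul_cl, one_def, cl_eq_iff]
    exact ⟨e'⟩
  have h2 : (∏ i, lam i ^ c i) * (∏ i, io i ^ c i) = 1 := by
    rw [← Finset.prod_mul_distrib]
    apply Finset.prod_eq_one
    intro i _
    rw [← mul_pow, hli i, one_pow]
  refine ⟨c, ?_⟩
  calc PicF.cl M = PicF.cl M * ((∏ i, lam i ^ c i) * (∏ i, io i ^ c i)) := by rw [h2, mul_one]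
    _ = (PicF.cl M * ∏ i, io i ^ c i) * ∏ i, lam i ^ c i := by
        rw [mul_comm (∏ i, lam i ^ c i), mul_assoc]
    _ = ∏ i, lam i ^ c i := by rw [h1, one_mul]

/-- **S19918 core**. -/
theorem existsUnique_torsion (R : Type u) [CommRing R] [IsDomain R] [IsDiscreteValuationRing R]
    (C X : Scheme.{u}) (f : C ⟶ Spec (CommRingCat.of (FractionRing R))) (p : X ⟶ Spec (CommRingCat.of R))
    (hH0 : IsIso f.appTop)
    (hX : Models.IsRegularProperModel R X p C f)
    {n : ℕ} (Γ : Fin n → ArSurf.VertComp R (Over.mk p)) (hΓ : Models.IsComponentList R (Over.mk p) Γ)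
    (g : C ⟶ X) (hg : IsPullback g f p (Spec.map (CommRingCat.ofHom (algebraMap R (FractionRing R)))))
    (L : Fin n → X.Modules) (hL : ∀ i, ClSub.IsInverseOf (L i) (ClSub.idealMod (Γ i).ι.ker))
    (h : ℕ) (hh : 0 < h)
    (M : X.Modules) (hM : PicF.IsInvertible M)
    (htors : Nonempty (CohB1.tensorPow M h ≅ Coh.structureModule X))
    (htriv : Nonempty ((Scheme.Modules.pullback g).obj M ≅ Coh.structureModule C)) :
    ∃! k : ℕ, k < Nat.gcd h (Models.multGcd R (Over.mk p) Γ) ∧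
      Nonempty (M ≅ FGA.multiTwist L (fun i => k * (Models.mult R (Over.mk p) (Γ i) / Nat.gcd h (Models.multGcd R (Over.mk p) Γ)))) := by
  obtain ⟨c, hc⟩ := exists_cl_eq_prod_pow R C X f p hX Γ hΓ g hg L hL M hM htriv
  have hX' := hX
  obtain ⟨⟨hflat, hft, hqc, -⟩, hproper, hreg⟩ := hX'
  haveI := hproper
  obtain ⟨i₀⟩ := exists_component R C X f p hH0 g Γ hΓ
  have hi₀ : 0 < Models.mult R (Over.mk p) (Γ i₀) := mult_pos R (Over.mk p) Γ hΓ hflat hreg i₀
  set m : Fin n → ℕ := fun i => Models.mult R (Over.mk p) (Γ i) with hm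
  have hd : Models.multGcd R (Over.mk p) Γ = Finset.univ.gcd m := rfl
  set e := Nat.gcd h (Models.multGcd R (Over.mk p) Γ) with he
  have hem : ∀ i, e ∣ m i := fun i =>
    (Nat.gcd_dvd_right h _).trans (hd ▸ Finset.gcd_dvd (Finset.mem_univ i))
  -- `M^h = 1` gives `h • c ∈ ℤ m`
  have h2 : PicF.cl M ^ h = 1 := by
    rw [← cl_tensorPow, one_def, cl_eq_iff]
    exact htors
  have h3 : ∏ i, PicF.cl (L i) ^ (h * c i) = ∏ i, PicF.cl (L i) ^ ((fun _ => 0 : Fin n → ℕ) i) := by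
    simp only [pow_zero, Finset.prod_const_one]
    rw [← h2, hc, ← Finset.prod_pow]
    apply Finset.prod_congr rfl
    intro i _
    rw [← pow_mul, mul_comm]
  obtain ⟨k', hk'⟩ := (prod_cl_pow_eq_iff R C X f p hH0 hX Γ hΓ L hL (fun i => h * c i) (fun _ => 0)).mp h3
  obtain ⟨k, hk, t, ht⟩ := exists_lt_gcd m c h hh k' hk'
  have key : ∀ k : ℕ, Nonempty (M ≅ FGA.multiTwist L (fun i => k * (m i / e))) ↔
      ∃ t : ℤ, ∀ i, (c i : ℤ) - ((k * (m i / e) : ℕ) : ℤ) = t * (m i : ℤ) := by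
    intro k
    rw [← cl_eq_iff, cl_multiTwist, hc]
    exact prod_cl_pow_eq_iff R C X f p hH0 hX Γ hΓ L hL c (fun i => k * (m i / e))
  refine ⟨k, ⟨hk, (key k).mpr ⟨t, ht⟩⟩, ?_⟩
  rintro k₂ ⟨hk₂, hk₂'⟩
  obtain ⟨t₂, ht₂⟩ := (key k₂).mp hk₂'
  apply eq_of_lt_gcd m e hem i₀ hi₀ k₂ k hk₂ hk (t - t₂)
  intro i
  have h4 : (c i : ℤ) - ((k * (m i / e) : ℕ) : ℤ) = t * (m i : ℤ) := ht i
  have h5 := ht₂ i
  rw [sub_mul]
  linarith

end Groth.Agent.Lib.Helper1.VertDiv
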