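import Groth.Agent.Lib.Helper1.VertDiv16

/-!
# Vertical ideal modules are trivial on the generic fibre (helper1)
-/

set_option autoImplicit false
universe u

open CategoryTheory CategoryTheory.Limits AlgebraicGeometry TopologicalSpace IsLocalRing

namespace Groth.Agent.Lib.Helper1.VertDiv

open Groth.Agent.Lib.Helper28 Groth.Agent.Lib.Helper28.QCohLoc Groth.Agent.Lib.Helper28.GenLocus
  Groth.Agent.Lib.Helper28.IdealDual Groth.Agent.Lib.Helper28.PullbackInv

section General

variable {Y : Scheme.{u}}

/-- a module with a global free generator is trivial. -/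
theorem nonempty_iso_of_isGen_top (M : Y.Modules) (σ : Γ(M, ⊤)) (hσ : IsGen M ⊤ σ) :
    Nonempty (M ≅ Coh.structureModule Y) := by
  let ψ := TwistGen.ofSection M σ
  haveI : IsIso ψ := TensorIso.isIso_of_bijective_on_basis ψ (fun _ => True)
    (fun U x hx => ⟨U, trivial, hx, le_rfl⟩) (fun W _ => by
      have h1 := hσ W le_top
      have h2 : (ψ.app W : Γ(Coh.structureModule Y, W) → Γ(M, W)) =
          fun c : Γ(Y, W) => (c • res M (le_top : W ≤ ⊤) σ : Γ(M, W)) := by
        funext c
        exact TwistGen.ofSection_app M σ W c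
      rw [h2]
      exact h1)
  exact ⟨(asIso ψ).symm⟩

/-- a section of an ideal module mapping to `1` is a free generator. -/
theorem isGen_of_iota_eq_one (J : Y.IdealSheafData) (W : Y.Opens) (k : Γ(ClSub.idealMod J, W))
    (hk : iota J k = 1) : IsGen (ClSub.idealMod J) W k := by
  intro W' hW'
  have h1 : ∀ c : Γ(Y, W'), iota J (c • res (ClSub.idealMod J) hW' k : Γ(ClSub.idealMod J, W')) = c := by
    intro c
    rw [iota_smul, iota_res, hk]
    have : resO hW' (1 : Γ(Y, W)) = 1 := map_one _
    rw [this, mul_one]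
  constructor
  · intro c c' hcc'
    have := congrArg (iota J) hcc'
    simp only [h1] at this
    exact this
  · intro y
    refine ⟨iota J y, ?_⟩
    apply iota_injective J
    exact h1 _

end General

variable (R : Type u) [CommRing R] [IsDomain R] [IsDiscreteValuationRing R]
  {C X : Scheme.{u}} (g : C ⟶ X) (f : C ⟶ Spec (CommRingCat.of (FractionRing R)))
  (p : X ⟶ Spec (CommRingCat.of R))
  (hg : IsPullback g f p (Spec.map (CommRingCat.ofHom (algebraMap R (FractionRing R)))))

include hg in
/-- a module with a free generator over `D(π)` has trivial pullback to the generic fibre. -/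
theorem pullback_trivial_of_isGen {π : R} (hπ : Irreducible π) (M : X.Modules)
    (τ : Γ(M, X.basicOpen (Coh.toGlobal p π))) (hτ : IsGen M (X.basicOpen (Coh.toGlobal p π)) τ) :
    Nonempty ((Scheme.Modules.pullback g).obj M ≅ Coh.structureModule C) := by
  have hle : (⊤ : C.Opens) ≤ g ⁻¹ᵁ X.basicOpen (Coh.toGlobal p π) := by
    intro c _
    show g c ∈ X.basicOpen (Coh.toGlobal p π)
    rw [← SetLike.mem_coe, ← range_genericFibre R g f p hg hπ]
    exact ⟨c, rfl⟩
  have h1 := isGen_pbs (f := g) hτ
  exact nonempty_iso_of_isGen_top _ _ (h1.res hle)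

variable {n : ℕ} (Γ : Fin n → ArSurf.VertComp R (Over.mk p))
  (hΓ : Models.IsComponentList R (Over.mk p) Γ)

include hg hΓ in
/-- vertical ideal modules are trivial on the generic fibre. -/
theorem pullback_idealMod_trivial (e : Fin n → ℕ) :
    Nonempty ((Scheme.Modules.pullback g).obj (ClSub.idealMod (∏ j, (Γ j).ι.ker ^ e j)) ≅
      Coh.structureModule C) := by
  obtain ⟨π, hπ⟩ := IsDiscreteValuationRing.exists_irreducible R
  obtain ⟨k, hk⟩ := exists_iota_eq_one R (Over.mk p) Γ hΓ hπ e
  exact pullback_trivial_of_isGen R g f p hg hπ _ k (isGen_of_iota_eq_one _ _ k hk)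

end Groth.Agent.Lib.Helper1.VertDiv
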