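import Groth.Agent.Lib.Helper1.VertDiv1

/-!
# Vertical functions generate products of powers of the ideals of the fibre components (helper1)
-/

set_option autoImplicit false
universe u

open CategoryTheory AlgebraicGeometry TopologicalSpace IsLocalRing

namespace Groth.Agent.Lib.Helper1.VertDiv

open Groth.Agent.Lib.Helper13.StalkSpecLoc Groth.Agent.Lib.Helper1.FibGeom

variable (R : Type u) [CommRing R] [IsDomain R] [IsDiscreteValuationRing R]
  (X : Over (Spec (CommRingCat.of R)))

/-- the order of a function along a vertical component whose generic point lies in its domain. -/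
noncomputable def ordAt (Γ : ArSurf.VertComp R X) (U : X.left.Opens)
    (hU : Models.genPtOf R X Γ ∈ U) (F : Γ(X.left, U)) : ℕ :=
  (Module.length (X.left.presheaf.stalk (Models.genPtOf R X Γ))
    (X.left.presheaf.stalk (Models.genPtOf R X Γ) ⧸
      Ideal.span {(X.left.presheaf.germ U (Models.genPtOf R X Γ) hU).hom F})).toNat

/-- **a vertical function generates the product of the powers of the ideals of the fibre components**, with
exponents its orders along them. -/
theorem prod_ideal_eq_span (hflat : Flat X.hom)
    (hreg : ∀ x : X.left, IsRegularLocalRing (X.left.presheaf.stalk x))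
    {n : ℕ} (Γ : Fin n → ArSurf.VertComp R X) (hΓ : Models.IsComponentList R X Γ)
    {π : R} (hπ : Irreducible π) (U : X.left.affineOpens) (F : Γ(X.left, U.1))
    (hF : IsVertical R X π U.1 F) (c : Fin n → ℕ)
    (hc : ∀ (i : Fin n) (hi : Models.genPtOf R X (Γ i) ∈ U.1), c i = ordAt R X (Γ i) U.1 hi F) :
    (∏ i, (Γ i).ι.ker ^ c i).ideal U = Ideal.span {F} := by
  rw [U.2.ideal_ext_iff]
  intro x hx
  rw [ideal_finset_prod, Ideal.map_span, Set.image_singleton,
    span_germ_eq_prod R X hflat hreg Γ hΓ hπ U.1 x hx F hF c
      (fun i h => hc i (h.mem_open U.1.2 hx)),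
    ← Ideal.mapHom_apply, map_prod]
  apply Finset.prod_congr rfl
  intro i _
  rw [Ideal.mapHom_apply]
  change Ideal.map _ (((Γ i).ι.ker.ideal U) ^ c i) = _
  rw [Ideal.map_pow, map_ker_ideal_germ]

end Groth.Agent.Lib.Helper1.VertDiv
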