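import Groth.Agent.Lib.Helper1.VertDiv2
import Groth.Agent.Lib.Helper28.SecExtend
import Groth.Agent.Lib.Helper28.InvQC

/-!
# An invertible module on a regular model which is trivial on the generic fibre is a vertical divisor (helper1)
-/

set_option autoImplicit false
universe u

open CategoryTheory AlgebraicGeometry TopologicalSpace IsLocalRing

namespace Groth.Agent.Lib.Helper1.VertDiv

open Groth.Agent.Lib.Helper13.StalkSpecLoc Groth.Agent.Lib.Helper1.FibGeom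
  Groth.Agent.Lib.Helper28 Groth.Agent.Lib.Helper28.QCohLoc Groth.Agent.Lib.Helper28.GenLocus
  Groth.Agent.Lib.Helper28.IdealDual Groth.Agent.Lib.Helper28.TensorGen
  Groth.Agent.Lib.Helper28.InvTensor Groth.Agent.Lib.Helper1.CartCl

section Charts

variable {Y : Scheme.{u}}

/-- an affine chart of a module: an affine open with a generator. -/
structure MChart (M : Y.Modules) where
  U : Y.affineOpens
  μ : Γ(M, U.1)
  hμ : IsGen M U.1 μ

theorem exists_mchart {M : Y.Modules} (hM : PicF.IsInvertible M) (x : Y) :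
    ∃ c : MChart M, x ∈ c.U.1 := by
  obtain ⟨U, g, hxU, hg⟩ := exists_isGen M hM x
  obtain ⟨_, ⟨V, hV, rfl⟩, hxV, hVU⟩ :=
    Y.isBasis_affineOpens.exists_subset_of_mem_open hxU U.isOpen
  exact ⟨⟨⟨V, hV⟩, res M (show V ≤ U from hVU) g, hg.res _⟩, hxV⟩

/-- the coefficient of a global section in a chart. -/
noncomputable def MChart.coefOf {M : Y.Modules} (c : MChart M) (σ : Γ(M, ⊤)) : Γ(Y, c.U.1) :=
  c.hμ.coef le_rfl (res M le_top σ)

theorem MChart.coefOf_smul {M : Y.Modules} (c : MChart M) (σ : Γ(M, ⊤)) :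
    (c.coefOf σ • c.μ : Γ(M, c.U.1)) = res M le_top σ := by
  have := c.hμ.coef_smul le_rfl (res M le_top σ)
  rwa [res_self] at this

/-- comparison of the coefficients of a global section in two charts. -/
theorem MChart.coefOf_transition {M : Y.Modules} (c d : MChart M) (σ : Γ(M, ⊤))
    (w : Γ(Y, c.U.1 ⊓ d.U.1))
    (hw : res M inf_le_left c.μ = (w • res M inf_le_right d.μ : Γ(M, c.U.1 ⊓ d.U.1))) :
    resO (inf_le_right : c.U.1 ⊓ d.U.1 ≤ d.U.1) (d.coefOf σ) =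
      resO (inf_le_left : c.U.1 ⊓ d.U.1 ≤ c.U.1) (c.coefOf σ) * w := by
  apply (d.hμ (c.U.1 ⊓ d.U.1) inf_le_right).1
  show (resO inf_le_right (d.coefOf σ) • res M inf_le_right d.μ : Γ(M, c.U.1 ⊓ d.U.1)) =
    ((resO inf_le_left (c.coefOf σ) * w) • res M inf_le_right d.μ : Γ(M, c.U.1 ⊓ d.U.1))
  rw [← res_smul, d.coefOf_smul, mul_smul, ← hw, ← res_smul, c.coefOf_smul, res_res, res_res]

/-- if a global section `σ` restricts on `W = D(ϖ)` to `ϖ^N` times a generator `τ`, then its coefficient in every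
chart divides a power of `ϖ`, provided `ϖ` is a nonzerodivisor on the chart. -/
theorem MChart.exists_coefOf_mul_eq {M : Y.Modules} (c : MChart M) (ϖ : Γ(Y, ⊤))
    (hϖ : resO (le_top : c.U.1 ≤ ⊤) ϖ ∈ nonZeroDivisors Γ(Y, c.U.1))
    (τ : Γ(M, Y.basicOpen ϖ)) (hτ : IsGen M (Y.basicOpen ϖ) τ) (σ : Γ(M, ⊤)) (N : ℕ)
    (hσ : res M (le_top : Y.basicOpen ϖ ≤ ⊤) σ =
      ((resO (le_top : Y.basicOpen ϖ ≤ ⊤) ϖ) ^ N • τ : Γ(M, Y.basicOpen ϖ))) :
    ∃ (G : Γ(Y, c.U.1)) (k : ℕ), c.coefOf σ * G = resO (le_top : c.U.1 ≤ ⊤) ϖ ^ k := by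
  set V := c.U.1 ⊓ Y.basicOpen ϖ with hV
  set ϖU := resO (le_top : c.U.1 ≤ ⊤) ϖ with hϖU
  have hVb : V = Y.basicOpen ϖU := (basicOpen_resO (le_top : c.U.1 ≤ ⊤) ϖ).symm
  have hVU : V ≤ c.U.1 := inf_le_left
  have hVW : V ≤ Y.basicOpen ϖ := inf_le_right
  -- `μ|_V = b • τ|_V`
  set b := hτ.coef hVW (res M hVU c.μ) with hb
  have hbμ : (b • res M hVW τ : Γ(M, V)) = res M hVU c.μ := hτ.coef_smul hVW _
  -- `F|_V * b = ϖ^N`
  have h1 : resO hVU (c.coefOf σ) * b = resO (le_top : V ≤ ⊤) ϖ ^ N := by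
    apply (hτ V hVW).1
    show ((resO hVU (c.coefOf σ) * b) • res M hVW τ : Γ(M, V)) =
      ((resO (le_top : V ≤ ⊤) ϖ ^ N) • res M hVW τ : Γ(M, V))
    rw [mul_smul, hbμ, ← res_smul, c.coefOf_smul, res_res]
    have h2 := congrArg (res M hVW) hσ
    rw [res_res, res_smul, resO_pow, resO_resO] at h2
    exact h2
  -- `b` times a power of `ϖ` extends to `U`
  obtain ⟨j, G, hG⟩ := exists_pow_mul_eq_resO c.U.2 ϖU hVb hVU b
  refine ⟨G, N + j, ?_⟩
  -- injectivity of restriction to `V = D(ϖ|_U)`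
  have hdiff : resO hVU (c.coefOf σ * G - ϖU ^ (N + j)) = 0 := by
    rw [resO_sub, resO_mul, hG, resO_pow, sub_eq_zero, pow_add]
    have h3 : resO hVU ϖU = resO (le_top : V ≤ ⊤) ϖ := resO_resO _ _ _
    rw [h3, ← h1]
    ring
  obtain ⟨m, hm⟩ := exists_pow_mul_eq_zero c.U.2.isCompact _ ϖU hVb hVU hdiff
  have hnz : ϖU ^ m ∈ nonZeroDivisors Γ(Y, c.U.1) := pow_mem hϖ m
  have h4 : c.coefOf σ * G - ϖU ^ (N + j) = 0 := by
    have := (mem_nonZeroDivisors_iff_right.mp hnz) _ (by rw [mul_comm]; exact hm)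
    exact this
  exact sub_eq_zero.mp h4

end Charts

end Groth.Agent.Lib.Helper1.VertDiv
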