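import Groth.Agent.Lib.Helper1.VertDiv3

/-!
# An invertible module on a regular model which is trivial on the generic fibre is a vertical divisor, II (helper1)
-/

set_option autoImplicit false
universe u

open CategoryTheory AlgebraicGeometry TopologicalSpace IsLocalRing

namespace Groth.Agent.Lib.Helper1.VertDiv

open Groth.Agent.Lib.Helper13.StalkSpecLoc Groth.Agent.Lib.Helper1.FibGeom
  Groth.Agent.Lib.Helper28 Groth.Agent.Lib.Helper28.QCohLoc Groth.Agent.Lib.Helper28.GenLocus
  Groth.Agent.Lib.Helper28.IdealDual Groth.Agent.Lib.Helper28.TensorGen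
  Groth.Agent.Lib.Helper28.InvTensor Groth.Agent.Lib.Helper1.CartCl

variable (R : Type u) [CommRing R] [IsDomain R] [IsDiscreteValuationRing R]
  (X : Over (Spec (CommRingCat.of R)))

/-- the order along a component does not change under multiplication by a function invertible at its generic
point. -/
theorem ordAt_eq_of_germ_eq_mul (Γ : ArSurf.VertComp R X) {U U' : X.left.Opens}
    (hU : Models.genPtOf R X Γ ∈ U) (hU' : Models.genPtOf R X Γ ∈ U') (F : Γ(X.left, U))
    (F' : Γ(X.left, U')) (u : X.left.presheaf.stalk (Models.genPtOf R X Γ)) (hu : IsUnit u)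
    (h : (X.left.presheaf.germ U' _ hU').hom F' = (X.left.presheaf.germ U _ hU).hom F * u) :
    ordAt R X Γ U' hU' F' = ordAt R X Γ U hU F := by
  unfold ordAt
  rw [h, Ideal.span_singleton_mul_right_unit hu]

variable {R X}

/-- the order of the coefficient of a global section along a component does not depend on the chart. -/
theorem ordAt_coefOf_eq {M : X.left.Modules} (Γ : ArSurf.VertComp R X) (c d : MChart M) (σ : Γ(M, ⊤))
    (hc : Models.genPtOf R X Γ ∈ c.U.1) (hd : Models.genPtOf R X Γ ∈ d.U.1) :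
    ordAt R X Γ d.U.1 hd (d.coefOf σ) = ordAt R X Γ c.U.1 hc (c.coefOf σ) := by
  set ξ := Models.genPtOf R X Γ with hξ
  have hV : ξ ∈ c.U.1 ⊓ d.U.1 := ⟨hc, hd⟩
  set w := d.hμ.coef inf_le_right (res M inf_le_left c.μ) with hw
  set w' := c.hμ.coef inf_le_left (res M inf_le_right d.μ) with hw'
  have h1 : res M inf_le_left c.μ = (w • res M inf_le_right d.μ : Γ(M, c.U.1 ⊓ d.U.1)) :=
    (d.hμ.coef_smul inf_le_right _).symm
  have h2 : res M inf_le_right d.μ = (w' • res M inf_le_left c.μ : Γ(M, c.U.1 ⊓ d.U.1)) :=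
    (c.hμ.coef_smul inf_le_left _).symm
  have hww' : w * w' = 1 := by
    apply (d.hμ (c.U.1 ⊓ d.U.1) inf_le_right).1
    show ((w * w') • res M inf_le_right d.μ : Γ(M, c.U.1 ⊓ d.U.1)) =
      ((1 : Γ(X.left, c.U.1 ⊓ d.U.1)) • res M inf_le_right d.μ : Γ(M, c.U.1 ⊓ d.U.1))
    rw [one_smul, mul_comm, mul_smul, ← h1, ← h2]
  have htr := MChart.coefOf_transition c d σ w h1
  refine ordAt_eq_of_germ_eq_mul R X Γ hc hd _ _
    ((X.left.presheaf.germ (c.U.1 ⊓ d.U.1) ξ hV).hom w) ?_ ?_
  · exact IsUnit.map _ (IsUnit.of_mul_eq_one _ hww')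
  · have e1 : (X.left.presheaf.germ d.U.1 ξ hd).hom (d.coefOf σ) =
        (X.left.presheaf.germ (c.U.1 ⊓ d.U.1) ξ hV).hom (resO inf_le_right (d.coefOf σ)) :=
      (TopCat.Presheaf.germ_res_apply X.left.presheaf (homOfLE inf_le_right) ξ hV _).symm
    have e2 : (X.left.presheaf.germ c.U.1 ξ hc).hom (c.coefOf σ) =
        (X.left.presheaf.germ (c.U.1 ⊓ d.U.1) ξ hV).hom (resO inf_le_left (c.coefOf σ)) :=
      (TopCat.Presheaf.germ_res_apply X.left.presheaf (homOfLE inf_le_left) ξ hV _).symm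
    rw [e1, e2, htr, map_mul]

end Groth.Agent.Lib.Helper1.VertDiv
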