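import Groth.Agent.Lib.Helper1.VertDiv4

/-!
# An invertible module on a regular model which is trivial on the generic fibre is a vertical divisor, III (helper1)
-/

set_option autoImplicit false
universe u

open CategoryTheory AlgebraicGeometry TopologicalSpace IsLocalRing

namespace Groth.Agent.Lib.Helper1.VertDiv

open Groth.Agent.Lib.Helper13.StalkSpecLoc Groth.Agent.Lib.Helper1.FibGeom
  Groth.Agent.Lib.Helper28 Groth.Agent.Lib.Helper28.QCohLoc Groth.Agent.Lib.Helper28.GenLocus
  Groth.Agent.Lib.Helper28.IdealDual Groth.Agent.Lib.Helper28.TensorGen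
  Groth.Agent.Lib.Helper28.InvTensor Groth.Agent.Lib.Helper1.CartCl

variable (R : Type u) [CommRing R] [IsDomain R] [IsDiscreteValuationRing R]
  (X : Over (Spec (CommRingCat.of R)))

/-- **an invertible module with a generator over the generic fibre `D(π)` is inverse to the ideal module of a
vertical divisor `Σ cᵢ Γᵢ`, `cᵢ ≥ 0`.** -/
theorem exists_tensor_idealMod_iso (hflat : Flat X.hom)
    (hreg : ∀ x : X.left, IsRegularLocalRing (X.left.presheaf.stalk x))
    [CompactSpace X.left] [QuasiSeparatedSpace X.left]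
    {n : ℕ} (Γ : Fin n → ArSurf.VertComp R X) (hΓ : Models.IsComponentList R X Γ)
    {π : R} (hπ : Irreducible π) (M : X.left.Modules) (hM : PicF.IsInvertible M)
    (ϖ : Γ(X.left, ⊤)) (hϖ : ϖ = Coh.toGlobal X.hom π)
    (τ : Γ(M, X.left.basicOpen ϖ)) (hτ : IsGen M (X.left.basicOpen ϖ) τ) :
    ∃ c : Fin n → ℕ, Nonempty (CohB1.tensorMod M (ClSub.idealMod (∏ i, (Γ i).ι.ker ^ c i)) ≅
      Coh.structureModule X.left) := by
  classical
  haveI := InvQC.isQuasicoherent_of_isInvertible M hM
  -- step 1: extend `ϖ^N τ` to a global section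
  obtain ⟨N, σ, hσ⟩ := exists_pow_smul_eq_res_of_qcqs M (U := ⊤)
    (by simpa using (CompactSpace.isCompact_univ : IsCompact (Set.univ : Set X.left)))
    (by simpa using (isQuasiSeparated_univ : IsQuasiSeparated (Set.univ : Set X.left))) ϖ τ
  -- step 2: coefficients are vertical
  have hnzd : ∀ c : MChart M, resO (le_top : c.U.1 ≤ ⊤) ϖ ∈ nonZeroDivisors Γ(X.left, c.U.1) :=
    fun c => by rw [hϖ]; exact secHom_mem_nonZeroDivisors R X hflat c.U hπ.ne_zero
  have hvert : ∀ c : MChart M, IsVertical R X π c.U.1 (c.coefOf σ) := fun c => by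
    obtain ⟨G, k, hG⟩ := c.exists_coefOf_mul_eq ϖ (hnzd c) τ hτ σ N hσ
    refine ⟨G, k, ?_⟩
    rw [hG, hϖ]
    rfl
  have hFnzd : ∀ c : MChart M, c.coefOf σ ∈ nonZeroDivisors Γ(X.left, c.U.1) := by
    intro c
    obtain ⟨G, k, hG⟩ := hvert c
    have h1 : c.coefOf σ * G ∈ nonZeroDivisors Γ(X.left, c.U.1) := by
      rw [hG]; exact pow_mem (secHom_mem_nonZeroDivisors R X hflat c.U hπ.ne_zero) k
    exact (mul_mem_nonZeroDivisors.mp h1).1
  -- step 3: the exponents
  have hch : ∀ i : Fin n, ∃ c : MChart M, Models.genPtOf R X (Γ i) ∈ c.U.1 :=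
    fun i => exists_mchart hM _
  choose ch hchmem using hch
  set cI : Fin n → ℕ := fun i => ordAt R X (Γ i) (ch i).U.1 (hchmem i) ((ch i).coefOf σ) with hcI
  refine ⟨cI, ?_⟩
  set J : X.left.IdealSheafData := ∏ i, (Γ i).ι.ker ^ cI i with hJ
  have hJU : ∀ c : MChart M, J.ideal c.U = Ideal.span {c.coefOf σ} := fun c =>
    prod_ideal_eq_span R X hflat hreg Γ hΓ hπ c.U (c.coefOf σ) (hvert c) cI
      (fun i hi => (ordAt_coefOf_eq (Γ i) c (ch i) σ hi (hchmem i)))
  -- step 4: generators of the ideal module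
  have hψ : ∀ c : MChart M, ∃ ψ : Γ(ClSub.idealMod J, c.U.1),
      IsGen (ClSub.idealMod J) c.U.1 ψ ∧ iota J ψ = c.coefOf σ :=
    fun c => exists_isGen_idealMod J c.U.2 _ (hFnzd c) (hJU c)
  choose ψ hψg hψe using hψ
  -- step 5: the cocycle
  obtain ⟨e, -⟩ := exists_iso_of_cocycle_gen (M := CohB1.tensorMod M (ClSub.idealMod J))
    (N := Coh.structureModule X.left) (ι := MChart M)
    (fun c => c.U.1) (fun c => tmulSec _ _ c.μ (ψ c)) (fun c => oneSec X.left c.U.1)
    (fun c => isGen_tmulSec _ _ c.hμ (hψg c)) (fun c => isGen_oneSec c.U.1)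
    (fun x => exists_mchart hM x)
    (fun c d => by
      set w := d.hμ.coef inf_le_right (res M inf_le_left c.μ) with hw
      have h1 : res M inf_le_left c.μ = (w • res M inf_le_right d.μ : Γ(M, c.U.1 ⊓ d.U.1)) :=
        (d.hμ.coef_smul inf_le_right _).symm
      have htr := MChart.coefOf_transition c d σ w h1
      have h2 : (w • res (ClSub.idealMod J) inf_le_left (ψ c) : Γ(ClSub.idealMod J, c.U.1 ⊓ d.U.1)) =
          res (ClSub.idealMod J) inf_le_right (ψ d) := by
        apply iota_injective J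
        rw [iota_smul, iota_res, iota_res, hψe, hψe, htr, mul_comm]
      refine ⟨1, ?_, ?_⟩
      · rw [one_smul, tmulSec_res, tmulSec_res, h1, tmulSec_smul_left, ← tmulSec_smul_right, h2]
      · rw [one_smul, res_oneSec, res_oneSec])
  exact ⟨e⟩

end Groth.Agent.Lib.Helper1.VertDiv
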