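import Groth.Agent.Lib.Helper1.VertDiv5
import Groth.Agent.Lib.Helper4.DvrGen

/-!
# The generic fibre of a model is the basic open `D(π)`; trivializations there give generators (helper1)
-/

set_option autoImplicit false
universe u

open CategoryTheory CategoryTheory.Limits AlgebraicGeometry TopologicalSpace IsLocalRing

namespace Groth.Agent.Lib.Helper1.VertDiv

open Groth.Agent.Lib.Helper28 Groth.Agent.Lib.Helper28.QCohLoc Groth.Agent.Lib.Helper28.GenLocus

section OpenImm

variable {X C : Scheme.{u}}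

/-- a trivialization of the restriction of `L` along an open immersion gives a generator over its image. -/
theorem exists_isGen_of_restrict_iso (L : X.Modules) (j : C ⟶ X) [IsOpenImmersion j]
    (e : L.restrict j ≅ Coh.structureModule C) :
    ∃ g : Γ(L, j ''ᵁ ⊤), IsGen L (j ''ᵁ ⊤) g := by
  let g : Γ(L, j ''ᵁ ⊤) :=
    e.inv.app ⊤ (show Γ(Coh.structureModule C, ⊤) from (1 : Γ(C, ⊤)))
  refine ⟨g, ?_⟩
  intro W hW
  have hWU : W ≤ j.opensRange := by
    have : j ''ᵁ ⊤ = j.opensRange := Scheme.Hom.image_top_eq_opensRange j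
    rw [← this]; exact hW
  have himg : j ''ᵁ (j ⁻¹ᵁ W) = W := by
    rw [Scheme.Hom.image_preimage_eq_opensRange_inf]
    exact inf_eq_right.2 hWU
  suffices h : ∀ (W' : X.Opens) (hW' : W' ≤ j ''ᵁ ⊤), W' = j ''ᵁ (j ⁻¹ᵁ W) →
      Function.Bijective (fun c : Γ(X, W') => (c • res L hW' g : Γ(L, W'))) from h W hW himg.symm
  rintro W' hW' rfl
  have hb := app_bijective_of_isIso e.inv (j ⁻¹ᵁ W)
  have happ : ∀ c : Γ(C, j ⁻¹ᵁ W),
      e.inv.app (j ⁻¹ᵁ W) (show Γ(Coh.structureModule C, j ⁻¹ᵁ W) from c) =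
        ((j.appIso (j ⁻¹ᵁ W)).inv c • res L hW' g : Γ(L, j ''ᵁ (j ⁻¹ᵁ W))) := by
    intro c
    exact hom_app_eq_smul e.inv (j ⁻¹ᵁ W) c
  have hfun : (e.inv.app (j ⁻¹ᵁ W) : Γ(Coh.structureModule C, j ⁻¹ᵁ W) → _) =
      (fun c : Γ(X, j ''ᵁ (j ⁻¹ᵁ W)) => (c • res L hW' g : Γ(L, j ''ᵁ (j ⁻¹ᵁ W)))) ∘
        (fun c : Γ(C, j ⁻¹ᵁ W) => (j.appIso (j ⁻¹ᵁ W)).inv c) := by
    funext c
    exact happ c
  rw [hfun] at hb
  exact (Function.Bijective.of_comp_iff _
    (ConcreteCategory.bijective_of_isIso (j.appIso (j ⁻¹ᵁ W)).inv)).1 hb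

end OpenImm

section GenericFibre

variable (R : Type u) [CommRing R] [IsDomain R] [IsDiscreteValuationRing R]
  {C X : Scheme.{u}} (g : C ⟶ X) (f : C ⟶ Spec (CommRingCat.of (FractionRing R)))
  (p : X ⟶ Spec (CommRingCat.of R))
  (hg : IsPullback g f p (Spec.map (CommRingCat.ofHom (algebraMap R (FractionRing R)))))

theorem isOpenImmersion_SpecMap_fractionRing :
    IsOpenImmersion (Spec.map (CommRingCat.ofHom (algebraMap R (FractionRing R)))) := by
  obtain ⟨π, hπ⟩ := IsDiscreteValuationRing.exists_irreducible R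
  haveI := Groth.Agent.Lib.Helper4.DvrGen.isLocalization_away_of_isFractionRing π hπ (FractionRing R)
  exact IsOpenImmersion.of_isLocalization π

include hg in
theorem isOpenImmersion_genericFibre : IsOpenImmersion g := by
  haveI := isOpenImmersion_SpecMap_fractionRing R
  exact MorphismProperty.of_isPullback (P := @IsOpenImmersion) hg.flip inferInstance

include hg in
theorem range_genericFibre {π : R} (hπ : Irreducible π) :
    Set.range g = (X.basicOpen (Coh.toGlobal p π) : Set X) := by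
  haveI := Groth.Agent.Lib.Helper4.DvrGen.isLocalization_away_of_isFractionRing π hπ (FractionRing R)
  have h1 : Set.range g = p ⁻¹' Set.range (Spec.map (CommRingCat.ofHom (algebraMap R (FractionRing R)))) := by
    rw [← Scheme.Pullback.range_fst, ← hg.isoPullback_hom_fst]
    change Set.range (hg.isoPullback.hom ≫ pullback.fst p _) = _
    rw [Scheme.Hom.comp_base, TopCat.coe_comp, Set.range_comp]
    have : Set.range hg.isoPullback.hom = Set.univ :=
      Set.range_eq_univ.mpr hg.isoPullback.hom.surjective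
    rw [this, Set.image_univ]
  have h2 : Set.range (Spec.map (CommRingCat.ofHom (algebraMap R (FractionRing R)))) =
      (PrimeSpectrum.basicOpen π : Set (PrimeSpectrum R)) :=
    PrimeSpectrum.localization_away_comap_range (FractionRing R) π
  rw [h1, h2, ← basicOpen_eq_of_affine (R := CommRingCat.of R) π]
  have h3 := Scheme.preimage_basicOpen p ((Scheme.ΓSpecIso (CommRingCat.of R)).inv π)
  have h4 : (X.basicOpen (Coh.toGlobal p π) : Set X) =
      ((p ⁻¹ᵁ (Spec (CommRingCat.of R)).basicOpen ((Scheme.ΓSpecIso (CommRingCat.of R)).inv π) :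
        X.Opens) : Set X) := by
    rw [h3]; rfl
  rw [h4]
  rfl

end GenericFibre

end Groth.Agent.Lib.Helper1.VertDiv
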