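import Groth.Agent.Lib.Helper1.VertDiv2

/-!
# The local ring at the generic point of a fibre component: orders of vertical ideals (helper1)
-/

set_option autoImplicit false
universe u

open CategoryTheory AlgebraicGeometry TopologicalSpace IsLocalRing

namespace Groth.Agent.Lib.Helper1.VertDiv

open Groth.Agent.Lib.Helper13.StalkSpecLoc Groth.Agent.Lib.Helper1.FibGeom

variable (R : Type u) [CommRing R] [IsDomain R] [IsDiscreteValuationRing R]
  (X : Over (Spec (CommRingCat.of R)))

/-- a power of a principal maximal ideal of a local domain determines its exponent. -/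
theorem pow_maximalIdeal_injective {O : Type*} [CommRing O] [IsDomain O] [IsLocalRing O] {t : O}
    (ht0 : t ≠ 0) (htm : maximalIdeal O = Ideal.span {t}) {k l : ℕ}
    (h : maximalIdeal O ^ k = maximalIdeal O ^ l) : k = l := by
  have hord1 : Ring.ord O t = 1 := by
    rw [Ring.ord, ← htm, Module.length_eq_one_iff, isSimpleModule_iff_isCoatom, ← Ideal.isMaximal_def]
    infer_instance
  have hlen : ∀ e : ℕ, Module.length O (O ⧸ maximalIdeal O ^ e) = e := by
    intro e
    rw [htm, Ideal.span_singleton_pow]
    change Ring.ord O (t ^ e) = e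
    rw [Ring.ord_pow (mem_nonZeroDivisors_of_ne_zero ht0), hord1]
    simp
  have h1 := hlen k
  rw [h, hlen l] at h1
  exact_mod_cast h1.symm

variable {n : ℕ} (Γ : Fin n → ArSurf.VertComp R X) (hΓ : Models.IsComponentList R X Γ)

include hΓ in
/-- distinct components have distinct generic points, none specializing to another. -/
theorem not_specializes_of_ne {i j : Fin n} (hij : j ≠ i) :
    ¬ Models.genPtOf R X (Γ j) ⤳ Models.genPtOf R X (Γ i) := by
  intro h
  apply hij
  have hmax := mem_fibreComponents R X n Γ hΓ i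
  have hj := mem_fibreComponents R X n Γ hΓ j
  have h1 : closure ({Models.genPtOf R X (Γ i)} : Set X.left) ≤ closure {Models.genPtOf R X (Γ j)} := by
    apply closure_minimal _ isClosed_closure
    rw [Set.singleton_subset_iff]
    exact specializes_iff_mem_closure.mp h
  have h2 := hmax.2 hj.1 h1
  have h3 : closure ({Models.genPtOf R X (Γ j)} : Set X.left) = closure {Models.genPtOf R X (Γ i)} :=
    le_antisymm h2 h1
  apply hΓ.1
  change Set.range ((Γ j).ι.base : (Γ j).curve.left → X.left) =
    Set.range ((Γ i).ι.base : (Γ i).curve.left → X.left)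
  rw [range_eq_closure_genPtOf, range_eq_closure_genPtOf, h3]

theorem compPrime_self (Γ₀ : ArSurf.VertComp R X) :
    compPrime R X (Models.genPtOf R X Γ₀) Γ₀ =
      maximalIdeal (X.left.presheaf.stalk (Models.genPtOf R X Γ₀)) := by
  rw [compPrime_of_specializes R X _ Γ₀ (specializes_refl _), primeOf,
    TopCat.Presheaf.stalkSpecializes_refl]
  rfl

include hΓ in
theorem compPrime_of_ne {i j : Fin n} (hij : j ≠ i) :
    compPrime R X (Models.genPtOf R X (Γ i)) (Γ j) = ⊤ :=
  compPrime_of_not_specializes R X _ (Γ j) (not_specializes_of_ne R X Γ hΓ hij)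

include hΓ in
/-- at the generic point of `Γᵢ`, the ideal `∏ I(Γⱼ)^eⱼ` is the `eᵢ`-th power of the maximal ideal. -/
theorem map_prod_ideal_germ_genPt (e : Fin n → ℕ) (i : Fin n) (U : X.left.affineOpens)
    (hi : Models.genPtOf R X (Γ i) ∈ U.1) :
    ((∏ j, (Γ j).ι.ker ^ e j).ideal U).map
        (X.left.presheaf.germ U.1 (Models.genPtOf R X (Γ i)) hi).hom =
      maximalIdeal (X.left.presheaf.stalk (Models.genPtOf R X (Γ i))) ^ e i := by
  classical
  rw [ideal_finset_prod, ← Ideal.mapHom_apply, map_prod]
  rw [Finset.prod_eq_single i]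
  · rw [Ideal.mapHom_apply]
    change Ideal.map _ (((Γ i).ι.ker.ideal U) ^ e i) = _
    rw [Ideal.map_pow, map_ker_ideal_germ, compPrime_self]
  · intro j _ hji
    rw [Ideal.mapHom_apply]
    change Ideal.map _ (((Γ j).ι.ker.ideal U) ^ e j) = _
    rw [Ideal.map_pow, map_ker_ideal_germ, compPrime_of_ne R X Γ hΓ hji, ← Ideal.one_eq_top, one_pow]
  · intro h
    exact (h (Finset.mem_univ i)).elim

include hΓ in
/-- at the generic point of `Γᵢ`, the uniformizer of `R` generates the `mᵢ`-th power of the maximal ideal. -/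
theorem span_germ_uniformizer (hflat : Flat X.hom)
    (hreg : ∀ x : X.left, IsRegularLocalRing (X.left.presheaf.stalk x))
    {π : R} (hπ : Irreducible π) (i : Fin n) :
    Ideal.span {Models.stalkHom R X (Models.genPtOf R X (Γ i)) π} =
      maximalIdeal (X.left.presheaf.stalk (Models.genPtOf R X (Γ i))) ^ Models.mult R X (Γ i) := by
  classical
  rw [← map_stalkHom_maximalIdeal R X _ hπ, map_stalkHom_eq_prod R X hflat hreg Γ hΓ,
    Finset.prod_eq_single i]
  · rw [compPrime_self]
  · intro j _ hji
    rw [compPrime_of_ne R X Γ hΓ hji, ← Ideal.one_eq_top, one_pow]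
  · intro h
    exact (h (Finset.mem_univ i)).elim

include hΓ in
/-- the maximal ideal at the generic point of a component is principal, generated by a nonzero element. -/
theorem exists_maximalIdeal_eq_span (hflat : Flat X.hom)
    (hreg : ∀ x : X.left, IsRegularLocalRing (X.left.presheaf.stalk x)) (i : Fin n) :
    ∃ t : X.left.presheaf.stalk (Models.genPtOf R X (Γ i)), t ≠ 0 ∧
      maximalIdeal (X.left.presheaf.stalk (Models.genPtOf R X (Γ i))) = Ideal.span {t} := by
  obtain ⟨t, ht0, ht⟩ := exists_compPrime_eq_span R X hflat hreg Γ hΓ (Models.genPtOf R X (Γ i)) i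
  rw [compPrime_self] at ht
  exact ⟨t, ht0, ht⟩

end Groth.Agent.Lib.Helper1.VertDiv
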