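import Groth.Agent.Lib.Helper1.VertDiv8
import Groth.Agent.Lib.Helper1.VertDiv5

/-!
# Vertical ideals are trivial on the generic fibre (helper1)
-/

set_option autoImplicit false
universe u

open CategoryTheory AlgebraicGeometry TopologicalSpace IsLocalRing

namespace Groth.Agent.Lib.Helper1.VertDiv

open Groth.Agent.Lib.Helper13.StalkSpecLoc Groth.Agent.Lib.Helper1.FibGeom
  Groth.Agent.Lib.Helper28 Groth.Agent.Lib.Helper28.QCohLoc Groth.Agent.Lib.Helper28.GenLocus
  Groth.Agent.Lib.Helper28.IdealDual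

variable (R : Type u) [CommRing R] [IsDomain R] [IsDiscreteValuationRing R]
  (X : Over (Spec (CommRingCat.of R)))

/-- a point lies on the closed fibre iff the uniformizer vanishes there. -/
theorem mem_specialFibreSet_iff_not_mem_basicOpen {π : R} (hπ : Irreducible π) (x : X.left) :
    x ∈ Models.specialFibreSet R X ↔ x ∉ X.left.basicOpen (Coh.toGlobal X.hom π) := by
  have h1 := Groth.Agent.Lib.Helper19.ArSec1.mem_specialFibre_iff R X x
    (closedPoint (X.left.presheaf.stalk x))
  rw [Scheme.fromSpecStalk_closedPoint] at h1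
  rw [h1, map_stalkHom_maximalIdeal R X x hπ, Ideal.span_singleton_le_iff_mem,
    Scheme.mem_basicOpen_top]
  change Models.stalkHom R X x π ∈ maximalIdeal (X.left.presheaf.stalk x) ↔ _
  rw [mem_maximalIdeal, mem_nonunits_iff]
  rfl

variable {n : ℕ} (Γ : Fin n → ArSurf.VertComp R X) (hΓ : Models.IsComponentList R X Γ)

include hΓ in
theorem genPtOf_not_mem_basicOpen {π : R} (hπ : Irreducible π) (i : Fin n) :
    Models.genPtOf R X (Γ i) ∉ X.left.basicOpen (Coh.toGlobal X.hom π) := by
  rw [← mem_specialFibreSet_iff_not_mem_basicOpen R X hπ]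
  exact (mem_fibreComponents R X n Γ hΓ i).1.2 (subset_closure rfl)

include hΓ in
/-- a product of powers of the ideals of the fibre components is the unit ideal on affine opens of the generic
fibre. -/
theorem prod_ideal_eq_top {π : R} (hπ : Irreducible π) (e : Fin n → ℕ) (U : X.left.affineOpens)
    (hU : U.1 ≤ X.left.basicOpen (Coh.toGlobal X.hom π)) :
    (∏ j, (Γ j).ι.ker ^ e j).ideal U = ⊤ := by
  rw [ideal_finset_prod, ← Ideal.one_eq_top]
  apply Finset.prod_eq_one
  intro j _
  change ((Γ j).ι.ker.ideal U) ^ e j = 1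
  have h1 : (Γ j).ι.ker.ideal U = ⊤ := by
    rw [Ideal.eq_top_iff_one, mem_ker_ideal_iff]
    intro hmem
    exact genPtOf_not_mem_basicOpen R X Γ hΓ hπ j (hU (X.left.basicOpen_le _ hmem))
  rw [h1, ← Ideal.one_eq_top, one_pow]

include hΓ in
/-- the support of a vertical ideal misses the generic fibre. -/
theorem subschemeι_preimage_eq_bot {π : R} (hπ : Irreducible π) (e : Fin n → ℕ) :
    (∏ j, (Γ j).ι.ker ^ e j).subschemeι ⁻¹ᵁ X.left.basicOpen (Coh.toGlobal X.hom π) = ⊥ := by
  set J : X.left.IdealSheafData := ∏ j, (Γ j).ι.ker ^ e j with hJ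
  ext z
  simp only [Opens.coe_bot, Set.mem_empty_iff_false, iff_false]
  intro hz
  have hz' : J.subschemeι z ∈ X.left.basicOpen (Coh.toGlobal X.hom π) := hz
  have hsupp : J.subschemeι z ∈ J.support := by
    rw [← SetLike.mem_coe, ← J.range_subschemeι]
    exact ⟨z, rfl⟩
  obtain ⟨_, ⟨V, hV, rfl⟩, hxV, hVW⟩ :=
    X.left.isBasis_affineOpens.exists_subset_of_mem_open hz'
      (X.left.basicOpen (Coh.toGlobal X.hom π)).isOpen
  rw [Scheme.IdealSheafData.mem_support_iff_of_mem (U := ⟨V, hV⟩) hxV,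
    prod_ideal_eq_top R X Γ hΓ hπ e ⟨V, hV⟩ hVW] at hsupp
  simp at hsupp
  exact hsupp hxV

include hΓ in
/-- the unit section of a vertical ideal module over the generic fibre. -/
theorem exists_iota_eq_one {π : R} (hπ : Irreducible π) (e : Fin n → ℕ) :
    ∃ k : Γ(ClSub.idealMod (∏ j, (Γ j).ι.ker ^ e j), X.left.basicOpen (Coh.toGlobal X.hom π)),
      iota (∏ j, (Γ j).ι.ker ^ e j) k = 1 := by
  apply exists_iota_eq
  have h := subschemeι_preimage_eq_bot R X Γ hΓ hπ e
  set J : X.left.IdealSheafData := ∏ j, (Γ j).ι.ker ^ e j with hJ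
  haveI : Subsingleton Γ(J.subscheme, J.subschemeι ⁻¹ᵁ X.left.basicOpen (Coh.toGlobal X.hom π)) := by
    rw [h]
    infer_instance
  exact Subsingleton.elim _ _

end Groth.Agent.Lib.Helper1.VertDiv
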