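import Groth.Agent.Lib.Helper1.RefHull14

/-!
# The ideal sheaf of an effective Weil divisor (helper1)
-/

set_option autoImplicit false
universe u
open CategoryTheory CategoryTheory.Limits AlgebraicGeometry Opposite TopologicalSpace

namespace Groth.Agent.Lib.Helper1.WeilIdeal

open Groth.Agent.Lib.Helper28.QCohLoc Groth.Agent.Lib.Helper29.QCohStalk

variable {X : Scheme.{u}}

/-- the ideal of functions vanishing to order at least `E x` at every point `x` of codimension one. -/
def divIdealOn (E : X → ℕ) (U : X.Opens) : Ideal Γ(X, U) where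
  carrier := {a | ∀ (x : X) (hx : x ∈ U), Order.coheight x = 1 →
    X.presheaf.germ U x hx a ∈ IsLocalRing.maximalIdeal (X.presheaf.stalk x) ^ E x}
  add_mem' := by
    intro a b ha hb x hx hc
    rw [map_add]
    exact Ideal.add_mem _ (ha x hx hc) (hb x hx hc)
  zero_mem' := by
    intro x hx hc
    rw [map_zero]
    exact Ideal.zero_mem _
  smul_mem' := by
    intro c a ha x hx hc
    rw [smul_eq_mul, map_mul]
    exact Ideal.mul_mem_left _ _ (ha x hx hc)

theorem mem_divIdealOn {E : X → ℕ} {U : X.Opens} {a : Γ(X, U)} :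
    a ∈ divIdealOn E U ↔ ∀ (x : X) (hx : x ∈ U), Order.coheight x = 1 →
      X.presheaf.germ U x hx a ∈ IsLocalRing.maximalIdeal (X.presheaf.stalk x) ^ E x := Iff.rfl

theorem resO_mem_divIdealOn {E : X → ℕ} {U V : X.Opens} (h : V ≤ U) {a : Γ(X, U)}
    (ha : a ∈ divIdealOn E U) : resO h a ∈ divIdealOn E V := by
  intro x hx hc
  rw [germ_resO]
  exact ha x (h hx) hc

/-- finiteness of a locally finite support on a quasi-compact set. -/
theorem finite_inter_support {E : X → ℕ}
    (hE : ∀ z : X, ∃ t ∈ nhds z, (t ∩ Function.support E).Finite) {K : Set X} (hK : IsCompact K) :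
    (K ∩ Function.support E).Finite := by
  choose t ht hfin using hE
  obtain ⟨s, -, hs⟩ := hK.elim_nhds_subcover t (fun z _ => ht z)
  refine (Set.Finite.biUnion s.finite_toSet (fun z _ => hfin z)).subset ?_
  rintro y ⟨hyK, hyE⟩
  obtain ⟨z, hz, hyz⟩ := Set.mem_iUnion₂.1 (hs hyK)
  exact Set.mem_iUnion₂.2 ⟨z, hz, hyz, hyE⟩

theorem pow_le_of_le {R : Type*} [CommRing R] (I : Ideal R) {m n : ℕ} (h : n ≤ m) : I ^ m ≤ I ^ n :=
  Ideal.pow_le_pow_right h

/-- the key step: multiplying by a power of `f` pushes a section over `D(f)` satisfying the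
vanishing conditions into the ideal over `U`. -/
theorem exists_pow_mul_mem {E : X → ℕ}
    (hE : ∀ z : X, ∃ t ∈ nhds z, (t ∩ Function.support E).Finite) {U : X.Opens} (hU : IsAffineOpen U)
    (f a : Γ(X, U)) (k : ℕ) (b : Γ(X, X.basicOpen f)) (hb : b ∈ divIdealOn E (X.basicOpen f))
    (hab : b * resO (X.basicOpen_le f) f ^ k = resO (X.basicOpen_le f) a) :
    ∃ m : ℕ, f ^ m * a ∈ divIdealOn E U := by
  classical
  have hfin := finite_inter_support hE hU.isCompact
  refine ⟨∑ y ∈ hfin.toFinset, E y, ?_⟩
  intro x hx hc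
  rw [map_mul, map_pow]
  by_cases hxf : x ∈ X.basicOpen f
  · refine Ideal.mul_mem_left _ _ ?_
    have h1 := hb x hxf hc
    have h2 : X.presheaf.germ U x hx a =
        X.presheaf.germ (X.basicOpen f) x hxf b * X.presheaf.germ U x hx f ^ k := by
      rw [← germ_resO (X.basicOpen_le f) x hxf a, ← hab, map_mul, map_pow, germ_resO]
    rw [h2]
    exact Ideal.mul_mem_right _ _ h1
  · refine Ideal.mul_mem_right _ _ ?_
    have hnu : X.presheaf.germ U x hx f ∈ IsLocalRing.maximalIdeal (X.presheaf.stalk x) := by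
      rw [IsLocalRing.mem_maximalIdeal, mem_nonunits_iff]
      intro hu
      exact hxf ((X.mem_basicOpen f x hx).2 hu)
    have h3 : E x ≤ ∑ y ∈ hfin.toFinset, E y := by
      by_cases h0 : E x = 0
      · rw [h0]
        exact Nat.zero_le _
      · exact Finset.single_le_sum (f := E) (fun _ _ => Nat.zero_le _)
          (hfin.mem_toFinset.2 ⟨hx, h0⟩)
    exact pow_le_of_le _ h3 (Ideal.pow_mem_pow hnu _)

/-- the ideal sheaf of the effective Weil divisor `E`. -/
noncomputable def divIdeal (E : X → ℕ)
    (hE : ∀ z : X, ∃ t ∈ nhds z, (t ∩ Function.support E).Finite) : X.IdealSheafData where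
  ideal U := divIdealOn E U.1
  map_ideal_basicOpen := by
    intro U f
    apply le_antisymm
    · rw [Ideal.map_le_iff_le_comap]
      intro a ha
      exact resO_mem_divIdealOn (X.basicOpen_le f) ha
    · intro b hb
      haveI hloc := U.2.isLocalization_basicOpen f
      obtain ⟨⟨a, ⟨_, k, rfl⟩⟩, hab⟩ := IsLocalization.surj (Submonoid.powers f) b
      have hab' : b * resO (X.basicOpen_le f) f ^ k = resO (X.basicOpen_le f) a := by
        have := hab
        simp only [map_pow] at this
        exact this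
      obtain ⟨m, hm⟩ := exists_pow_mul_mem hE U.2 f a k b hb hab'
      have hu : IsUnit (resO (X.basicOpen_le f) f) :=
        IsLocalization.map_units (M := Submonoid.powers f) Γ(X, X.basicOpen f) ⟨f, 1, pow_one f⟩
      have h1 : b * resO (X.basicOpen_le f) f ^ (m + k) ∈
          Ideal.map (X.presheaf.map (homOfLE (X.basicOpen_le f)).op).hom (divIdealOn E U.1) := by
        have h2 : b * resO (X.basicOpen_le f) f ^ (m + k) = resO (X.basicOpen_le f) (f ^ m * a) := by
          have h3 : resO (X.basicOpen_le f) (f ^ m * a) =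
              resO (X.basicOpen_le f) f ^ m * resO (X.basicOpen_le f) a := by
            show (X.presheaf.map (homOfLE (X.basicOpen_le f)).op).hom (f ^ m * a) = _
            rw [map_mul, map_pow]
          rw [h3, ← hab', pow_add]
          ring
        rw [h2]
        exact Ideal.mem_map_of_mem _ hm
      have hu' : IsUnit (resO (X.basicOpen_le f) f ^ (m + k)) := hu.pow _
      obtain ⟨v, hv⟩ := hu'
      have h4 : b = (b * resO (X.basicOpen_le f) f ^ (m + k)) * ↑v⁻¹ := by
        rw [← hv, mul_assoc, Units.mul_inv, mul_one]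
      rw [h4]
      exact Ideal.mul_mem_right _ _ h1

theorem divIdeal_ideal (E : X → ℕ)
    (hE : ∀ z : X, ∃ t ∈ nhds z, (t ∩ Function.support E).Finite) (U : X.affineOpens) :
    (divIdeal E hE).ideal U = divIdealOn E U.1 := rfl

end Groth.Agent.Lib.Helper1.WeilIdeal
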