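import Groth.Agent.Lib.Helper1.WeilIdeal1

/-!
# Local generators of the ideal sheaf of an effective Weil divisor (helper1)
-/

set_option autoImplicit false
universe u
open CategoryTheory CategoryTheory.Limits AlgebraicGeometry Opposite TopologicalSpace

namespace Groth.Agent.Lib.Helper1.WeilIdeal

open Groth.Agent.Lib.Helper28.QCohLoc Groth.Agent.Lib.Helper29.QCohStalk
open Groth.Agent.Lib.Helper1.RefHullLib

variable {X : Scheme.{u}}

/-- a point of codimension at most one has an affine neighbourhood meeting the support of `E` at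
most in that point. -/
theorem exists_affine_nhd_support_subset {E : X → ℕ}
    (hE : ∀ z : X, ∃ t ∈ nhds z, (t ∩ Function.support E).Finite)
    (hE1 : ∀ y : X, E y ≠ 0 → Order.coheight y = 1) (x : X) (hx : Order.coheight x ≤ 1) :
    ∃ U : X.Opens, IsAffineOpen U ∧ x ∈ U ∧ ∀ y ∈ U, E y ≠ 0 → y = x := by
  classical
  obtain ⟨U₀, hU₀, hxU₀, -⟩ := (Opens.isBasis_iff_nbhd.1 X.isBasis_affineOpens)
    (show x ∈ (⊤ : X.Opens) from trivial)
  have hfin := finite_inter_support hE hU₀.isCompact
  let T : Set X := {y | y ∈ (U₀ : Set X) ∩ Function.support E ∧ y ≠ x}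
  have hTfin : T.Finite := hfin.subset fun y hy => hy.1
  let Z : Set X := ⋃ y ∈ T, closure {y}
  have hZ : IsClosed Z := hTfin.isClosed_biUnion fun y _ => isClosed_closure
  have hxZ : x ∉ Z := by
    intro h
    obtain ⟨y, hyT, hxy⟩ := Set.mem_iUnion₂.1 h
    have hyx : y ⤳ x := specializes_iff_mem_closure.2 hxy
    have hlt : x < y := lt_of_le_not_ge (show x ≤ y from hyx)
      (fun h => hyT.2 ((hyx.antisymm (show x ⤳ y from h)).eq))
    have h1 := Order.coheight_add_one_le hlt
    rw [hE1 y hyT.1.2] at h1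
    have h2 : (1 : ℕ∞) + 1 ≤ 1 := h1.trans hx
    exact absurd h2 (by decide)
  let U₁ : X.Opens := U₀ ⊓ ⟨Zᶜ, hZ.isOpen_compl⟩
  have hxU₁ : x ∈ U₁ := ⟨hxU₀, hxZ⟩
  obtain ⟨U, hU, hxU, hUU₁⟩ := (Opens.isBasis_iff_nbhd.1 X.isBasis_affineOpens) hxU₁
  refine ⟨U, hU, hxU, fun y hy hEy => ?_⟩
  by_contra hne
  have hyU₁ := hUU₁ hy
  have hyT : y ∈ T := ⟨⟨hyU₁.1, hEy⟩, hne⟩
  exact hyU₁.2 (Set.mem_iUnion₂.2 ⟨y, hyT, subset_closure rfl⟩)

/-- near a point of codimension one of a normal scheme, the prime ideal of the point becomes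
principal on a small affine neighbourhood. -/
theorem exists_affine_nhd_uniformizer [IsIntegral X] [IsLocallyNoetherian X]
    (hX : Pi1.IsNormalScheme X) (x : X) (hx : Order.coheight x = 1) (U₀ : X.Opens)
    (hU₀ : IsAffineOpen U₀) (hxU₀ : x ∈ U₀) :
    ∃ (U : X.Opens) (_ : IsAffineOpen U) (hxU : x ∈ U) (_ : U ≤ U₀) (π : Γ(X, U)),
      Ideal.span {X.presheaf.germ U x hxU π} = IsLocalRing.maximalIdeal (X.presheaf.stalk x) ∧
      ∀ a : Γ(X, U), X.presheaf.germ U x hxU a ∈ IsLocalRing.maximalIdeal (X.presheaf.stalk x) →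
        π ∣ a := by
  classical
  haveI := isDiscreteValuationRing_stalk hX x hx
  obtain ⟨ϖ, hϖ⟩ := IsDiscreteValuationRing.exists_irreducible (X.presheaf.stalk x)
  have hmax : IsLocalRing.maximalIdeal (X.presheaf.stalk x) = Ideal.span {ϖ} :=
    (IsDiscreteValuationRing.irreducible_iff_uniformizer ϖ).1 hϖ
  obtain ⟨p, s₀, hs₀, hps⟩ := stalk_affine_surj hU₀ x hxU₀ ϖ
  -- the germ of `p` generates the maximal ideal
  have hpmax : Ideal.span {X.presheaf.germ U₀ x hxU₀ p} =
      IsLocalRing.maximalIdeal (X.presheaf.stalk x) := by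
    rw [hmax, ← hps]
    exact Ideal.span_singleton_mul_right_unit hs₀ ϖ
  haveI : IsNoetherianRing Γ(X, U₀) := IsLocallyNoetherian.component_noetherian ⟨U₀, hU₀⟩
  let P : Ideal Γ(X, U₀) :=
    Ideal.comap (X.presheaf.germ U₀ x hxU₀).hom (IsLocalRing.maximalIdeal (X.presheaf.stalk x))
  obtain ⟨S, hS⟩ := (isNoetherianRing_iff_ideal_fg Γ(X, U₀)).1 inferInstance P
  -- each generator times a unit at `x` is a multiple of `p`
  have hgen : ∀ q ∈ P, ∃ t : Γ(X, U₀), IsUnit (X.presheaf.germ U₀ x hxU₀ t) ∧ p ∣ t * q := by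
    intro q hq
    have hq' : X.presheaf.germ U₀ x hxU₀ q ∈ Ideal.span {X.presheaf.germ U₀ x hxU₀ p} := by
      rw [hpmax]
      exact hq
    obtain ⟨c, hc⟩ := Ideal.mem_span_singleton'.1 hq'
    obtain ⟨a, t, ht, hat⟩ := stalk_affine_surj hU₀ x hxU₀ c
    refine ⟨t, ht, a, ?_⟩
    apply germ_injective_of_isIntegral X x hxU₀
    rw [map_mul, map_mul, ← hat, ← hc]
    ring
  choose! t ht htq using hgen
  have hSP : ∀ q ∈ S, q ∈ P := fun q hq => hS ▸ Ideal.subset_span hq
  let s : Γ(X, U₀) := ∏ q ∈ S, t q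
  have hsu : IsUnit (X.presheaf.germ U₀ x hxU₀ s) := by
    rw [map_prod]
    exact IsUnit.prod_iff.2 fun q hq => ht q (hSP q hq)  -- units
  have hsP : ∀ a ∈ P, p ∣ s * a := by
    intro a ha
    rw [← hS] at ha
    refine Submodule.span_induction (p := fun a _ => p ∣ s * a) ?_ ?_ ?_ ?_ ha
    · intro q hq
      have h1 : t q ∣ s := Finset.dvd_prod_of_mem t hq
      obtain ⟨r, hr⟩ := h1
      rw [hr, mul_comm (t q) r, mul_assoc]
      exact Dvd.dvd.mul_left (htq q (hSP q hq)) r
    · rw [mul_zero]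
      exact dvd_zero p
    · intro a b _ _ h1 h2
      rw [mul_add]
      exact dvd_add h1 h2
    · intro c a _ h1
      rw [smul_eq_mul, mul_left_comm]
      exact Dvd.dvd.mul_left h1 c
  have hxU : x ∈ X.basicOpen s := (X.mem_basicOpen s x hxU₀).2 hsu
  refine ⟨X.basicOpen s, hU₀.basicOpen s, hxU, X.basicOpen_le s, resO (X.basicOpen_le s) p, ?_, ?_⟩
  · rw [germ_resO]
    exact hpmax
  · intro a ha
    haveI hloc := hU₀.isLocalization_basicOpen s
    obtain ⟨⟨a', ⟨_, k, rfl⟩⟩, hab⟩ := IsLocalization.surj (Submonoid.powers s) a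
    have hab' : a * resO (X.basicOpen_le s) s ^ k = resO (X.basicOpen_le s) a' := by
      have := hab
      simp only [map_pow] at this
      exact this
    have hu : IsUnit (resO (X.basicOpen_le s) s) :=
      IsLocalization.map_units (M := Submonoid.powers s) Γ(X, X.basicOpen s) ⟨s, 1, pow_one s⟩
    have ha' : a' ∈ P := by
      show X.presheaf.germ U₀ x hxU₀ a' ∈ IsLocalRing.maximalIdeal (X.presheaf.stalk x)
      rw [← germ_resO (X.basicOpen_le s) x hxU a', ← hab', map_mul]
      exact Ideal.mul_mem_right _ _ ha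
    obtain ⟨r, hr⟩ := hsP a' ha'
    have h1 : resO (X.basicOpen_le s) p ∣ a * resO (X.basicOpen_le s) s ^ (k + 1) := by
      refine ⟨resO (X.basicOpen_le s) r, ?_⟩
      have h2 : resO (X.basicOpen_le s) (s * a') =
          resO (X.basicOpen_le s) s * resO (X.basicOpen_le s) a' :=
        map_mul (X.presheaf.map (homOfLE (X.basicOpen_le s)).op).hom _ _
      have h3 : resO (X.basicOpen_le s) (p * r) =
          resO (X.basicOpen_le s) p * resO (X.basicOpen_le s) r :=
        map_mul (X.presheaf.map (homOfLE (X.basicOpen_le s)).op).hom _ _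
      rw [← h3, ← hr, h2, ← hab', pow_succ]
      ring
    exact (IsUnit.dvd_mul_right (hu.pow (k + 1))).1 h1

/-- divisibility by powers of a local equation of a prime divisor is detected in the local ring. -/
theorem pow_dvd_of_germ_mem [IsIntegral X] [IsLocallyNoetherian X]
    (hX : Pi1.IsNormalScheme X) (x : X) (hx : Order.coheight x = 1) {U : X.Opens} (hxU : x ∈ U)
    (π : Γ(X, U))
    (hπ : Ideal.span {X.presheaf.germ U x hxU π} = IsLocalRing.maximalIdeal (X.presheaf.stalk x))
    (hdiv : ∀ a : Γ(X, U),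
      X.presheaf.germ U x hxU a ∈ IsLocalRing.maximalIdeal (X.presheaf.stalk x) → π ∣ a)
    (n : ℕ) (a : Γ(X, U))
    (ha : X.presheaf.germ U x hxU a ∈ IsLocalRing.maximalIdeal (X.presheaf.stalk x) ^ n) :
    π ^ n ∣ a := by
  haveI := isDiscreteValuationRing_stalk hX x hx
  have hπ0 : X.presheaf.germ U x hxU π ≠ 0 := by
    intro h0
    rw [h0, Ideal.span_singleton_eq_bot.2 rfl] at hπ
    exact IsDiscreteValuationRing.not_a_field (X.presheaf.stalk x) hπ.symm
  induction n generalizing a with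
  | zero => rw [pow_zero]; exact one_dvd a
  | succ n ih =>
    have h1 : X.presheaf.germ U x hxU a ∈ IsLocalRing.maximalIdeal (X.presheaf.stalk x) :=
      Ideal.pow_le_self (Nat.succ_ne_zero n) ha
    obtain ⟨a₁, rfl⟩ := hdiv a h1
    rw [← hπ, Ideal.span_singleton_pow, Ideal.mem_span_singleton'] at ha
    obtain ⟨c, hc⟩ := ha
    rw [map_mul, pow_succ] at hc
    have h2 : X.presheaf.germ U x hxU a₁ = c * X.presheaf.germ U x hxU π ^ n := by
      apply mul_left_cancel₀ hπ0
      rw [← hc]
      ring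
    have h3 : X.presheaf.germ U x hxU a₁ ∈ IsLocalRing.maximalIdeal (X.presheaf.stalk x) ^ n := by
      rw [h2, ← hπ, Ideal.span_singleton_pow]
      exact Ideal.mul_mem_left _ _ (Ideal.mem_span_singleton_self _)
    obtain ⟨r, hr⟩ := ih a₁ h3
    exact ⟨r, by rw [hr, pow_succ]; ring⟩

/-- on a small affine neighbourhood of a point of codimension one, the ideal of an effective Weil
divisor is generated by a power of a local equation. -/
theorem divIdealOn_eq_span [IsIntegral X] [IsLocallyNoetherian X]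
    (hX : Pi1.IsNormalScheme X) (E : X → ℕ) (x : X) (hx : Order.coheight x = 1) {U : X.Opens}
    (hxU : x ∈ U) (hsupp : ∀ y ∈ U, E y ≠ 0 → y = x) (π : Γ(X, U))
    (hπ : Ideal.span {X.presheaf.germ U x hxU π} = IsLocalRing.maximalIdeal (X.presheaf.stalk x))
    (hdiv : ∀ a : Γ(X, U),
      X.presheaf.germ U x hxU a ∈ IsLocalRing.maximalIdeal (X.presheaf.stalk x) → π ∣ a) :
    divIdealOn E U = Ideal.span {π ^ E x} := by
  apply le_antisymm
  · intro a ha
    rw [Ideal.mem_span_singleton]
    exact pow_dvd_of_germ_mem hX x hx hxU π hπ hdiv (E x) a (ha x hxU hx)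
  · rw [Ideal.span_singleton_le_iff_mem]
    intro y hy hcy
    by_cases hE : E y = 0
    · rw [hE, pow_zero, Ideal.one_eq_top]
      exact Submodule.mem_top
    · obtain rfl := hsupp y hy hE
      rw [map_pow]
      refine Ideal.pow_mem_pow ?_ _
      rw [← hπ]
      exact Ideal.mem_span_singleton_self _

/-- where the divisor has no support, the ideal is the unit ideal. -/
theorem divIdealOn_eq_top (E : X → ℕ) {U : X.Opens} (hsupp : ∀ y ∈ U, E y = 0) :
    divIdealOn E U = Ideal.span {(1 : Γ(X, U))} := by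
  rw [Ideal.span_singleton_one, eq_top_iff]
  intro a _ y hy _
  rw [hsupp y hy, pow_zero, Ideal.one_eq_top]
  exact Submodule.mem_top

/-- a local equation of a prime divisor has order of vanishing one. -/
theorem ord_germ_uniformizer [IsIntegral X] [IsLocallyNoetherian X]
    (hX : Pi1.IsNormalScheme X) (x : X) (hx : Order.coheight x = 1) {U : X.Opens} (hxU : x ∈ U)
    (hηU : genericPoint X ∈ U) (π : Γ(X, U))
    (hπ : Ideal.span {X.presheaf.germ U x hxU π} = IsLocalRing.maximalIdeal (X.presheaf.stalk x)) :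
    Scheme.ord (X.presheaf.germ U (genericPoint X) hηU π : X.functionField) x = 1 := by
  haveI := isDiscreteValuationRing_stalk hX x hx
  have hirr : Irreducible (X.presheaf.germ U x hxU π) :=
    (IsDiscreteValuationRing.irreducible_iff_uniformizer _).2 hπ.symm
  have h1 : (X.presheaf.germ U (genericPoint X) hηU π : X.functionField) =
      algebraMap (X.presheaf.stalk x) X.functionField (X.presheaf.germ U x hxU π) :=
    (TopCat.Presheaf.germ_stalkSpecializes_apply X.presheaf hxU
      ((genericPoint_spec X).specializes trivial) π).symm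
  have h0 : (X.presheaf.germ U (genericPoint X) hηU π : X.functionField) ≠ 0 := by
    rw [h1]
    exact (map_ne_zero_iff _ (IsFractionRing.injective (X.presheaf.stalk x) X.functionField)).2
      hirr.ne_zero
  rw [Scheme.ord_eq_iff hx h0, h1]
  haveI : Ring.KrullDimLE 1 (X.presheaf.stalk x) := krullDimLE_of_coheight_le hx.le
  show Ring.ordFrac (X.presheaf.stalk x) _ = _
  rw [Ring.ordFrac_irreducible hirr]
  rfl

end Groth.Agent.Lib.Helper1.WeilIdeal
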