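import Groth.Agent.Lib.Helper1.WeilIdeal2
import Groth.Agent.Lib.Helper28.IdealDual
import Groth.Agent.Lib.Helper6.DevGen
import Groth.Agent.S16086

/-!
# The ideal module of an effective Weil divisor: local generators and the canonical rational
section (helper1)
-/

set_option autoImplicit false
universe u
open CategoryTheory CategoryTheory.Limits AlgebraicGeometry Opposite TopologicalSpace
open RefHull

namespace Groth.Agent.Lib.Helper1.WeilIdeal

open Groth.Agent.Lib.Helper28.QCohLoc Groth.Agent.Lib.Helper29.QCohStalk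
open Groth.Agent.Lib.Helper28.GenLocus Groth.Agent.Lib.Helper28.IdealDual
open Groth.Agent.Lib.Helper1.RefHullLib

variable {X : Scheme.{u}}

section ord

variable [IsIntegral X] [IsLocallyNoetherian X]

theorem ord_one (x : X) : Scheme.ord (1 : X.functionField) x = 0 := by
  have := Scheme.ord_mul (x := x) (one_ne_zero (α := X.functionField)) one_ne_zero
  rw [one_mul] at this
  omega

theorem ord_inv (x : X) {a : X.functionField} (ha : a ≠ 0) :
    Scheme.ord a⁻¹ x = - Scheme.ord a x := by
  have := Scheme.ord_mul (x := x) ha (inv_ne_zero ha)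
  rw [mul_inv_cancel₀ ha, ord_one] at this
  omega

theorem ord_pow (x : X) {a : X.functionField} (ha : a ≠ 0) (n : ℕ) :
    Scheme.ord (a ^ n) x = n * Scheme.ord a x := by
  induction n with
  | zero => rw [pow_zero, ord_one]; simp
  | succ n ih =>
    rw [pow_succ, Scheme.ord_mul (pow_ne_zero n ha) ha, ih]
    push_cast
    ring

end ord

/-- near a point of codimension at most one, the ideal module of an effective Weil divisor has a
generator lying over a function whose order at the point is the multiplicity of the divisor. -/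
theorem exists_isGen_idealMod_near [IsIntegral X] [IsLocallyNoetherian X]
    (hX : Pi1.IsNormalScheme X) (E : X → ℕ)
    (hE : ∀ z : X, ∃ t ∈ nhds z, (t ∩ Function.support E).Finite)
    (hE1 : ∀ y : X, E y ≠ 0 → Order.coheight y = 1) (x : X) (hx : Order.coheight x ≤ 1) :
    ∃ (U : X.Opens) (g : Γ(ClSub.idealMod (divIdeal E hE), U)) (f : Γ(X, U)) (hηU : genericPoint X ∈ U),
      x ∈ U ∧ IsGen (ClSub.idealMod (divIdeal E hE)) U g ∧ iota (divIdeal E hE) g = f ∧
      X.presheaf.germ U (genericPoint X) hηU f ≠ 0 ∧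
      (Order.coheight x = 1 →
        Scheme.ord (X.presheaf.germ U (genericPoint X) hηU f : X.functionField) x = E x) := by
  obtain ⟨U₁, hU₁, hxU₁, hsupp₁⟩ := exists_affine_nhd_support_subset hE hE1 x hx
  have hsp : genericPoint X ⤳ x := (genericPoint_spec X).specializes (Set.mem_univ x)
  rcases lt_or_eq_of_le hx with h0 | h1
  · -- the generic point
    have hc0 : Order.coheight x = 0 := Order.lt_one_iff.1 h0
    have hηU : genericPoint X ∈ U₁ := hsp.mem_open U₁.isOpen hxU₁
    have hsupp : ∀ y ∈ U₁, E y = 0 := by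
      intro y hy
      by_contra hEy
      have hyx := hsupp₁ y hy hEy
      have h2 := hE1 y hEy
      rw [hyx, hc0] at h2
      exact zero_ne_one h2
    haveI : Nonempty U₁ := ⟨⟨x, hxU₁⟩⟩
    have hI : (divIdeal E hE).ideal ⟨U₁, hU₁⟩ = Ideal.span {(1 : Γ(X, U₁))} :=
      divIdealOn_eq_top E hsupp
    obtain ⟨g, hg, hgf⟩ := exists_isGen_idealMod (divIdeal E hE) hU₁ 1
      (one_mem (nonZeroDivisors Γ(X, U₁))) hI
    refine ⟨U₁, g, 1, hηU, hxU₁, hg, hgf, ?_, fun h => ?_⟩
    · rw [map_one]
      exact one_ne_zero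
    · rw [hc0] at h
      exact absurd h zero_ne_one
  · -- a point of codimension one
    obtain ⟨U, hU, hxU, hUU₁, π, hπ, hdiv⟩ := exists_affine_nhd_uniformizer hX x h1 U₁ hU₁ hxU₁
    have hηU : genericPoint X ∈ U := hsp.mem_open U.isOpen hxU
    haveI : Nonempty U := ⟨⟨x, hxU⟩⟩
    have hsupp : ∀ y ∈ U, E y ≠ 0 → y = x := fun y hy => hsupp₁ y (hUU₁ hy)
    have hI : (divIdeal E hE).ideal ⟨U, hU⟩ = Ideal.span {π ^ E x} :=
      divIdealOn_eq_span hX E x h1 hxU hsupp π hπ hdiv
    have hordπ := ord_germ_uniformizer hX x h1 hxU hηU π hπ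
    have hπη : (X.presheaf.germ U (genericPoint X) hηU π : X.functionField) ≠ 0 := by
      intro h0
      rw [h0, Scheme.ord_zero] at hordπ
      exact zero_ne_one hordπ
    have hπ0 : π ≠ 0 := by
      rintro rfl
      exact hπη (map_zero _)
    obtain ⟨g, hg, hgf⟩ := exists_isGen_idealMod (divIdeal E hE) hU (π ^ E x)
      (mem_nonZeroDivisors_of_ne_zero (pow_ne_zero _ hπ0)) hI
    refine ⟨U, g, π ^ E x, hηU, hxU, hg, hgf, ?_, fun _ => ?_⟩
    · rw [map_pow]
      exact pow_ne_zero _ hπη
    · rw [map_pow, ord_pow x hπη, hordπ, mul_one]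

theorem coheight_genericPoint [IsIntegral X] : Order.coheight (genericPoint X) = 0 := by
  rw [Order.coheight_eq_zero]
  intro y _
  exact genericPoint_specializes y

/-- the canonical rational section `1` of the ideal module of an effective Weil divisor `E` has
order `-E x` at every point of codimension one. -/
theorem exists_section_idealMod [IsIntegral X] [IsLocallyNoetherian X]
    (hX : Pi1.IsNormalScheme X) (E : X → ℕ)
    (hE : ∀ z : X, ∃ t ∈ nhds z, (t ∩ Function.support E).Finite)
    (hE1 : ∀ y : X, E y ≠ 0 → Order.coheight y = 1) :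
    ∃ s : Cyc.secFibre (ClSub.idealMod (divIdeal E hE)) (genericPoint X), s ≠ 0 ∧
      ∀ (x : X), Order.coheight x = 1 →
        Cyc.secOrdAt (ClSub.idealMod (divIdeal E hE)) (genericPoint X) x
          ((genericPoint_spec X).specializes (Set.mem_univ x)) s = - (E x : ℤ) := by
  obtain ⟨W, g₀, f₀, hηW, -, hg₀, hgf₀, hf₀, -⟩ := exists_isGen_idealMod_near hX E hE hE1
    (genericPoint X) (by rw [coheight_genericPoint]; exact zero_le_one)
  refine ⟨(X.presheaf.germ W (genericPoint X) hηW f₀ : X.functionField)⁻¹ •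
    (Submodule.Quotient.mk (gm (ClSub.idealMod (divIdeal E hE)) W (genericPoint X) hηW g₀) :
      Cyc.secFibre (ClSub.idealMod (divIdeal E hE)) (genericPoint X)), ?_, ?_⟩
  · intro h0
    have h1 := Groth.Agent.S16086.eq_of_smul_mk_eq _ hg₀ hηW
      ((X.presheaf.germ W (genericPoint X) hηW f₀ : X.functionField)⁻¹) 0 (by rw [h0, zero_smul])
    exact inv_ne_zero hf₀ h1
  · intro x hx
    have hsp : genericPoint X ⤳ x := (genericPoint_spec X).specializes (Set.mem_univ x)
    obtain ⟨U, g, f, hηU, hxU, hg, hgf, hf, hord⟩ := exists_isGen_idealMod_near hX E hE hE1 x hx.le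
    have hηV : genericPoint X ∈ W ⊓ U := ⟨hηW, hηU⟩
    have hVW : W ⊓ U ≤ W := inf_le_left
    have hVU : W ⊓ U ≤ U := inf_le_right
    obtain ⟨r, hr⟩ := Gen1.exists_smul
      (Gen1.rs hVW (⟨g₀, hg₀⟩ : Gen1 (ClSub.idealMod (divIdeal E hE)) W))
      (Gen1.rs hVU (⟨g, hg⟩ : Gen1 (ClSub.idealMod (divIdeal E hE)) U))
    have hr1 : res (ClSub.idealMod (divIdeal E hE)) hVW g₀ =
        (r • res (ClSub.idealMod (divIdeal E hE)) hVU g : Γ(ClSub.idealMod (divIdeal E hE), W ⊓ U)) := hr
    have hr2 : resO hVW f₀ = r * resO hVU f := by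
      have := congrArg (iota (divIdeal E hE)) hr1
      rw [iota_res, iota_smul, iota_res, hgf₀, hgf] at this
      exact this
    have hr3 : X.presheaf.germ W (genericPoint X) hηW f₀ =
        X.presheaf.germ _ (genericPoint X) hηV r * X.presheaf.germ U (genericPoint X) hηU f := by
      have := congrArg (X.presheaf.germ _ (genericPoint X) hηV) hr2
      rw [map_mul, germ_resO, germ_resO] at this
      exact this
    have e1 : gm (ClSub.idealMod (divIdeal E hE)) W (genericPoint X) hηW g₀ =
        X.presheaf.germ _ (genericPoint X) hηV r •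
          gm (ClSub.idealMod (divIdeal E hE)) U (genericPoint X) hηU g := by
      rw [← gm_res _ hVW (genericPoint X) hηV, ← gm_res _ hVU (genericPoint X) hηV g, ← gm_smul]
      exact congrArg _ hr1
    have hρ : (X.presheaf.germ _ (genericPoint X) hηV r : X.functionField) ≠ 0 := by
      intro h0
      rw [h0, zero_mul] at hr3
      exact hf₀ hr3
    have hs' : (X.presheaf.germ W (genericPoint X) hηW f₀ : X.functionField)⁻¹ •
        (Submodule.Quotient.mk (gm (ClSub.idealMod (divIdeal E hE)) W (genericPoint X) hηW g₀) :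
          Cyc.secFibre (ClSub.idealMod (divIdeal E hE)) (genericPoint X)) =
        (X.presheaf.germ U (genericPoint X) hηU f : X.functionField)⁻¹ •
        (Submodule.Quotient.mk (gm (ClSub.idealMod (divIdeal E hE)) U (genericPoint X) hηU g) :
          Cyc.secFibre (ClSub.idealMod (divIdeal E hE)) (genericPoint X)) := by
      rw [e1, Submodule.Quotient.mk_smul, ← mul_smul, hr3]
      congr 1
      field_simp
    rw [hs', secOrdAt_smul_mk_gm _ hg x hxU hx hsp hηU _ (inv_ne_zero hf), ord_inv x hf, hord hx]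

end Groth.Agent.Lib.Helper1.WeilIdeal
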