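import Groth.Agent.Lib.Helper1.WeilIdeal3

/-!
# Rational sections of duals, and the rank one reflexive module of a Weil divisor (helper1)
-/

set_option autoImplicit false
universe u
open CategoryTheory CategoryTheory.Limits AlgebraicGeometry Opposite TopologicalSpace
open RefHull

namespace Groth.Agent.Lib.Helper1.WeilIdeal

open Groth.Agent.Lib.Helper28.QCohLoc Groth.Agent.Lib.Helper29.QCohStalk
open Groth.Agent.Lib.Helper28.GenLocus Groth.Agent.Lib.Helper28.IdealDual
open Groth.Agent.Lib.Helper1.RefHullLib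
open Groth.Agent.Lib.Helper18.C1Core

variable {X : Scheme.{u}}

/-- the dual rational section: its orders are the negatives of the orders of the given one. -/
theorem exists_dual_section [IsIntegral X] [IsLocallyNoetherian X] (F : X.Modules)
    (hgen : ∀ x : X, Order.coheight x ≤ 1 → ∃ U : X.Opens, x ∈ U ∧ Nonempty (Gen1 F U))
    (s : Cyc.secFibre F (genericPoint X)) (hs : s ≠ 0) :
    ∃ s' : Cyc.secFibre (dual F) (genericPoint X), s' ≠ 0 ∧
      ∀ (x : X), Order.coheight x = 1 →
        Cyc.secOrdAt (dual F) (genericPoint X) x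
          ((genericPoint_spec X).specializes (Set.mem_univ x)) s' =
        - Cyc.secOrdAt F (genericPoint X) x ((genericPoint_spec X).specializes (Set.mem_univ x)) s := by
  obtain ⟨W, hηW, ⟨d⟩⟩ := hgen (genericPoint X) (by rw [coheight_genericPoint]; exact zero_le_one)
  obtain ⟨a, ha⟩ := exists_smul_mk F (Groth.Agent.S16090.freeGen_gm_of_isGen d.2 (genericPoint X) hηW) s
  have ha0 : (a : X.functionField) ≠ 0 := by
    rintro rfl
    exact hs (by rw [ha, zero_smul])
  have hd' := isGen_dualGenS d.2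
  refine ⟨(a : X.functionField)⁻¹ • (Submodule.Quotient.mk
    (gm (dual F) W (genericPoint X) hηW (dualGenS d.1)) : Cyc.secFibre (dual F) (genericPoint X)), ?_, ?_⟩
  · intro h0
    have h1 := Groth.Agent.S16086.eq_of_smul_mk_eq _ hd' hηW ((a : X.functionField)⁻¹) 0
      (by rw [h0, zero_smul])
    exact inv_ne_zero ha0 h1
  · intro x hx
    have hsp : genericPoint X ⤳ x := (genericPoint_spec X).specializes (Set.mem_univ x)
    obtain ⟨U, hxU, ⟨γ⟩⟩ := hgen x hx.le
    have hηU : genericPoint X ∈ U := hsp.mem_open U.isOpen hxU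
    have hηV : genericPoint X ∈ W ⊓ U := ⟨hηW, hηU⟩
    have hVW : W ⊓ U ≤ W := inf_le_left
    have hVU : W ⊓ U ≤ U := inf_le_right
    obtain ⟨r, hr⟩ := Gen1.exists_smul (d.rs hVW) (γ.rs hVU)
    have hr1 : res F hVW d.1 = (r • res F hVU γ.1 : Γ(F, W ⊓ U)) := hr
    have e1 : gm F W (genericPoint X) hηW d.1 =
        X.presheaf.germ _ (genericPoint X) hηV r • gm F U (genericPoint X) hηU γ.1 := by
      rw [← gm_res F hVW (genericPoint X) hηV, ← gm_res F hVU (genericPoint X) hηV γ.1, ← gm_smul]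
      exact congrArg _ hr1
    have hs' : s = (a * X.presheaf.germ _ (genericPoint X) hηV r) •
        (Submodule.Quotient.mk (gm F U (genericPoint X) hηU γ.1) : Cyc.secFibre F (genericPoint X)) := by
      rw [ha, e1, Submodule.Quotient.mk_smul, mul_smul]
    have hρ : (X.presheaf.germ _ (genericPoint X) hηV r : X.functionField) ≠ 0 := by
      intro h0
      apply hs
      rw [hs', h0, mul_zero, zero_smul]
    -- the dual generators
    have hgV : IsGen F (W ⊓ U) (r • res F hVU γ.1 : Γ(F, W ⊓ U)) := hr1 ▸ d.2.res hVW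
    have h2 : res (dual F) hVU (dualGenS γ.1) =
        (r • res (dual F) hVW (dualGenS d.1) : Γ(dual F, W ⊓ U)) := by
      rw [res_dualGenS γ.2 hVU, res_dualGenS d.2 hVW, hr1]
      exact dualGenS_smul (γ.2.res hVU) r hgV
    have e2 : gm (dual F) U (genericPoint X) hηU (dualGenS γ.1) =
        X.presheaf.germ _ (genericPoint X) hηV r •
          gm (dual F) W (genericPoint X) hηW (dualGenS d.1) := by
      rw [← gm_res (dual F) hVU (genericPoint X) hηV, ← gm_res (dual F) hVW (genericPoint X) hηV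
        (dualGenS d.1), ← gm_smul]
      exact congrArg _ h2
    have hs'' : (a : X.functionField)⁻¹ • (Submodule.Quotient.mk
        (gm (dual F) W (genericPoint X) hηW (dualGenS d.1)) : Cyc.secFibre (dual F) (genericPoint X)) =
        ((a : X.functionField) * X.presheaf.germ _ (genericPoint X) hηV r)⁻¹ •
        (Submodule.Quotient.mk (gm (dual F) U (genericPoint X) hηU (dualGenS γ.1)) :
          Cyc.secFibre (dual F) (genericPoint X)) := by
      rw [e2, Submodule.Quotient.mk_smul, ← mul_smul]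
      congr 1
      field_simp
    have h3 := secOrdAt_smul_mk_gm F γ.2 x hxU hx hsp hηU _ (mul_ne_zero ha0 hρ)
    rw [← hs'] at h3
    rw [hs'', secOrdAt_smul_mk_gm (dual F) (isGen_dualGenS γ.2) x hxU hx hsp hηU _
      (inv_ne_zero (mul_ne_zero ha0 hρ)), ord_inv x (mul_ne_zero ha0 hρ), h3]

/-- the dual of a coherent module with a generic generator is a rank one reflexive module. -/
theorem isRef1_dual_of_isGen [IsIntegral X] [IsLocallyNoetherian X] (M : X.Modules)
    (hM : Coh.IsCoh M) {W : X.Opens} {g : Γ(M, W)} (hηW : genericPoint X ∈ W) (hg : IsGen M W g) :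
    IsRef1 (dual M) :=
  ⟨isCoh_dual M hM, isReflexive_dual M hM, genInvertible_of_isGen _ hηW (isGen_dualGenS hg)⟩

theorem not_two_le_of_coheight_le_one (x : X) (hx : Order.coheight x ≤ 1) :
    ¬ (2 : WithBot ℕ∞) ≤ ringKrullDim (X.presheaf.stalk x) := by
  rw [ringKrullDim_stalk_eq_coheight]
  intro h
  have h1 : (2 : ℕ∞) ≤ Order.coheight x := WithBot.coe_le_coe.1 h
  exact absurd (h1.trans hx) (by decide)

/-- every Weil divisor is the divisor of a rational section of a rank one reflexive module. -/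
theorem exists_ref1_of_divisor [IsIntegral X] [IsLocallyNoetherian X]
    (hX : Pi1.IsNormalScheme X) (D : X → ℤ)
    (hfin : ∀ z : X, ∃ t ∈ nhds z, (t ∩ Function.support D).Finite)
    (hD : ∀ x : X, Order.coheight x ≠ 1 → D x = 0) :
    ∃ (F : X.Modules) (_ : IsRef1 F) (s : Cyc.secFibre F (genericPoint X)), s ≠ 0 ∧
      ∀ (x : X), Order.coheight x = 1 →
        D x = Cyc.secOrdAt F (genericPoint X) x
          ((genericPoint_spec X).specializes (Set.mem_univ x)) s := by
  have hη1 : Order.coheight (genericPoint X) ≤ 1 := by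
    rw [coheight_genericPoint]
    exact zero_le_one
  -- the positive and negative parts
  have key : ∀ E : X → ℕ, (∀ x, E x ≠ 0 → D x ≠ 0) →
      (∀ z : X, ∃ t ∈ nhds z, (t ∩ Function.support E).Finite) ∧
        (∀ y : X, E y ≠ 0 → Order.coheight y = 1) := by
    intro E hED
    refine ⟨fun z => ?_, fun y hy => ?_⟩
    · obtain ⟨t, ht, htf⟩ := hfin z
      exact ⟨t, ht, htf.subset fun y hy => ⟨hy.1, hED y hy.2⟩⟩
    · by_contra h
      exact hED y hy (hD y h)
  obtain ⟨hEp, hEp1⟩ := key (fun x => (D x).toNat) (fun x hx h0 => hx (by simp [h0]))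
  obtain ⟨hEm, hEm1⟩ := key (fun x => (-D x).toNat) (fun x hx h0 => hx (by simp [h0]))
  -- the ideal modules
  have hgenP : ∀ x : X, Order.coheight x ≤ 1 → ∃ U : X.Opens, x ∈ U ∧
      Nonempty (Gen1 (ClSub.idealMod (divIdeal _ hEp)) U) := by
    intro x hx
    obtain ⟨U, g, f, hηU, hxU, hg, -⟩ := exists_isGen_idealMod_near hX _ hEp hEp1 x hx
    exact ⟨U, hxU, ⟨⟨g, hg⟩⟩⟩
  have hgenM : ∀ x : X, Order.coheight x ≤ 1 → ∃ U : X.Opens, x ∈ U ∧
      Nonempty (Gen1 (ClSub.idealMod (divIdeal _ hEm)) U) := by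
    intro x hx
    obtain ⟨U, g, f, hηU, hxU, hg, -⟩ := exists_isGen_idealMod_near hX _ hEm hEm1 x hx
    exact ⟨U, hxU, ⟨⟨g, hg⟩⟩⟩
  obtain ⟨sP, hsP, hordP⟩ := exists_section_idealMod hX _ hEp hEp1
  obtain ⟨sM, hsM, hordM⟩ := exists_section_idealMod hX _ hEm hEm1
  -- duals
  obtain ⟨WP, hηWP, ⟨dP⟩⟩ := hgenP (genericPoint X) hη1
  obtain ⟨WM, hηWM, ⟨dM⟩⟩ := hgenM (genericPoint X) hη1
  have hF1 : IsRef1 (dual (ClSub.idealMod (divIdeal _ hEp))) :=
    isRef1_dual_of_isGen _ (Groth.Agent.Lib.Helper6.DevGen.isCoh_idealMod _) hηWP dP.2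
  have hF2 : IsRef1 (dual (ClSub.idealMod (divIdeal _ hEm))) :=
    isRef1_dual_of_isGen _ (Groth.Agent.Lib.Helper6.DevGen.isCoh_idealMod _) hηWM dM.2
  have hF3 : IsRef1 (dual (dual (ClSub.idealMod (divIdeal _ hEm)))) := isRef1_dual _ hF2
  obtain ⟨s1, hs1, hord1⟩ := exists_dual_section _ hgenP sP hsP
  obtain ⟨t1, ht1, hordt1⟩ := exists_dual_section _ hgenM sM hsM
  obtain ⟨t2, ht2, hordt2⟩ := exists_dual_section (dual (ClSub.idealMod (divIdeal _ hEm)))
    (fun x hx => exists_gen1 hX _ hF2 x (not_two_le_of_coheight_le_one x hx)) t1 ht1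
  obtain ⟨w, hw, hordw⟩ := Groth.Agent.S16090.result X hX _ _ hF1 hF3 s1 hs1 t2 ht2
  refine ⟨_, isRef1_ddual_tensorMod _ _ hF1 hF3, w, hw, fun x hx => ?_⟩
  rw [hordw x hx, hord1 x hx, hordP x hx, hordt2 x hx, hordt1 x hx, hordM x hx]
  have := Int.toNat_sub_toNat_neg (D x)
  omega

end Groth.Agent.Lib.Helper1.WeilIdeal
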